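import Groth.Agent.H57.Expansion

/-!
# The Laurent expansion at a place (algebraically closed constants) is an expansion datum
-/

set_option autoImplicit false

namespace Groth.Agent.H57

open FunFld Groth.Agent.FF WithZero

universe u v
variable {k : Type u} {K : Type v} [Field k] [Field K] [Algebra k K]

section
variable [IsAlgClosed k] (hK : IsFunctionField k K) (P : Place k K)
variable (t : K) (ht : P.1 t = exp (-1 : ℤ))
include hK

theorem expandK_injective : Function.Injective (expandK hK P t ht) :=
  (expandK hK P t ht).toRingHom.injective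

/-- On the valuation ring, the expansion carries the valuation of the place to the `X`-adic one. -/
theorem val_expandK_coe (x : P.O) : Valued.v (expandK hK P t ht (x : K)) = P.1 (x : K) := by
  by_cases hx0 : (x : K) = 0
  · rw [hx0, map_zero, map_zero, map_zero]
  have hy0 : expandK hK P t ht (x : K) ≠ 0 :=
    (map_ne_zero_iff _ (expandK_injective hK P t ht)).2 hx0
  -- both values are determined by comparison with the `exp (-m)`
  have hiff : ∀ m : ℕ, P.1 (x : K) ≤ exp (-(m : ℤ)) ↔
      Valued.v (expandK hK P t ht (x : K)) ≤ (exp (-(m : ℤ)) : ℤᵐ⁰) := by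
    intro m
    rw [val_le_exp_neg_iff hK P t ht, LaurentSeries.valuation_le_iff_coeff_lt_eq_zero,
      expandK_coe]
    constructor
    · intro h n hn
      change ((expandO hK P t ht x : PowerSeries k) : LaurentSeries k).coeff n = 0
      rw [PowerSeries.coeff_coe]
      split_ifs with hneg
      · rfl
      · rw [coeff_expandO]
        exact h _ (by omega)
    · intro h i hi
      have := h (i : ℤ) (by exact_mod_cast hi)
      change ((expandO hK P t ht x : PowerSeries k) : LaurentSeries k).coeff (i : ℤ) = 0 at this
      rw [PowerSeries.coeff_coe, if_neg (by omega), Int.natAbs_natCast, coeff_expandO] at this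
      exact this
  have hv0 : Valued.v (expandK hK P t ht (x : K)) ≠ (0 : ℤᵐ⁰) := (Valuation.ne_zero_iff _).2 hy0
  have hw0 : P.1 (x : K) ≠ 0 := (Valuation.ne_zero_iff _).2 hx0
  obtain ⟨a, ha⟩ : ∃ a : ℤ, P.1 (x : K) = exp a := ⟨log (P.1 (x : K)), (exp_log hw0).symm⟩
  obtain ⟨b, hb⟩ : ∃ b : ℤ, Valued.v (expandK hK P t ht (x : K)) = (exp b : ℤᵐ⁰) :=
    ⟨log (Valued.v (expandK hK P t ht (x : K))), (exp_log hv0).symm⟩
  have ha0 : a ≤ 0 := by
    have := x.2
    rw [Valuation.mem_valuationSubring_iff, ha, ← exp_zero, exp_le_exp] at this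
    exact this
  have hb0 : b ≤ 0 := by
    have := (hiff 0).1 (by simpa using (Valuation.mem_valuationSubring_iff _ _).1 x.2)
    rw [hb, exp_le_exp] at this
    simpa using this
  rw [ha, hb]
  congr 1
  have h1 := hiff (-a).toNat
  have h2 := hiff (-b).toNat
  rw [ha, hb, exp_le_exp, exp_le_exp] at h1 h2
  have e1 : ((-a).toNat : ℤ) = -a := Int.toNat_of_nonneg (by omega)
  have e2 : ((-b).toNat : ℤ) = -b := Int.toNat_of_nonneg (by omega)
  rw [e1] at h1
  rw [e2] at h2
  have h3 := h1.1 (by omega)
  have h4 := h2.2 (by omega)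
  omega

/-- The expansion carries the valuation of the place to the `X`-adic valuation. -/
theorem val_expandK (f : K) : Valued.v (expandK hK P t ht f) = P.1 f := by
  by_cases hf : P.1 f ≤ 1
  · exact val_expandK_coe hK P t ht ⟨f, (Valuation.mem_valuationSubring_iff _ _).2 hf⟩
  · rw [not_le] at hf
    have hf0 : f ≠ 0 := by
      rintro rfl
      rw [map_zero] at hf
      exact not_lt.2 zero_le_one hf
    have hinv : P.1 f⁻¹ ≤ 1 := by
      rw [map_inv₀]
      exact inv_le_one_of_one_le₀ hf.le
    have h := val_expandK_coe hK P t ht ⟨f⁻¹, (Valuation.mem_valuationSubring_iff _ _).2 hinv⟩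
    change Valued.v (expandK hK P t ht f⁻¹) = P.1 f⁻¹ at h
    rw [map_inv₀, map_inv₀, map_inv₀] at h
    exact inv_injective h

/-- **The expansion at a place is an expansion datum.** -/
theorem isExpansionAt_expandK : LocRes.IsExpansionAt P.1 (expandK hK P t ht) := by
  refine ⟨val_expandK hK P t ht, fun a => ⟨algebraMap k K a, P.2.1 a, ?_⟩, ⟨t, ht⟩⟩
  rw [LocRes.map_algebraMap, Algebra.algebraMap_self, RingHom.id_apply, HahnSeries.C_apply,
    HahnSeries.coeff_single_same]

/-- Every place carries an expansion datum over an algebraically closed constant field. -/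
theorem exists_expansion_family :
    ∃ Φ : Place k K → (K →ₐ[k] LaurentSeries k), ∀ P : Place k K, LocRes.IsExpansionAt P.1 (Φ P) := by
  have h : ∀ P : Place k K, ∃ t : K, P.1 t = exp (-1 : ℤ) := fun P => P.2.2 _
  choose t ht using h
  exact ⟨fun P => expandK hK P (t P) (ht P), fun P => isExpansionAt_expandK hK P (t P) (ht P)⟩

end

end Groth.Agent.H57
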