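import Groth.Agent.H57.VeryAmple

set_option autoImplicit false

namespace Groth.Agent.H57

open FunFld Groth.Agent.FF WithZero IntermediateField

universe u v
variable {k : Type u} {K : Type v} [Field k] [Field K] [Algebra k K]

section
variable {ι : Type*} [Fintype ι] [Nonempty ι]

theorem finite_support_inf_ord (hK : IsFunctionField k K) (φ : ι → K) :
    (Function.support fun P : Place k K =>
      -Finset.univ.inf' Finset.univ_nonempty (fun i => P.ord (φ i))).Finite := by
  refine (Set.finite_iUnion fun i => finite_support_ord hK (φ i)).subset ?_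
  intro P hP
  rw [Function.mem_support] at hP
  by_contra hcon
  rw [Set.mem_iUnion] at hcon
  push Not at hcon
  apply hP
  have h0 : ∀ i, P.ord (φ i) = 0 := fun i => by
    have := hcon i
    rwa [Function.mem_support, not_not] at this
  simp only [h0]
  rw [Finset.inf'_const]
  simp

theorem mapDiv_apply (hK : IsFunctionField k K) (φ : ι → K) (P : Place k K) :
    mapDiv k φ P = -Finset.univ.inf' Finset.univ_nonempty (fun i => P.ord (φ i)) := by
  unfold mapDiv
  rw [dif_pos (finite_support_inf_ord hK φ)]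
  rfl

theorem neg_mapDiv_le_ord (hK : IsFunctionField k K) (φ : ι → K) (P : Place k K) (i : ι) :
    -(mapDiv k φ P) ≤ P.ord (φ i) := by
  rw [mapDiv_apply hK, neg_neg]
  exact Finset.inf'_le _ (Finset.mem_univ i)

theorem exists_ord_eq_neg_mapDiv (hK : IsFunctionField k K) (φ : ι → K) (P : Place k K) :
    ∃ i, P.ord (φ i) = -(mapDiv k φ P) := by
  rw [mapDiv_apply hK, neg_neg]
  obtain ⟨i, -, hi⟩ := Finset.exists_mem_eq_inf' Finset.univ_nonempty (fun i => P.ord (φ i))
  exact ⟨i, hi.symm⟩

theorem mem_L_mapDiv (hK : IsFunctionField k K) (φ : ι → K) (i : ι) : φ i ∈ L (mapDiv k φ) := by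
  by_cases h0 : φ i = 0
  · rw [h0]; exact zero_mem _
  · intro P
    rw [val_le_exp_iff P h0]
    exact neg_mapDiv_le_ord hK φ P i

theorem span_le_L_mapDiv (hK : IsFunctionField k K) (φ : ι → K) :
    Submodule.span k (Set.range φ) ≤ L (mapDiv k φ) := by
  rw [Submodule.span_le]
  rintro _ ⟨i, rfl⟩
  exact mem_L_mapDiv hK φ i

/-- The linear system of a projective map has no base points. -/
theorem exists_mem_span_not_mem_L (hK : IsFunctionField k K) (φ : ι → K) (P : Place k K)
    (h : ∃ i, φ i ≠ 0 ∧ P.ord (φ i) = -(mapDiv k φ P)) :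
    ∃ f ∈ Submodule.span k (Set.range φ), f ∉ L (mapDiv k φ - Finsupp.single P 1) := by
  obtain ⟨i, hi0, hi⟩ := h
  refine ⟨φ i, Submodule.subset_span ⟨i, rfl⟩, fun hmem => ?_⟩
  have := hmem P
  rw [val_le_exp_iff P hi0, Finsupp.sub_apply, Finsupp.single_eq_same] at this
  omega

end

end Groth.Agent.H57
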