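import Groth.Agent.H57.OrdersAt

set_option autoImplicit false

namespace Groth.Agent.H57

open FunFld Groth.Agent.FF WithZero

universe u v
variable {k : Type u} {K : Type v} [Field k] [Field K] [Algebra k K]

/-- Determinant of a matrix whose first row or first column is the first unit vector. -/
theorem det_eq_det_submatrix_succ {R : Type*} [CommRing R] {n : ℕ}
    (A : Matrix (Fin (n + 1)) (Fin (n + 1)) R) (h00 : A 0 0 = 1)
    (h : (∀ s : Fin n, A 0 s.succ = 0) ∨ (∀ r : Fin n, A r.succ 0 = 0)) :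
    A.det = (A.submatrix Fin.succ Fin.succ).det := by
  rcases h with h | h
  · rw [Matrix.det_succ_row_zero, Fin.sum_univ_succ]
    have : ∑ i : Fin n, (-1 : R) ^ (i.succ : ℕ) * A 0 i.succ *
        (A.submatrix Fin.succ i.succ.succAbove).det = 0 := by
      apply Finset.sum_eq_zero
      intro i _
      rw [h i, mul_zero, zero_mul]
    rw [this, add_zero, h00, Fin.val_zero, pow_zero, one_mul, one_mul, Fin.succAbove_zero]
  · rw [Matrix.det_succ_column_zero, Fin.sum_univ_succ]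
    have : ∑ i : Fin n, (-1 : R) ^ (i.succ : ℕ) * A i.succ 0 *
        (A.submatrix i.succ.succAbove Fin.succ).det = 0 := by
      apply Finset.sum_eq_zero
      intro i _
      rw [h i, mul_zero, zero_mul]
    rw [this, add_zero, h00, Fin.val_zero, pow_zero, one_mul, one_mul, Fin.succAbove_zero]

theorem exp_sum' {ι : Type*} (s : Finset ι) (f : ι → ℤ) :
    (exp (∑ i ∈ s, f i) : ℤᵐ⁰) = ∏ i ∈ s, exp (f i) := by
  classical
  induction s using Finset.induction_on with
  | empty => simp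
  | insert a s ha ih => rw [Finset.sum_insert ha, Finset.prod_insert ha, exp_add, ih]

theorem exp_neg_le_one (j : ℕ) : (exp (-(j : ℤ)) : ℤᵐ⁰) ≤ 1 := by
  rw [← exp_zero, exp_le_exp]; omega

section
variable [IsAlgClosed k] (hK : IsFunctionField k K) (P : Place k K)
variable (t : K) (ht : P.1 t = exp (-1 : ℤ))
include hK ht

omit [IsAlgClosed k] hK in
theorem val_pow_t (j : ℕ) : P.1 (t ^ j) = exp (-(j : ℤ)) := by
  rw [map_pow, ht, ← exp_nsmul, nsmul_eq_mul, mul_neg, mul_one]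

omit [IsAlgClosed k] hK in
theorem pow_t_mem (j : ℕ) : t ^ j ∈ P.O := by
  rw [Valuation.mem_valuationSubring_iff, val_pow_t P t ht, ← exp_zero, exp_le_exp]
  omega

omit [IsAlgClosed k] hK in
theorem val_div_pow_le_one (x : K) (j : ℕ) (hx : P.1 x ≤ exp (-(j : ℤ))) :
    P.1 (x / t ^ j) ≤ 1 := by
  rw [map_div₀, val_pow_t P t ht]
  exact (div_le_one₀ (zero_lt_iff.2 exp_ne_zero)).2 hx

theorem expandO_pow_t (j : ℕ) :
    expandO hK P t ht ⟨t ^ j, pow_t_mem P t ht j⟩ = PowerSeries.X ^ j := by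
  have h1 : (⟨t ^ j, pow_t_mem P t ht j⟩ : P.O) = (⟨t, by
      have := pow_t_mem P t ht 1; rwa [pow_one] at this⟩ : P.O) ^ j := by
    apply Subtype.ext
    push_cast
    rfl
  rw [h1, map_pow, expandO_t]

/-- The residue of `x / t ^ j` is the `j`-th expansion coefficient of `x`. -/
theorem rho_div_pow (x : K) (j : ℕ) (hx : P.1 x ≤ exp (-(j : ℤ))) :
    rho hK P ⟨x / t ^ j, (Valuation.mem_valuationSubring_iff _ _).2
      (val_div_pow_le_one P t ht x j hx)⟩ =
      ecoeff hK P t ht j ⟨x, (Valuation.mem_valuationSubring_iff _ _).2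
        (hx.trans (by rw [← exp_zero, exp_le_exp]; omega))⟩ := by
  have ht0 := ne_zero_of_val_eq_exp P ht
  set y : P.O := ⟨x / t ^ j, (Valuation.mem_valuationSubring_iff _ _).2
      (val_div_pow_le_one P t ht x j hx)⟩ with hy
  have hxy : (⟨x, (Valuation.mem_valuationSubring_iff _ _).2
        (hx.trans (by rw [← exp_zero, exp_le_exp]; omega))⟩ : P.O) =
      ⟨t ^ j, pow_t_mem P t ht j⟩ * y := by
    apply Subtype.ext
    change x = t ^ j * (x / t ^ j)
    field_simp
  rw [hxy, ← coeff_expandO, map_mul, expandO_pow_t, ← constantCoeff_expandO hK P t ht,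
    ← PowerSeries.coeff_zero_eq_constantCoeff_apply]
  have := PowerSeries.coeff_X_pow_mul (expandO hK P t ht y) j 0
  rw [zero_add] at this
  rw [this]

omit ht in
/-- The residue constant as a total function on `K` (junk value `0` at poles). -/
noncomputable def rhoK (z : K) : k :=
  if h : P.1 z ≤ 1 then rho hK P ⟨z, (Valuation.mem_valuationSubring_iff _ _).2 h⟩ else 0

omit ht in
theorem rhoK_eq (z : K) (h : P.1 z ≤ 1) :
    rhoK hK P z = rho hK P ⟨z, (Valuation.mem_valuationSubring_iff _ _).2 h⟩ := dif_pos h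

/-- The expansion coefficients as total functions on `K` (junk value `0` at poles). -/
noncomputable def ecoeffK (m : ℕ) (z : K) : k :=
  if h : P.1 z ≤ 1 then ecoeff hK P t ht m ⟨z, (Valuation.mem_valuationSubring_iff _ _).2 h⟩ else 0

theorem ecoeffK_eq (m : ℕ) (z : K) (h : P.1 z ≤ 1) :
    ecoeffK hK P t ht m z =
      ecoeff hK P t ht m ⟨z, (Valuation.mem_valuationSubring_iff _ _).2 h⟩ := dif_pos h

theorem val_le_exp_neg_iff' (x : K) (hx1 : P.1 x ≤ 1) (m : ℕ) :
    P.1 x ≤ exp (-(m : ℤ)) ↔ ∀ i, i < m → ecoeffK hK P t ht i x = 0 := by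
  have := val_le_exp_neg_iff hK P t ht m ⟨x, (Valuation.mem_valuationSubring_iff _ _).2 hx1⟩
  simp only [ecoeffK_eq hK P t ht _ x hx1]
  exact this

theorem rhoK_div_pow (x : K) (j : ℕ) (hx : P.1 x ≤ exp (-(j : ℤ))) :
    rhoK hK P (x / t ^ j) = ecoeffK hK P t ht j x := by
  rw [rhoK_eq hK P _ (val_div_pow_le_one P t ht x j hx),
    ecoeffK_eq hK P t ht j x (hx.trans (exp_neg_le_one j))]
  exact rho_div_pow hK P t ht x j hx

section Tau
variable (τ : K →ₐ[k] K)

omit ht in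
theorem val_tau_le_one (hP : IsFixedPt τ P) (z : K) (hz : P.1 z ≤ 1) :
    P.1 (τ z) ≤ 1 ∧ rhoK hK P (τ z) = rhoK hK P z := by
  have hzmem : z ∈ P.O := (Valuation.mem_valuationSubring_iff _ _).2 hz
  set c := rho hK P ⟨z, hzmem⟩ with hc
  have h1 : P.1 (z - algebraMap k K c) < 1 := val_sub_rho_lt_one hK P ⟨z, hzmem⟩
  have h2 := hP _ h1
  rw [map_sub, AlgHom.commutes] at h2
  have h3 : P.1 (τ z) ≤ 1 := by
    have : τ z = (τ z - algebraMap k K c) + algebraMap k K c := by ring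
    rw [this]
    exact (P.1.map_add _ _).trans (max_le h2.le (val_algebraMap_le P c))
  refine ⟨h3, ?_⟩
  rw [rhoK_eq hK P _ h3, rhoK_eq hK P _ hz]
  exact rho_eq_of_val_lt_one hK P _ c h2

theorem val_tau_le_exp (hP : IsFixedPt τ P) (z : K) (j : ℕ) (hz : P.1 z ≤ exp (-(j : ℤ))) :
    P.1 (τ z) ≤ exp (-(j : ℤ)) := by
  have ht0 := ne_zero_of_val_eq_exp P ht
  have hy := val_div_pow_le_one P t ht z j hz
  have hz' : z = t ^ j * (z / t ^ j) := by field_simp
  rw [hz', map_mul, map_pow, map_mul, map_pow]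
  have h1 : P.1 (τ t) ≤ exp (-1 : ℤ) := by
    rw [← val_lt_one_iff_le_exp_neg_one]
    apply hP
    rw [ht, ← exp_zero, exp_lt_exp]; norm_num
  calc P.1 (τ t) ^ j * P.1 (τ (z / t ^ j)) ≤ (exp (-1 : ℤ)) ^ j * 1 :=
        mul_le_mul' (pow_le_pow_left₀ zero_le h1 j) (val_tau_le_one hK P τ hP _ hy).1
    _ = exp (-(j : ℤ)) := by
        rw [mul_one, ← exp_nsmul, nsmul_eq_mul, mul_neg, mul_one]

theorem val_tau_le_exp_two (hP : IsStrongFixedPt τ P) (z : K) (j : ℕ)
    (hz : P.1 z ≤ exp (-(j : ℤ))) : P.1 (τ z) ≤ exp (-(2 * j : ℤ)) := by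
  have hP' : IsFixedPt τ P := fun z hz => (hP z hz).trans_lt exp_neg_two_lt_one
  have ht0 := ne_zero_of_val_eq_exp P ht
  have hy := val_div_pow_le_one P t ht z j hz
  have hz' : z = t ^ j * (z / t ^ j) := by field_simp
  rw [hz', map_mul, map_pow, map_mul, map_pow]
  have h1 : P.1 (τ t) ≤ exp (-2 : ℤ) := by
    apply hP
    rw [ht, ← exp_zero, exp_lt_exp]; norm_num
  calc P.1 (τ t) ^ j * P.1 (τ (z / t ^ j)) ≤ (exp (-2 : ℤ)) ^ j * 1 :=
        mul_le_mul' (pow_le_pow_left₀ zero_le h1 j) (val_tau_le_one hK P τ hP' _ hy).1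
    _ = exp (-(2 * j : ℤ)) := by
        rw [mul_one, ← exp_nsmul, nsmul_eq_mul]
        congr 1
        ring

end Tau

variable (Ht : K →ₐ[k] PowerSeries K) (hHt : LocRes.IsHasseFamily t Ht)
include hHt

theorem val_hasseD_mul_pow_le_one (x : K) (hx1 : P.1 x ≤ 1) (i : ℕ) :
    P.1 (LocRes.hasseD Ht i x * t ^ i) ≤ 1 := by
  rw [map_mul]
  exact mul_le_one' (val_hasseD_le_one hK P t ht Ht hHt x hx1 i)
    ((val_pow_t P t ht i).le.trans (exp_neg_le_one i))

theorem ecoeffK_hasseD_mul_pow (x : K) (hx1 : P.1 x ≤ 1) (i m : ℕ) :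
    ecoeffK hK P t ht m (LocRes.hasseD Ht i x * t ^ i) =
      (m.choose i : k) * ecoeffK hK P t ht m x := by
  rw [ecoeffK_eq hK P t ht m _ (val_hasseD_mul_pow_le_one hK P t ht Ht hHt x hx1 i),
    ecoeffK_eq hK P t ht m x hx1]
  have hD := val_hasseD_le_one hK P t ht Ht hHt x hx1 i
  have hsplit : (⟨LocRes.hasseD Ht i x * t ^ i, (Valuation.mem_valuationSubring_iff _ _).2
      (val_hasseD_mul_pow_le_one hK P t ht Ht hHt x hx1 i)⟩ : P.O) =
      ⟨LocRes.hasseD Ht i x, (Valuation.mem_valuationSubring_iff _ _).2 hD⟩ *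
        ⟨t ^ i, pow_t_mem P t ht i⟩ := by
    apply Subtype.ext
    rfl
  rw [hsplit, ← coeff_expandO, map_mul, expandO_pow_t, expandO_hasseD hK P t ht Ht hHt x hx1 i,
    PowerSeries.coeff_mul_X_pow']
  split_ifs with him
  · rw [coeff_psHasse, Nat.sub_add_cancel him, coeff_expandO]
  · rw [Nat.choose_eq_zero_of_lt (not_le.1 him), Nat.cast_zero, zero_mul]

/-- For `x` of order at least `j`, the scaled Hasse derivative `D^(i) x · t^i / t^j` is integral
at `P` with residue `C(j, i)` times the `j`-th coefficient of `x`. -/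
theorem val_hasseD_scaled_le_one (x : K) (j : ℕ) (hx : P.1 x ≤ exp (-(j : ℤ))) (i : ℕ) :
    P.1 (LocRes.hasseD Ht i x * t ^ i / t ^ j) ≤ 1 := by
  have hx1 : P.1 x ≤ 1 := hx.trans (exp_neg_le_one j)
  apply val_div_pow_le_one P t ht
  rw [val_le_exp_neg_iff' hK P t ht _ (val_hasseD_mul_pow_le_one hK P t ht Ht hHt x hx1 i)]
  intro m hm
  rw [ecoeffK_hasseD_mul_pow hK P t ht Ht hHt x hx1,
    (val_le_exp_neg_iff' hK P t ht x hx1 j).1 hx m hm, mul_zero]

theorem rhoK_hasseD_scaled (x : K) (j : ℕ) (hx : P.1 x ≤ exp (-(j : ℤ))) (i : ℕ) :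
    rhoK hK P (LocRes.hasseD Ht i x * t ^ i / t ^ j) =
      (j.choose i : k) * ecoeffK hK P t ht j x := by
  have hx1 : P.1 x ≤ 1 := hx.trans (exp_neg_le_one j)
  rw [rhoK_div_pow hK P t ht, ecoeffK_hasseD_mul_pow hK P t ht Ht hHt x hx1]
  rw [val_le_exp_neg_iff' hK P t ht _ (val_hasseD_mul_pow_le_one hK P t ht Ht hHt x hx1 i)]
  intro m hm
  rw [ecoeffK_hasseD_mul_pow hK P t ht Ht hHt x hx1,
    (val_le_exp_neg_iff' hK P t ht x hx1 j).1 hx m hm, mul_zero]

/-- The order at `P` of the generalized Wronskian of a basis adapted to `P`. -/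
theorem val_det_wrMat_adapted (τ : K →ₐ[k] K) (hP : IsFixedPt τ P) {n : ℕ}
    (φ' : Fin (n + 1) → K) (J I : Fin n → ℕ) (hJpos : ∀ l, 1 ≤ J l)
    (h0v : P.1 (φ' 0) = 1) (h0e : rhoK hK P (φ' 0) = 1)
    (hv : ∀ l : Fin n, P.1 (φ' l.succ) = exp (-(J l : ℤ)))
    (he : ∀ l : Fin n, rhoK hK P (φ' l.succ / t ^ J l) = 1) :
    P.1 (wrMat τ Ht φ' I).det ≤ exp (-(∑ l, ((J l : ℤ) - I l))) ∧
    (((∀ l, 0 < I l) ∨ IsStrongFixedPt τ P) →
      (P.1 (wrMat τ Ht φ' I).det = exp (-(∑ l, ((J l : ℤ) - I l))) ↔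
        (binomMat k J I).det ≠ 0)) := by
  classical
  have ht0 := ne_zero_of_val_eq_exp P ht
  -- the order function
  set o : Fin (n + 1) → ℕ := Fin.cons 0 J with ho
  have ho0 : o 0 = 0 := rfl
  have hosucc : ∀ l : Fin n, o l.succ = J l := fun l => by simp only [ho, Fin.cons_succ]
  have hvo : ∀ r, P.1 (φ' r) = exp (-(o r : ℤ)) := by
    intro r
    refine Fin.cases ?_ (fun l => ?_) r
    · rw [ho0, h0v]; simp
    · rw [hosucc, hv]
  have heo : ∀ r, ecoeffK hK P t ht (o r) (φ' r) = 1 := by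
    intro r
    rw [← rhoK_div_pow hK P t ht _ _ (hvo r).le]
    refine Fin.cases ?_ (fun l => ?_) r
    · rw [ho0, pow_zero, div_one, h0e]
    · rw [hosucc, he]
  -- the scaled matrix
  set M' : Matrix (Fin (n + 1)) (Fin (n + 1)) K := Matrix.of fun r c =>
    Fin.cases (motive := fun _ => K) (τ (φ' r) / t ^ o r)
      (fun s => LocRes.hasseD Ht (I s) (φ' r) * t ^ I s / t ^ o r) c with hM'def
  have hM'0 : ∀ r, M' r 0 = τ (φ' r) / t ^ o r := fun r => rfl
  have hM's : ∀ r (s : Fin n), M' r s.succ = LocRes.hasseD Ht (I s) (φ' r) * t ^ I s / t ^ o r :=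
    fun r s => rfl
  have hM' : ∀ r c, P.1 (M' r c) ≤ 1 := by
    intro r c
    refine Fin.cases ?_ (fun s => ?_) c
    · rw [hM'0]
      exact val_div_pow_le_one P t ht _ _ (val_tau_le_exp hK P t ht τ hP _ _ (hvo r).le)
    · rw [hM's]
      exact val_hasseD_scaled_le_one hK P t ht Ht hHt _ _ (hvo r).le _
  have hρs : ∀ r (s : Fin n), rhoK hK P (M' r s.succ) = ((o r).choose (I s) : k) := by
    intro r s
    rw [hM's, rhoK_hasseD_scaled hK P t ht Ht hHt _ _ (hvo r).le, heo, mul_one]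
  have hρ00 : rhoK hK P (M' 0 0) = 1 := by
    rw [hM'0, ho0, pow_zero, div_one, (val_tau_le_one hK P τ hP _ h0v.le).2, h0e]
  -- factorization
  set u : Fin (n + 1) → K := fun r => t ^ o r with hu
  set w : Fin (n + 1) → K := fun c => Fin.cases (motive := fun _ => K) 1 (fun s => (t ^ I s)⁻¹) c
    with hw
  have hfac : wrMat τ Ht φ' I = Matrix.of fun r c => u r * (Matrix.of fun r c => w c * M' r c) r c := by
    ext r c
    simp only [Matrix.of_apply]
    refine Fin.cases ?_ (fun s => ?_) c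
    · change τ (φ' r) = t ^ o r * (1 * (τ (φ' r) / t ^ o r))
      field_simp
    · change LocRes.hasseD Ht (I s) (φ' r) =
        t ^ o r * ((t ^ I s)⁻¹ * (LocRes.hasseD Ht (I s) (φ' r) * t ^ I s / t ^ o r))
      field_simp
  have hdet : (wrMat τ Ht φ' I).det = (∏ r, u r) * ((∏ c, w c) * M'.det) := by
    rw [hfac, Matrix.det_mul_column, Matrix.det_mul_row]
  have hprodu : P.1 (∏ r, u r) = exp (-(∑ l, (J l : ℤ))) := by
    rw [map_prod, Fin.prod_univ_succ]
    simp only [hu, ho0, pow_zero, map_one, one_mul, hosucc, val_pow_t P t ht]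
    rw [← exp_sum', Finset.sum_neg_distrib]
  have hprodw : P.1 (∏ c, w c) = exp (∑ l, (I l : ℤ)) := by
    rw [map_prod, Fin.prod_univ_succ]
    have h1 : w 0 = 1 := rfl
    have h2 : ∀ s : Fin n, w s.succ = (t ^ I s)⁻¹ := fun s => rfl
    simp only [h1, h2, map_one, one_mul, map_inv₀, val_pow_t P t ht, ← exp_neg, neg_neg]
    rw [← exp_sum']
  -- the integral matrix
  set N : Matrix (Fin (n + 1)) (Fin (n + 1)) P.O := fun r c =>
    ⟨M' r c, (Valuation.mem_valuationSubring_iff _ _).2 (hM' r c)⟩ with hN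
  have hNM : N.map P.O.subtype = M' := by
    ext r c
    rfl
  have hdetN : M'.det = ((N.det : P.O) : K) := by
    rw [← hNM]
    exact (RingHom.map_det P.O.subtype N).symm
  have hvalM' : P.1 M'.det ≤ 1 := by
    rw [hdetN]
    exact N.det.2
  have hS : exp (-(∑ l, ((J l : ℤ) - I l))) =
      (exp (-(∑ l, (J l : ℤ))) * exp (∑ l, (I l : ℤ)) : ℤᵐ⁰) := by
    rw [← exp_add]
    congr 1
    rw [Finset.sum_sub_distrib]
    ring
  have hval : P.1 (wrMat τ Ht φ' I).det = exp (-(∑ l, ((J l : ℤ) - I l))) * P.1 M'.det := by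
    rw [hdet, map_mul, map_mul, hprodu, hprodw, hS, mul_assoc]
  refine ⟨?_, fun hcase => ?_⟩
  · rw [hval]
    exact (mul_le_mul' le_rfl hvalM').trans_eq (mul_one _)
  · rw [hval]
    have h1 : (exp (-(∑ l, ((J l : ℤ) - I l))) * P.1 M'.det = exp (-(∑ l, ((J l : ℤ) - I l)))) ↔
        P.1 M'.det = 1 := by
      constructor
      · intro h
        have h2 : exp (-(∑ l, ((J l : ℤ) - I l))) * P.1 M'.det =
            exp (-(∑ l, ((J l : ℤ) - I l))) * 1 := by rw [h, mul_one]
        exact mul_left_cancel₀ exp_ne_zero h2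
      · intro h
        rw [h, mul_one]
    rw [h1]
    have h2 : P.1 M'.det = 1 ↔ rho hK P N.det ≠ 0 := by
      rw [Ne, rho_eq_zero_iff, ← hdetN, not_lt]
      exact ⟨fun h => h.ge, fun h => le_antisymm hvalM' h⟩
    rw [h2, RingHom.map_det]
    have hNρ : ∀ r c, (rho hK P).mapMatrix N r c = rhoK hK P (M' r c) := by
      intro r c
      rw [rhoK_eq hK P _ (hM' r c)]
      rfl
    have h3 : ((rho hK P).mapMatrix N).det =
        (((rho hK P).mapMatrix N).submatrix Fin.succ Fin.succ).det := by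
      apply det_eq_det_submatrix_succ
      · rw [hNρ, hρ00]
      · rcases hcase with hI | hstrong
        · left
          intro s
          rw [hNρ, hρs, ho0, Nat.choose_eq_zero_of_lt (hI s), Nat.cast_zero]
        · right
          intro r
          rw [hNρ, hM'0, hosucc, rhoK_eq hK P _ (by rw [← hosucc, ← hM'0]; exact hM' _ _),
            rho_eq_zero_iff]
          change P.1 (τ (φ' r.succ) / t ^ J r) < 1
          rw [map_div₀, val_pow_t P t ht, div_lt_one₀ (zero_lt_iff.2 exp_ne_zero)]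
          refine (val_tau_le_exp_two hK P t ht τ hstrong _ _ (hv r).le).trans_lt ?_
          rw [exp_lt_exp]
          have := hJpos r
          omega
    rw [h3]
    have h4 : ((rho hK P).mapMatrix N).submatrix Fin.succ Fin.succ = binomMat k J I := by
      ext r s
      rw [Matrix.submatrix_apply, hNρ, hρs, hosucc]
      rfl
    rw [h4]

end

end Groth.Agent.H57
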