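import Groth.Agent.H57.Nonsing
import Groth.Agent.H57.WronskAt
import Groth.Agent.H57.MapDiv

set_option autoImplicit false

namespace Groth.Agent.H57

open FunFld Groth.Agent.FF WithZero IntermediateField

universe u v
variable {k : Type u} {K : Type v} [Field k] [Field K] [Algebra k K]

/-- `k + I` is a subalgebra when `I` is an additive subgroup closed under products and under
multiplication by constants. -/
theorem exists_const_of_mem_adjoin (I : AddSubgroup K) (hI : ∀ a ∈ I, ∀ b ∈ I, a * b ∈ I)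
    (hkI : ∀ (c : k), ∀ a ∈ I, algebraMap k K c * a ∈ I) (s : Set K)
    (hs : ∀ x ∈ s, ∃ c : k, x - algebraMap k K c ∈ I) {u : K} (hu : u ∈ Algebra.adjoin k s) :
    ∃ c : k, u - algebraMap k K c ∈ I := by
  induction hu using Algebra.adjoin_induction with
  | mem x hx => exact hs x hx
  | algebraMap c => exact ⟨c, by rw [sub_self]; exact zero_mem _⟩
  | add x y _ _ hx hy =>
    obtain ⟨c, hc⟩ := hx
    obtain ⟨c', hc'⟩ := hy
    refine ⟨c + c', ?_⟩
    have : x + y - algebraMap k K (c + c') = (x - algebraMap k K c) + (y - algebraMap k K c') := by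
      rw [map_add]; ring
    rw [this]
    exact add_mem hc hc'
  | mul x y _ _ hx hy =>
    obtain ⟨c, hc⟩ := hx
    obtain ⟨c', hc'⟩ := hy
    refine ⟨c * c', ?_⟩
    have : x * y - algebraMap k K (c * c') =
        (x - algebraMap k K c) * (y - algebraMap k K c') +
        algebraMap k K c * (y - algebraMap k K c') + algebraMap k K c' * (x - algebraMap k K c) := by
      rw [map_mul]; ring
    rw [this]
    exact add_mem (add_mem (hI _ hc _ hc') (hkI c _ hc')) (hkI c' _ hc)

section
variable [IsAlgClosed k] (hK : IsFunctionField k K) (P : Place k K)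
include hK

theorem val_sub_rhoK_lt_one (z : K) (hz : P.1 z ≤ 1) :
    P.1 (z - algebraMap k K (rhoK hK P z)) < 1 := by
  rw [rhoK_eq hK P z hz]
  exact val_sub_rho_lt_one hK P ⟨z, _⟩

theorem rhoK_unique (z : K) (hz : P.1 z ≤ 1) (c : k) (h : P.1 (z - algebraMap k K c) < 1) :
    rhoK hK P z = c := by
  rw [rhoK_eq hK P z hz]
  exact rho_eq_of_val_lt_one hK P ⟨z, _⟩ c h

omit [IsAlgClosed k] hK in
theorem val_algebraMap_lt_one_iff (c : k) : P.1 (algebraMap k K c) < 1 ↔ c = 0 := by
  constructor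
  · intro h
    by_contra hc
    rw [val_algebraMap P hc] at h
    exact lt_irrefl _ h
  · rintro rfl
    rw [map_zero, map_zero]
    exact zero_lt_one

omit [IsAlgClosed k] hK in
/-- A constant plus something small is a unit unless the constant vanishes. -/
theorem val_eq_one_of_sub_const {z : K} {c : k} (hc : c ≠ 0) (h : P.1 (z - algebraMap k K c) < 1) :
    P.1 z = 1 := by
  have : z = (z - algebraMap k K c) + algebraMap k K c := by ring
  rw [this, Valuation.map_add_eq_of_lt_right]
  · exact val_algebraMap P hc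
  · rw [val_algebraMap P hc]; exact h

end


theorem ball_mul_mem (P : Place k K) {m : ℤ} (hm : m ≤ 0) {a b : K} (ha : a ∈ ball P m)
    (hb : b ∈ ball P m) : a * b ∈ ball P m := by
  rw [mem_ball] at ha hb ⊢
  rw [map_mul]
  calc P.1 a * P.1 b ≤ exp m * exp m := mul_le_mul' ha hb
    _ = exp (m + m) := (exp_add _ _).symm
    _ ≤ exp m := by rw [exp_le_exp]; omega

theorem ball_algebraMap_mul_mem (P : Place k K) {m : ℤ} (c : k) {a : K} (ha : a ∈ ball P m) :
    algebraMap k K c * a ∈ ball P m := by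
  rw [mem_ball] at ha ⊢
  rw [map_mul]
  calc P.1 (algebraMap k K c) * P.1 a ≤ 1 * P.1 a := mul_le_mul_left (val_algebraMap_le P c) _
    _ = P.1 a := one_mul _
    _ ≤ exp m := ha

section Crit
variable [IsAlgClosed k] (hK : IsFunctionField k K) {n : ℕ} (φ : Fin (n + 1) → K)
  (P : Place k K) (j : Fin (n + 1))

/-- The residue constants of the ratios at `P`. -/
noncomputable def alphaR (i : Fin (n + 1)) : k := rhoK hK P (φ i / φ j)

/-- The centred ratios. -/
noncomputable def yR (i : Fin (n + 1)) : K := φ i / φ j - algebraMap k K (alphaR hK φ P j i)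

/-- Condition (b'): some centred ratio is a local parameter at `P`. -/
def CondB : Prop := ∃ i, P.1 (yR hK φ P j i) = exp (-1 : ℤ)

/-- Condition (a'): at any other place of the same chart some centred ratio is a unit. -/
def CondA : Prop := ∀ Q : Place k K, Q ≠ P → (∀ i, Q.1 (φ i) ≤ Q.1 (φ j)) →
  ∃ i, Q.1 (yR hK φ P j i) = 1

variable {φ P j}
variable (hφ0 : ∀ i, φ i ≠ 0) (hPj : ∀ i, P.1 (φ i) ≤ P.1 (φ j))
include hφ0 hPj

omit [IsAlgClosed k] in
theorem val_ratio_le_one (i : Fin (n + 1)) : P.1 (φ i / φ j) ≤ 1 := by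
  rw [map_div₀, div_le_one₀ (zero_lt_iff.2 ((P.1.ne_zero_iff).2 (hφ0 j)))]
  exact hPj i

omit [IsAlgClosed k] hφ0 hPj in
theorem val_ratio_le_one' {Q : Place k K} (hj : φ j ≠ 0) (hQj : ∀ i, Q.1 (φ i) ≤ Q.1 (φ j))
    (i : Fin (n + 1)) : Q.1 (φ i / φ j) ≤ 1 := by
  rw [map_div₀, div_le_one₀ (zero_lt_iff.2 ((Q.1.ne_zero_iff).2 hj))]
  exact hQj i

theorem val_yR_lt_one (i : Fin (n + 1)) : P.1 (yR hK φ P j i) < 1 :=
  val_sub_rhoK_lt_one hK P _ (val_ratio_le_one hφ0 hPj i)

omit hφ0 hPj in
theorem yR_mem_ratioAlg (i : Fin (n + 1)) : yR hK φ P j i ∈ ratioAlg k φ j :=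
  sub_mem (ratio_mem k φ j i) (Subalgebra.algebraMap_mem _ _)

omit hφ0 hPj in
theorem val_yR_le_one' {Q : Place k K} (hj : φ j ≠ 0) (hQj : ∀ i, Q.1 (φ i) ≤ Q.1 (φ j))
    (i : Fin (n + 1)) : Q.1 (yR hK φ P j i) ≤ 1 :=
  (Q.1.map_sub _ _).trans (max_le (val_ratio_le_one' hj hQj i) (val_algebraMap_le Q _))

omit hφ0 hPj in
/-- If no centred ratio is a local parameter, the local ring lies in `k + m_P²`. -/
theorem exists_const_of_inLocRingAt (h : ∀ i, P.1 (yR hK φ P j i) ≤ exp (-2 : ℤ)) {z : K}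
    (hz : InLocRingAt φ P j z) : ∃ c : k, P.1 (z - algebraMap k K c) ≤ exp (-2 : ℤ) := by
  have hA : ∀ u ∈ ratioAlg k φ j, ∃ c : k, u - algebraMap k K c ∈ (ball P (-2)).toAddSubgroup := by
    intro u hu
    refine exists_const_of_mem_adjoin (ball P (-2)).toAddSubgroup
      (fun a ha b hb => ball_mul_mem P (by omega) ha hb)
      (fun c a ha => ball_algebraMap_mul_mem P c ha) _ ?_ hu
    rintro _ ⟨i, rfl⟩
    exact ⟨alphaR hK φ P j i, h i⟩
  obtain ⟨u, hu, w, hw, hw1, hzw⟩ := hz
  obtain ⟨cu, hcu⟩ := hA u hu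
  obtain ⟨cw, hcw⟩ := hA w hw
  change P.1 _ ≤ _ at hcu hcw
  have hcw0 : cw ≠ 0 := by
    rintro rfl
    rw [map_zero, sub_zero, hw1, ← exp_zero, exp_le_exp] at hcw
    omega
  have hw0 : w ≠ 0 := by
    rintro rfl
    rw [map_zero] at hw1
    exact zero_ne_one hw1
  refine ⟨cu / cw, ?_⟩
  have : z - algebraMap k K (cu / cw) =
      ((u - algebraMap k K cu) - algebraMap k K (cu / cw) * (w - algebraMap k K cw)) / w := by
    rw [← hzw, map_div₀]
    have : algebraMap k K cw ≠ 0 := by rwa [Ne, map_eq_zero]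
    field_simp
    ring
  rw [this, map_div₀, hw1, div_one]
  exact (P.1.map_sub _ _).trans (max_le hcu (ball_algebraMap_mul_mem P _ hcw))

/-- If another place of the chart has the same image point, the local ring at `P` lies in its
valuation ring. -/
theorem val_le_one_of_inLocRingAt_of_same {Q : Place k K} (hQj : ∀ i, Q.1 (φ i) ≤ Q.1 (φ j))
    (h : ∀ i, Q.1 (yR hK φ P j i) < 1) {z : K} (hz : InLocRingAt φ P j z) : Q.1 z ≤ 1 := by
  have hA : ∀ u ∈ ratioAlg k φ j, ∃ c : k,
      u - algebraMap k K c ∈ (ball P (-1) ⊓ ball Q (-1)).toAddSubgroup := by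
    intro u hu
    refine exists_const_of_mem_adjoin (ball P (-1) ⊓ ball Q (-1)).toAddSubgroup
      (fun a ha b hb => ⟨ball_mul_mem P (by omega) ha.1 hb.1, ball_mul_mem Q (by omega) ha.2 hb.2⟩)
      (fun c a ha => ⟨ball_algebraMap_mul_mem P c ha.1, ball_algebraMap_mul_mem Q c ha.2⟩) _ ?_ hu
    rintro _ ⟨i, rfl⟩
    refine ⟨alphaR hK φ P j i, ?_, ?_⟩
    · exact (val_lt_one_iff_le_exp_neg_one P _).1 (val_yR_lt_one hK hφ0 hPj i)
    · exact (val_lt_one_iff_le_exp_neg_one Q _).1 (h i)
  obtain ⟨u, hu, w, hw, hw1, hzw⟩ := hz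
  obtain ⟨cw, hcwP, hcwQ⟩ := hA w hw
  change P.1 _ ≤ _ at hcwP
  change Q.1 _ ≤ _ at hcwQ
  rw [← val_lt_one_iff_le_exp_neg_one] at hcwP hcwQ
  have hcw0 : cw ≠ 0 := by
    rintro rfl
    rw [map_zero, sub_zero, hw1] at hcwP
    exact lt_irrefl _ hcwP
  have hwQ : Q.1 w = 1 := val_eq_one_of_sub_const Q hcw0 hcwQ
  have huQ : Q.1 u ≤ 1 := val_le_one_of_mem_ratioAlg (hφ0 j) Q hQj hu
  rw [← hzw, map_mul, hwQ, mul_one] at huQ
  exact huQ


/-- Nonsingularity in terms of the centred ratios. -/
theorem isNonsingularAt_iff_condA_condB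
    (hbir : IntermediateField.adjoin k (Set.range fun i => φ i / φ 0) = ⊤) :
    IsNonsingularAt φ P ↔ CondA hK φ P j ∧ CondB hK φ P j := by
  have hj := hφ0 j
  rw [isNonsingularAt_iff hK hφ0 hbir]
  constructor
  · rintro ⟨ha, t, htR, ht⟩
    rw [inLocRing_iff_inLocRingAt hj hPj] at htR
    constructor
    · intro Q hQP hQj
      by_contra hcon
      push Not at hcon
      apply hQP
      apply ha Q
      intro z hz
      rw [inLocRing_iff_inLocRingAt hj hPj] at hz
      exact val_le_one_of_inLocRingAt_of_same hK hφ0 hPj hQj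
        (fun i => lt_of_le_of_ne (val_yR_le_one' hK hj hQj i) (hcon i)) hz
    · by_contra hcon
      unfold CondB at hcon
      push Not at hcon
      have hall : ∀ i, P.1 (yR hK φ P j i) ≤ exp (-2 : ℤ) := by
        intro i
        have h1 := (val_lt_one_iff_le_exp_neg_one P _).1 (val_yR_lt_one hK hφ0 hPj i)
        have h2 := lt_of_le_of_ne h1 (hcon i)
        by_cases h0 : yR hK φ P j i = 0
        · rw [h0, map_zero]; exact zero_le
        · rw [val_lt_exp_iff P h0] at h2
          rw [val_le_exp_iff P h0]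
          omega
      obtain ⟨c, hc⟩ := exists_const_of_inLocRingAt hK hall htR
      by_cases hc0 : c = 0
      · rw [hc0, map_zero, sub_zero, ht, exp_le_exp] at hc
        omega
      · have := val_eq_one_of_sub_const P hc0 (lt_of_le_of_lt hc (by
          rw [← exp_zero, exp_lt_exp]; omega))
        rw [ht, ← exp_zero] at this
        have := exp_injective this
        omega
  · rintro ⟨hA, i, hi⟩
    constructor
    · intro Q hQ
      by_contra hQP
      have hQj : ∀ i, Q.1 (φ i) ≤ Q.1 (φ j) := by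
        intro i
        have := hQ (φ i / φ j) ((inLocRing_iff_inLocRingAt hj hPj _).2
          (inLocRingAt_of_mem (ratio_mem k φ j i)))
        rwa [map_div₀, div_le_one₀ (zero_lt_iff.2 ((Q.1.ne_zero_iff).2 hj))] at this
      obtain ⟨i, hi⟩ := hA Q hQP hQj
      set β := rhoK hK Q (φ i / φ j) with hβ
      set w := φ i / φ j - algebraMap k K β with hw
      have hwQ : Q.1 w < 1 := val_sub_rhoK_lt_one hK Q _ (val_ratio_le_one' hj hQj i)
      have hβα : alphaR hK φ P j i - β ≠ 0 := by
        intro h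
        have : β = alphaR hK φ P j i := (sub_eq_zero.1 h).symm
        rw [hw, this] at hwQ
        exact absurd hi (ne_of_lt hwQ)
      have hwP : P.1 w = 1 := by
        apply val_eq_one_of_sub_const P hβα
        have : w - algebraMap k K (alphaR hK φ P j i - β) = yR hK φ P j i := by
          rw [hw, yR, map_sub]; ring
        rw [this]
        exact val_yR_lt_one hK hφ0 hPj i
      have hw0 : w ≠ 0 := by
        rintro h
        rw [h, map_zero] at hwP
        exact zero_ne_one hwP
      have hwA : w ∈ ratioAlg k φ j := sub_mem (ratio_mem k φ j i) (Subalgebra.algebraMap_mem _ _)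
      have hz : InLocRingAt φ P j w⁻¹ := ⟨1, one_mem _, w, hwA, hwP, inv_mul_cancel₀ hw0⟩
      have := hQ _ ((inLocRing_iff_inLocRingAt hj hPj _).2 hz)
      rw [map_inv₀] at this
      have h1 : 1 < (Q.1 w)⁻¹ := by
        rw [one_lt_inv₀ (zero_lt_iff.2 ((Q.1.ne_zero_iff).2 hw0))]
        exact hwQ
      exact absurd this (not_le.2 h1)
    · refine ⟨yR hK φ P j i, ?_, hi⟩
      rw [inLocRing_iff_inLocRingAt hj hPj]
      exact inLocRingAt_of_mem (yR_mem_ratioAlg hK i)


omit [IsAlgClosed k] hPj in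
include hK in
/-- The value of an entry of least order is given by the divisor of the map. -/
theorem val_eq_exp_mapDiv_of_least {Q : Place k K} {j' : Fin (n + 1)}
    (hQj : ∀ i, Q.1 (φ i) ≤ Q.1 (φ j')) : Q.1 (φ j') = exp (mapDiv k φ Q) := by
  obtain ⟨i, hi⟩ := exists_ord_eq_neg_mapDiv hK φ Q
  have h1 := neg_mapDiv_le_ord hK φ Q j'
  have h2 := hQj i
  rw [val_eq_exp_neg_ord Q (hφ0 i), val_eq_exp_neg_ord Q (hφ0 j'), exp_le_exp] at h2
  rw [val_eq_exp_neg_ord Q (hφ0 j')]
  congr 1
  omega

omit hφ0 hPj in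
theorem comb_div_eq (c : Fin (n + 1) → k) :
    (∑ i, c i • φ i) / φ j =
      algebraMap k K (∑ i, c i * alphaR hK φ P j i) + ∑ i, c i • yR hK φ P j i := by
  rw [Finset.sum_div, map_sum, ← Finset.sum_add_distrib]
  refine Finset.sum_congr rfl fun i _ => ?_
  rw [yR, smul_div_assoc, map_mul, Algebra.smul_def, Algebra.smul_def]
  ring

omit hφ0 hPj in
theorem yR_mul_eq (i : Fin (n + 1)) (hj : φ j ≠ 0) :
    yR hK φ P j i * φ j = φ i - alphaR hK φ P j i • φ j := by
  rw [yR, sub_mul, div_mul_cancel₀ _ hj, Algebra.smul_def]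

/-- The functions `φ i - α i φ j` lie in `W ∩ L([φ] - P)`. -/
theorem yR_mul_mem (i : Fin (n + 1)) :
    yR hK φ P j i * φ j ∈ Submodule.span k (Set.range φ) ⊓
      L (mapDiv k φ - Finsupp.single P 1) := by
  classical
  have hj := hφ0 j
  constructor
  · rw [yR_mul_eq hK i hj]
    exact sub_mem (Submodule.subset_span ⟨i, rfl⟩)
      (Submodule.smul_mem _ _ (Submodule.subset_span ⟨j, rfl⟩))
  · intro Q
    by_cases hQ : Q = P
    · subst hQ
      rw [Finsupp.sub_apply, Finsupp.single_eq_same, map_mul,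
        val_eq_exp_mapDiv_of_least hK hφ0 hPj]
      have := (val_lt_one_iff_le_exp_neg_one Q _).1 (val_yR_lt_one hK hφ0 hPj i)
      calc Q.1 (yR hK φ Q j i) * exp (mapDiv k φ Q) ≤ exp (-1 : ℤ) * exp (mapDiv k φ Q) :=
            mul_le_mul_left this _
        _ = exp (mapDiv k φ Q - 1) := by rw [← exp_add]; congr 1; ring
    · rw [Finsupp.sub_apply, Finsupp.single_eq_of_ne hQ, sub_zero, yR_mul_eq hK i hj]
      have h1 := mem_L_mapDiv hK φ i Q
      have h2 := mem_L_mapDiv hK φ j Q
      exact (Q.1.map_sub _ _).trans (max_le h1 ((val_smul_le Q _ _).trans h2))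

/-- A function of `W ∩ L([φ] - P)` is, divided by `φ j`, a combination of centred ratios. -/
theorem exists_comb_of_mem {f : K} (hf : f ∈ Submodule.span k (Set.range φ) ⊓
    L (mapDiv k φ - Finsupp.single P 1)) :
    ∃ c : Fin (n + 1) → k, f / φ j = ∑ i, c i • yR hK φ P j i := by
  have hj := hφ0 j
  obtain ⟨c, rfl⟩ := (Submodule.mem_span_range_iff_exists_fun k).1 hf.1
  refine ⟨c, ?_⟩
  rw [comb_div_eq hK c]
  have hsmall : P.1 (∑ i, c i • yR hK φ P j i) < 1 := by
    apply P.1.map_sum_lt one_ne_zero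
    intro i _
    exact lt_of_le_of_lt (val_smul_le P _ _) (val_yR_lt_one hK hφ0 hPj i)
  have hfP := hf.2 P
  rw [Finsupp.sub_apply, Finsupp.single_eq_same] at hfP
  have hdiv : P.1 ((∑ i, c i • φ i) / φ j) < 1 := by
    rw [map_div₀, val_eq_exp_mapDiv_of_least hK hφ0 hPj,
      div_lt_one₀ (zero_lt_iff.2 exp_ne_zero)]
    exact lt_of_le_of_lt hfP (by rw [exp_lt_exp]; omega)
  rw [comb_div_eq hK c] at hdiv
  have hconst : P.1 (algebraMap k K (∑ i, c i * alphaR hK φ P j i)) < 1 := by
    have : algebraMap k K (∑ i, c i * alphaR hK φ P j i) =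
        (algebraMap k K (∑ i, c i * alphaR hK φ P j i) + ∑ i, c i • yR hK φ P j i) -
        ∑ i, c i • yR hK φ P j i := by ring
    rw [this]
    exact lt_of_le_of_lt (P.1.map_sub _ _) (max_lt hdiv hsmall)
  rw [val_algebraMap_lt_one_iff] at hconst
  rw [hconst, map_zero, zero_add]

/-- Separation criterion in terms of the linear system. -/
theorem sep_iff_condA_condB :
    (∀ Q : Place k K, ∃ f ∈ Submodule.span k (Set.range φ) ⊓
        L (mapDiv k φ - Finsupp.single P 1),
      f ∉ L (mapDiv k φ - Finsupp.single P 1 - Finsupp.single Q 1)) ↔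
      CondA hK φ P j ∧ CondB hK φ P j := by
  classical
  have hj := hφ0 j
  constructor
  · intro hsep
    constructor
    · intro Q hQP hQj
      obtain ⟨f, hf, hf'⟩ := hsep Q
      obtain ⟨hf0, hord⟩ := ord_eq_neg_of_mem_of_not_mem _ Q hf.2 hf'
      rw [Finsupp.sub_apply, Finsupp.single_eq_of_ne hQP, sub_zero] at hord
      obtain ⟨c, hc⟩ := exists_comb_of_mem hK hφ0 hPj hf
      have hval : Q.1 (f / φ j) = 1 := by
        rw [map_div₀, val_eq_exp_mapDiv_of_least hK hφ0 hQj, val_eq_exp_neg_ord Q hf0, hord,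
          neg_neg]
        exact div_self exp_ne_zero
      by_contra hcon
      push Not at hcon
      have : Q.1 (f / φ j) < 1 := by
        rw [hc]
        apply Q.1.map_sum_lt one_ne_zero
        intro i _
        exact lt_of_le_of_lt (val_smul_le Q _ _)
          (lt_of_le_of_ne (val_yR_le_one' hK hj hQj i) (hcon i))
      rw [hval] at this
      exact lt_irrefl _ this
    · obtain ⟨f, hf, hf'⟩ := hsep P
      obtain ⟨hf0, hord⟩ := ord_eq_neg_of_mem_of_not_mem _ P hf.2 hf'
      rw [Finsupp.sub_apply, Finsupp.single_eq_same] at hord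
      obtain ⟨c, hc⟩ := exists_comb_of_mem hK hφ0 hPj hf
      have hval : P.1 (f / φ j) = exp (-1 : ℤ) := by
        rw [map_div₀, val_eq_exp_mapDiv_of_least hK hφ0 hPj, val_eq_exp_neg_ord P hf0, hord,
          ← exp_sub]
        congr 1
        ring
      by_contra hcon
      unfold CondB at hcon
      push Not at hcon
      have hall : ∀ i, P.1 (yR hK φ P j i) ≤ exp (-2 : ℤ) := by
        intro i
        have h1 := (val_lt_one_iff_le_exp_neg_one P _).1 (val_yR_lt_one hK hφ0 hPj i)
        have h2 := lt_of_le_of_ne h1 (hcon i)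
        by_cases h0 : yR hK φ P j i = 0
        · rw [h0, map_zero]; exact zero_le
        · rw [val_lt_exp_iff P h0] at h2
          rw [val_le_exp_iff P h0]
          omega
      have : P.1 (f / φ j) ≤ exp (-2 : ℤ) := by
        rw [hc]
        apply P.1.map_sum_le
        intro i _
        exact (val_smul_le P _ _).trans (hall i)
      rw [hval, exp_le_exp] at this
      omega
  · rintro ⟨hA, hB⟩ Q
    by_cases hQP : Q = P
    · subst hQP
      obtain ⟨i, hi⟩ := hB
      refine ⟨_, yR_mul_mem hK hφ0 hPj i, fun hmem => ?_⟩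
      have := hmem Q
      rw [Finsupp.sub_apply, Finsupp.sub_apply, Finsupp.single_eq_same, map_mul, hi,
        val_eq_exp_mapDiv_of_least hK hφ0 hPj, ← exp_add, exp_le_exp] at this
      omega
    · by_cases hQj : ∀ i, Q.1 (φ i) ≤ Q.1 (φ j)
      · obtain ⟨i, hi⟩ := hA Q hQP hQj
        refine ⟨_, yR_mul_mem hK hφ0 hPj i, fun hmem => ?_⟩
        have := hmem Q
        rw [Finsupp.sub_apply, Finsupp.sub_apply, Finsupp.single_eq_same,
          Finsupp.single_eq_of_ne hQP, map_mul, hi,
          val_eq_exp_mapDiv_of_least hK hφ0 hQj, one_mul, exp_le_exp] at this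
        omega
      · push Not at hQj
        obtain ⟨i₀, hi₀⟩ := hQj
        obtain ⟨i, hQi⟩ := Finite.exists_max (fun i => Q.1 (φ i))
        have hlt : Q.1 (φ j) < Q.1 (φ i) := lt_of_lt_of_le hi₀ (hQi i₀)
        refine ⟨_, yR_mul_mem hK hφ0 hPj i, fun hmem => ?_⟩
        have := hmem Q
        rw [Finsupp.sub_apply, Finsupp.sub_apply, Finsupp.single_eq_same,
          Finsupp.single_eq_of_ne hQP, yR_mul_eq hK i hj] at this
        have hval : Q.1 (φ i - alphaR hK φ P j i • φ j) = Q.1 (φ i) := by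
          apply Valuation.map_sub_eq_of_lt_left
          exact lt_of_le_of_lt (val_smul_le Q _ _) hlt
        rw [hval, val_eq_exp_mapDiv_of_least hK hφ0 hQi, exp_le_exp] at this
        omega

end Crit


section Dim
variable [IsAlgClosed k]

/-- Imposing one more condition at a place cuts down the dimension by at most one. -/
theorem finrank_le_finrank_inf_add_one (hK : IsFunctionField k K) (V : Submodule k K)
    [FiniteDimensional k V] (E : Divisor k K) (hVE : V ≤ L E) (Q : Place k K) :
    Module.finrank k V ≤ Module.finrank k ↥(V ⊓ L (E - Finsupp.single Q 1)) + 1 := by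
  classical
  by_cases h : V ≤ L (E - Finsupp.single Q 1)
  · rw [inf_eq_left.2 h]
    exact Nat.le_succ _
  · obtain ⟨f₂, hf₂V, hf₂⟩ := SetLike.not_le_iff_exists.1 h
    obtain ⟨hf₂0, hord⟩ := ord_eq_neg_of_mem_of_not_mem E Q (hVE hf₂V) hf₂
    have hvalf₂ : Q.1 f₂ = exp (E Q) := by
      rw [val_eq_exp_neg_ord Q hf₂0, hord, neg_neg]
    have hle : V ≤ (V ⊓ L (E - Finsupp.single Q 1)) ⊔ Submodule.span k {f₂} := by
      intro f hfV
      have hz : Q.1 (f / f₂) ≤ 1 := by
        rw [map_div₀, hvalf₂, div_le_one₀ (zero_lt_iff.2 exp_ne_zero)]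
        exact hVE hfV Q
      set c := rhoK hK Q (f / f₂) with hc
      have hsmall := val_sub_rhoK_lt_one hK Q _ hz
      rw [← hc] at hsmall
      have heq : f - c • f₂ = (f / f₂ - algebraMap k K c) * f₂ := by
        rw [sub_mul, div_mul_cancel₀ _ hf₂0, Algebra.smul_def]
      rw [Submodule.mem_sup]
      refine ⟨f - c • f₂, ⟨sub_mem hfV (Submodule.smul_mem _ _ hf₂V), ?_⟩, c • f₂,
        Submodule.smul_mem _ _ (Submodule.mem_span_singleton_self _), by ring⟩
      intro Q'
      by_cases hQ' : Q' = Q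
      · subst hQ'
        rw [Finsupp.sub_apply, Finsupp.single_eq_same, heq, map_mul, hvalf₂]
        have := (val_lt_one_iff_le_exp_neg_one Q' _).1 hsmall
        calc Q'.1 (f / f₂ - algebraMap k K c) * exp (E Q') ≤ exp (-1 : ℤ) * exp (E Q') :=
              mul_le_mul_left this _
          _ = exp (E Q' - 1) := by rw [← exp_add]; congr 1; ring
      · rw [Finsupp.sub_apply, Finsupp.single_eq_of_ne hQ', sub_zero]
        exact (Q'.1.map_sub _ _).trans
          (max_le (hVE hfV Q') ((val_smul_le Q' _ _).trans (hVE hf₂V Q')))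
    calc Module.finrank k V
        ≤ Module.finrank k ↥((V ⊓ L (E - Finsupp.single Q 1)) ⊔ Submodule.span k {f₂}) :=
          Submodule.finrank_mono hle
      _ ≤ Module.finrank k ↥(V ⊓ L (E - Finsupp.single Q 1)) +
          Module.finrank k ↥(Submodule.span k {f₂}) :=
          Submodule.finrank_add_le_finrank_add_finrank _ _
      _ = Module.finrank k ↥(V ⊓ L (E - Finsupp.single Q 1)) + 1 := by
          rw [finrank_span_singleton hf₂0]

/-- Nonsingularity at `P` in terms of the dimensions of `W ∩ L([φ] - P - Q)`. -/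
theorem isNonsingularAt_iff_finrank (hK : IsFunctionField k K) {n : ℕ}
    (φ : Fin (n + 1) → K) (hφ : LinearIndependent k φ)
    (hbir : IntermediateField.adjoin k (Set.range fun i => φ i / φ 0) = ⊤) (P : Place k K) :
    IsNonsingularAt φ P ↔ ∀ Q : Place k K,
      Module.finrank k ↥(Submodule.span k (Set.range φ) ⊓
          L (mapDiv k φ - Finsupp.single P 1 - Finsupp.single Q 1)) + 2 =
        Module.finrank k ↥(Submodule.span k (Set.range φ)) := by
  classical
  have hφ0 : ∀ i, φ i ≠ 0 := fun i => hφ.ne_zero i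
  obtain ⟨j, hPj⟩ := Finite.exists_max (fun i => P.1 (φ i))
  rw [isNonsingularAt_iff_condA_condB hK hφ0 hPj hbir, ← sep_iff_condA_condB hK hφ0 hPj]
  set V₀ := Submodule.span k (Set.range φ) with hV₀
  set D := mapDiv k φ with hD
  have hfd : FiniteDimensional k V₀ := FiniteDimensional.span_of_finite k (Set.finite_range φ)
  have h01 : Module.finrank k V₀ =
      Module.finrank k ↥(V₀ ⊓ L (D - Finsupp.single P 1)) + 1 := by
    apply le_antisymm (finrank_le_finrank_inf_add_one hK V₀ D (span_le_L_mapDiv hK φ) P)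
    have hlt : V₀ ⊓ L (D - Finsupp.single P 1) < V₀ := by
      refine lt_of_le_of_ne inf_le_left fun heq => ?_
      have hmem : φ j ∈ V₀ ⊓ L (D - Finsupp.single P 1) := by
        rw [heq]; exact Submodule.subset_span ⟨j, rfl⟩
      have := hmem.2 P
      rw [Finsupp.sub_apply, Finsupp.single_eq_same,
        val_eq_exp_mapDiv_of_least hK hφ0 hPj, exp_le_exp, ← hD] at this
      omega
    exact Submodule.finrank_lt_finrank_of_lt hlt
  refine forall_congr' fun Q => ?_
  have hV₂ : V₀ ⊓ L (D - Finsupp.single P 1 - Finsupp.single Q 1) =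
      (V₀ ⊓ L (D - Finsupp.single P 1)) ⊓ L (D - Finsupp.single P 1 - Finsupp.single Q 1) := by
    rw [inf_assoc, inf_eq_right.2 (L_mono (sub_single_le _ Q))]
  have h12 := finrank_le_finrank_inf_add_one hK (V₀ ⊓ L (D - Finsupp.single P 1))
    (D - Finsupp.single P 1) inf_le_right Q
  rw [← hV₂] at h12
  constructor
  · rintro ⟨f, hf, hf'⟩
    have hlt : V₀ ⊓ L (D - Finsupp.single P 1 - Finsupp.single Q 1) <
        V₀ ⊓ L (D - Finsupp.single P 1) := by
      rw [hV₂]
      refine lt_of_le_of_ne inf_le_left fun heq => ?_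
      have : f ∈ (V₀ ⊓ L (D - Finsupp.single P 1)) ⊓
          L (D - Finsupp.single P 1 - Finsupp.single Q 1) := by rw [heq]; exact hf
      exact hf' this.2
    have := Submodule.finrank_lt_finrank_of_lt hlt
    omega
  · intro hdim
    by_contra hcon
    push Not at hcon
    have hle : V₀ ⊓ L (D - Finsupp.single P 1) ≤
        V₀ ⊓ L (D - Finsupp.single P 1 - Finsupp.single Q 1) := by
      intro f hf
      exact ⟨hf.1, hcon f hf⟩
    have := Submodule.finrank_mono hle
    omega

end Dim

end Groth.Agent.H57
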