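import Groth.Agent.H57.Nonsing
import Groth.Agent.FunFld.StrongApprox

set_option autoImplicit false

namespace Groth.Agent.H57

open FunFld Groth.Agent.FF WithZero IntermediateField

universe u v
variable {k : Type u} {K : Type v} [Field k] [Field K] [Algebra k K]

/-- Strong approximation at one place. -/
theorem strong_approx_one (hK : IsFunctionField k K) (Pinf P : Place k K) (hP : P ≠ Pinf)
    (x : K) (m : ℤ) :
    ∃ y : K, P.1 (y - x) = exp (-m) ∧ ∀ R : Place k K, R ≠ Pinf → R ≠ P → R.1 y ≤ 1 := by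
  obtain ⟨y, hy1, hy2⟩ := strong_approx hK Pinf (fun _ : Fin 1 => P)
    (fun a b _ => Subsingleton.elim a b) (by
      rintro ⟨a, ha⟩
      exact hP ha) (fun _ => x) (fun _ => m)
  refine ⟨y, hy1 0, fun R hR hRP => hy2 R hR ?_⟩
  rintro ⟨a, ha⟩
  exact hRP ha.symm

/-- Strong approximation at two places. -/
theorem strong_approx_two (hK : IsFunctionField k K) (Pinf P Q : Place k K) (hPQ : P ≠ Q)
    (hP : P ≠ Pinf) (hQ : Q ≠ Pinf) (x x' : K) (m m' : ℤ) :
    ∃ y : K, P.1 (y - x) = exp (-m) ∧ Q.1 (y - x') = exp (-m') ∧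
      ∀ R : Place k K, R ≠ Pinf → R ≠ P → R ≠ Q → R.1 y ≤ 1 := by
  let Pl : Fin 2 → Place k K := fun a => if a = 0 then P else Q
  have hPl0 : Pl 0 = P := rfl
  have hPl1 : Pl 1 = Q := rfl
  have hinj : Function.Injective Pl := by
    intro a b hab
    rcases Fin.exists_fin_two.1 ⟨a, rfl⟩ with rfl | rfl <;>
      rcases Fin.exists_fin_two.1 ⟨b, rfl⟩ with rfl | rfl
    · rfl
    · rw [hPl0, hPl1] at hab; exact absurd hab hPQ
    · rw [hPl0, hPl1] at hab; exact absurd hab.symm hPQ
    · rfl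
  have hrange : ∀ R : Place k K, R ∈ Set.range Pl → R = P ∨ R = Q := by
    rintro R ⟨a, rfl⟩
    rcases Fin.exists_fin_two.1 ⟨a, rfl⟩ with rfl | rfl
    · exact Or.inl rfl
    · exact Or.inr rfl
  obtain ⟨y, hy1, hy2⟩ := strong_approx hK Pinf Pl hinj (by
      intro h
      rcases hrange _ h with h | h
      · exact hP h.symm
      · exact hQ h.symm) (fun a => if a = 0 then x else x') (fun a => if a = 0 then m else m')
  refine ⟨y, hy1 0, hy1 1, fun R hR hRP hRQ => hy2 R hR ?_⟩
  intro h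
  rcases hrange _ h with h | h
  · exact hRP h
  · exact hRQ h

section
variable [IsAlgClosed k]

/-- A birational projective map is nonsingular at all but finitely many places. -/
theorem finite_not_isNonsingularAt (hK : IsFunctionField k K) {n : ℕ} (hn : 1 ≤ n)
    (φ : Fin (n + 1) → K) (hφ : LinearIndependent k φ)
    (hbir : IntermediateField.adjoin k (Set.range fun i => φ i / φ 0) = ⊤) :
    {P : Place k K | ¬ IsNonsingularAt φ P}.Finite := by
  classical
  have : Infinite k := IsAlgClosed.instInfinite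
  have hφ0 : ∀ i, φ i ≠ 0 := fun i => hφ.ne_zero i
  choose c hcA hc0 hc using fun j => exists_conductor hK hφ0 hbir j
  have hfin : (⋃ j, {P : Place k K | P.1 (c j) < 1}).Finite :=
    Set.finite_iUnion fun j => finite_val_lt_one hK (hc0 j)
  refine hfin.subset ?_
  intro P hP
  by_contra hPc
  rw [Set.mem_iUnion] at hPc
  push Not at hPc
  apply hP
  obtain ⟨j, hPj⟩ := Finite.exists_max (fun i => P.1 (φ i))
  have hj := hφ0 j
  have hcj : P.1 (c j) = 1 := by
    apply le_antisymm (val_le_one_of_mem_ratioAlg hj P hPj (hcA j))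
    have := hPc j
    rw [Set.mem_ofPred_eq, not_lt] at this
    exact this
  -- a place outside the chart
  obtain ⟨i, hij⟩ : ∃ i : Fin (n + 1), i ≠ j := by
    by_cases h : j = 0
    · refine ⟨⟨1, by omega⟩, ?_⟩
      rw [h]
      intro h1
      have := congrArg Fin.val h1
      simp at this
    · exact ⟨0, fun h' => h h'.symm⟩
  have htr : Transcendental k (φ i / φ j) := by
    intro halg
    obtain ⟨a, ha⟩ := hK.2 _ halg
    have h1 : φ i = a • φ j := by
      rw [Algebra.smul_def, ha]; field_simp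
    have hnot : φ i ∉ Submodule.span k (φ '' {j}) := hφ.notMem_span_image (by simpa using hij)
    rw [Set.image_singleton, Submodule.mem_span_singleton] at hnot
    exact hnot ⟨a, h1.symm⟩
  obtain ⟨Pinf, hPinf⟩ := exists_pole_of_transcendental hK htr
  have hPinf' : 1 < Pinf.1 (φ i / φ j) := by
    by_contra hle
    rw [not_lt, val_le_one_iff Pinf (div_ne_zero (hφ0 i) hj)] at hle
    omega
  have hchart : ∀ Q : Place k K, (∀ i, Q.1 (φ i / φ j) ≤ 1) → Q ≠ Pinf := by
    rintro Q hQ rfl
    exact absurd hPinf' (not_lt.2 (hQ i))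
  have hPchart : ∀ i, P.1 (φ i / φ j) ≤ 1 := by
    intro i
    rw [map_div₀, div_le_one₀ (zero_lt_iff.2 ((P.1.ne_zero_iff).2 hj))]
    exact hPj i
  intro z hz
  rw [inLocRing_iff_inLocRingAt hj hPj]
  refine inLocRingAt_of_val_le_one hK hφ0 hbir hPj ?_ ?_ z hz
  · intro Q hQP hQ
    obtain ⟨b, hbP, hbQ, hb2⟩ := strong_approx_two hK Pinf P Q (Ne.symm hQP)
      (hchart P hPchart) (hchart Q hQ) 1 0 1 1
    rw [sub_zero] at hbQ
    have hbP1 : P.1 b = 1 := by
      have h1 : P.1 (b - 1) < 1 := by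
        rw [hbP, ← exp_zero, exp_lt_exp]; omega
      have h2 : b = (b - 1) + 1 := by ring
      rw [h2, Valuation.map_add_eq_of_lt_right]
      · exact map_one _
      · rw [map_one]; exact h1
    have hbQ1 : Q.1 b < 1 := by
      rw [hbQ, ← exp_zero, exp_lt_exp]; omega
    have hbB : ∀ R : Place k K, (∀ i, R.1 (φ i / φ j) ≤ 1) → R.1 b ≤ 1 := by
      intro R hR
      by_cases hRP : R = P
      · rw [hRP]; exact hbP1.le
      by_cases hRQ : R = Q
      · rw [hRQ]; exact hbQ1.le
      exact hb2 R (hchart R hR) hRP hRQ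
    refine ⟨c j * b, hc j b hbB, ?_, ?_⟩
    · rw [map_mul, hcj, hbP1, one_mul]
    · rw [map_mul]
      have hQj : ∀ i, Q.1 (φ i) ≤ Q.1 (φ j) := by
        intro i
        have := hQ i
        rw [map_div₀, div_le_one₀ (zero_lt_iff.2 ((Q.1.ne_zero_iff).2 hj))] at this
        exact this
      have := val_le_one_of_mem_ratioAlg hj Q hQj (hcA j)
      calc Q.1 (c j) * Q.1 b ≤ 1 * Q.1 b := mul_le_mul_left this _
        _ = Q.1 b := one_mul _
        _ < 1 := hbQ1
  · obtain ⟨b, hbP, hb2⟩ := strong_approx_one hK Pinf P (hchart P hPchart) 0 1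
    rw [sub_zero] at hbP
    have hbB : ∀ R : Place k K, (∀ i, R.1 (φ i / φ j) ≤ 1) → R.1 b ≤ 1 := by
      intro R hR
      by_cases hRP : R = P
      · rw [hRP, hbP, ← exp_zero, exp_le_exp]; omega
      exact hb2 R (hchart R hR) hRP
    refine ⟨c j * b, inLocRingAt_of_mem (hc j b hbB), ?_⟩
    rw [map_mul, hcj, one_mul, hbP]

end

end Groth.Agent.H57
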