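import Groth.Agent.H57.Jumps
import Mathlib

set_option autoImplicit false

namespace Groth.Agent.H57

open FunFld

/-- A sequence spanning an `(n+1)`-dimensional space with nonzero leading term has an order
sequence of length `n`. -/
theorem exists_isOrders_of_span_eq_top {K V : Type*} [Field K] [AddCommGroup V] [Module K V]
    [FiniteDimensional K V] (c : ℕ → V) (hspan : Submodule.span K (Set.range c) = ⊤)
    (hc0 : c 0 ≠ 0) {n : ℕ} (hn : Module.finrank K V = n + 1) :
    ∃ J : Fin n → ℕ, IsOrders K c J := by
  classical
  set T : Set ℕ := {j | IsJump K c j} with hT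
  -- finite subsets of jumps have bounded cardinality
  have hbound : ∀ F : Finset ℕ, (F : Set ℕ) ⊆ T → F.card ≤ n + 1 := by
    intro F hF
    have hli := linearIndependent_of_isJump c (F.orderEmbOfFin rfl)
      (F.orderEmbOfFin rfl).strictMono (fun i => hF (F.orderEmbOfFin_mem rfl i))
    have := hli.fintype_card_le_finrank
    rwa [Fintype.card_fin, hn] at this
  have hTfin : T.Finite := by
    by_contra hinf
    obtain ⟨F, hF, hFcard⟩ := (Set.not_finite.mp hinf).exists_subset_card_eq (n + 2)
    have := hbound F hF
    omega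
  set Tf := hTfin.toFinset with hTf
  have hmemTf : ∀ j, j ∈ Tf ↔ IsJump K c j := by
    intro j
    rw [hTf, Set.Finite.mem_toFinset]
    rfl
  have hle : Tf.card ≤ n + 1 := hbound Tf (by
    intro j hj
    exact (hmemTf j).1 hj)
  -- the jump vectors span everything
  have hspanT : Submodule.span K ((Tf.image c : Finset V) : Set V) = ⊤ := by
    rw [eq_top_iff, ← hspan, Submodule.span_le]
    rintro _ ⟨N, rfl⟩
    have h1 : c N ∈ Submodule.span K (c '' Set.Iio (N + 1)) :=
      Submodule.subset_span ⟨N, by simp, rfl⟩
    rw [span_Iio_eq_span_jumps] at h1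
    refine Submodule.span_mono ?_ h1
    rintro _ ⟨j, ⟨_, hj⟩, rfl⟩
    rw [Finset.coe_image]
    exact ⟨j, (hmemTf j).2 hj, rfl⟩
  have hge : n + 1 ≤ Tf.card := by
    have h1 := finrank_span_finset_le_card (R := K) (Tf.image c)
    rw [Set.finrank, hspanT, finrank_top, hn] at h1
    exact h1.trans Finset.card_image_le
  have hcard : Tf.card = n + 1 := le_antisymm hle hge
  have h0mem : 0 ∈ Tf := by
    rw [hmemTf]
    unfold IsJump
    have hI0 : Set.Iio (0 : ℕ) = ∅ := by
      ext j; simp
    rw [hI0, Set.image_empty, Submodule.span_empty, Submodule.mem_bot]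
    exact hc0
  set Sf : Finset ℕ := (Tf.erase 0).image (fun j => j - 1) with hSf
  have hmemSf : ∀ j, j ∈ Sf ↔ IsJump K c (j + 1) := by
    intro j
    rw [hSf, Finset.mem_image]
    constructor
    · rintro ⟨j', hj', rfl⟩
      rw [Finset.mem_erase] at hj'
      have : j' - 1 + 1 = j' := by omega
      rw [this]
      exact (hmemTf j').1 hj'.2
    · intro hj
      refine ⟨j + 1, ?_, by omega⟩
      rw [Finset.mem_erase]
      exact ⟨by omega, (hmemTf _).2 hj⟩
  have hSfcard : Sf.card = n := by
    rw [hSf, Finset.card_image_of_injOn, Finset.card_erase_of_mem h0mem, hcard]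
    · rfl
    · intro a ha b hb hab
      simp only [Finset.coe_erase, Set.mem_sdiff, Finset.mem_coe, Set.mem_singleton_iff] at ha hb
      simp only at hab
      omega
  refine ⟨Sf.orderEmbOfFin hSfcard, (Sf.orderEmbOfFin hSfcard).strictMono, fun j => ?_⟩
  rw [← hmemSf j]
  have := Finset.range_orderEmbOfFin Sf hSfcard
  rw [Set.ext_iff] at this
  have h2 := this j
  rw [Finset.mem_coe] at h2
  exact h2

/-- The Wronskian at an order sequence is nonzero. -/
theorem det_wrMat_ne_zero_of_isOrders {k K : Type*} [Field k] [Field K] [Algebra k K] {n : ℕ}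
    (τ : K →ₐ[k] K) (H : K →ₐ[k] PowerSeries K) (φ : Fin (n + 1) → K) (J : Fin n → ℕ)
    (hJ : IsOrders K (hcol τ H φ) J) (h0 : hcol τ H φ 0 ≠ 0) :
    (wrMat τ H φ J).det ≠ 0 := by
  classical
  obtain ⟨hJmono, hJrange⟩ := hJ
  set c := hcol τ H φ with hc
  set idx : Fin (n + 1) → ℕ := fun i => Fin.cases (motive := fun _ => ℕ) 0 (fun l => J l + 1) i
    with hidx
  have hidxmono : StrictMono idx := by
    intro a b hab
    induction a using Fin.cases with
    | zero =>
      induction b using Fin.cases with
      | zero => exact absurd hab (lt_irrefl _)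
      | succ b => simp [idx]
    | succ a =>
      induction b using Fin.cases with
      | zero => exact absurd hab (Fin.not_lt_zero _)
      | succ b =>
        simp only [idx, Fin.cases_succ]
        have := hJmono (Fin.succ_lt_succ_iff.1 hab)
        omega
  have hjumps : ∀ i, IsJump K c (idx i) := by
    intro i
    induction i using Fin.cases with
    | zero =>
      simp only [idx, Fin.cases_zero]
      unfold IsJump
      have hI0 : Set.Iio (0 : ℕ) = ∅ := by
        ext j; simp
      rw [hI0, Set.image_empty, Submodule.span_empty, Submodule.mem_bot]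
      exact h0
    | succ l =>
      simp only [idx, Fin.cases_succ]
      exact (hJrange (J l)).1 ⟨l, rfl⟩
  have hli := linearIndependent_of_isJump c idx hidxmono hjumps
  have hcol : (wrMat τ H φ J).col = fun i => c (idx i) := by
    funext i
    rw [wrMat_col]
    induction i using Fin.cases with
    | zero => rfl
    | succ l => rfl
  rw [← hcol] at hli
  have hunit := Matrix.linearIndependent_cols_iff_isUnit.1 hli
  exact ((Matrix.isUnit_iff_isUnit_det _).1 hunit).ne_zero

end Groth.Agent.H57
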