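import Groth.Agent.H57.WronskAt
import Groth.Agent.H57.OrdersExist
import Groth.Agent.FunFld.Residue

set_option autoImplicit false

namespace Groth.Agent.H57

open FunFld Groth.Agent.FF WithZero

universe u v w
variable {k : Type u} {K : Type v} [Field k] [Field K] [Algebra k K]

/-- An element of `ℤᵐ⁰` that is `≤ 1` but not `≤ exp (-1)` equals `1`. -/
theorem eq_one_of_le_one_of_not_le {x : ℤᵐ⁰} (h1 : x ≤ 1) (h2 : ¬ x ≤ exp (-1 : ℤ)) : x = 1 := by
  have hx : x ≠ 0 := by
    rintro rfl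
    exact h2 zero_le
  rw [← exp_log hx] at h1 h2 ⊢
  rw [← exp_zero, exp_le_exp] at h1
  rw [exp_le_exp] at h2
  rw [← exp_zero]
  congr 1
  omega

/-- The differential of a local parameter has order `0`, read through any expansion. -/
theorem ordDiff_one_uniformizer {F : Type w} [Field F] [Algebra k F]
    (v : Valuation K ℤᵐ⁰) (φ : K →ₐ[k] LaurentSeries F) (hφ : LocRes.IsExpansionAt v φ)
    (t : K) (ht : v t = exp (-1 : ℤ)) : LocRes.ordDiff φ 1 t = 0 := by
  have h1 : Valued.v (φ t) = exp (-1 : ℤ) := by rw [hφ.1 t, ht]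
  have ha : ∀ n : ℤ, n < 1 → (φ t).coeff n = 0 :=
    (LaurentSeries.valuation_le_iff_coeff_lt_eq_zero F (D := 1)).1 h1.le
  have hb : (φ t).coeff 1 ≠ 0 := by
    intro h0
    have : Valued.v (φ t) ≤ exp (-(2 : ℤ)) := by
      rw [LaurentSeries.valuation_le_iff_coeff_lt_eq_zero F]
      intro n hn
      rcases lt_or_eq_of_le (show n ≤ 1 by omega) with h | h
      · exact ha n h
      · rw [h]; exact h0
    rw [h1, exp_le_exp] at this
    omega
  have hD1 : Valued.v (LocRes.D F (φ t)) ≤ 1 := by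
    have : (1 : ℤᵐ⁰) = exp (-(0 : ℤ)) := by simp
    rw [this, LaurentSeries.valuation_le_iff_coeff_lt_eq_zero F]
    intro n hn
    rw [LocRes.D_coeff, ha (n + 1) (by omega), smul_zero]
  have hD2 : ¬ Valued.v (LocRes.D F (φ t)) ≤ exp (-(1 : ℤ)) := by
    rw [LaurentSeries.valuation_le_iff_coeff_lt_eq_zero F]
    intro h
    have := h 0 (by norm_num)
    rw [LocRes.D_coeff, zero_add, one_smul] at this
    exact hb this
  unfold LocRes.ordDiff LocRes.vDiff
  rw [map_one, one_mul, eq_one_of_le_one_of_not_le hD1 hD2, log_one, neg_zero]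

theorem divDiff_one_apply_uniformizer (Φ : Place k K → (K →ₐ[k] LaurentSeries k))
    (P : Place k K) (hΦ : LocRes.IsExpansionAt P.1 (Φ P)) (t : K) (ht : P.1 t = exp (-1 : ℤ)) :
    divDiff Φ 1 t P = 0 := by
  unfold divDiff
  split_ifs with h
  · rw [Finsupp.ofSupportFinite_coe]
    exact ordDiff_one_uniformizer P.1 (Φ P) hΦ t ht
  · rfl

/-- The divisor of a tuple has coefficient `0` at a place where all entries are integral and one
is a unit. -/
theorem mapDiv_apply_eq_zero {ι : Type*} [Fintype ι] [Nonempty ι] (φ : ι → K) (P : Place k K)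
    (hnorm : ∀ i, P.1 (φ i) ≤ 1) (hunit : ∃ i, P.1 (φ i) = 1) : mapDiv k φ P = 0 := by
  classical
  unfold mapDiv
  split_ifs with h
  · rw [Finsupp.ofSupportFinite_coe, neg_eq_zero]
    apply le_antisymm
    · obtain ⟨i, hi⟩ := hunit
      have hi0 : φ i ≠ 0 := by
        rw [← P.1.ne_zero_iff, hi]; exact one_ne_zero
      have : P.ord (φ i) = 0 := (val_eq_one_iff P hi0).1 hi
      rw [← this]
      exact Finset.inf'_le _ (Finset.mem_univ i)
    · rw [Finset.le_inf'_iff]
      intro i _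
      by_cases hi0 : φ i = 0
      · rw [hi0, ord_zero]
      · exact (val_le_one_iff P hi0).1 (hnorm i)
  · rfl

/-- For an effective tuple normalized at `P`, some entry is a unit at `P`. -/
theorem exists_unit_of_effective {ι : Type*} (φ : ι → K) (P : Place k K)
    (heff : (1 : K) ∈ Submodule.span k (Set.range φ)) (hnorm : ∀ i, P.1 (φ i) ≤ 1) :
    ∃ i, P.1 (φ i) = 1 := by
  by_contra hcon
  push Not at hcon
  have := val_lt_one_of_mem_span φ P (fun i => lt_of_le_of_ne (hnorm i) (hcon i)) heff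
  rw [map_one] at this
  exact lt_irrefl _ this

theorem wDiv_apply {n : ℕ} (τ : K →ₐ[k] K) (H : K →ₐ[k] PowerSeries K)
    (Φ : Place k K → (K →ₐ[k] LaurentSeries k)) (s : K) (φ : Fin (n + 1) → K)
    (J : Fin n → ℕ) (P : Place k K) :
    wDiv τ H Φ s φ J P = FunFld.div k (wrMat τ H φ J).det P + mapDiv k (τ ∘ φ) P +
      (n : ℤ) * mapDiv k φ P + (∑ l, (J l : ℤ)) * divDiff Φ 1 s P := by
  unfold wDiv
  simp only [Finsupp.add_apply, Finsupp.smul_apply, smul_eq_mul]

section
variable [IsAlgClosed k] (hK : IsFunctionField k K) (P : Place k K)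
include hK

/-- The coefficient at a fixed point `P` of the Weierstrass divisor computed with a local
parameter at `P`, for an effective map normalized at `P`: the order of the Wronskian. -/
theorem wDiv_apply_of_fixedPt {n : ℕ} (τ : K →ₐ[k] K) (hP : IsFixedPt τ P)
    (φ : Fin (n + 1) → K) (heff : (1 : K) ∈ Submodule.span k (Set.range φ))
    (hnorm : ∀ i, P.1 (φ i) ≤ 1) (t : K) (ht : P.1 t = exp (-1 : ℤ))
    (Ht : K →ₐ[k] PowerSeries K) (J : Fin n → ℕ)
    (Φ : Place k K → (K →ₐ[k] LaurentSeries k)) (hΦ : LocRes.IsExpansionAt P.1 (Φ P)) :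
    wDiv τ Ht Φ t φ J P = P.ord (wrMat τ Ht φ J).det := by
  obtain ⟨i, hi⟩ := exists_unit_of_effective φ P heff hnorm
  rw [wDiv_apply, div_apply hK, divDiff_one_apply_uniformizer Φ P hΦ t ht,
    mapDiv_apply_eq_zero φ P hnorm ⟨i, hi⟩, mapDiv_apply_eq_zero (τ ∘ φ) P
      (fun i => (val_tau_le_one hK P τ hP _ (hnorm i)).1) ⟨i, ?_⟩]
  · ring
  · have h1 := val_tau_le_one hK P τ hP _ (hnorm i)
    have h2 : rhoK hK P (φ i) ≠ 0 := by
      rw [rhoK_eq hK P _ (hnorm i), Ne, rho_eq_zero_iff]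
      exact not_lt.2 hi.ge
    rw [← h1.2, rhoK_eq hK P _ h1.1, Ne, rho_eq_zero_iff, not_lt] at h2
    exact le_antisymm h1.1 h2

end

end Groth.Agent.H57
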