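import Groth.Agent.H57.ChainRule
import Groth.Agent.H57.NonsingCrit
import Groth.Agent.H57.NonsingFinite
import Groth.Agent.H57.WDivAt

set_option autoImplicit false

namespace Groth.Agent.H57

open FunFld Groth.Agent.FF WithZero IntermediateField

universe u v w
variable {k : Type u} {K : Type v} [Field k] [Field K] [Algebra k K]

/-- A function field has a birational projective map given by a linearly independent tuple. -/
theorem exists_birational_tuple (hK : IsFunctionField k K) :
    ∃ (n : ℕ) (φ : Fin (n + 1) → K), 1 ≤ n ∧ LinearIndependent k φ ∧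
      IntermediateField.adjoin k (Set.range fun i => φ i / φ 0) = ⊤ := by
  classical
  obtain ⟨s₀, hs₀, hfin⟩ := hK.1
  set F₀ := IntermediateField.adjoin k ({s₀} : Set K) with hF₀
  let b := Module.finBasis F₀ K
  set W : Submodule k K := Submodule.span k ({1, s₀} ∪ Set.range b) with hW
  have hWfin : FiniteDimensional k W :=
    FiniteDimensional.span_of_finite k ((Set.toFinite {1, s₀}).union (Set.finite_range b))
  have h1W : (1 : K) ∈ W := Submodule.subset_span (Or.inl (by simp))
  have hsW : s₀ ∈ W := Submodule.subset_span (Or.inl (by simp))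
  have hbW : ∀ i, b i ∈ W := fun i => Submodule.subset_span (Or.inr ⟨i, rfl⟩)
  -- dimension at least two
  have hli : LinearIndependent k ![(⟨1, h1W⟩ : W), ⟨s₀, hsW⟩] := by
    rw [LinearIndependent.pair_iff]
    intro a c hac
    have h := congrArg Subtype.val hac
    simp only [Submodule.coe_add, Submodule.coe_smul, Submodule.coe_zero] at h
    by_contra hne
    apply hs₀
    by_cases hc : c = 0
    · exfalso
      rw [hc, zero_smul, add_zero, Algebra.smul_def, mul_one] at h
      have ha : a = 0 := by
        apply (algebraMap k K).injective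
        rw [h, map_zero]
      exact hne ⟨ha, hc⟩
    · have hs : s₀ = algebraMap k K (-(a / c)) := by
        rw [Algebra.smul_def, Algebra.smul_def, mul_one] at h
        have hc' : algebraMap k K c ≠ 0 := by rwa [Ne, map_eq_zero]
        rw [map_neg, map_div₀]
        field_simp
        linear_combination h
      rw [hs]
      exact isAlgebraic_algebraMap _
  have hdim : 2 ≤ Module.finrank k W := by
    have := hli.fintype_card_le_finrank
    simpa using this
  obtain ⟨n, hn⟩ : ∃ n, Module.finrank k W = n + 1 := ⟨Module.finrank k W - 1, by omega⟩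
  let e := (Module.finBasis k W).reindex (finCongr hn)
  refine ⟨n, fun i => (e i : K), by omega, ?_, ?_⟩
  · have := e.linearIndependent
    exact this.map' W.subtype (Submodule.ker_subtype W)
  · set F' := IntermediateField.adjoin k (Set.range fun i => (e i : K) / (e 0 : K)) with hF'
    have he0 : (e 0 : K) ≠ 0 := by
      intro h
      exact e.ne_zero 0 (Subtype.ext h)
    have hratio : ∀ w : W, (w : K) / (e 0 : K) ∈ F' := by
      intro w
      have hw := e.sum_repr w
      have : (w : K) / (e 0 : K) = ∑ i, e.repr w i • ((e i : K) / (e 0 : K)) := by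
        conv_lhs => rw [← hw]
        rw [Submodule.coe_sum, Finset.sum_div]
        refine Finset.sum_congr rfl fun i _ => ?_
        rw [Submodule.coe_smul, smul_div_assoc]
      rw [this]
      refine sum_mem fun i _ => ?_
      rw [Algebra.smul_def]
      exact mul_mem (F'.algebraMap_mem _) (IntermediateField.subset_adjoin k _ ⟨i, rfl⟩)
    have he0F : (e 0 : K) ∈ F' := by
      have := hratio ⟨1, h1W⟩
      change (1 : K) / (e 0 : K) ∈ F' at this
      rw [one_div] at this
      have := inv_mem this
      rwa [inv_inv] at this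
    have hWF : ∀ w ∈ W, w ∈ F' := by
      intro w hw
      have := mul_mem (hratio ⟨w, hw⟩) he0F
      rwa [div_mul_cancel₀ _ he0] at this
    have hF₀F : F₀ ≤ F' := by
      rw [hF₀, IntermediateField.adjoin_le_iff]
      intro x hx
      rw [Set.mem_singleton_iff] at hx
      rw [hx]
      exact hWF s₀ hsW
    rw [eq_top_iff]
    intro z _
    have hz : z ∈ Submodule.span F₀ (Set.range b) := by
      rw [b.span_eq]; trivial
    induction hz using Submodule.span_induction with
    | mem x hx =>
      obtain ⟨i, rfl⟩ := hx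
      exact hWF _ (hbW i)
    | zero => exact zero_mem _
    | add x y _ _ hx hy => exact add_mem (hx trivial) (hy trivial)
    | smul c x _ hx =>
      rw [Algebra.smul_def]
      exact mul_mem (hF₀F c.2) (hx trivial)

/-- The differential of a local parameter has value `1`, read through any expansion. -/
theorem vDiff_one_uniformizer {F : Type w} [Field F] [Algebra k F]
    (v : Valuation K ℤᵐ⁰) (φ : K →ₐ[k] LaurentSeries F) (hφ : LocRes.IsExpansionAt v φ)
    (t : K) (ht : v t = exp (-1 : ℤ)) : Valued.v (LocRes.D F (φ t)) = 1 := by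
  have h1 : Valued.v (φ t) = exp (-1 : ℤ) := by rw [hφ.1 t, ht]
  have ha : ∀ n : ℤ, n < 1 → (φ t).coeff n = 0 :=
    (LaurentSeries.valuation_le_iff_coeff_lt_eq_zero F (D := 1)).1 h1.le
  have hb : (φ t).coeff 1 ≠ 0 := by
    intro h0
    have : Valued.v (φ t) ≤ exp (-(2 : ℤ)) := by
      rw [LaurentSeries.valuation_le_iff_coeff_lt_eq_zero F]
      intro n hn
      rcases lt_or_eq_of_le (show n ≤ 1 by omega) with h | h
      · exact ha n h
      · rw [h]; exact h0
    rw [h1, exp_le_exp] at this
    omega
  have hD1 : Valued.v (LocRes.D F (φ t)) ≤ 1 := by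
    have : (1 : ℤᵐ⁰) = exp (-(0 : ℤ)) := by simp
    rw [this, LaurentSeries.valuation_le_iff_coeff_lt_eq_zero F]
    intro n hn
    rw [LocRes.D_coeff, ha (n + 1) (by omega), smul_zero]
  have hD2 : ¬ Valued.v (LocRes.D F (φ t)) ≤ exp (-(1 : ℤ)) := by
    rw [LaurentSeries.valuation_le_iff_coeff_lt_eq_zero F]
    intro h
    have := h 0 (by norm_num)
    rw [LocRes.D_coeff, zero_add, one_smul] at this
    exact hb this
  exact eq_one_of_le_one_of_not_le hD1 hD2


section
variable [IsAlgClosed k]

/-- The value of `ds` at a place where some function `z`, regular there, is such that `z - z(P)`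
is a local parameter. -/
theorem vDiff_eq_of_uniformizer (hK : IsFunctionField k K) (s : K) (Hs : K →ₐ[k] PowerSeries K)
    (hHs : LocRes.IsHasseFamily s Hs) (P : Place k K) (φ : K →ₐ[k] LaurentSeries k)
    (hφ : LocRes.IsExpansionAt P.1 φ) (hs : P.1 s ≤ 1) (z : K) (hz : P.1 z ≤ 1) (α : k)
    (hzα : P.1 (z - algebraMap k K α) = exp (-1 : ℤ)) :
    P.1 (LocRes.hasseD Hs 1 z) * LocRes.vDiff φ 1 s = 1 := by
  have h1 := vDiff_one_uniformizer P.1 φ hφ _ hzα
  rw [map_sub, LocRes.map_algebraMap, map_sub, LocRes.D_apply, LocRes.D_apply,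
    LocRes.derivative_C, sub_zero, ← LocRes.D_apply] at h1
  obtain ⟨g, hg⟩ := (LaurentSeries.val_le_one_iff_eq_coe k (φ z)).1 (by rw [hφ.1]; exact hz)
  obtain ⟨h, hh⟩ := (LaurentSeries.val_le_one_iff_eq_coe k (φ s)).1 (by rw [hφ.1]; exact hs)
  have hchain := D_expansion_eq hK φ s Hs hHs z g h hg.symm hh.symm
  rw [hchain, map_mul, hφ.1] at h1
  unfold LocRes.vDiff
  rw [map_one, one_mul]
  exact h1

/-- The differential `ds` of a separating variable has only finitely many zeros and poles. -/
theorem finite_support_ordDiff (hK : IsFunctionField k K) (s : K) (Hs : K →ₐ[k] PowerSeries K)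
    (hHs : LocRes.IsHasseFamily s Hs) (Φ : Place k K → (K →ₐ[k] LaurentSeries k))
    (hΦ : ∀ P : Place k K, LocRes.IsExpansionAt P.1 (Φ P)) :
    (Function.support fun P : Place k K => LocRes.ordDiff (Φ P) 1 s).Finite := by
  classical
  obtain ⟨n, φ, hn, hφ, hbir⟩ := exists_birational_tuple hK
  have hφ0 : ∀ i, φ i ≠ 0 := fun i => hφ.ne_zero i
  have hs0 : s ≠ 0 := by
    have := transcendental_of_isHasseFamily hK s Hs hHs
    rintro rfl
    exact this isAlgebraic_zero
  set B₁ : Set (Place k K) := {P | 1 < P.1 s} with hB₁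
  set B₂ : Set (Place k K) := {P | ¬ IsNonsingularAt φ P} with hB₂
  set B₃ : Set (Place k K) := ⋃ i, ⋃ j, {P : Place k K |
    LocRes.hasseD Hs 1 (φ i / φ j) ≠ 0 ∧ P.1 (LocRes.hasseD Hs 1 (φ i / φ j)) ≠ 1} with hB₃
  have hB₁fin : B₁.Finite := finite_one_lt_val hK hs0
  have hB₂fin : B₂.Finite := finite_not_isNonsingularAt hK hn φ hφ hbir
  have hB₃fin : B₃.Finite := by
    refine Set.finite_iUnion fun i => Set.finite_iUnion fun j => ?_
    by_cases h0 : LocRes.hasseD Hs 1 (φ i / φ j) = 0
    · convert Set.finite_empty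
      ext P
      rw [Set.mem_ofPred_eq, Set.mem_empty_iff_false, iff_false]
      exact fun h => h.1 h0
    · refine ((finite_val_lt_one hK h0).union (finite_one_lt_val hK h0)).subset ?_
      rintro P ⟨-, hP⟩
      rcases lt_or_gt_of_ne hP with h | h
      · exact Or.inl h
      · exact Or.inr h
  refine ((hB₁fin.union hB₂fin).union hB₃fin).subset ?_
  intro P hP
  by_contra hbad
  rw [Set.mem_union, Set.mem_union, not_or, not_or] at hbad
  obtain ⟨⟨h1, h2⟩, h3⟩ := hbad
  apply hP
  have hs1 : P.1 s ≤ 1 := not_lt.1 h1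
  have hns : IsNonsingularAt φ P := not_not.1 h2
  obtain ⟨j, hPj⟩ := Finite.exists_max (fun i => P.1 (φ i))
  obtain ⟨-, i, hi⟩ := (isNonsingularAt_iff_condA_condB hK hφ0 hPj hbir).1 hns
  have hz1 : P.1 (φ i / φ j) ≤ 1 := val_ratio_le_one hφ0 hPj i
  have hkey := vDiff_eq_of_uniformizer hK s Hs hHs P (Φ P) (hΦ P) hs1 (φ i / φ j) hz1 _ hi
  have hD0 : LocRes.hasseD Hs 1 (φ i / φ j) ≠ 0 := by
    intro h0
    rw [h0, map_zero, zero_mul] at hkey
    exact zero_ne_one hkey
  have hD1 : P.1 (LocRes.hasseD Hs 1 (φ i / φ j)) = 1 := by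
    by_contra hne
    apply h3
    rw [hB₃, Set.mem_iUnion]
    refine ⟨i, ?_⟩
    rw [Set.mem_iUnion]
    exact ⟨j, hD0, hne⟩
  rw [hD1, one_mul] at hkey
  change LocRes.ordDiff (Φ P) 1 s = 0
  unfold LocRes.ordDiff
  rw [hkey, log_one, neg_zero]

end

end Groth.Agent.H57
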