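import Groth.Agent.H57.ResLocal
import Groth.Agent.H57.DiffFinite
import Groth.Agent.FunFld.KerD
import Groth.Agent.FunFld.KaehlerFF
import Groth.Agent.FunFld.CharPFF3
import Groth.Agent.FunFld.SepVar

/-!
# Separating variables and expansions: nonvanishing of the derivative, separable coefficient field
-/

set_option autoImplicit false

namespace Groth.Agent.H57.ResW

open WithZero FunFld Groth.Agent.FF Groth.Agent.H57.Tate KaehlerDifferential

universe u v w
variable {k : Type u} {K : Type v} [Field k] [Field K] [Algebra k K]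
variable {F : Type w} [Field F] [Algebra k F]

/-- In a geometric function field every differential is a multiple of `dx` when `dx ≠ 0`. -/
theorem exists_D_eq_smul (hK : IsFunctionField k K) (hg : IsGeometric k K) {x : K}
    (hx : D k K x ≠ 0) (y : K) : ∃ u : K, D k K y = u • D k K x := by
  have hsep := isSeparable_of_D_ne_zero hK hg hx
  have hxt := transcendental_of_isSeparable hK (x := x)
  have h1 := finrank_kaehler_eq_one_of_separating (k := k) (K := K) hxt
  obtain ⟨u, hu⟩ := (finrank_eq_one_iff_of_nonzero' (D k K x) hx).1 h1 (D k K y)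
  exact ⟨u, hu.symm⟩

/-- The derivative of the expansion of a separating variable does not vanish. -/
theorem D_expansion_ne_zero_of_D_ne_zero (hK : IsFunctionField k K) (hg : IsGeometric k K)
    {x : K} (hx : D k K x ≠ 0) (w : Valuation K ℤᵐ⁰) (φ : K →ₐ[k] LaurentSeries F)
    (hφ : LocRes.IsExpansionAt w φ) : LocRes.D F (φ x) ≠ 0 := by
  intro h0
  obtain ⟨t, ht⟩ := hφ.2.2
  obtain ⟨u, hu⟩ := exists_D_eq_smul hK hg hx t
  have h1 := Groth.Agent.H57.vDiff_one_uniformizer w φ hφ t ht
  rw [D_exp_of_D_eq_smul φ hu, h0, mul_zero, map_zero] at h1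
  exact zero_ne_one h1

/-! ### Coefficientwise derivations of Laurent series -/

/-- A derivation of the coefficient field acting coefficientwise on Laurent series. -/
noncomputable def mapDer (δ : Derivation k F F) (f : LaurentSeries F) : LaurentSeries F :=
  f.map (δ : F →ₗ[k] F)

@[simp] theorem coeff_mapDer (δ : Derivation k F F) (f : LaurentSeries F) (n : ℤ) :
    (mapDer δ f).coeff n = δ (f.coeff n) := rfl

theorem mapDer_add (δ : Derivation k F F) (f g : LaurentSeries F) :
    mapDer δ (f + g) = mapDer δ f + mapDer δ g := by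
  ext n
  simp

theorem mapDer_zero (δ : Derivation k F F) : mapDer δ (0 : LaurentSeries F) = 0 := by
  ext n
  simp

theorem support_mapDer_subset (δ : Derivation k F F) (f : LaurentSeries F) :
    (mapDer δ f).support ⊆ f.support := by
  intro n hn
  rw [HahnSeries.mem_support] at hn ⊢
  intro h0
  apply hn
  rw [coeff_mapDer, h0, map_zero]

theorem mapDer_mul (δ : Derivation k F F) (f g : LaurentSeries F) :
    mapDer δ (f * g) = f * mapDer δ g + g * mapDer δ f := by
  ext a
  rw [coeff_mapDer, HahnSeries.coeff_add, HahnSeries.coeff_mul,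
    HahnSeries.coeff_mul_right' g.isPWO_support (support_mapDer_subset δ g),
    mul_comm g (mapDer δ f),
    HahnSeries.coeff_mul_left' f.isPWO_support (support_mapDer_subset δ f), map_sum,
    ← Finset.sum_add_distrib]
  refine Finset.sum_congr rfl fun ij _ => ?_
  rw [Derivation.leibniz, coeff_mapDer, coeff_mapDer, smul_eq_mul, smul_eq_mul, mul_comm (g.coeff ij.2)]

theorem mapDer_C_algebraMap (δ : Derivation k F F) (c : k) :
    mapDer δ (HahnSeries.C (algebraMap k F c) : LaurentSeries F) = 0 := by
  ext n
  rw [coeff_mapDer, HahnSeries.C_apply, HahnSeries.coeff_single, HahnSeries.coeff_zero]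
  split_ifs
  · exact δ.map_algebraMap c
  · exact map_zero _

/-- The `k`-derivation `a ↦ δ(φ a)` (coefficientwise) of `K` into Laurent series, where `K` acts
through `φ`. -/
noncomputable def dMap (φ : K →ₐ[k] LaurentSeries F) (δ : Derivation k F F) :
    letI := φ.toRingHom.toAlgebra
    Derivation k K (LaurentSeries F) :=
  letI := φ.toRingHom.toAlgebra
  { toFun := fun a => mapDer δ (φ a)
    map_add' := fun a b => show mapDer δ (φ (a + b)) = mapDer δ (φ a) + mapDer δ (φ b) by
      rw [map_add, mapDer_add]
    map_smul' := fun c a => show mapDer δ (φ (c • a)) = c • mapDer δ (φ a) by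
      rw [Algebra.smul_def, map_mul, mapDer_mul, LocRes.map_algebraMap, mapDer_C_algebraMap,
        mul_zero, add_zero, HahnSeries.C_mul_eq_smul, algebraMap_smul]
    map_one_eq_zero' := show mapDer δ (φ 1) = 0 by
      have h := mapDer_C_algebraMap (F := F) δ (1 : k)
      rw [map_one, HahnSeries.C_one] at h
      rw [map_one, h]
    leibniz' := fun a b => show mapDer δ (φ (a * b)) = φ a * mapDer δ (φ b) + φ b * mapDer δ (φ a) by
      rw [map_mul, mapDer_mul] }

theorem dMap_apply (φ : K →ₐ[k] LaurentSeries F) (δ : Derivation k F F) (a : K) :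
    (letI := φ.toRingHom.toAlgebra; dMap φ δ a) = mapDer δ (φ a) := rfl

/-- The coefficientwise derivation of the expansion is `K`-linear in the differential. -/
theorem mapDer_of_D_eq_smul (φ : K →ₐ[k] LaurentSeries F) (δ : Derivation k F F)
    {x x' u : K} (h : D k K x' = u • D k K x) :
    mapDer δ (φ x') = φ u * mapDer δ (φ x) := by
  let _i := φ.toRingHom.toAlgebra
  have _t : IsScalarTower k K (LaurentSeries F) := LocRes.isScalarTower_exp φ
  have h1 : (dMap φ δ).liftKaehlerDifferential (D k K x') = dMap φ δ x' :=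
    Derivation.liftKaehlerDifferential_comp_D _ _
  have h2 : (dMap φ δ).liftKaehlerDifferential (D k K x) = dMap φ δ x :=
    Derivation.liftKaehlerDifferential_comp_D _ _
  rw [h, map_smul, h2] at h1
  exact h1.symm

/-- **Derivations of the coefficient field vanish.** -/
theorem derivation_coeffField_eq_zero (hK : IsFunctionField k K) (hg : IsGeometric k K)
    (w : Valuation K ℤᵐ⁰) (φ : K →ₐ[k] LaurentSeries F) (hφ : LocRes.IsExpansionAt w φ)
    (δ : Derivation k F F) : δ = 0 := by
  obtain ⟨x, hxt, hsep⟩ := exists_separating hK hg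
  have hx : D k K x ≠ 0 := D_ne_zero_of_separating hxt
  have hDx : LocRes.D F (φ x) ≠ 0 := D_expansion_ne_zero_of_D_ne_zero hK hg hx w φ hφ
  set h : LaurentSeries F := mapDer δ (φ x) * (LocRes.D F (φ x))⁻¹ with hh
  have hkey : ∀ y : K, mapDer δ (φ y) = h * LocRes.D F (φ y) := by
    intro y
    obtain ⟨u, hu⟩ := exists_D_eq_smul hK hg hx y
    rw [mapDer_of_D_eq_smul φ δ hu, D_exp_of_D_eq_smul φ hu, hh]
    field_simp
  -- `h` has arbitrarily small valuation
  have hsmall : ∀ N : ℕ, Valued.v h ≤ (exp (-((N : ℤ) + 2)) : ℤᵐ⁰) := by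
    intro N
    obtain ⟨y, hy⟩ := exists_val_sub_le w φ hφ (HahnSeries.single (1 : ℤ) (1 : F)) ((N : ℤ) + 2)
    set r : LaurentSeries F := HahnSeries.single (1 : ℤ) (1 : F) - φ y with hr
    have hφy : φ y = HahnSeries.single (1 : ℤ) (1 : F) - r := by rw [hr]; abel
    have hrc : ∀ n : ℤ, n < (N : ℤ) + 2 → r.coeff n = 0 := fun n hn =>
      coeff_of_val_le_exp hy n (by omega)
    have hc : ∀ n : ℤ, n < (N : ℤ) + 2 → (φ y).coeff n = if n = 1 then 1 else 0 := by
      intro n hn
      rw [hφy, HahnSeries.coeff_sub, hrc n hn, sub_zero]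
      rcases eq_or_ne n 1 with rfl | hn1
      · rw [HahnSeries.coeff_single_same, if_pos rfl]
      · rw [HahnSeries.coeff_single_of_ne hn1, if_neg hn1]
    -- the coefficientwise derivative is small
    have h1 : Valued.v (mapDer δ (φ y)) ≤ (exp (-((N : ℤ) + 2)) : ℤᵐ⁰) := by
      apply val_le_exp_of_coeff
      intro n hn
      rw [coeff_mapDer, hc n (by omega)]
      split_ifs
      · exact δ.map_one_eq_zero
      · exact map_zero _
    -- the derivative has valuation one
    have h2 : Valued.v (LocRes.D F (φ y)) = (1 : ℤᵐ⁰) := by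
      apply le_antisymm
      · rw [← exp_zero]
        apply val_le_exp_of_coeff
        intro n hn
        rw [LocRes.D_coeff, hc (n + 1) (by omega), if_neg (by omega), smul_zero]
      · by_contra hlt
        rw [not_le] at hlt
        have hle : Valued.v (LocRes.D F (φ y)) ≤ (exp (-1 : ℤ) : ℤᵐ⁰) := by
          have hne : Valued.v (LocRes.D F (φ y)) ≠ 0 ∨ True := Or.inr trivial
          by_cases h0 : Valued.v (LocRes.D F (φ y)) = 0
          · rw [h0]; exact zero_le
          · rw [← exp_log h0] at hlt ⊢
            rw [← exp_zero, exp_lt_exp] at hlt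
            rw [exp_le_exp]
            omega
        have := coeff_of_val_le_exp hle 0 (by norm_num)
        rw [LocRes.D_coeff, hc (0 + 1) (by omega), if_pos (by norm_num)] at this
        simp at this
    have h3 := congrArg Valued.v (hkey y)
    rw [map_mul, h2, mul_one] at h3
    rw [← h3]
    exact h1
  have hh0 : h = 0 := by
    by_contra hne
    have hv0 : Valued.v h ≠ (0 : ℤᵐ⁰) := (Valuation.ne_zero_iff _).2 hne
    obtain ⟨a, ha⟩ : ∃ a : ℤ, Valued.v h = (exp a : ℤᵐ⁰) := ⟨_, (exp_log hv0).symm⟩
    have := hsmall a.natAbs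
    rw [ha, exp_le_exp] at this
    omega
  ext a
  obtain ⟨y, -, hy⟩ := hφ.2.1 a
  have := congrArg (fun f => f.coeff 0) (hkey y)
  simp only [coeff_mapDer, hh0, zero_mul, HahnSeries.coeff_zero, hy] at this
  rw [this]
  rfl

/-- **The coefficient field of an expansion of a geometric function field is separable.** -/
theorem isSeparable_coeffField (hK : IsFunctionField k K) (hg : IsGeometric k K)
    (w : Valuation K ℤᵐ⁰) (φ : K →ₐ[k] LaurentSeries F) (hφ : LocRes.IsExpansionAt w φ)
    [FiniteDimensional k F] : Algebra.IsSeparable k F := by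
  have hD : ∀ a : F, D k F a = 0 := by
    intro a
    rw [← Module.forall_dual_apply_eq_zero_iff F]
    intro ℓ
    have h0 := derivation_coeffField_eq_zero hK hg w φ hφ (ℓ.compDer (D k F))
    have := congrArg (fun d : Derivation k F F => d a) h0
    exact this
  have hsub : Subsingleton Ω[F⁄k] := by
    refine subsingleton_of_forall_eq 0 fun ω => ?_
    have hω : ω ∈ Submodule.span F (Set.range (D k F)) := by
      rw [KaehlerDifferential.span_range_derivation]; trivial
    induction hω using Submodule.span_induction with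
    | mem x hx =>
      obtain ⟨a, rfl⟩ := hx
      exact hD a
    | zero => rfl
    | add x y _ _ hx hy => rw [hx, hy, add_zero]
    | smul c x _ hx => rw [hx, smul_zero]
  have hunr : Algebra.FormallyUnramified k F := ⟨hsub⟩
  exact Algebra.FormallyUnramified.isSeparable k F

end Groth.Agent.H57.ResW
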