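import Groth.Agent.H57.ResWeil
import Groth.Agent.H57.ResSep
import Groth.Agent.S10992

/-!
# The canonical divisor of a differential read through expansions
-/

set_option autoImplicit false

namespace Groth.Agent.H57.ResW

open WithZero FunFld Groth.Agent.FF Groth.Agent.H57.Tate KaehlerDifferential

universe u v w
variable {k : Type u} {K : Type v} [Field k] [Field K] [Algebra k K]
variable (hK : IsFunctionField k K) (hg : IsGeometric k K)
variable (F : Place k K → Type w) [∀ P, Field (F P)] [∀ P, Algebra k (F P)]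
  [∀ P, FiniteDimensional k (F P)]
variable (φ : ∀ P, K →ₐ[k] LaurentSeries (F P)) (hφ : ∀ P, LocRes.IsExpansionAt P.1 (φ P))

include hK hg hφ in
theorem exists_trace_ne_zero (P : Place k K) : ∃ β : F P, Algebra.trace k (F P) β ≠ 0 := by
  have hsep : Algebra.IsSeparable k (F P) := isSeparable_coeffField hK hg P.1 (φ P) (hφ P)
  obtain ⟨β, hβ⟩ := Algebra.trace_surjective k (F P) 1
  exact ⟨β, by rw [hβ]; exact one_ne_zero⟩

include hK hg hφ in
/-- The divisor of `dv`, for a separating `v`: it exists and is canonical. -/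
theorem exists_divisor_dv (v : K) (hv : D k K v ≠ 0) :
    ∃ C : Divisor k K, (∀ P, C P = LocRes.ordDiff (φ P) 1 v) ∧ IsCanonical k K C ∧
      IsDivOf (resW hK F φ hφ 1 v) C ∧ resW hK F φ hφ 1 v ≠ 0 := by
  have hD : ∀ P, LocRes.D (F P) (φ P v) ≠ 0 := fun P =>
    D_expansion_ne_zero_of_D_ne_zero hK hg hv P.1 (φ P) (hφ P)
  have hT := exists_trace_ne_zero hK hg F φ hφ
  have hdiv := resW_divisor hK F φ hφ 1 v one_ne_zero hD hT
  have hne := resW_ne_zero hK F φ hφ 1 v one_ne_zero hD hT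
  refine ⟨Finsupp.ofSupportFinite _ hdiv.1, fun P => rfl, ⟨_, hne, hdiv.2 _ fun P => rfl⟩,
    hdiv.2 _ fun P => rfl, hne⟩

include hK hg hφ in
/-- The order of `y dv` in terms of the valuation of `y` and the order of `dv`. -/
theorem vDiff_eq (v : K) (hv : D k K v ≠ 0) (y : K) (P : Place k K) :
    LocRes.vDiff (φ P) y v = P.1 y * exp (-(LocRes.ordDiff (φ P) 1 v)) := by
  have hD : LocRes.D (F P) (φ P v) ≠ 0 :=
    D_expansion_ne_zero_of_D_ne_zero hK hg hv P.1 (φ P) (hφ P)
  unfold LocRes.ordDiff LocRes.vDiff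
  rw [map_one, one_mul, neg_neg, exp_log ((Valuation.ne_zero_iff _).2 hD), map_mul, (hφ P).1 y]

include hK hg hφ in
/-- `y dv` has order at least `m` at `P` iff `y ∈ L(C - m)` locally at `P`. -/
theorem vDiff_le_iff (v : K) (hv : D k K v ≠ 0) (y : K) (P : Place k K) (m : ℤ) :
    LocRes.vDiff (φ P) y v ≤ exp (-m) ↔ P.1 y ≤ exp (LocRes.ordDiff (φ P) 1 v - m) := by
  rw [vDiff_eq hK hg F φ hφ v hv y P, sub_eq_add_neg, add_comm, exp_add,
    exp_neg (LocRes.ordDiff (φ P) 1 v)]
  rw [← le_div_iff₀ (zero_lt_iff.2 (inv_ne_zero exp_ne_zero)), div_eq_mul_inv, inv_inv]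

end Groth.Agent.H57.ResW
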