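import Mathlib.FieldTheory.RatFunc.AsPolynomial
import Mathlib.RingTheory.Polynomial.GaussLemma
import Mathlib.RingTheory.Polynomial.UniqueFactorization
import Mathlib.FieldTheory.Minpoly.Field
import Mathlib.FieldTheory.IntermediateField.Adjoin.Basic
import Mathlib.Algebra.MvPolynomial.CommRing

/-!
# Gauss's lemma for bivariate polynomials over a field
-/

set_option autoImplicit false

namespace Groth.Agent.H57.Plane

open Polynomial IntermediateField

variable {k : Type*} [Field k]

section Iso

/-- `k[X₀, X₁] → k[X][Y]`, `X₀ ↦ X + cY`, `X₁ ↦ Y`. -/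
noncomputable def toPP (c : k) : MvPolynomial (Fin 2) k →ₐ[k] Polynomial (Polynomial k) :=
  MvPolynomial.aeval ![(C (X : Polynomial k)) + C (C c) * X, X]

/-- `k[X][Y] → k[X₀, X₁]`, `X ↦ X₀ - cX₁`, `Y ↦ X₁`. -/
noncomputable def ofPP (c : k) : Polynomial (Polynomial k) →ₐ[k] MvPolynomial (Fin 2) k :=
  Polynomial.aevalTower
    (Polynomial.aeval (MvPolynomial.X 0 - MvPolynomial.C c * MvPolynomial.X 1) :
      Polynomial k →ₐ[k] MvPolynomial (Fin 2) k) (MvPolynomial.X 1)

theorem ofPP_comp_toPP (c : k) : (ofPP c).comp (toPP c) = AlgHom.id k _ := by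
  apply MvPolynomial.algHom_ext
  intro i
  fin_cases i
  · simp [toPP, ofPP, MvPolynomial.algebraMap_eq]
  · simp [toPP, ofPP]

theorem toPP_comp_ofPP (c : k) : (toPP c).comp (ofPP c) = AlgHom.id k _ := by
  apply Polynomial.algHom_ext'
  · apply Polynomial.algHom_ext
    simp [toPP, ofPP, MvPolynomial.algebraMap_eq]
  · simp [toPP, ofPP]

/-- The isomorphism `k[X₀, X₁] ≃ k[X][Y]`. -/
noncomputable def equivPP (c : k) : MvPolynomial (Fin 2) k ≃ₐ[k] Polynomial (Polynomial k) :=
  AlgEquiv.ofAlgHom (toPP c) (ofPP c) (toPP_comp_ofPP c) (ofPP_comp_toPP c)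

theorem irreducible_toPP (c : k) {f : MvPolynomial (Fin 2) k} (hf : Irreducible f) :
    Irreducible (toPP c f) :=
  (MulEquiv.irreducible_iff (equivPP c).toMulEquiv).2 hf

end Iso

section Gauss
variable {K : Type*} [Field K] [Algebra k K]

/-- The evaluation `k[X] → k(x)`. -/
noncomputable def evalGen (x : K) : Polynomial k →+* k⟮x⟯ :=
  (Polynomial.aeval (AdjoinSimple.gen k x) : Polynomial k →ₐ[k] k⟮x⟯).toRingHom

theorem evalGen_apply (x : K) (p : Polynomial k) :
    evalGen x p = Polynomial.aeval (AdjoinSimple.gen k x) p := rfl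

/-- **Gauss's lemma**: an irreducible bivariate polynomial of positive degree in `Y` stays
irreducible over `k(x)`. -/
theorem irreducible_map_evalGen {x : K} (hx : Transcendental k x)
    {g : Polynomial (Polynomial k)} (hg : Irreducible g) (hdeg : g.natDegree ≠ 0) :
    Irreducible (g.map (evalGen x)) := by
  have hprim := hg.isPrimitive hdeg
  have h1 : Irreducible (g.map (algebraMap (Polynomial k) (RatFunc k))) :=
    (hprim.irreducible_iff_irreducible_map_fraction_map (K := RatFunc k)).1 hg
  set e := RatFunc.algEquivOfTranscendental x hx with he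
  have h2 : Irreducible (Polynomial.mapEquiv e.toRingEquiv
      (g.map (algebraMap (Polynomial k) (RatFunc k)))) :=
    (MulEquiv.irreducible_iff (Polynomial.mapEquiv e.toRingEquiv).toMulEquiv).2 h1
  have h3 : Polynomial.mapEquiv e.toRingEquiv (g.map (algebraMap (Polynomial k) (RatFunc k))) =
      g.map (evalGen x) := by
    rw [Polynomial.mapEquiv_apply, Polynomial.map_map]
    congr 1
    apply RingHom.ext
    intro p
    change e (algebraMap (Polynomial k) (RatFunc k) p) = _
    rw [he, RatFunc.algEquivOfTranscendental_algebraMap]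
    rfl
  rwa [h3] at h2

end Gauss

end Groth.Agent.H57.Plane
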