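import Groth.Agent.H57.MvChain
import Mathlib.RingTheory.MvPolynomial.Homogeneous
import Mathlib.Algebra.MvPolynomial.Rename

/-!
# Homogenization of a bivariate polynomial
-/

set_option autoImplicit false

namespace Groth.Agent.H57.Plane

open MvPolynomial

variable {k : Type*} [Field k]

/-- The homogenization `F(X₀, X₁, X₂) = X₀ⁿ f(X₁/X₀, X₂/X₀)`, `n = deg f`. -/
noncomputable def homog (f : MvPolynomial (Fin 2) k) : MvPolynomial (Fin 3) k :=
  ∑ j ∈ Finset.range (f.totalDegree + 1),
    X 0 ^ (f.totalDegree - j) * rename Fin.succ (homogeneousComponent j f)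

variable (f : MvPolynomial (Fin 2) k)

theorem homog_isHomogeneous : (homog f).IsHomogeneous f.totalDegree := by
  unfold homog
  apply IsHomogeneous.sum
  intro j hj
  rw [Finset.mem_range] at hj
  have h1 : (X 0 ^ (f.totalDegree - j) : MvPolynomial (Fin 3) k).IsHomogeneous
      (f.totalDegree - j) := isHomogeneous_X_pow _ _
  have h2 : (rename Fin.succ (homogeneousComponent j f) : MvPolynomial (Fin 3) k).IsHomogeneous j :=
    (homogeneousComponent_isHomogeneous j f).rename_isHomogeneous
  have := h1.mul h2
  rwa [Nat.sub_add_cancel (by omega)] at this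

theorem succ_comp_eq {R : Type*} (a b c : R) : (![a, b, c] ∘ Fin.succ : Fin 2 → R) = ![b, c] := by
  funext i
  fin_cases i <;> rfl

theorem aeval_homog {B : Type*} [CommRing B] [Algebra k B] (a b c : B) :
    aeval ![a, b, c] (homog f) =
      ∑ j ∈ Finset.range (f.totalDegree + 1),
        a ^ (f.totalDegree - j) * aeval ![b, c] (homogeneousComponent j f) := by
  unfold homog
  rw [map_sum]
  refine Finset.sum_congr rfl fun j _ => ?_
  rw [map_mul, map_pow, aeval_X, aeval_rename, succ_comp_eq]
  rfl

theorem aeval_homog_one {B : Type*} [CommRing B] [Algebra k B] (b c : B) :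
    aeval ![1, b, c] (homog f) = aeval ![b, c] f := by
  rw [aeval_homog]
  simp only [one_pow, one_mul]
  rw [← map_sum, sum_homogeneousComponent]

theorem dehom_homog : aeval ![(1 : MvPolynomial (Fin 2) k), X 0, X 1] (homog f) = f := by
  rw [aeval_homog_one]
  have : (![X 0, X 1] : Fin 2 → MvPolynomial (Fin 2) k) = X := by
    funext i; fin_cases i <;> rfl
  rw [this, aeval_X_left, AlgHom.id_apply]

theorem aeval_homog_zero {B : Type*} [CommRing B] [Algebra k B] (b c : B) :
    aeval ![0, b, c] (homog f) = aeval ![b, c] (homogeneousComponent f.totalDegree f) := by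
  rw [aeval_homog, Finset.sum_eq_single f.totalDegree]
  · rw [Nat.sub_self, pow_zero, one_mul]
  · intro j hj hne
    rw [Finset.mem_range] at hj
    rw [zero_pow (by omega), zero_mul]
  · intro h
    exact absurd (Finset.mem_range.2 (Nat.lt_succ_self _)) h

theorem top_component_ne_zero (hf : f ≠ 0) : homogeneousComponent f.totalDegree f ≠ 0 := by
  classical
  have hne : f.support.Nonempty := by
    rw [Finset.nonempty_iff_ne_empty, Ne, support_eq_empty]
    exact hf
  obtain ⟨m, hm, hmax⟩ := Finset.exists_mem_eq_sup f.support hne (fun m => m.degree)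
  have htd : f.totalDegree = m.degree := by
    rw [← hmax, totalDegree_eq]
    congr 1
    funext s
    rw [Finsupp.card_toMultiset, Finsupp.degree]
    rfl
  intro h0
  have := coeff_homogeneousComponent (n := f.totalDegree) (φ := f) m
  rw [h0, coeff_zero, if_pos htd.symm] at this
  exact (mem_support_iff.1 hm) this.symm

/-- The partial derivative in the last variable commutes with homogenization on the affine chart. -/
theorem aeval_pderiv_homog {B : Type*} [CommRing B] [Algebra k B] (b c : B) :
    aeval ![1, b, c] (pderiv 2 (homog f)) = aeval ![b, c] (pderiv 1 f) := by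
  have h := derivation_aeval (pderiv (1 : Fin 2))
    ![(1 : MvPolynomial (Fin 2) k), X 0, X 1] (homog f)
  rw [dehom_homog, Fin.sum_univ_three] at h
  simp only [Matrix.cons_val_zero, Matrix.cons_val_one, Matrix.cons_val_two,
    Matrix.head_cons, Matrix.tail_cons] at h
  rw [Derivation.map_one_eq_zero, smul_zero, zero_add, pderiv_X_of_ne (by decide), smul_zero,
    zero_add, pderiv_X_self, smul_eq_mul, mul_one] at h
  rw [h]
  have h2 := AlgHom.congr_fun (comp_aeval (R := k)
    ![(1 : MvPolynomial (Fin 2) k), X 0, X 1] (aeval ![b, c] : MvPolynomial (Fin 2) k →ₐ[k] B))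
    (pderiv 2 (homog f))
  rw [AlgHom.comp_apply] at h2
  rw [h2]
  congr 2
  funext i
  fin_cases i <;> simp

end Groth.Agent.H57.Plane
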