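import Groth.Agent.H57.Nonsing
import Groth.Agent.H57.MapDiv

/-!
# The local ring and the divisor of a projective map depend only on the span
-/

set_option autoImplicit false

namespace Groth.Agent.H57

open FunFld Groth.Agent.FF WithZero

universe u v
variable {k : Type u} {K : Type v} [Field k] [Field K] [Algebra k K]

section Span
variable {ι κ : Type*}

theorem val_le_of_mem_span (φ : ι → K) (P : Place k K) (γ : ℤᵐ⁰)
    (h : ∀ i, P.1 (φ i) ≤ γ) {x : K} (hx : x ∈ Submodule.span k (Set.range φ)) : P.1 x ≤ γ := by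
  induction hx using Submodule.span_induction with
  | mem x hx => obtain ⟨i, rfl⟩ := hx; exact h i
  | zero => rw [map_zero]; exact zero_le
  | add x y _ _ hx hy => exact (P.1.map_add _ _).trans (max_le hx hy)
  | smul c x _ hx => exact (val_smul_le P c x).trans hx

end Span

section MapDiv
variable {ι : Type*} [Fintype ι] [Nonempty ι]

/-- With an entry `1`, `exp [φ](P)` is the largest valuation of an entry. -/
theorem val_le_exp_mapDiv (hK : IsFunctionField k K) (φ : ι → K) (P : Place k K) (i : ι) :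
    P.1 (φ i) ≤ exp (mapDiv k φ P) := by
  by_cases h0 : φ i = 0
  · rw [h0, map_zero]; exact zero_le
  · rw [val_le_exp_iff P h0]
    exact neg_mapDiv_le_ord hK φ P i

theorem exists_val_eq_exp_mapDiv (hK : IsFunctionField k K) (φ : ι → K) (h1 : ∃ i, φ i = 1)
    (P : Place k K) : ∃ i, P.1 (φ i) = exp (mapDiv k φ P) := by
  obtain ⟨i, hi⟩ := exists_ord_eq_neg_mapDiv hK φ P
  by_cases h0 : φ i = 0
  · obtain ⟨i₀, hi₀⟩ := h1
    refine ⟨i₀, ?_⟩
    rw [h0, ord_zero] at hi
    have : mapDiv k φ P = 0 := by omega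
    rw [hi₀, map_one, this, exp_zero]
  · refine ⟨i, ?_⟩
    rw [val_eq_exp_neg_ord P h0, hi, neg_neg]

/-- Characterisation of `[φ](P)` for a tuple with an entry `1`. -/
theorem mapDiv_eq_of_val (hK : IsFunctionField k K) (φ : ι → K) (h1 : ∃ i, φ i = 1)
    (P : Place k K) (m : ℤ) (hle : ∀ i, P.1 (φ i) ≤ exp m) (hex : ∃ i, P.1 (φ i) = exp m) :
    mapDiv k φ P = m := by
  apply le_antisymm
  · obtain ⟨i, hi⟩ := exists_val_eq_exp_mapDiv hK φ h1 P
    have := hle i
    rwa [hi, exp_le_exp] at this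
  · obtain ⟨i, hi⟩ := hex
    have := val_le_exp_mapDiv hK φ P i
    rwa [hi, exp_le_exp] at this

end MapDiv

section LocRing
variable {n m : ℕ}

theorem div_mem_ratioAlg_of_mem_span (φ : Fin (n + 1) → K) (j : Fin (n + 1)) {x : K}
    (hx : x ∈ Submodule.span k (Set.range φ)) : x / φ j ∈ ratioAlg k φ j := by
  induction hx using Submodule.span_induction with
  | mem x hx => obtain ⟨i, rfl⟩ := hx; exact ratio_mem k φ j i
  | zero => rw [zero_div]; exact zero_mem _
  | add x y _ _ hx hy => rw [add_div]; exact add_mem hx hy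
  | smul c x _ hx => rw [smul_div_assoc]; exact Subalgebra.smul_mem _ hx c

theorem InLocRingAt.div {φ : Fin (n + 1) → K} {P : Place k K} {j : Fin (n + 1)} {u w z : K}
    (hu : InLocRingAt φ P j u) (hw : InLocRingAt φ P j w) (hw1 : P.1 w = 1) (hzw : z * w = u) :
    InLocRingAt φ P j z := by
  obtain ⟨u₁, hu₁, u₂, hu₂, hu21, huu⟩ := hu
  obtain ⟨w₁, hw₁, w₂, hw₂, hw21, hww⟩ := hw
  refine ⟨u₁ * w₂, mul_mem hu₁ hw₂, u₂ * w₁, mul_mem hu₂ hw₁, ?_, ?_⟩
  · rw [map_mul, hu21, one_mul, ← hww, map_mul, hw1, hw21, one_mul]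
  · rw [← huu, ← hww, ← hzw]; ring

/-- The local ring of a projective map depends only on the span of the tuple. -/
theorem inLocRing_of_span_eq (φ : Fin (n + 1) → K) (ψ : Fin (m + 1) → K)
    (hspan : Submodule.span k (Set.range ψ) = Submodule.span k (Set.range φ))
    (P : Place k K) {z : K} (hz : InLocRing ψ P z) : InLocRing φ P z := by
  obtain ⟨j', hj', hPj', u, hu, w, hw, hw1, hzw⟩ := hz
  obtain ⟨j, hPj⟩ := Finite.exists_max (fun i => P.1 (φ i))
  have hψmem : ∀ l, ψ l ∈ Submodule.span k (Set.range φ) := fun l => by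
    rw [← hspan]; exact Submodule.subset_span ⟨l, rfl⟩
  have hφmem : ∀ i, φ i ∈ Submodule.span k (Set.range ψ) := fun i => by
    rw [hspan]; exact Submodule.subset_span ⟨i, rfl⟩
  have hle1 : P.1 (ψ j') ≤ P.1 (φ j) := val_le_of_mem_span φ P _ hPj (hψmem j')
  have hle2 : P.1 (φ j) ≤ P.1 (ψ j') := val_le_of_mem_span ψ P _ hPj' (hφmem j)
  have heq : P.1 (ψ j') = P.1 (φ j) := le_antisymm hle1 hle2
  have hj : φ j ≠ 0 := by
    intro h0
    rw [h0, map_zero] at heq
    exact hj' ((map_eq_zero _).1 heq)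
  have hgen : ∀ l, InLocRingAt φ P j (ψ l / ψ j') := by
    intro l
    refine ⟨ψ l / φ j, div_mem_ratioAlg_of_mem_span φ j (hψmem l), ψ j' / φ j,
      div_mem_ratioAlg_of_mem_span φ j (hψmem j'), ?_, ?_⟩
    · rw [map_div₀, heq]
      exact div_self ((P.1.ne_zero_iff).2 hj)
    · field_simp
  have hsub : ∀ a ∈ ratioAlg k ψ j', InLocRingAt φ P j a := by
    intro a ha
    induction ha using Algebra.adjoin_induction with
    | mem x hx => obtain ⟨l, rfl⟩ := hx; exact hgen l
    | algebraMap c => exact inLocRingAt_of_mem (Subalgebra.algebraMap_mem _ c)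
    | add x y _ _ hx hy => exact hx.add hy
    | mul x y _ _ hx hy => exact hx.mul hy
  exact ⟨j, hj, hPj, (hsub u hu).div (hsub w hw) hw1 hzw⟩

theorem isNonsingularAt_iff_of_span_eq (φ : Fin (n + 1) → K) (ψ : Fin (m + 1) → K)
    (hspan : Submodule.span k (Set.range ψ) = Submodule.span k (Set.range φ))
    (P : Place k K) : IsNonsingularAt ψ P ↔ IsNonsingularAt φ P :=
  ⟨fun h z hz => inLocRing_of_span_eq φ ψ hspan P (h z hz),
    fun h z hz => inLocRing_of_span_eq ψ φ hspan.symm P (h z hz)⟩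

/-- Rescaling a tuple does not change its local rings. -/
theorem inLocRing_mul_iff {ι : Type*} (φ : ι → K) {g : K} (hg : g ≠ 0) (P : Place k K) (z : K) :
    InLocRing (fun i => g * φ i) P z ↔ InLocRing φ P z := by
  have hratio : ∀ j, (fun i => g * φ i / (g * φ j)) = fun i => φ i / φ j := fun j => by
    funext i
    rw [mul_div_mul_left _ _ hg]
  have hgv : P.1 g ≠ 0 := (P.1.ne_zero_iff).2 hg
  unfold InLocRing
  refine exists_congr fun j => ?_
  rw [hratio j]
  refine and_congr (by simp [hg]) (and_congr ?_ Iff.rfl)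
  refine forall_congr' fun i => ?_
  rw [map_mul, map_mul]
  exact mul_le_mul_iff_right₀ (zero_lt_iff.2 hgv)

theorem isNonsingularAt_mul_iff {ι : Type*} (φ : ι → K) {g : K} (hg : g ≠ 0) (P : Place k K) :
    IsNonsingularAt (fun i => g * φ i) P ↔ IsNonsingularAt φ P :=
  forall_congr' fun z => imp_congr Iff.rfl (inLocRing_mul_iff φ hg P z)

end LocRing

end Groth.Agent.H57
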