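import Groth.Agent.H57.PlaneDiff
import Groth.Agent.H57.PlaneSpan
import Groth.Agent.FunFld.DegDiv
import Groth.Agent.FunFld.Perfect
import Groth.Agent.H57.ResCanon

/-!
# Invariance of the adjoint divisor under projective coordinate changes
-/

set_option autoImplicit false

namespace Groth.Agent.H57.Plane

open FunFld Groth.Agent.FF WithZero MvPolynomial Groth.Agent.H57

universe u v
variable {k : Type u} {K : Type v} [Field k] [Field K] [Algebra k K]

section
variable (A : Matrix (Fin 3) (Fin 3) k) (hA : A.det ≠ 0) (x y : K) (u : Fin 3 → K)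
  (hu : ∀ i, ∑ j, algebraMap k K (A i j) * u j = ![(1 : K), x, y] i)

include hu in
theorem old_mem_span_new (i : Fin 3) :
    ![(1 : K), x, y] i ∈ Submodule.span k (Set.range u) := by
  rw [← hu i]
  refine Submodule.sum_mem _ fun j _ => ?_
  rw [← Algebra.smul_def]
  exact Submodule.smul_mem _ _ (Submodule.subset_span ⟨j, rfl⟩)

include hA hu in
theorem new_eq_inv (j : Fin 3) :
    u j = ∑ i, algebraMap k K (A⁻¹ j i) * ![(1 : K), x, y] i := by
  have hinv : A⁻¹ * A = 1 := Matrix.nonsing_inv_mul A (isUnit_iff_ne_zero.2 hA)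
  calc u j = ∑ l, algebraMap k K ((1 : Matrix (Fin 3) (Fin 3) k) j l) * u l := by
        rw [Finset.sum_eq_single j]
        · rw [Matrix.one_apply_eq, map_one, one_mul]
        · intro l _ hl
          rw [Matrix.one_apply_ne (Ne.symm hl), map_zero, zero_mul]
        · intro h; exact absurd (Finset.mem_univ j) h
    _ = ∑ l, (∑ i, algebraMap k K (A⁻¹ j i) * algebraMap k K (A i l)) * u l := by
        refine Finset.sum_congr rfl fun l _ => ?_
        rw [← hinv, Matrix.mul_apply, map_sum]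
        simp only [map_mul]
    _ = ∑ i, algebraMap k K (A⁻¹ j i) * ∑ l, algebraMap k K (A i l) * u l := by
        simp only [Finset.sum_mul, Finset.mul_sum]
        rw [Finset.sum_comm]
        refine Finset.sum_congr rfl fun i _ => Finset.sum_congr rfl fun l _ => ?_
        ring
    _ = _ := by
        refine Finset.sum_congr rfl fun i _ => ?_
        rw [hu i]

include hA hu in
theorem new_mem_span_old (j : Fin 3) :
    u j ∈ Submodule.span k (Set.range ![(1 : K), x, y]) := by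
  rw [new_eq_inv A hA x y u hu j]
  refine Submodule.sum_mem _ fun i _ => ?_
  rw [← Algebra.smul_def]
  exact Submodule.smul_mem _ _ (Submodule.subset_span ⟨i, rfl⟩)

include hA hu in
theorem span_new_eq :
    Submodule.span k (Set.range u) = Submodule.span k (Set.range ![(1 : K), x, y]) := by
  apply le_antisymm
  · rw [Submodule.span_le]
    rintro _ ⟨j, rfl⟩
    exact new_mem_span_old A hA x y u hu j
  · rw [Submodule.span_le]
    rintro _ ⟨i, rfl⟩
    exact old_mem_span_new A x y u hu i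

include hA hu in
/-- Nonsingularity is invariant under the coordinate change. -/
theorem isNonsingularAt_new_iff (hu0 : u 0 ≠ 0) (P : Place k K) :
    IsNonsingularAt ![(1 : K), u 1 / u 0, u 2 / u 0] P ↔ IsNonsingularAt ![(1 : K), x, y] P := by
  rw [normalize_eq u hu0, isNonsingularAt_mul_iff u (inv_ne_zero hu0) P]
  exact isNonsingularAt_iff_of_span_eq ![(1 : K), x, y] u (span_new_eq A hA x y u hu) P

include hA hu in
/-- The divisor of the map in the new coordinates. -/
theorem mapDiv_new_apply (hK : IsFunctionField k K) (hu0 : u 0 ≠ 0) (P : Place k K) :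
    mapDiv k ![(1 : K), u 1 / u 0, u 2 / u 0] P = mapDiv k ![(1 : K), x, y] P + P.ord (u 0) := by
  have hone : ∃ i, ![(1 : K), x, y] i = 1 := ⟨0, rfl⟩
  have hone' : ∃ i, ![(1 : K), u 1 / u 0, u 2 / u 0] i = 1 := ⟨0, rfl⟩
  set m := mapDiv k ![(1 : K), x, y] P with hm
  have hv0 : P.1 (u 0) = exp (-P.ord (u 0)) := val_eq_exp_neg_ord P hu0
  have hule : ∀ j, P.1 (u j) ≤ exp m := fun j =>
    val_le_of_mem_span ![(1 : K), x, y] P _ (fun i => val_le_exp_mapDiv hK _ P i)
      (new_mem_span_old A hA x y u hu j)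
  have huex : ∃ j, P.1 (u j) = exp m := by
    obtain ⟨i₀, hi₀⟩ := exists_val_eq_exp_mapDiv hK ![(1 : K), x, y] hone P
    obtain ⟨j, hj⟩ := Finite.exists_max (fun j => P.1 (u j))
    refine ⟨j, le_antisymm (hule j) ?_⟩
    rw [← hm] at hi₀
    rw [← hi₀]
    exact val_le_of_mem_span u P _ hj (old_mem_span_new A x y u hu i₀)
  have hval : ∀ i, P.1 (![(1 : K), u 1 / u 0, u 2 / u 0] i) = P.1 (u i) * exp (P.ord (u 0)) := by
    intro i
    rw [normalize_eq u hu0, map_mul, map_inv₀, hv0, ← exp_neg, neg_neg, mul_comm]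
  apply mapDiv_eq_of_val hK _ hone' P
  · intro i
    rw [hval i, exp_add]
    exact mul_le_mul_left (hule i) _
  · obtain ⟨j, hj⟩ := huex
    exact ⟨j, by rw [hval j, hj, exp_add]⟩

include hA hu in
theorem mapDiv_new_eq (hK : IsFunctionField k K) (hu0 : u 0 ≠ 0) :
    mapDiv k ![(1 : K), u 1 / u 0, u 2 / u 0] = mapDiv k ![(1 : K), x, y] + FunFld.div k (u 0) := by
  ext P
  rw [Finsupp.add_apply, div_apply hK, mapDiv_new_apply A hA x y u hu hK hu0 P]

include hA hu in
theorem deg_mapDiv_new (hK : IsFunctionField k K) (hu0 : u 0 ≠ 0) :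
    (mapDiv k ![(1 : K), u 1 / u 0, u 2 / u 0]).deg = (mapDiv k ![(1 : K), x, y]).deg := by
  rw [mapDiv_new_eq A hA x y u hu hK hu0, deg_add, deg_div_eq_zero hK, add_zero]

end

section Ord

theorem one_le_of_pderiv_ne_zero {σ : Type*} (F : MvPolynomial σ k) {e : ℕ}
    (hF : F.IsHomogeneous e) (i : σ) (h : pderiv i F ≠ 0) : 1 ≤ e := by
  by_contra hlt
  have he : e = 0 := by omega
  subst he
  apply h
  by_cases hF0 : F = 0
  · rw [hF0, map_zero]
  · have htd := hF.totalDegree hF0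
    rw [totalDegree_eq_zero_iff_eq_C] at htd
    rw [htd, pderiv_C]

variable (A : Matrix (Fin 3) (Fin 3) k) (hA : A.det ≠ 0) (F : MvPolynomial (Fin 3) k) {e : ℕ}
  (hF : F.IsHomogeneous e) (x y : K) (u : Fin 3 → K)
  (hu : ∀ i, ∑ j, algebraMap k K (A i j) * u j = ![(1 : K), x, y] i)
  (hFxy : aeval ![(1 : K), x, y] F = 0) (hu0 : u 0 ≠ 0)
  (hFy : aeval ![(1 : K), x, y] (pderiv 2 F) ≠ 0)
  (hG : aeval ![(1 : K), u 1 / u 0, u 2 / u 0] (pderiv 2 (transf A F)) ≠ 0)

include hA hF hu hFxy hu0 hFy hG in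
/-- The order of `dx'/F'_{y'}` in terms of the order of `dx/F_y`. -/
theorem ordDiff_new (P : Place k K) (Φ : K →ₐ[k] LaurentSeries k)
    (hΦ : LocRes.IsExpansionAt P.1 Φ)
    (hne : LocRes.vDiff Φ (aeval ![(1 : K), x, y] (pderiv 2 F))⁻¹ x ≠ 0) :
    LocRes.vDiff Φ (aeval ![(1 : K), u 1 / u 0, u 2 / u 0] (pderiv 2 (transf A F)))⁻¹ (u 1 / u 0) ≠ 0 ∧
    LocRes.ordDiff Φ (aeval ![(1 : K), u 1 / u 0, u 2 / u 0] (pderiv 2 (transf A F)))⁻¹ (u 1 / u 0) =
      LocRes.ordDiff Φ (aeval ![(1 : K), x, y] (pderiv 2 F))⁻¹ x + ((e : ℤ) - 3) * P.ord (u 0) := by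
  have he1 : 1 ≤ e := one_le_of_pderiv_ne_zero F hF 2 (fun h0 => hFy (by rw [h0, map_zero]))
  have h := vDiff_transf A hA F hF x y u hu hFxy hu0 hFy P.1 (fun c hc => val_algebraMap P hc)
    Φ hΦ.1 hG
  set V' := LocRes.vDiff Φ (aeval ![(1 : K), u 1 / u 0, u 2 / u 0] (pderiv 2 (transf A F)))⁻¹
    (u 1 / u 0) with hV'
  set V := LocRes.vDiff Φ (aeval ![(1 : K), x, y] (pderiv 2 F))⁻¹ x with hV
  have hv0 : P.1 (u 0) = exp (-P.ord (u 0)) := val_eq_exp_neg_ord P hu0
  have hVexp : V = exp (log V) := (exp_log hne).symm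
  have hV'ne : V' ≠ 0 := by
    intro h0
    rw [h0, zero_mul] at h
    exact mul_ne_zero hne (pow_ne_zero _ ((P.1.ne_zero_iff).2 hu0)) h.symm
  refine ⟨hV'ne, ?_⟩
  have hV'exp : V' = exp (log V') := (exp_log hV'ne).symm
  rw [hV'exp, hVexp, hv0, ← exp_nsmul, ← exp_nsmul, ← exp_add, ← exp_add, exp_inj] at h
  unfold LocRes.ordDiff
  rw [← hV', ← hV]
  have hcast : ((e - 1 : ℕ) : ℤ) = (e : ℤ) - 1 := by omega
  simp only [nsmul_eq_mul, hcast, Nat.cast_ofNat] at h
  linarith

end Ord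

section DivDiff
variable [IsAlgClosed k]

/-- The coefficient of the divisor of a nonzero differential `g dv`. -/
theorem divDiff_apply (hK : IsFunctionField k K)
    (Φ : Place k K → (K →ₐ[k] LaurentSeries k))
    (hΦ : ∀ P : Place k K, LocRes.IsExpansionAt P.1 (Φ P)) (g v : K) (hg : g ≠ 0)
    (hv : KaehlerDifferential.D k K v ≠ 0) (P : Place k K) :
    divDiff Φ g v P = LocRes.ordDiff (Φ P) g v := by
  have hgeo : IsGeometric k K := isGeometric_of_perfectField hK
  have hD : ∀ P : Place k K, LocRes.D k (Φ P v) ≠ 0 := fun P =>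
    ResW.D_expansion_ne_zero_of_D_ne_zero hK hgeo hv P.1 (Φ P) (hΦ P)
  have hT : ∀ _P : Place k K, ∃ β : k, Algebra.trace k k β ≠ 0 := fun _ =>
    ⟨1, by rw [Algebra.trace_self_apply]; exact one_ne_zero⟩
  have hdiv := ResW.resW_divisor hK (fun _ => k) Φ hΦ g v hg hD hT
  unfold divDiff
  rw [dif_pos hdiv.1]
  rfl

theorem vDiff_ne_zero (hK : IsFunctionField k K) (P : Place k K) (Φ : K →ₐ[k] LaurentSeries k)
    (hΦ : LocRes.IsExpansionAt P.1 Φ) (g v : K) (hg : g ≠ 0)
    (hv : KaehlerDifferential.D k K v ≠ 0) : LocRes.vDiff Φ g v ≠ 0 := by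
  have hgeo : IsGeometric k K := isGeometric_of_perfectField hK
  have hD : LocRes.D k (Φ v) ≠ 0 := ResW.D_expansion_ne_zero_of_D_ne_zero hK hgeo hv P.1 Φ hΦ
  unfold LocRes.vDiff
  rw [map_mul, hΦ.1]
  exact mul_ne_zero ((P.1.ne_zero_iff).2 hg) ((Valuation.ne_zero_iff _).2 hD)

end DivDiff

end Groth.Agent.H57.Plane
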