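import Groth.Agent.H57.PlaneGood
import Groth.Agent.H57.PlaneGauss
import Groth.Agent.H57.PlaneHomog
import Groth.Agent.H57.PlaneInvar
import Groth.Agent.FunFld.Transc

/-!
# The degree of a plane model is the degree of its equation
-/

set_option autoImplicit false

namespace Groth.Agent.H57.Plane

open FunFld Groth.Agent.FF WithZero MvPolynomial Groth.Agent.H57 IntermediateField

universe u v
variable {k : Type u} {K : Type v} [Field k] [Field K] [Algebra k K]

section Coeff

/-- The coefficient of `X₂ⁿ` is the value at `(0 : 0 : 1)`. -/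
theorem eval_e2 (G : MvPolynomial (Fin 3) k) {n : ℕ} (hG : G.IsHomogeneous n) :
    eval ![(0 : k), 0, 1] G = coeff (Finsupp.single 2 n) G := by
  classical
  rw [eval_eq']
  by_cases hc : Finsupp.single 2 n ∈ G.support
  · rw [Finset.sum_eq_single (Finsupp.single 2 n)]
    · rw [Fin.prod_univ_three]
      simp
    · intro m hm hne
      have hs := sum_eq_of_mem_support G hG hm
      have h2 : m 2 < n := by
        by_contra hge
        rw [not_lt] at hge
        exact hne (eq_single_of_mem_support G hG hm hge)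
      rw [Fin.prod_univ_three]
      simp only [Matrix.cons_val_zero, Matrix.cons_val_one, Matrix.cons_val_two,
        Matrix.head_cons, Matrix.tail_cons]
      have : m 0 ≠ 0 ∨ m 1 ≠ 0 := by omega
      rcases this with h | h
      · rw [zero_pow h]; simp
      · rw [zero_pow h]; simp
    · intro h; exact absurd hc h
  · rw [notMem_support_iff.1 hc]
    apply Finset.sum_eq_zero
    intro m hm
    have hs := sum_eq_of_mem_support G hG hm
    have h2 : m 2 < n := by
      by_contra hge
      rw [not_lt] at hge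
      exact hc (eq_single_of_mem_support G hG hm hge ▸ hm)
    rw [Fin.prod_univ_three]
    simp only [Matrix.cons_val_zero, Matrix.cons_val_one, Matrix.cons_val_two,
      Matrix.head_cons, Matrix.tail_cons]
    have : m 0 ≠ 0 ∨ m 1 ≠ 0 := by omega
    rcases this with h | h
    · rw [zero_pow h]; simp
    · rw [zero_pow h]; simp

/-- The value of the transformed form at `(0 : 0 : 1)` is the value of the form at the last
column. -/
theorem eval_transf_e2 (A : Matrix (Fin 3) (Fin 3) k) (F : MvPolynomial (Fin 3) k) :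
    eval ![(0 : k), 0, 1] (transf A F) = eval ![A 0 2, A 1 2, A 2 2] F := by
  unfold transf
  have h := AlgHom.congr_fun (comp_aeval (R := k)
    (fun i : Fin 3 => ∑ j, C (A i j) * (X j : MvPolynomial (Fin 3) k))
    (aeval ![(0 : k), 0, 1] : MvPolynomial (Fin 3) k →ₐ[k] k)) F
  rw [AlgHom.comp_apply] at h
  rw [← aeval_eq_eval ![(0 : k), 0, 1], ← aeval_eq_eval ![A 0 2, A 1 2, A 2 2]]
  have h' : aeval ![(0 : k), 0, 1] (aeval (fun i : Fin 3 => ∑ j, C (A i j) * X j) F) = _ := h
  rw [h']
  congr 2
  funext i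
  rw [map_sum, Fin.sum_univ_three]
  fin_cases i <;> simp

end Coeff

section Shear

/-- The shear `X₁ = u₁ + c u₂`. -/
def shear (c : k) : Matrix (Fin 3) (Fin 3) k := !![1, 0, 0; 0, 1, c; 0, 0, 1]

theorem det_shear (c : k) : (shear c).det = 1 := by
  rw [Matrix.det_fin_three]
  simp [shear]

theorem shear_spec (c : k) (x y : K) (i : Fin 3) :
    ∑ j, algebraMap k K (shear c i j) * ![(1 : K), x - algebraMap k K c * y, y] j =
      ![(1 : K), x, y] i := by
  rw [Fin.sum_univ_three]
  fin_cases i <;> simp [shear]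

/-- There is a shear after which the top form does not vanish at `(0 : 0 : 1)`. -/
theorem exists_shear [Infinite k] (f : MvPolynomial (Fin 2) k) (hf : f ≠ 0) :
    ∃ c : k, eval ![(0 : k), c, 1] (homog f) ≠ 0 := by
  have htop := top_component_ne_zero f hf
  set fn := homogeneousComponent f.totalDegree f with hfn
  have hprod : fn * X 1 ≠ 0 := mul_ne_zero htop (X_ne_zero _)
  have : ∃ pt : Fin 2 → k, eval pt (fn * X 1) ≠ 0 := by
    by_contra hcon
    push Not at hcon
    exact hprod (MvPolynomial.funext fun pt => by rw [hcon pt, map_zero])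
  obtain ⟨pt, hpt⟩ := this
  rw [map_mul, eval_X] at hpt
  have hd : pt 1 ≠ 0 := right_ne_zero_of_mul hpt
  have hv : eval pt fn ≠ 0 := left_ne_zero_of_mul hpt
  refine ⟨pt 0 / pt 1, ?_⟩
  have h0 := aeval_homog_zero (B := k) f (pt 0 / pt 1) 1
  rw [aeval_eq_eval, aeval_eq_eval] at h0
  rw [h0]
  have hs := aeval_smul_of_isHomogeneous (B := k) fn f.totalDegree
    (homogeneousComponent_isHomogeneous _ f) (pt 1)⁻¹ pt
  rw [aeval_eq_eval, aeval_eq_eval] at hs
  have heq : (fun i => (pt 1)⁻¹ * pt i) = ![pt 0 / pt 1, 1] := by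
    funext i
    fin_cases i
    · simp [div_eq_inv_mul]
    · simp [hd]
  rw [heq] at hs
  rw [hs]
  exact mul_ne_zero (pow_ne_zero _ (inv_ne_zero hd)) hv

end Shear

section Finrank

theorem transcendental_gen {x₁ : K} (hx₁ : Transcendental k x₁) :
    Transcendental k (AdjoinSimple.gen k x₁) := by
  rw [← transcendental_algebraMap_iff (algebraMap k⟮x₁⟯ K).injective]
  exact hx₁

theorem evalGen_injective {x₁ : K} (hx₁ : Transcendental k x₁) :
    Function.Injective (evalGen (k := k) x₁) :=
  transcendental_iff_injective.1 (transcendental_gen hx₁)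

theorem adjoin_simple_eq_top_of_adjoin_pair {x₁ y : K}
    (hgen : adjoin k ({x₁, y} : Set K) = ⊤) : (k⟮x₁⟯)⟮y⟯ = ⊤ := by
  rw [eq_top_iff]
  intro z _
  have hz : z ∈ adjoin k ({x₁, y} : Set K) := by rw [hgen]; trivial
  have hx₁mem : x₁ ∈ (k⟮x₁⟯)⟮y⟯ := ((k⟮x₁⟯)⟮y⟯).algebraMap_mem (AdjoinSimple.gen k x₁)
  have hymem : y ∈ (k⟮x₁⟯)⟮y⟯ := mem_adjoin_simple_self _ _
  have hle : adjoin k ({x₁, y} : Set K) ≤ ((k⟮x₁⟯)⟮y⟯).restrictScalars k := by
    rw [adjoin_le_iff]
    intro w hw
    rcases hw with hw | hw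
    · rw [hw]; exact hx₁mem
    · rw [Set.mem_singleton_iff] at hw
      rw [hw]; exact hymem
  exact hle hz

/-- The degree of `K` over `k(x₁)` from an irreducible relation. -/
theorem finrank_adjoin_eq_natDegree {x₁ y : K} (hx₁ : Transcendental k x₁)
    {g : Polynomial (Polynomial k)} (hg : Irreducible g) (hdeg : g.natDegree ≠ 0)
    (hroot : Polynomial.aeval y (g.map (evalGen x₁)) = 0)
    (hgen : adjoin k ({x₁, y} : Set K) = ⊤) :
    Module.finrank k⟮x₁⟯ K = g.natDegree := by
  have hirr := irreducible_map_evalGen hx₁ hg hdeg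
  have hmin := minpoly.eq_of_irreducible hirr hroot
  have hq0 : g.map (evalGen x₁) ≠ 0 := hirr.ne_zero
  have hlc : (g.map (evalGen x₁)).leadingCoeff⁻¹ ≠ 0 :=
    inv_ne_zero (Polynomial.leadingCoeff_ne_zero.2 hq0)
  have hint : IsIntegral k⟮x₁⟯ y := by
    refine isAlgebraic_iff_isIntegral.1 ⟨g.map (evalGen x₁), hq0, hroot⟩
  have htop := adjoin_simple_eq_top_of_adjoin_pair hgen
  have h1 := IntermediateField.adjoin.finrank hint
  rw [htop, IntermediateField.finrank_top'] at h1
  rw [h1, ← hmin, Polynomial.natDegree_mul_C hlc,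
    Polynomial.natDegree_map_eq_of_injective (evalGen_injective hx₁)]

end Finrank

section Compare

theorem polyY_transf_shear (c : k) (F : MvPolynomial (Fin 3) k) (x₁ : K) :
    polyY (transf (shear c) F) (AdjoinSimple.gen k x₁) =
      aeval ![(1 : Polynomial k⟮x₁⟯), Polynomial.C (AdjoinSimple.gen k x₁) +
        Polynomial.C (algebraMap k k⟮x₁⟯ c) * Polynomial.X, Polynomial.X] F := by
  unfold polyY transf
  have h := AlgHom.congr_fun (comp_aeval (R := k)
    (fun i : Fin 3 => ∑ j, C (shear c i j) * (X j : MvPolynomial (Fin 3) k))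
    (aeval ![Polynomial.C 1, Polynomial.C (AdjoinSimple.gen k x₁),
      (Polynomial.X : Polynomial k⟮x₁⟯)] : MvPolynomial (Fin 3) k →ₐ[k] Polynomial k⟮x₁⟯)) F
  rw [AlgHom.comp_apply] at h
  rw [h]
  congr 2
  funext i
  rw [map_sum, Fin.sum_univ_three]
  fin_cases i <;> simp [shear, Polynomial.algebraMap_apply]

theorem map_toPP_homog (c : k) (f : MvPolynomial (Fin 2) k) (x₁ : K) :
    (toPP c f).map (evalGen x₁) =
      aeval ![(1 : Polynomial k⟮x₁⟯), Polynomial.C (AdjoinSimple.gen k x₁) +
        Polynomial.C (algebraMap k k⟮x₁⟯ c) * Polynomial.X, Polynomial.X] (homog f) := by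
  conv_lhs => rw [← dehom_homog f]
  have h := AlgHom.congr_fun (comp_aeval (R := k)
    ![(1 : MvPolynomial (Fin 2) k), X 0, X 1]
    ((Polynomial.mapAlgHom (Polynomial.aeval (AdjoinSimple.gen k x₁) :
      Polynomial k →ₐ[k] k⟮x₁⟯)).comp (toPP c))) (homog f)
  rw [AlgHom.comp_apply, AlgHom.comp_apply] at h
  have hmap : ∀ p : Polynomial (Polynomial k),
      Polynomial.mapAlgHom (Polynomial.aeval (AdjoinSimple.gen k x₁) :
        Polynomial k →ₐ[k] k⟮x₁⟯) p = p.map (evalGen x₁) := fun p => rfl
  rw [hmap] at h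
  rw [h]
  congr 2
  funext i
  fin_cases i
  · simp
  · simp only [Fin.mk_one, Fin.isValue, Matrix.cons_val_one, Matrix.cons_val_zero,
      AlgHom.comp_apply, hmap]
    simp [toPP, evalGen]
  · simp only [Fin.reduceFinMk, Fin.isValue, Matrix.cons_val_two, Matrix.tail_cons,
      Matrix.head_cons, AlgHom.comp_apply, hmap]
    simp [toPP]

end Compare

section Main

/-- In good position `x` is transcendental (for a plane model). -/
theorem transcendental_of_good (hK : IsFunctionField k K) (F : MvPolynomial (Fin 3) k) {n : ℕ}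
    (hF : F.IsHomogeneous n) (hc : F.coeff (Finsupp.single 2 n) ≠ 0) (x y : K)
    (hFxy : aeval ![(1 : K), x, y] F = 0) (hgen : adjoin k ({x, y} : Set K) = ⊤) :
    Transcendental k x := by
  intro hx
  obtain ⟨c₁, hc₁⟩ := hK.2 x hx
  have hq0 : polyY F c₁ ≠ 0 := by
    intro h0
    have := coeff_polyY F hF c₁
    rw [h0, Polynomial.coeff_zero, Algebra.algebraMap_self, RingHom.id_apply] at this
    exact hc this.symm
  have hroot : Polynomial.aeval y (polyY F c₁) = 0 := by
    rw [aeval_polyY, hc₁]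
    exact hFxy
  have hy : IsAlgebraic k y := ⟨polyY F c₁, hq0, hroot⟩
  obtain ⟨c₂, hc₂⟩ := hK.2 y hy
  obtain ⟨x₀, hx₀, -⟩ := hK.1
  have hmem : x₀ ∈ adjoin k ({x, y} : Set K) := by rw [hgen]; trivial
  have hle : adjoin k ({x, y} : Set K) ≤ ⊥ := by
    rw [adjoin_le_iff]
    rintro w (rfl | rfl)
    · rw [← hc₁]; exact (⊥ : IntermediateField k K).algebraMap_mem c₁
    · rw [← hc₂]; exact (⊥ : IntermediateField k K).algebraMap_mem c₂
  have hbot := hle hmem
  rw [IntermediateField.mem_bot] at hbot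
  obtain ⟨c₀, rfl⟩ := hbot
  exact hx₀ (isAlgebraic_algebraMap c₀)

variable [IsAlgClosed k]

/-- **The degree of a plane model is the degree of its equation.** -/
theorem deg_mapDiv_eq_totalDegree (hK : IsFunctionField k K) (x y : K)
    (hxy : adjoin k ({x, y} : Set K) = ⊤) (f : MvPolynomial (Fin 2) k)
    (hf : Irreducible f) (hfxy : aeval ![x, y] f = 0) :
    (mapDiv k ![(1 : K), x, y]).deg = f.totalDegree := by
  have : Infinite k := IsAlgClosed.instInfinite
  set n := f.totalDegree with hn
  have hf0 : f ≠ 0 := hf.ne_zero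
  obtain ⟨c, hc⟩ := exists_shear f hf0
  set F := homog f with hFdef
  have hF : F.IsHomogeneous n := homog_isHomogeneous f
  have hFxy : aeval ![(1 : K), x, y] F = 0 := by rw [aeval_homog_one, hfxy]
  set A := shear c with hA
  set x₁ := x - algebraMap k K c * y with hx₁def
  set u : Fin 3 → K := ![(1 : K), x₁, y] with hu
  have hspec : ∀ i, ∑ j, algebraMap k K (A i j) * u j = ![(1 : K), x, y] i := shear_spec c x y
  have hdet : A.det ≠ 0 := by rw [det_shear]; exact one_ne_zero
  have hu0 : u 0 ≠ 0 := one_ne_zero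
  have hu1 : u 1 / u 0 = x₁ := by simp [hu]
  have hu2 : u 2 / u 0 = y := by simp [hu]
  set F' := transf A F with hF'def
  have hF' : F'.IsHomogeneous n := transf_isHomogeneous A F hF
  have hF'xy : aeval ![(1 : K), x₁, y] F' = 0 := by
    have := aeval_transf A F x y u hspec
    rw [hFxy] at this
    exact this
  have hcoeff : F'.coeff (Finsupp.single 2 n) ≠ 0 := by
    rw [← eval_e2 F' hF', eval_transf_e2]
    simpa [A, shear] using hc
  have hgen : adjoin k ({x₁, y} : Set K) = ⊤ := by
    rw [eq_top_iff, ← hxy, adjoin_le_iff]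
    rintro w (rfl | rfl)
    · have h1 : x₁ ∈ adjoin k ({x₁, y} : Set K) := subset_adjoin k _ (by simp)
      have h2 : y ∈ adjoin k ({x₁, y} : Set K) := subset_adjoin k _ (by simp)
      have : w = x₁ + algebraMap k K c * y := by rw [hx₁def]; ring
      rw [this]
      exact add_mem h1 (mul_mem (IntermediateField.algebraMap_mem _ c) h2)
    · exact subset_adjoin k _ (by simp)
  have hx₁ : Transcendental k x₁ := transcendental_of_good hK F' hF' hcoeff x₁ y hF'xy hgen
  have hdeg := deg_mapDiv_new A hdet x y u hspec hK hu0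
  rw [hu1, hu2] at hdeg
  rw [← hdeg, deg_mapDiv_eq_finrank F' hF' hcoeff x₁ y hF'xy hK hx₁]
  -- the degree of `K / k(x₁)`
  have hcmp : polyY F' (AdjoinSimple.gen k x₁) = (toPP c f).map (evalGen x₁) := by
    rw [hF'def, hA, polyY_transf_shear, map_toPP_homog]
  have hdegq : (polyY F' (AdjoinSimple.gen k x₁)).natDegree = n := by
    apply le_antisymm (natDegree_polyY_le F' hF' _)
    apply Polynomial.le_natDegree_of_ne_zero
    rw [coeff_polyY F' hF']
    rw [Ne, map_eq_zero]
    exact hcoeff
  have hdegg : (toPP c f).natDegree = n := by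
    rw [← hdegq, hcmp, Polynomial.natDegree_map_eq_of_injective (evalGen_injective hx₁)]
  have hn0 : n ≠ 0 := by
    intro h0
    rw [hn] at h0
    rw [totalDegree_eq_zero_iff_eq_C] at h0
    rw [h0] at hf
    by_cases hz : coeff 0 f = 0
    · rw [hz, map_zero] at hf
      exact not_irreducible_zero hf
    · exact hf.not_isUnit (IsUnit.map C (IsUnit.mk0 _ hz))
  have hroot : Polynomial.aeval y ((toPP c f).map (evalGen x₁)) = 0 := by
    rw [← hcmp, aeval_polyY]
    exact hF'xy
  have hfin := finrank_adjoin_eq_natDegree hx₁ (irreducible_toPP c hf) (by rw [hdegg]; exact hn0)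
    hroot hgen
  rw [hfin, hdegg]

end Main

end Groth.Agent.H57.Plane
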