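import Mathlib

/-!
# Artin–Schreier generators of cyclic extensions of degree `p` in characteristic `p`
-/

set_option autoImplicit false

namespace Groth.Agent.H57.AS

open Finset

theorem sum_shift {E : Type*} [CommRing E] (f : ℕ → E) (n : ℕ) :
    ∑ i ∈ range n, (i : E) * f (i + 1) =
      ∑ i ∈ range (n + 1), (i : E) * f i - ∑ i ∈ range n, f (i + 1) := by
  induction n with
  | zero => simp
  | succ n ih =>
    rw [sum_range_succ, ih, sum_range_succ (fun i => (i : E) * f i) (n + 1),
      sum_range_succ (fun i => f (i + 1)) n]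
    push_cast
    ring

/-- A cyclic Galois extension of degree `p` in characteristic `p` has an element `x` and a
generator `σ` of the Galois group with `σ x = x + 1`. -/
theorem exists_sigma_add_one {F E : Type*} [Field F] [Field E] [Algebra F E] (p : ℕ)
    [hp : Fact p.Prime] [CharP F p] [IsGalois F E] (hdeg : Module.finrank F E = p) :
    ∃ (σ : E ≃ₐ[F] E) (x : E), σ x = x + 1 ∧ ∀ τ : E ≃ₐ[F] E, τ ∈ Subgroup.zpowers σ := by
  classical
  haveI : FiniteDimensional F E :=
    Module.finite_of_finrank_pos (by rw [hdeg]; exact hp.out.pos)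
  haveI : CharP E p := charP_of_injective_algebraMap (algebraMap F E).injective p
  have hcard : Nat.card (E ≃ₐ[F] E) = p := by rw [IsGalois.card_aut_eq_finrank, hdeg]
  haveI : IsCyclic (E ≃ₐ[F] E) := isCyclic_of_prime_card hcard
  obtain ⟨σ, hσ⟩ := IsCyclic.exists_generator (α := E ≃ₐ[F] E)
  have hord : orderOf σ = p := by rw [orderOf_eq_card_of_forall_mem_zpowers hσ, hcard]
  obtain ⟨θ, hθ⟩ := Algebra.trace_surjective F E 1
  let f : ℕ → E := fun i => (σ ^ i) θ
  have htr : ∑ i ∈ range p, f i = 1 := by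
    have h1 := trace_eq_sum_automorphisms (K := F) θ
    rw [hθ, map_one] at h1
    rw [h1, ← IsCyclic.image_range_orderOf hσ, hord, sum_image]
    intro i hi j hj hij
    have hi' : i < orderOf σ := by rw [hord]; exact mem_range.mp hi
    have hj' : j < orderOf σ := by rw [hord]; exact mem_range.mp hj
    exact pow_injOn_Iio_orderOf hi' hj' hij
  have hfp : f p = f 0 := by
    show (σ ^ p) θ = (σ ^ 0) θ
    rw [← hord, pow_orderOf_eq_one, pow_zero]
  refine ⟨σ, -∑ i ∈ range p, (i : E) * f i, ?_, hσ⟩
  have hσf : ∀ i, σ (f i) = f (i + 1) := by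
    intro i
    show σ ((σ ^ i) θ) = (σ ^ (i + 1)) θ
    rw [pow_succ']
    rfl
  have h2 : σ (∑ i ∈ range p, (i : E) * f i) = ∑ i ∈ range p, (i : E) * f (i + 1) := by
    rw [map_sum]
    refine sum_congr rfl fun i _ => ?_
    rw [map_mul, map_natCast, hσf]
  have h3 : ∑ i ∈ range p, f (i + 1) = 1 := by
    have h4 := sum_range_succ' f p
    have h5 := sum_range_succ f p
    rw [h5, htr, hfp] at h4
    exact add_right_cancel h4.symm
  rw [map_neg, h2, sum_shift, sum_range_succ, h3, CharP.cast_eq_zero E p]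
  ring

/-- The Artin–Schreier element generates and satisfies an Artin–Schreier equation. -/
theorem adjoin_eq_top_of_sigma_add_one {F E : Type*} [Field F] [Field E] [Algebra F E] (p : ℕ)
    [hp : Fact p.Prime] (hdeg : Module.finrank F E = p)
    (σ : E ≃ₐ[F] E) (x : E) (hx : σ x = x + 1) :
    IntermediateField.adjoin F {x} = ⊤ := by
  haveI := IntermediateField.isSimpleOrder_of_finrank_prime F E (hdeg ▸ hp.out)
  rcases eq_bot_or_eq_top (IntermediateField.adjoin F {x}) with h | h
  · exfalso
    rw [IntermediateField.adjoin_simple_eq_bot_iff, IntermediateField.mem_bot] at h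
    obtain ⟨c, rfl⟩ := h
    rw [AlgEquiv.commutes] at hx
    exact one_ne_zero (α := E) (by linear_combination -hx)
  · exact h

theorem pow_sub_mem_range {F E : Type*} [Field F] [Field E] [Algebra F E] (p : ℕ)
    [hp : Fact p.Prime] [CharP F p] [IsGalois F E] [FiniteDimensional F E]
    (σ : E ≃ₐ[F] E) (hσ : ∀ τ : E ≃ₐ[F] E, τ ∈ Subgroup.zpowers σ)
    (x : E) (hx : σ x = x + 1) :
    x ^ p - x ∈ Set.range (algebraMap F E) := by
  haveI : CharP E p := charP_of_injective_algebraMap (algebraMap F E).injective p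
  rw [IsGalois.mem_range_algebraMap_iff_fixed]
  intro τ
  have h1 : σ (x ^ p - x) = x ^ p - x := by
    rw [map_sub, map_pow, hx, add_pow_char, one_pow]
    ring
  obtain ⟨n, rfl⟩ := Subgroup.mem_zpowers_iff.mp (hσ τ)
  have h2 : ∀ n : ℕ, (σ ^ n) (x ^ p - x) = x ^ p - x := by
    intro n
    induction n with
    | zero => rfl
    | succ n ih =>
      rw [pow_succ]
      show (σ ^ n) (σ (x ^ p - x)) = _
      rw [h1, ih]
  have h3 : ∀ n : ℕ, (σ ^ n)⁻¹ (x ^ p - x) = x ^ p - x := by
    intro n
    have := h2 n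
    conv_lhs => rw [← this]
    exact (σ ^ n).symm_apply_apply _
  cases n with
  | ofNat n => simpa using h2 n
  | negSucc n =>
    rw [zpow_negSucc]
    exact h3 (n + 1)

end Groth.Agent.H57.AS
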