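import Mathlib

/-!
# Reduction of Laurent tails modulo the Artin–Schreier operator over `K⟦X⟧`
-/

set_option autoImplicit false

namespace Groth.Agent.H57.AS

open PowerSeries

universe u

variable (p : ℕ) [hp : Fact p.Prime] (K : Type u) [Field K] [CharP K p] [PerfectField K]
  (F : Type*) [Field F] [Algebra K⟦X⟧ F] [IsFractionRing K⟦X⟧ F]

/-- The normal-form predicate for `α` -/
def IsNormal (α : F) : Prop :=
  (∃ a' : K⟦X⟧, α = algebraMap K⟦X⟧ F a') ∨
    ∃ (m : ℕ) (a' : K⟦X⟧), 0 < m ∧ ¬ p ∣ m ∧ constantCoeff a' ≠ 0 ∧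
      α = algebraMap K⟦X⟧ F a' / algebraMap K⟦X⟧ F (X ^ m)

theorem charP_F (p : ℕ) (K : Type u) [Field K] [CharP K p]
    (F : Type*) [Field F] [Algebra K⟦X⟧ F] [IsFractionRing K⟦X⟧ F] : CharP F p := by
  haveI : CharP K⟦X⟧ p := charP_of_injective_algebraMap (algebraMap K K⟦X⟧).injective p
  exact charP_of_injective_algebraMap (IsFractionRing.injective K⟦X⟧ F) p

theorem reduce_aux (n : ℕ) : ∀ a : K⟦X⟧, ∃ γ : F,
    IsNormal p K F (algebraMap K⟦X⟧ F a / algebraMap K⟦X⟧ F X ^ n - (γ ^ p - γ)) := by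
  haveI : CharP F p := charP_F p K F
  have hT : algebraMap K⟦X⟧ F X ≠ 0 := by
    rw [Ne, map_eq_zero_iff _ (IsFractionRing.injective K⟦X⟧ F)]
    exact X_ne_zero
  have hp0 : (0 : F) ^ p = 0 := zero_pow hp.out.ne_zero
  induction n with
  | zero =>
    intro a
    refine ⟨0, Or.inl ⟨a, ?_⟩⟩
    rw [pow_zero, _root_.div_one, hp0, sub_zero, sub_zero]
  | succ n ih =>
    intro a
    by_cases ha : constantCoeff a = 0
    · obtain ⟨a₁, rfl⟩ := X_dvd_iff.mpr ha
      obtain ⟨γ, hγ⟩ := ih a₁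
      refine ⟨γ, ?_⟩
      have : algebraMap K⟦X⟧ F (X * a₁) / algebraMap K⟦X⟧ F X ^ (n + 1) =
          algebraMap K⟦X⟧ F a₁ / algebraMap K⟦X⟧ F X ^ n := by
        rw [map_mul, pow_succ]
        field_simp
      rw [this]
      exact hγ
    · by_cases hpn : p ∣ n + 1
      · obtain ⟨j, hj⟩ := hpn
        have hj0 : 0 < j := by
          rcases Nat.eq_zero_or_pos j with h | h
          · rw [h, mul_zero] at hj; omega
          · exact h
        have hjlt : j < n + 1 := by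
          have := hp.out.two_le
          nlinarith
        obtain ⟨b, hb⟩ := surjective_frobenius K p (constantCoeff a)
        rw [frobenius_def] at hb
        -- the numerator after subtracting the leading term
        have h0 : constantCoeff (a - C (constantCoeff a) + C b * X ^ (n + 1 - j)) = 0 := by
          have hpos : n + 1 - j ≠ 0 := by omega
          rw [map_add, map_sub, constantCoeff_C, sub_self, zero_add, map_mul, map_pow,
            constantCoeff_X, zero_pow hpos, mul_zero]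
        obtain ⟨a₃, ha₃⟩ := X_dvd_iff.mpr h0
        obtain ⟨γ₁, hγ₁⟩ := ih a₃
        set T := algebraMap K⟦X⟧ F X with hTdef
        set γ₀ : F := algebraMap K⟦X⟧ F (C b) / T ^ j with hγ₀
        refine ⟨γ₀ + γ₁, ?_⟩
        have key : algebraMap K⟦X⟧ F a / T ^ (n + 1) - ((γ₀ + γ₁) ^ p - (γ₀ + γ₁)) =
            algebraMap K⟦X⟧ F a₃ / T ^ n - (γ₁ ^ p - γ₁) := by
          have e1 : γ₀ ^ p = algebraMap K⟦X⟧ F (C (constantCoeff a)) / T ^ (n + 1) := by
            rw [hγ₀, div_pow, ← map_pow, ← map_pow, hb, ← pow_mul, hj, mul_comm j p]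
          have e2 : algebraMap K⟦X⟧ F a₃ * T =
              algebraMap K⟦X⟧ F a - algebraMap K⟦X⟧ F (C (constantCoeff a)) +
                algebraMap K⟦X⟧ F (C b) * T ^ (n + 1 - j) := by
            rw [hTdef, ← map_mul, mul_comm a₃ X, ← ha₃, map_add, map_sub, map_mul, map_pow]
          have e3 : T ^ (n + 1) = T ^ (n + 1 - j) * T ^ j := by
            rw [← pow_add]; congr 1; omega
          rw [add_pow_char, e1, hγ₀]
          have hTj : T ^ j ≠ 0 := pow_ne_zero _ hT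
          have hTn : T ^ n ≠ 0 := pow_ne_zero _ hT
          have hTn1 : T ^ (n + 1) ≠ 0 := pow_ne_zero _ hT
          have e4 : algebraMap K⟦X⟧ F a₃ / T ^ n =
              (algebraMap K⟦X⟧ F a - algebraMap K⟦X⟧ F (C (constantCoeff a))) / T ^ (n + 1) +
                algebraMap K⟦X⟧ F (C b) / T ^ j := by
            rw [div_add_div _ _ hTn1 hTj, div_eq_div_iff hTn (mul_ne_zero hTn1 hTj)]
            have : algebraMap K⟦X⟧ F a₃ * (T ^ (n + 1) * T ^ j) =
                (algebraMap K⟦X⟧ F a₃ * T) * T ^ n * T ^ j := by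
              rw [pow_succ]; ring
            rw [this, e2, e3]
            ring
          rw [e4]
          ring
        rw [key]
        exact hγ₁
      · refine ⟨0, Or.inr ⟨n + 1, a, Nat.succ_pos n, hpn, ha, ?_⟩⟩
        rw [hp0, sub_zero, sub_zero, map_pow]

/-- every element of `F` becomes normal after subtracting some `γ ^ p - γ` -/
theorem exists_reduce (α : F) : ∃ γ : F, IsNormal p K F (α - (γ ^ p - γ)) := by
  obtain ⟨a, b, hb, rfl⟩ := IsFractionRing.div_surjective (A := K⟦X⟧) α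
  have hb0 : b ≠ 0 := nonZeroDivisors.ne_zero hb
  obtain ⟨u, hu⟩ := isUnit_divided_by_X_pow_order hb0
  have hbX : b = X ^ b.order.toNat * (u : K⟦X⟧) := by
    rw [hu]; exact X_pow_order_mul_divXPowOrder.symm
  obtain ⟨γ, hγ⟩ := reduce_aux p K F b.order.toNat (a * ((u⁻¹ : K⟦X⟧ˣ) : K⟦X⟧))
  refine ⟨γ, ?_⟩
  have hT : algebraMap K⟦X⟧ F X ≠ 0 := by
    rw [Ne, map_eq_zero_iff _ (IsFractionRing.injective K⟦X⟧ F)]
    exact X_ne_zero
  have hu0 : algebraMap K⟦X⟧ F (u : K⟦X⟧) ≠ 0 := by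
    rw [Ne, map_eq_zero_iff _ (IsFractionRing.injective K⟦X⟧ F)]
    exact u.ne_zero
  have : algebraMap K⟦X⟧ F a / algebraMap K⟦X⟧ F b =
      algebraMap K⟦X⟧ F (a * ((u⁻¹ : K⟦X⟧ˣ) : K⟦X⟧)) /
        algebraMap K⟦X⟧ F X ^ b.order.toNat := by
    conv_lhs => rw [hbX]
    rw [map_mul, map_mul, map_pow, div_eq_div_iff (mul_ne_zero (pow_ne_zero _ hT) hu0)
      (pow_ne_zero _ hT)]
    have h1 : algebraMap K⟦X⟧ F ((u⁻¹ : K⟦X⟧ˣ) : K⟦X⟧) * algebraMap K⟦X⟧ F (u : K⟦X⟧) = 1 := by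
      rw [← map_mul, Units.inv_mul, map_one]
    calc algebraMap K⟦X⟧ F a * algebraMap K⟦X⟧ F X ^ b.order.toNat
        = algebraMap K⟦X⟧ F a * (algebraMap K⟦X⟧ F ((u⁻¹ : K⟦X⟧ˣ) : K⟦X⟧) *
            algebraMap K⟦X⟧ F (u : K⟦X⟧)) * algebraMap K⟦X⟧ F X ^ b.order.toNat := by
          rw [h1, mul_one]
      _ = _ := by ring
  rw [this]
  exact hγ

end Groth.Agent.H57.AS
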