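import Groth.Agent.H57.ASGen
import Groth.Agent.H57.ASRed

/-!
# Artin–Schreier normal form for totally ramified cyclic extensions of `K((t))` of degree `p`
-/

set_option autoImplicit false

namespace Groth.Agent.H57.AS

open PowerSeries

universe u

section Ram

variable (p : ℕ) [hp : Fact p.Prime] (K : Type u) [Field K]
  (B : Type u) [CommRing B] [IsDedekindDomain B]
  [Algebra K⟦X⟧ B] [Module.Finite K⟦X⟧ B] [Module.IsTorsionFree K⟦X⟧ B]
  (F E : Type u) [Field F] [Field E] [Algebra K⟦X⟧ F] [IsFractionRing K⟦X⟧ F]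
  [Algebra B E] [IsFractionRing B E] [Algebra F E] [Algebra K⟦X⟧ E]
  [IsScalarTower K⟦X⟧ F E] [IsScalarTower K⟦X⟧ B E]

include hp in
/-- An integral element moved by `1` under a Galois automorphism contradicts total ramification. -/
theorem false_of_integral [FiniteDimensional F E] (hdeg : Module.finrank F E = p)
    (M : Ideal B) [M.IsMaximal] (hram : M.ramificationIdx K⟦X⟧ = p)
    (σ : E ≃ₐ[F] E) (y : E) (hy : σ y = y + 1) (hint : IsIntegral K⟦X⟧ y) : False := by
  classical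
  haveI : IsIntegralClosure B K⟦X⟧ E := IsIntegralClosure.of_isIntegrallyClosed B K⟦X⟧ E
  obtain ⟨b, hb⟩ := (IsIntegralClosure.isIntegral_iff (A := B)).mp hint
  let τ : B ≃ₐ[K⟦X⟧] B := galRestrict K⟦X⟧ F E B σ
  have hτ : ∀ z : B, algebraMap B E (τ z) = σ (algebraMap B E z) :=
    algebraMap_galRestrict_apply K⟦X⟧ σ
  have hτb : τ b = b + 1 := by
    apply IsFractionRing.injective B E
    rw [hτ, hb, hy, map_add, hb, map_one]
  -- the prime below
  set P : Ideal K⟦X⟧ := M.under K⟦X⟧ with hP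
  haveI : P.IsMaximal := Ideal.IsMaximal.under K⟦X⟧ M
  haveI : M.LiesOver P := Ideal.over_under M
  letI : Fintype (P.primesOver B) := (Algebra.QuasiFinite.finite_primesOver P).fintype
  have hsum := Ideal.sum_ramification_inertia_eq_finrank P B
  have hrank : Module.finrank K⟦X⟧ B = p := by
    have h1 := Algebra.IsAlgebraic.rank_of_isFractionRing K⟦X⟧ F B E
    rw [← hdeg, Module.finrank, Module.finrank, h1]
  rw [hrank] at hsum
  let Q₀ : P.primesOver B := ⟨M, inferInstance, inferInstance⟩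
  have hsplit := Finset.add_sum_erase Finset.univ
    (fun q : P.primesOver B => q.1.ramificationIdx K⟦X⟧ * q.1.inertiaDeg K⟦X⟧) (Finset.mem_univ Q₀)
  rw [hsum] at hsplit
  have hf0 : 0 < M.inertiaDeg K⟦X⟧ := Ideal.inertiaDeg_pos M K⟦X⟧
  have hp0 : 0 < p := hp.out.pos
  have hterm : (Q₀ : Ideal B).ramificationIdx K⟦X⟧ * (Q₀ : Ideal B).inertiaDeg K⟦X⟧ =
      p * M.inertiaDeg K⟦X⟧ := by
    show M.ramificationIdx K⟦X⟧ * M.inertiaDeg K⟦X⟧ = _
    rw [hram]
  simp only [hterm] at hsplit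
  have hf1 : M.inertiaDeg K⟦X⟧ = 1 := by
    by_contra hne
    have h2 : 2 ≤ M.inertiaDeg K⟦X⟧ := by omega
    nlinarith [Nat.zero_le (∑ x ∈ Finset.univ.erase Q₀,
      (x : Ideal B).ramificationIdx K⟦X⟧ * (x : Ideal B).inertiaDeg K⟦X⟧)]
  have hrest : ∑ x ∈ Finset.univ.erase Q₀,
      (x : Ideal B).ramificationIdx K⟦X⟧ * (x : Ideal B).inertiaDeg K⟦X⟧ = 0 := by
    rw [hf1, mul_one] at hsplit
    omega
  have huniq : ∀ q : P.primesOver B, q = Q₀ := by
    intro q
    by_contra hne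
    have hmem : q ∈ Finset.univ.erase Q₀ := Finset.mem_erase.mpr ⟨hne, Finset.mem_univ q⟩
    have hle := Finset.single_le_sum (f := fun x : P.primesOver B =>
      (x : Ideal B).ramificationIdx K⟦X⟧ * (x : Ideal B).inertiaDeg K⟦X⟧)
      (fun _ _ => Nat.zero_le _) hmem
    rw [hrest] at hle
    haveI : (q : Ideal B).IsPrime := q.2.1
    have h1 : 0 < (q : Ideal B).ramificationIdx K⟦X⟧ := Ideal.ramificationIdx_pos _ K⟦X⟧
    have h2 : 0 < (q : Ideal B).inertiaDeg K⟦X⟧ := Ideal.inertiaDeg_pos _ K⟦X⟧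
    have := Nat.mul_pos h1 h2
    have hle' : (q : Ideal B).ramificationIdx K⟦X⟧ * (q : Ideal B).inertiaDeg K⟦X⟧ ≤ 0 := hle
    omega
  -- `τ` preserves `M`
  have hcomap : M.comap (τ : B →+* B) = M := by
    have hprime : (M.comap (τ : B →+* B)).IsPrime := Ideal.comap_isPrime _ M
    have hover : (M.comap (τ : B →+* B)).LiesOver P := by
      refine ⟨?_⟩
      show P = Ideal.comap (algebraMap K⟦X⟧ B) (Ideal.comap (τ : B →+* B) M)
      rw [Ideal.comap_comap, hP]
      congr 1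
      ext a
      simp
    have := huniq ⟨M.comap (τ : B →+* B), hprime, hover⟩
    exact congrArg Subtype.val this
  -- residue field is trivial
  have hfin : Module.finrank (K⟦X⟧ ⧸ P) (B ⧸ M) = 1 := by
    rw [← Ideal.inertiaDeg_eq_of_isMaximal P M, hf1]
  letI : Field (K⟦X⟧ ⧸ P) := Ideal.Quotient.field P
  have hbt : (⊥ : Subalgebra (K⟦X⟧ ⧸ P) (B ⧸ M)) = ⊤ :=
    Subalgebra.bot_eq_top_of_finrank_eq_one hfin
  have hmem : Ideal.Quotient.mk M b ∈ (⊥ : Subalgebra (K⟦X⟧ ⧸ P) (B ⧸ M)) := by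
    rw [hbt]; trivial
  rw [Algebra.mem_bot] at hmem
  obtain ⟨a, ha⟩ := hmem
  obtain ⟨a', rfl⟩ := Ideal.Quotient.mk_surjective a
  rw [Ideal.Quotient.algebraMap_mk_of_liesOver, Ideal.Quotient.eq] at ha
  -- ha : algebraMap a' - b ∈ M
  have h1 : τ (algebraMap K⟦X⟧ B a' - b) ∈ M := by
    have : algebraMap K⟦X⟧ B a' - b ∈ M.comap (τ : B →+* B) := by rw [hcomap]; exact ha
    exact this
  rw [map_sub, AlgEquiv.commutes, hτb] at h1
  have h2 : (1 : B) ∈ M := by
    have := M.sub_mem ha h1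
    have e : algebraMap K⟦X⟧ B a' - b - (algebraMap K⟦X⟧ B a' - (b + 1)) = 1 := by ring
    rwa [e] at this
  exact (Ideal.IsMaximal.ne_top inferInstance) ((Ideal.eq_top_iff_one M).mpr h2)

end Ram

section Main

variable (p : ℕ) [hp : Fact p.Prime] (K : Type u) [Field K] [CharP K p] [PerfectField K]
  (B : Type u) [CommRing B] [IsDedekindDomain B]
  [Algebra K⟦X⟧ B] [Module.Finite K⟦X⟧ B] [Module.IsTorsionFree K⟦X⟧ B]
  (F E : Type u) [Field F] [Field E] [Algebra K⟦X⟧ F] [IsFractionRing K⟦X⟧ F]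
  [Algebra B E] [IsFractionRing B E] [Algebra F E] [Algebra K⟦X⟧ E]
  [IsScalarTower K⟦X⟧ F E] [IsScalarTower K⟦X⟧ B E]

/-- **Artin–Schreier normal form.** -/
theorem exists_normal_form [IsGalois F E] (hdeg : Module.finrank F E = p)
    (M : Ideal B) [M.IsMaximal] (hram : M.ramificationIdx K⟦X⟧ = p) :
    ∃ x : E, ∃ m : ℕ, ∃ a : K⟦X⟧,
      IntermediateField.adjoin F {x} = ⊤ ∧ 0 < m ∧ ¬ p ∣ m ∧
      PowerSeries.constantCoeff a ≠ 0 ∧
      x ^ p - x + algebraMap F E
        (algebraMap K⟦X⟧ F a / algebraMap K⟦X⟧ F (PowerSeries.X ^ m)) = 0 := by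
  haveI : CharP F p := charP_F p K F
  haveI : CharP E p := charP_of_injective_algebraMap (algebraMap F E).injective p
  haveI : FiniteDimensional F E :=
    Module.finite_of_finrank_pos (by rw [hdeg]; exact hp.out.pos)
  obtain ⟨σ, x, hx, hσ⟩ := exists_sigma_add_one (F := F) (E := E) p hdeg
  obtain ⟨α₀, hα₀⟩ := pow_sub_mem_range p σ hσ x hx
  obtain ⟨γ, hγ⟩ := exists_reduce p K F (-α₀)
  set x' : E := x + algebraMap F E γ with hx'
  have hσx' : σ x' = x' + 1 := by
    rw [hx', map_add, hx, AlgEquiv.commutes]; ring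
  have heq : x' ^ p - x' + algebraMap F E (-α₀ - (γ ^ p - γ)) = 0 := by
    rw [hx', add_pow_char, map_sub, map_neg, hα₀, map_sub, map_pow]
    ring
  rcases hγ with ⟨a', ha'⟩ | ⟨m, a', hm, hpm, hc, ha'⟩
  · exfalso
    rw [ha', ← IsScalarTower.algebraMap_apply] at heq
    have hint : IsIntegral K⟦X⟧ x' := by
      refine ⟨Polynomial.X ^ p + (-Polynomial.X + Polynomial.C a'), ?_, ?_⟩
      · apply Polynomial.monic_X_pow_add
        have h1 : (-Polynomial.X + Polynomial.C a' : Polynomial K⟦X⟧).degree ≤ 1 := by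
          refine (Polynomial.degree_add_le _ _).trans (max_le ?_ ?_)
          · rw [Polynomial.degree_neg]; exact Polynomial.degree_X_le
          · exact Polynomial.degree_C_le.trans zero_le_one
        refine lt_of_le_of_lt h1 ?_
        exact_mod_cast hp.out.one_lt
      · rw [Polynomial.eval₂_add, Polynomial.eval₂_add, Polynomial.eval₂_neg,
          Polynomial.eval₂_X_pow, Polynomial.eval₂_X, Polynomial.eval₂_C, ← heq]
        ring
    exact false_of_integral p K B F E hdeg M hram σ x' hσx' hint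
  · refine ⟨x', m, a', adjoin_eq_top_of_sigma_add_one p hdeg σ x' hσx', hm, hpm, hc, ?_⟩
    rw [← ha']
    exact heq

end Main

end Groth.Agent.H57.AS
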