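import Mathlib.RingTheory.Kaehler.Basic
import Mathlib.Algebra.MvPolynomial.PDeriv
import Mathlib.RingTheory.MvPolynomial.Homogeneous
import Mathlib.RingTheory.MvPolynomial.EulerIdentity
import Mathlib.RingTheory.Derivation.Basic

set_option autoImplicit false

namespace Groth.Agent.H57

open MvPolynomial

/-- Chain rule: a derivation applied to a polynomial expression. -/
theorem derivation_aeval {k B M σ : Type*} [CommRing k] [CommRing B] [Algebra k B]
    [AddCommGroup M] [Module k M] [Module B M] [IsScalarTower k B M] [Fintype σ]
    (d : Derivation k B M) (p : σ → B) (f : MvPolynomial σ k) :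
    d (aeval p f) = ∑ i, aeval p (pderiv i f) • d (p i) := by
  classical
  induction f using MvPolynomial.induction_on with
  | C a => simp
  | add f g hf hg =>
    simp only [map_add, add_smul, Finset.sum_add_distrib, hf, hg]
  | mul_X f j hf =>
    rw [map_mul, aeval_X, Derivation.leibniz, hf]
    simp only [pderiv_mul, map_add, map_mul, aeval_X, add_smul, Finset.sum_add_distrib]
    rw [add_comm]
    congr 1
    · rw [Finset.smul_sum]
      refine Finset.sum_congr rfl fun i _ => ?_
      rw [smul_smul, mul_comm]
    · have : ∀ i, ((aeval p) f * (aeval p) ((pderiv i) (X j : MvPolynomial σ k))) • d (p i)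
          = if i = j then aeval p f • d (p j) else 0 := by
        intro i
        by_cases h : i = j
        · subst h; simp
        · rw [if_neg h, pderiv_X_of_ne (Ne.symm h)]; simp
      simp only [this, Finset.sum_ite_eq', Finset.mem_univ, if_true]

/-- Evaluating a homogeneous polynomial at a rescaled point. -/
theorem aeval_smul_of_isHomogeneous {k B σ : Type*} [CommRing k] [CommRing B] [Algebra k B]
    [Fintype σ] (g : MvPolynomial σ k) (m : ℕ) (hg : g.IsHomogeneous m) (z : B) (p : σ → B) :
    aeval (fun i => z * p i) g = z ^ m * aeval p g := by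
  rw [aeval_def, aeval_def, eval₂_eq', eval₂_eq', Finset.mul_sum]
  refine Finset.sum_congr rfl fun d hd => ?_
  have hdeg : ∑ i, d i = m := by
    have := hg.degree_eq_sum_deg_support hd
    rw [this]
    exact (Finsupp.sum_fintype d (fun _ a => a) (fun _ => rfl)).symm
  simp only [mul_pow, Finset.prod_mul_distrib, Finset.prod_pow_eq_pow_sum, hdeg]
  ring

end Groth.Agent.H57
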