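import Groth.Agent.H57.Gaps
import Groth.Agent.H57.MvChain

set_option autoImplicit false

namespace Groth.Agent.H57

open FunFld Groth.Agent.FF WithZero

universe u v
variable {k : Type u} {K : Type v} [Field k] [Field K] [Algebra k K]

/-- A nonzero function has finitely many zeros. -/
theorem finite_val_lt_one (hK : IsFunctionField k K) {x : K} (hx : x ≠ 0) :
    {P : Place k K | P.1 x < 1}.Finite := by
  by_cases hc : x ∈ Set.range (algebraMap k K)
  · obtain ⟨c, rfl⟩ := hc
    have hc0 : c ≠ 0 := by
      rintro rfl
      exact hx (map_zero _)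
    have : {P : Place k K | P.1 (algebraMap k K c) < 1} = ∅ := by
      ext P
      simp only [Set.mem_ofPred_eq, Set.mem_empty_iff_false, iff_false, not_lt]
      rw [val_algebraMap P hc0]
    rw [this]
    exact Set.finite_empty
  · have htr := transcendental_of_not_mem_range hK hc
    refine (finite_zeros hK htr).subset ?_
    intro P hP
    simp only [Set.mem_ofPred_eq] at hP ⊢
    exact (val_lt_one_iff P hx).1 hP

/-- A nonzero function has finitely many poles. -/
theorem finite_one_lt_val (hK : IsFunctionField k K) {x : K} (hx : x ≠ 0) :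
    {P : Place k K | 1 < P.1 x}.Finite := by
  refine (finite_val_lt_one hK (inv_ne_zero hx)).subset ?_
  intro P hP
  simp only [Set.mem_ofPred_eq] at hP ⊢
  rw [map_inv₀]
  exact inv_lt_one_of_one_lt₀ hP

/-- The residue constant of an integral function at a place is unique. -/
theorem residue_const_unique (P : Place k K) (r : K) {c c' : k}
    (h : P.1 (r - algebraMap k K c) < 1) (h' : P.1 (r - algebraMap k K c') < 1) : c = c' := by
  by_contra hne
  have h0 : c' - c ≠ 0 := sub_ne_zero.2 (Ne.symm hne)
  have h1 : P.1 (algebraMap k K (c' - c)) = 1 := val_algebraMap P h0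
  have h2 : algebraMap k K (c' - c) = (r - algebraMap k K c) - (r - algebraMap k K c') := by
    rw [map_sub]; ring
  rw [h2] at h1
  have h3 := P.1.map_sub (r - algebraMap k K c) (r - algebraMap k K c')
  rw [h1] at h3
  exact absurd h3 (not_le.2 (max_lt h h'))

/-- Over an algebraically closed constant field every integral function is congruent to a constant
modulo the maximal ideal. -/
theorem exists_residue_const [IsAlgClosed k] (hK : IsFunctionField k K) (P : Place k K) {r : K}
    (hr : P.1 r ≤ 1) : ∃ c : k, P.1 (r - algebraMap k K c) < 1 := by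
  have hfin := finite_residueField hK P
  have hint : Algebra.IsIntegral k (IsLocalRing.ResidueField P.O) :=
    @Algebra.IsIntegral.of_finite k _ _ _ _ hfin
  have hbij : Function.Bijective (algebraMap k (IsLocalRing.ResidueField P.O)) :=
    IsAlgClosed.algebraMap_bijective_of_isIntegral
  obtain ⟨c, hc⟩ := hbij.2 (res P ⟨r, hr⟩)
  refine ⟨c, ?_⟩
  have h1 : res P (⟨r, hr⟩ - algebraMap k P.O c) = 0 := by
    rw [map_sub, ← algebraMap_res, hc, sub_self]
  rw [res_eq_zero_iff] at h1
  exact h1

end Groth.Agent.H57
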