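import Groth.Agent.FunFld.PlaceOfVal
import Groth.Agent.H57.FFBasic
import Groth.Agent.Lib.Helper55.KrullDimIntegral
import Mathlib.RingTheory.NoetherNormalization
import Mathlib.RingTheory.KrullDimension.Polynomial
import Mathlib.RingTheory.KrullDimension.Field
import Mathlib.FieldTheory.AlgebraicClosure

/-!
# Valuation rings of the function field of an affine curve not containing the coordinate ring
-/

set_option autoImplicit false

namespace Groth.Agent.H57.AffCurve

open FunFld Groth.Agent.FF IntermediateField

universe u

section
variable (k A F : Type u) [Field k] [CommRing A] [IsDomain A] [Algebra k A]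
  [Algebra.FiniteType k A] [Field F] [Algebra A F] [IsFractionRing A F] [Algebra k F]
  [IsScalarTower k A F]

/-- The function field of an affine curve is a function field of one variable over the algebraic
closure of the base field in it. -/
theorem isFunctionField_fractionRing (hA : ringKrullDim A = 1) :
    IsFunctionField (algebraicClosure k F) F := by
  classical
  obtain ⟨s, g, hginj, hgint⟩ := exists_integral_inj_algHom_of_fg k A
  have hs : s = 1 := by
    have h1 := Groth.Agent.Lib.Helper55.ringKrullDim_eq_of_ringHom_isIntegral_of_injective
      g.toRingHom hgint hginj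
    rw [hA, MvPolynomial.ringKrullDim_of_isNoetherianRing, ringKrullDim_eq_zero_of_field,
      zero_add, Nat.card_fin] at h1
    exact_mod_cast h1.symm
  subst hs
  set k' := algebraicClosure k F with hk'
  set ι : MvPolynomial (Fin 1) k →ₐ[k] F := (IsScalarTower.toAlgHom k A F).comp g with hι
  have hιinj : Function.Injective ι := by
    rw [hι]
    exact (IsFractionRing.injective A F).comp hginj
  set x : F := ι (MvPolynomial.X 0) with hx
  have hxk : Transcendental k x := by
    intro halg
    obtain ⟨p, hp0, hp⟩ := halg
    have hX := MvPolynomial.transcendental_X k (0 : Fin 1)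
    apply hX
    refine ⟨p, hp0, hιinj ?_⟩
    rw [map_zero, ← Polynomial.aeval_algHom_apply]
    exact hp
  have hxk' : Transcendental k' x := by
    intro halg
    exact hxk (halg.restrictScalars k)
  refine ⟨⟨x, hxk', ?_⟩, ?_⟩
  · -- finiteness over `k'(x)`
    obtain ⟨S, hS⟩ := (Algebra.FiniteType.out : (⊤ : Subalgebra k A).FG)
    set M : IntermediateField k' F := k'⟮x⟯ with hM
    have hιM : ∀ q, ι q ∈ M := by
      intro q
      have hrange : ι.range ≤ (M.restrictScalars k).toSubalgebra := by
        have hιaeval : ι = MvPolynomial.aeval (fun _ : Fin 1 => x) := by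
          apply MvPolynomial.algHom_ext
          intro i
          rw [MvPolynomial.aeval_X, hx, Fin.fin_one_eq_zero i]
        rw [hιaeval, MvPolynomial.aeval_range, Algebra.adjoin_le_iff]
        rintro _ ⟨i, rfl⟩
        exact mem_adjoin_simple_self k' x
      exact hrange ⟨q, rfl⟩
    set ρ : MvPolynomial (Fin 1) k →+* M := ι.toRingHom.codRestrict M hιM with hρ
    have hint : ∀ a : A, IsIntegral M (algebraMap A F a) := by
      intro a
      obtain ⟨p, hpm, hp⟩ := hgint a
      refine ⟨p.map ρ, hpm.map ρ, ?_⟩
      rw [Polynomial.eval₂_map]
      have hcomp : (algebraMap M F).comp ρ = (algebraMap A F).comp g.toRingHom := by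
        ext q <;> rfl
      rw [hcomp, ← Polynomial.hom_eval₂, hp, map_zero]
    set T : Set F := (algebraMap A F) '' (S : Set A) with hT
    have hTfin : Finite T := (S.finite_toSet.image _).to_subtype
    have hfd : FiniteDimensional M (adjoin M T) :=
      finiteDimensional_adjoin (fun y hy => by
        obtain ⟨a, -, rfl⟩ := hy
        exact hint a)
    have htop : adjoin M T = ⊤ := by
      rw [eq_top_iff]
      intro z _
      -- the image of `A` lies in the adjoin
      have hAmem : ∀ a : A, algebraMap A F a ∈ adjoin M T := by
        intro a
        have ha : a ∈ Algebra.adjoin k (S : Set A) := by rw [hS]; trivial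
        induction ha using Algebra.adjoin_induction with
        | mem a ha => exact subset_adjoin M T ⟨a, ha, rfl⟩
        | algebraMap c =>
          rw [← IsScalarTower.algebraMap_apply k A F, IsScalarTower.algebraMap_apply k k' F,
            IsScalarTower.algebraMap_apply k' M F]
          exact (adjoin M T).algebraMap_mem _
        | add a b _ _ ha hb => rw [map_add]; exact add_mem ha hb
        | mul a b _ _ ha hb => rw [map_mul]; exact mul_mem ha hb
      obtain ⟨a, b, hb, rfl⟩ := IsFractionRing.div_surjective (A := A) z
      exact div_mem (hAmem a) (hAmem b)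
    rw [htop] at hfd
    exact (IntermediateField.topEquiv (F := M) (E := F)).toLinearEquiv.finiteDimensional
  · intro y hy
    have hyk : IsAlgebraic k y := hy.restrictScalars k
    exact ⟨⟨y, mem_algebraicClosure_iff.2 hyk⟩, rfl⟩

/-- Finitely many valuation rings of the function field of an affine curve contain the constants
but not the coordinate ring. -/
theorem finite_valuationSubrings (hA : ringKrullDim A = 1) :
    {O : ValuationSubring F | (algebraMap k F).range ≤ O.toSubring ∧
        ¬ (algebraMap A F).range ≤ O.toSubring}.Finite := by
  classical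
  set k' := algebraicClosure k F with hk'
  have hK' : IsFunctionField k' F := isFunctionField_fractionRing k A F hA
  obtain ⟨S, hS⟩ := (Algebra.FiniteType.out : (⊤ : Subalgebra k A).FG)
  set B : Set (Place k' F) :=
    ⋃ a ∈ (S : Set A), {P : Place k' F | 1 < P.1 (algebraMap A F a)} with hB
  have hBfin : B.Finite := by
    refine Set.Finite.biUnion S.finite_toSet fun a _ => ?_
    by_cases ha0 : algebraMap A F a = 0
    · convert Set.finite_empty
      ext P
      simp [ha0]
    · exact finite_one_lt_val hK' ha0
  have hplace : ∀ O : ValuationSubring F, (algebraMap k F).range ≤ O.toSubring → O ≠ ⊤ →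
      ∃ P : Place k' F, P.O = O := by
    intro O hkO hO
    have hk'O : ∀ c : k', algebraMap k' F c ∈ O := by
      intro c
      have hc : IsIntegral k (c : F) := mem_algebraicClosure_iff'.1 c.2
      letI : Algebra k O :=
        ((algebraMap k F).codRestrict O.toSubring (fun r => hkO ⟨r, rfl⟩)).toAlgebra
      haveI : IsScalarTower k O F := IsScalarTower.of_algebraMap_eq (fun r => rfl)
      have hcO : IsIntegral O (c : F) := hc.tower_top
      obtain ⟨z, hz⟩ := IsIntegrallyClosed.algebraMap_eq_of_integral hcO
      have : (c : F) = (z : F) := hz.symm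
      change (c : F) ∈ O
      rw [this]
      exact z.2
    exact exists_place_of_valuationSubring O hk'O hK' hO
  refine (hBfin.image (fun P : Place k' F => P.O)).subset ?_
  rintro O ⟨hkO, hAO⟩
  have hO : O ≠ ⊤ := by
    rintro rfl
    exact hAO (fun _ _ => trivial)
  obtain ⟨P, hP⟩ := hplace O hkO hO
  refine ⟨P, ?_, hP⟩
  by_contra hPB
  apply hAO
  have hgen : ∀ a ∈ (S : Set A), algebraMap A F a ∈ O := by
    intro a ha
    rw [← hP]
    by_contra hcon
    apply hPB
    rw [hB, Set.mem_iUnion₂]
    refine ⟨a, ha, ?_⟩
    change 1 < P.1 (algebraMap A F a)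
    exact not_le.1 hcon
  rintro _ ⟨a, rfl⟩
  have ha : a ∈ Algebra.adjoin k (S : Set A) := by rw [hS]; trivial
  change algebraMap A F a ∈ O
  induction ha using Algebra.adjoin_induction with
  | mem a ha => exact hgen a ha
  | algebraMap c =>
    rw [← IsScalarTower.algebraMap_apply k A F]
    exact hkO ⟨c, rfl⟩
  | add a b _ _ ha hb => rw [map_add]; exact add_mem ha hb
  | mul a b _ _ ha hb => rw [map_mul]; exact mul_mem ha hb

end

end Groth.Agent.H57.AffCurve
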