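import Groth.Agent.FunFld.ScalarExt
import Groth.Agent.FunFld.SepGeom
import Groth.Agent.FunFld.ConstField
import Groth.Agent.FunFld.LocResFF
import Groth.Agent.FunFld.Approx

/-!
# Scalar extension to an algebraic closure: places are defined over finite extensions
-/

set_option autoImplicit false
set_option linter.unusedSectionVars false

open FunFld IntermediateField TensorProduct WithZero Groth.Agent.FF

namespace Groth.Agent.H57.AlgClosedExtU

universe u v w

variable {k kbar : Type u} {K : Type v} {Kbar : Type w} [Field k] [Field kbar] [Field K] [Field Kbar]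
  [Algebra k kbar] [Algebra k K] [Algebra K Kbar] [Algebra kbar Kbar] [Algebra k Kbar]
  [IsScalarTower k kbar Kbar] [IsScalarTower k K Kbar]

/-- the scalar extension of a function field to an algebraically closed algebraic extension of the
constants is a function field -/
theorem isFunctionField_of_isAlgClosed [Algebra.IsAlgebraic k kbar] [IsAlgClosed kbar]
    (h : Function.Surjective (Algebra.TensorProduct.productMap
      (IsScalarTower.toAlgHom k kbar Kbar) (IsScalarTower.toAlgHom k K Kbar)))
    (hK : IsFunctionField k K) : IsFunctionField kbar Kbar := by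
  classical
  refine ⟨?_, fun y hy => ?_⟩
  swap
  · have hint : IsIntegral kbar y := hy.isIntegral
    have hdeg := IsAlgClosed.degree_eq_one_of_irreducible kbar (minpoly.irreducible hint)
    exact minpoly.mem_range_of_degree_eq_one kbar y hdeg
  obtain ⟨⟨x, hx, hfin⟩, -⟩ := id hK
  set x' : Kbar := algebraMap K Kbar x with hx'
  refine ⟨x', ?_, ?_⟩
  · intro halg
    have h1 : IsAlgebraic k x' := halg.restrictScalars k
    rw [hx', isAlgebraic_algebraMap_iff (algebraMap K Kbar).injective] at h1
    exact hx h1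
  · set F' : IntermediateField kbar Kbar := adjoin kbar {x'} with hF'
    have hA : ∀ l ∈ adjoin k ({x} : Set K), algebraMap K Kbar l ∈ F' := by
      let G : IntermediateField k K :=
        (F'.restrictScalars k).comap (IsScalarTower.toAlgHom k K Kbar)
      have hxG : x ∈ G := by
        show algebraMap K Kbar x ∈ F'
        exact mem_adjoin_simple_self kbar x'
      have hle : adjoin k ({x} : Set K) ≤ G := by
        rw [adjoin_le_iff, Set.singleton_subset_iff]; exact hxG
      intro l hl
      exact hle hl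
    let n := Module.finrank (adjoin k ({x} : Set K)) K
    let b : Module.Basis (Fin n) (adjoin k ({x} : Set K)) K := Module.finBasis _ _
    set M : Submodule F' Kbar := Submodule.span F' (Set.range fun i => algebraMap K Kbar (b i))
      with hM
    have hB : ∀ c : K, algebraMap K Kbar c ∈ M := by
      intro c
      have hc : c = ∑ i, ((b.repr c i : adjoin k ({x} : Set K)) : K) * b i := by
        conv_lhs => rw [← b.sum_repr c]
        apply Finset.sum_congr rfl
        intro i _
        rfl
      rw [hc, map_sum]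
      apply Submodule.sum_mem
      intro i _
      rw [map_mul]
      have hmem : algebraMap K Kbar ((b.repr c i : adjoin k ({x} : Set K)) : K) ∈ F' :=
        hA _ (b.repr c i).2
      have : algebraMap K Kbar ((b.repr c i : adjoin k ({x} : Set K)) : K) *
          algebraMap K Kbar (b i) = (⟨_, hmem⟩ : F') • algebraMap K Kbar (b i) := rfl
      rw [this]
      exact Submodule.smul_mem _ _ (Submodule.subset_span ⟨i, rfl⟩)
    have hC : ∀ t : kbar ⊗[k] K, Algebra.TensorProduct.productMap
        (IsScalarTower.toAlgHom k kbar Kbar) (IsScalarTower.toAlgHom k K Kbar) t ∈ M := by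
      intro t
      induction t using TensorProduct.induction_on with
      | zero => simp
      | tmul a c =>
        rw [Algebra.TensorProduct.productMap_apply_tmul]
        have hmem : algebraMap kbar Kbar a ∈ F' := F'.algebraMap_mem a
        have : (IsScalarTower.toAlgHom k kbar Kbar) a * (IsScalarTower.toAlgHom k K Kbar) c =
            (⟨_, hmem⟩ : F') • algebraMap K Kbar c := rfl
        rw [this]
        exact Submodule.smul_mem _ _ (hB c)
      | add s t hs ht => rw [map_add]; exact Submodule.add_mem _ hs ht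
    have htop : M = ⊤ := by
      rw [eq_top_iff]
      intro y _
      obtain ⟨t, rfl⟩ := h y
      exact hC t
    refine ⟨⟨Finset.univ.image fun i => algebraMap K Kbar (b i), ?_⟩⟩
    rw [← htop, hM]
    congr 1
    ext z
    simp

/-- the subalgebra `k'K` of `Kbar` -/
abbrev sub (k' : IntermediateField k kbar) : Subalgebra K Kbar :=
  Algebra.adjoin K (Set.range fun c : k' => algebraMap kbar Kbar c)

lemma sub_mono {k₁ k₂ : IntermediateField k kbar} (h12 : k₁ ≤ k₂) :
    sub (K := K) (Kbar := Kbar) k₁ ≤ sub k₂ := by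
  apply Algebra.adjoin_mono
  rintro _ ⟨c, rfl⟩
  exact ⟨⟨c, h12 c.2⟩, rfl⟩

/-- every element of `Kbar` is defined over a finite extension of `k` -/
theorem exists_field_of_definition [Algebra.IsAlgebraic k kbar]
    (h : Function.Surjective (Algebra.TensorProduct.productMap
      (IsScalarTower.toAlgHom k kbar Kbar) (IsScalarTower.toAlgHom k K Kbar))) (z : Kbar) :
    ∃ k' : IntermediateField k kbar, FiniteDimensional k k' ∧ z ∈ sub (K := K) (Kbar := Kbar) k' := by
  obtain ⟨t, rfl⟩ := h z
  induction t using TensorProduct.induction_on with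
  | zero => exact ⟨⊥, inferInstance, by rw [map_zero]; exact Subalgebra.zero_mem _⟩
  | tmul c w =>
    have hc : IsIntegral k c := Algebra.IsIntegral.isIntegral c
    refine ⟨k⟮c⟯, adjoin.finiteDimensional hc, ?_⟩
    rw [Algebra.TensorProduct.productMap_apply_tmul]
    apply Subalgebra.mul_mem
    · apply Algebra.subset_adjoin
      exact ⟨⟨c, mem_adjoin_simple_self k c⟩, rfl⟩
    · exact Subalgebra.algebraMap_mem _ w
  | add s t hs ht =>
    obtain ⟨k₁, hk₁, h₁⟩ := hs
    obtain ⟨k₂, hk₂, h₂⟩ := ht
    refine ⟨k₁ ⊔ k₂, inferInstance, ?_⟩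
    rw [map_add]
    exact Subalgebra.add_mem _ (sub_mono le_sup_left h₁) (sub_mono le_sup_right h₂)

/-- `Kbar` is algebraic over `K` -/
theorem isAlgebraic_over [Algebra.IsAlgebraic k kbar]
    (h : Function.Surjective (Algebra.TensorProduct.productMap
      (IsScalarTower.toAlgHom k kbar Kbar) (IsScalarTower.toAlgHom k K Kbar))) :
    Algebra.IsAlgebraic K Kbar := by
  refine ⟨fun z => ?_⟩
  obtain ⟨t, rfl⟩ := h z
  induction t using TensorProduct.induction_on with
  | zero => rw [map_zero]; exact isAlgebraic_zero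
  | tmul c w =>
    rw [Algebra.TensorProduct.productMap_apply_tmul]
    apply IsAlgebraic.mul
    · have hc : IsAlgebraic k c := Algebra.IsAlgebraic.isAlgebraic c
      have hc' : IsAlgebraic k (algebraMap kbar Kbar c) := hc.algebraMap
      exact hc'.tower_top K
    · exact isAlgebraic_algebraMap w
  | add s t hs ht => rw [map_add]; exact hs.add ht

/-- a place of `Kbar` is nontrivial on `K` -/
theorem exists_val_lt_one [Algebra.IsAlgebraic k kbar]
    (h : Function.Surjective (Algebra.TensorProduct.productMap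
      (IsScalarTower.toAlgHom k kbar Kbar) (IsScalarTower.toAlgHom k K Kbar)))
    (Q : Place kbar Kbar) : ∃ w : K, w ≠ 0 ∧ Q.1 (algebraMap K Kbar w) < 1 := by
  have halg := isAlgebraic_over (K := K) h
  by_contra hcon
  push Not at hcon
  have hle : ∀ w : K, Q.1 (algebraMap K Kbar w) ≤ 1 := by
    intro w
    by_cases hw : w = 0
    · rw [hw, map_zero, map_zero]; exact zero_le
    · have h1 := hcon w⁻¹ (inv_ne_zero hw)
      rw [map_inv₀, map_inv₀] at h1
      have h0 : Q.1 (algebraMap K Kbar w) ≠ 0 := by
        rw [Ne, map_eq_zero, map_eq_zero]; exact hw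
      exact (one_le_inv₀ (zero_lt_iff.mpr h0)).mp h1
  let Q' : Place K Kbar := ⟨Q.1, ⟨hle, Q.2.2⟩⟩
  obtain ⟨c, hc⟩ := Q.2.2 (exp (1 : ℤ))
  have h2 : Q.1 c ≤ 1 := Ext.val_le_one_of_isAlgebraic Q' (Algebra.IsAlgebraic.isAlgebraic c)
  rw [hc, ← exp_zero, exp_le_exp] at h2
  omega

/-- **Places of `Kbar` are defined over finite extensions of `k`.** -/
theorem exists_finite_definition [Algebra.IsAlgebraic k kbar] [IsAlgClosed kbar]
    (h : Function.Surjective (Algebra.TensorProduct.productMap
      (IsScalarTower.toAlgHom k kbar Kbar) (IsScalarTower.toAlgHom k K Kbar)))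
    (hK : IsFunctionField k K) (Q : Place kbar Kbar) :
    ∃ k' : IntermediateField k kbar, FiniteDimensional k k' ∧
      (∃ z ∈ Algebra.adjoin K (Set.range fun c : k' => algebraMap kbar Kbar c),
        Q.1 z = exp (-1 : ℤ)) ∧
      ∀ Q' : Place kbar Kbar,
        (∃ e : ℕ, ∀ z ∈ Algebra.adjoin K (Set.range fun c : k' => algebraMap kbar Kbar c),
          Q'.1 z = Q.1 z ^ e) → Q' = Q := by
  classical
  have hKbar : IsFunctionField kbar Kbar := isFunctionField_of_isAlgClosed h hK
  obtain ⟨t₀, ht₀0, ht₀⟩ := exists_val_lt_one (K := K) h Q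
  set T₀ : Kbar := algebraMap K Kbar t₀ with hT₀
  have hT₀0 : T₀ ≠ 0 := by rw [hT₀, Ne, map_eq_zero]; exact ht₀0
  -- the zeros of `t₀`
  have hfin : {Q' : Place kbar Kbar | ¬ Q'.1 T₀⁻¹ ≤ 1}.Finite := finite_not_val_le_one hKbar T₀⁻¹
  have hmem : ∀ Q' : Place kbar Kbar, Q'.1 T₀ < 1 → Q' ∈ hfin.toFinset := by
    intro Q' hQ'
    rw [Set.Finite.mem_toFinset, Set.mem_ofPred_eq, not_le, map_inv₀]
    have h0 : Q'.1 T₀ ≠ 0 := by rw [Ne, map_eq_zero]; exact hT₀0
    exact (one_lt_inv₀ (zero_lt_iff.mpr h0)).mpr hQ'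
  -- separating elements
  have hsepz : ∀ Q' : Place kbar Kbar, Q' ≠ Q → ∃ z : Kbar, Q.1 z < 1 ∧ Q'.1 z = 1 := by
    intro Q' hne
    obtain ⟨y, hy⟩ := weak_approx (fun i : Fin 2 => (![Q, Q'] i : Place kbar Kbar))
      (by
        intro i j hij
        fin_cases i <;> fin_cases j
        · rfl
        · exact absurd hij.symm hne
        · exact absurd hij hne
        · rfl) ![0, 1] 0
    have h0 := hy 0
    have h1 := hy 1
    simp only [Matrix.cons_val_zero, Matrix.cons_val_one, exp_zero, sub_zero] at h0 h1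
    refine ⟨y, h0, ?_⟩
    have h2 : Q'.1 ((y - 1) + 1) = 1 := by
      rw [Valuation.map_add_eq_of_lt_right _ (by rw [map_one]; exact h1), map_one]
    rwa [sub_add_cancel] at h2
  choose! zsep hzsep using hsepz
  -- fields of definition
  have hdef := exists_field_of_definition (K := K) h
  choose kdef hkdef_fin hkdef_mem using hdef
  obtain ⟨tQ, htQ⟩ := Q.2.2 (exp (-1 : ℤ))
  set S := hfin.toFinset.erase Q with hS
  set k' : IntermediateField k kbar := kdef tQ ⊔ ⨆ Q' ∈ S, kdef (zsep Q') with hk'
  have : ∀ z, FiniteDimensional k (kdef z) := hkdef_fin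
  refine ⟨k', inferInstance, ⟨tQ, sub_mono le_sup_left (hkdef_mem tQ), htQ⟩, ?_⟩
  rintro Q' ⟨e, he⟩
  by_contra hne
  have he0 : e ≠ 0 := by
    intro h0
    have := he 0 (Subalgebra.zero_mem _)
    rw [h0, map_zero, map_zero, pow_zero] at this
    exact zero_ne_one this
  have h1 : Q'.1 T₀ < 1 := by
    rw [he T₀ (Subalgebra.algebraMap_mem _ t₀)]
    exact pow_lt_one₀ zero_le ht₀ he0
  have hQ'S : Q' ∈ S := by
    rw [hS, Finset.mem_erase]
    exact ⟨hne, hmem Q' h1⟩
  have hle : kdef (zsep Q') ≤ k' := by
    rw [hk']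
    exact le_sup_of_le_right (le_iSup₂_of_le Q' hQ'S le_rfl)
  have h2 := he (zsep Q') (sub_mono hle (hkdef_mem _))
  rw [(hzsep Q' hne).2] at h2
  have h3 : Q.1 (zsep Q') ^ e < 1 := pow_lt_one₀ zero_le (hzsep Q' hne).1 he0
  rw [← h2] at h3
  exact lt_irrefl _ h3

end Groth.Agent.H57.AlgClosedExtU
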