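import Groth.Agent.H57.Gaps
import Groth.Agent.FunFld.Rational

set_option autoImplicit false

namespace Groth.Agent.H57

open FunFld Groth.Agent.FF WithZero

universe u v
variable {k : Type u} {K : Type v} [Field k] [Field K] [Algebra k K]

/-- `L(D₁) = L(D₂)` iff the dimensions agree, for `D₁ ≤ D₂`. -/
theorem L_eq_iff_ell_eq (hK : IsFunctionField k K) {D₁ D₂ : Divisor k K} (h : D₁ ≤ D₂) :
    L D₁ = L D₂ ↔ ell D₁ = ell D₂ := by
  constructor
  · intro h'
    unfold ell
    rw [h']
  · intro h'
    have := finite_L hK D₂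
    exact Submodule.eq_of_le_of_finrank_eq (L_mono h) h'

/-- A function in `L(D)` but not in `L(D - P)` has order exactly `-D(P)` at `P`. -/
theorem mem_L_not_mem_L_sub_iff (D : Divisor k K) (P : Place k K) (g : K) :
    (g ∈ L D ∧ g ∉ L (D - Finsupp.single P 1)) ↔ (g ∈ L D ∧ g ≠ 0 ∧ P.ord g = -D P) := by
  classical
  constructor
  · rintro ⟨hg, hg'⟩
    have hg0 : g ≠ 0 := by
      rintro rfl
      exact hg' (Submodule.zero_mem _)
    refine ⟨hg, hg0, ?_⟩
    have h1 := hg P
    rw [val_le_exp_iff P hg0] at h1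
    have h2 : ¬ P.1 g ≤ exp (D P - 1) := by
      intro hP
      apply hg'
      intro Q
      by_cases hQ : Q = P
      · subst hQ
        rw [Finsupp.sub_apply, Finsupp.single_eq_same]
        exact hP
      · have := hg Q
        rw [Finsupp.sub_apply, Finsupp.single_eq_of_ne hQ, sub_zero]
        exact this
    rw [val_le_exp_iff P hg0] at h2
    omega
  · rintro ⟨hg, hg0, hord⟩
    refine ⟨hg, fun hg' => ?_⟩
    have := hg' P
    rw [Finsupp.sub_apply, Finsupp.single_eq_same, val_le_exp_iff P hg0] at this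
    omega

section AlgClosed
variable [IsAlgClosed k]

/-- In positive genus, `ℓ(P) = 1`. -/
theorem ell_single_one (hK : IsFunctionField k K) (hg : genus k K ≠ 0) (P : Place k K) :
    ell (Finsupp.single P (1 : ℤ) : Divisor k K) = 1 := by
  classical
  have hdeg := deg_eq_one_of_isAlgClosed hK P
  have h0 : ell (Finsupp.single P (0 : ℤ) : Divisor k K) = 1 := by
    rw [Finsupp.single_zero, ell_zero hK]
  have h1 := ell_single_succ_le hK P 0
  rw [zero_add, h0] at h1
  have h2 : ell (Finsupp.single P (0 : ℤ) : Divisor k K) ≤ ell (Finsupp.single P (1 : ℤ) : Divisor k K) :=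
    ell_mono hK (single_le_single_of_le P (by norm_num))
  rw [h0] at h2
  by_contra hne
  have h3 : ell (Finsupp.single P (1 : ℤ) : Divisor k K) ≠
      ell (Finsupp.single P ((1 : ℤ) - 1) : Divisor k K) := by
    rw [sub_self, h0]; exact hne
  have h4 : L (Finsupp.single P ((1 : ℤ) - 1) : Divisor k K) <
      L (Finsupp.single P (1 : ℤ) : Divisor k K) := by
    refine lt_of_le_of_ne (L_mono (single_le_single_of_le P (by norm_num))) fun h => h3 ?_
    unfold ell
    rw [h]
  obtain ⟨x, hx, hx'⟩ := SetLike.exists_of_lt h4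
  obtain ⟨hx0, hord⟩ := ord_eq_of_mem_of_not_mem P 1 hx hx'
  apply hg
  apply genus_eq_zero_of_simplePoleAt hK (x := x) (P := P)
  refine ⟨hdeg, hord, fun Q hQ => ?_⟩
  have := hx Q
  rw [Finsupp.single_eq_of_ne hQ, exp_zero, val_le_one_iff Q hx0] at this
  exact this

/-- The canonical linear system has no base points: some function in `L(C)` has order exactly
`-C(P)` at `P`. -/
theorem exists_ord_eq_neg_canonical (hK : IsFunctionField k K) {C : Divisor k K}
    (hC : IsCanonical k K C) (hg : genus k K ≠ 0) (P : Place k K) :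
    ∃ g ∈ L C, g ≠ 0 ∧ P.ord g = -C P := by
  have hdeg := deg_eq_one_of_isAlgClosed hK P
  have hrr := riemann_roch hK hC (Finsupp.single P (1 : ℤ))
  rw [ell_single_one hK hg P, deg_single, hdeg] at hrr
  have hell := ell_canonical hK hC
  have hlt : L (C - Finsupp.single P 1) < L C := by
    refine lt_of_le_of_ne (L_mono (sub_le_self _ (single_nonneg' P (by norm_num)))) fun h => ?_
    have h1 : ell (C - Finsupp.single P 1) = ell C := by unfold ell; rw [h]
    rw [h1, hell] at hrr
    push_cast at hrr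
    omega
  obtain ⟨g, hg1, hg2⟩ := SetLike.exists_of_lt hlt
  exact ⟨g, ((mem_L_not_mem_L_sub_iff C P g).1 ⟨hg1, hg2⟩)⟩

end AlgClosed

end Groth.Agent.H57
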