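import Groth.Agent.H57.Orders
import Mathlib.LinearAlgebra.Matrix.Block
import Mathlib.LinearAlgebra.Finsupp.LinearCombination

set_option autoImplicit false

namespace Groth.Agent.H57

open FunFld

/-- If `c' j ≡ u j • c j` modulo the span of the earlier `c`'s, with `u j ≠ 0`, the partial spans
of `c'` and `c` agree. -/
theorem span_Iio_eq_of_triangular {K V : Type*} [Field K] [AddCommGroup V] [Module K V]
    (c c' : ℕ → V) (u : ℕ → K) (hu : ∀ j, u j ≠ 0)
    (h : ∀ j, c' j - u j • c j ∈ Submodule.span K (c '' Set.Iio j)) (N : ℕ) :
    Submodule.span K (c' '' Set.Iio N) = Submodule.span K (c '' Set.Iio N) := by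
  induction N with
  | zero => simp
  | succ N ih =>
    have h1 : Set.Iio (N + 1) = insert N (Set.Iio N) := by
      ext j; simp only [Set.mem_Iio, Set.mem_insert_iff]; omega
    rw [h1, Set.image_insert_eq, Set.image_insert_eq, Submodule.span_insert, Submodule.span_insert,
      ih]
    set S := Submodule.span K (c '' Set.Iio N) with hS
    have hd := h N
    apply le_antisymm
    · refine sup_le ?_ le_sup_right
      rw [Submodule.span_singleton_le_iff_mem]
      have : c' N = (c' N - u N • c N) + u N • c N := by abel
      rw [this]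
      refine Submodule.add_mem _ (Submodule.mem_sup_right hd) (Submodule.mem_sup_left ?_)
      exact Submodule.smul_mem _ _ (Submodule.mem_span_singleton_self _)
    · refine sup_le ?_ le_sup_right
      rw [Submodule.span_singleton_le_iff_mem]
      have : c N = (u N)⁻¹ • (c' N - (c' N - u N • c N)) := by
        rw [sub_sub_cancel, smul_smul, inv_mul_cancel₀ (hu N), one_smul]
      rw [this]
      refine Submodule.smul_mem _ _ (Submodule.sub_mem _ (Submodule.mem_sup_left ?_)
        (Submodule.mem_sup_right hd))
      exact Submodule.mem_span_singleton_self _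

theorem isJump_iff_of_triangular {K V : Type*} [Field K] [AddCommGroup V] [Module K V]
    (c c' : ℕ → V) (u : ℕ → K) (hu : ∀ j, u j ≠ 0)
    (h : ∀ j, c' j - u j • c j ∈ Submodule.span K (c '' Set.Iio j)) (j : ℕ) :
    IsJump K c' j ↔ IsJump K c j := by
  unfold IsJump
  rw [span_Iio_eq_of_triangular c c' u hu h j, not_iff_not]
  set S := Submodule.span K (c '' Set.Iio j) with hS
  have hd := h j
  constructor
  · intro hc'
    have : c j = (u j)⁻¹ • (c' j - (c' j - u j • c j)) := by
      rw [sub_sub_cancel, smul_smul, inv_mul_cancel₀ (hu j), one_smul]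
    rw [this]
    exact Submodule.smul_mem _ _ (Submodule.sub_mem _ hc' hd)
  · intro hc
    have : c' j = (c' j - u j • c j) + u j • c j := by abel
    rw [this]
    exact Submodule.add_mem _ hd (Submodule.smul_mem _ _ hc)

/-- If each column of `M'` is `d q` times the column of `M` plus a combination of earlier columns
of `M`, then `det M' = (∏ d q) * det M`. -/
theorem det_eq_prod_mul_det_of_triangular {K : Type*} [Field K] {m : ℕ}
    (M M' : Matrix (Fin m) (Fin m) K) (d : Fin m → K)
    (h : ∀ q, M'.col q - d q • M.col q ∈ Submodule.span K (M.col '' {p | p < q})) :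
    M'.det = (∏ q, d q) * M.det := by
  classical
  have hex : ∀ q, ∃ a : Fin m → K, ∑ p ∈ Finset.Iio q, a p • M.col p = M'.col q - d q • M.col q := by
    intro q
    have hq := h q
    have hset : {p | p < q} = ((Finset.Iio q : Finset (Fin m)) : Set (Fin m)) := by
      ext p; simp
    rw [hset, Submodule.mem_span_image_finset_iff_exists_fun'] at hq
    exact hq
  choose a ha using hex
  let U : Matrix (Fin m) (Fin m) K := Matrix.of fun p q =>
    if p < q then a q p else if p = q then d q else 0
  have hU : U.IsUpperTriangular := by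
    intro i j hij
    simp only [id] at hij
    simp only [U, Matrix.of_apply]
    rw [if_neg (not_lt.2 hij.le), if_neg (ne_of_gt hij)]
  have hM' : M' = M * U := by
    ext i q
    rw [Matrix.mul_apply]
    have h1 : ∑ p, M i p * U p q = ∑ p ∈ Finset.Iio q, a q p * M i p + d q * M i q := by
      have hsplit : (Finset.univ : Finset (Fin m)) =
          insert q (Finset.Iio q) ∪ Finset.Ioi q := by
        ext p
        simp only [Finset.mem_univ, Finset.mem_union, Finset.mem_insert, Finset.mem_Iio,
          Finset.mem_Ioi, true_iff]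
        rcases lt_trichotomy p q with h | h | h
        · exact Or.inl (Or.inr h)
        · exact Or.inl (Or.inl h)
        · exact Or.inr h
      rw [hsplit, Finset.sum_union, Finset.sum_insert]
      · have hz : ∑ p ∈ Finset.Ioi q, M i p * U p q = 0 := by
          refine Finset.sum_eq_zero fun p hp => ?_
          rw [Finset.mem_Ioi] at hp
          simp only [U, Matrix.of_apply]
          rw [if_neg (not_lt.2 hp.le), if_neg (ne_of_gt hp), mul_zero]
        rw [hz, add_zero, add_comm]
        congr 1
        · refine Finset.sum_congr rfl fun p hp => ?_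
          rw [Finset.mem_Iio] at hp
          simp only [U, Matrix.of_apply]
          rw [if_pos hp, mul_comm]
        · simp only [U, Matrix.of_apply]
          rw [if_neg (lt_irrefl q), if_true, mul_comm]
      · simp
      · rw [Finset.disjoint_left]
        intro p hp hp'
        simp only [Finset.mem_insert, Finset.mem_Iio] at hp
        rw [Finset.mem_Ioi] at hp'
        rcases hp with rfl | hp
        · exact lt_irrefl _ hp'
        · exact lt_asymm hp hp'
    rw [h1]
    have h2 := congrFun (ha q) i
    simp only [Finset.sum_apply, Pi.smul_apply, Pi.sub_apply, Matrix.col_apply, smul_eq_mul] at h2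
    rw [h2]
    ring
  rw [hM', Matrix.det_mul, Matrix.det_of_isUpperTriangular hU, mul_comm]
  congr 1
  refine Finset.prod_congr rfl fun q _ => ?_
  simp only [U, Matrix.of_apply]
  rw [if_neg (lt_irrefl q), if_true]

/-- Leibniz rule for the columns of `hcol`. -/
theorem hcol_smul_succ {k K : Type*} [Field k] [Field K] [Algebra k K] {ι : Type*}
    (τ : K →ₐ[k] K) (H : K →ₐ[k] PowerSeries K) (φ : ι → K) (y : K) (j : ℕ) :
    hcol τ H (y • φ) (j + 1) =
      ∑ x ∈ Finset.HasAntidiagonal.antidiagonal j, LocRes.hasseD H x.1 y • hcol τ H φ (x.2 + 1) := by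
  funext i
  change LocRes.hasseD H j (y * φ i) = _
  rw [Finset.sum_apply]
  simp only [LocRes.hasseD_apply, map_mul, PowerSeries.coeff_mul, Pi.smul_apply, smul_eq_mul]
  rfl

theorem hcol_smul_zero {k K : Type*} [Field k] [Field K] [Algebra k K] {ι : Type*}
    (τ : K →ₐ[k] K) (H : K →ₐ[k] PowerSeries K) (φ : ι → K) (y : K) :
    hcol τ H (y • φ) 0 = τ y • hcol τ H φ 0 := by
  funext i
  change τ (y * φ i) = τ y * τ (φ i)
  rw [map_mul]

/-- The triangularity relation between the columns of `y • φ` and of `φ`. -/
theorem hcol_smul_sub_mem {k K : Type*} [Field k] [Field K] [Algebra k K] {ι : Type*}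
    (τ : K →ₐ[k] K) (s : K) (H : K →ₐ[k] PowerSeries K) (hH : LocRes.IsHasseFamily s H)
    (φ : ι → K) (y : K) (j : ℕ) :
    hcol τ H (y • φ) j - (Nat.casesOn (motive := fun _ => K) j (τ y) (fun _ => y)) • hcol τ H φ j ∈
      Submodule.span K (hcol τ H φ '' Set.Iio j) := by
  classical
  cases j with
  | zero =>
    rw [hcol_smul_zero]
    simp
  | succ j =>
    rw [hcol_smul_succ]
    have hmem : ((0, j) : ℕ × ℕ) ∈ Finset.HasAntidiagonal.antidiagonal j := by simp
    rw [← Finset.add_sum_erase _ _ hmem]
    have h0 : LocRes.hasseD H 0 y = y := by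
      rw [LocRes.hasseD_apply, PowerSeries.coeff_zero_eq_constantCoeff_apply]
      exact hH.2 y
    simp only [h0, add_sub_cancel_left]
    refine Submodule.sum_mem _ fun x hx => ?_
    rw [Finset.mem_erase, Finset.HasAntidiagonal.mem_antidiagonal] at hx
    refine Submodule.smul_mem _ _ (Submodule.subset_span ⟨x.2 + 1, ?_, rfl⟩)
    rw [Set.mem_Iio]
    have hx1 : x.1 ≠ 0 := by
      intro h0'
      apply hx.1
      ext
      · exact h0'
      · simp only; omega
    omega

end Groth.Agent.H57
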