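import Groth.Agent.H57.HasseIter

set_option autoImplicit false

namespace Groth.Agent.H57

open FunFld Groth.Agent.FF PowerSeries

universe u v
variable {k : Type u} {K : Type v} [Field k] [Field K] [Algebra k K]

/-- Coefficients of a substituted power series as a finite sum. -/
theorem coeff_subst_eq_sum {A : Type*} [CommRing A] (g : A⟦X⟧) (hg : constantCoeff g = 0)
    (f : A⟦X⟧) (j : ℕ) :
    coeff j (f.subst g) = ∑ d ∈ Finset.range (j + 1), coeff d f * coeff j (g ^ d) := by
  have hsub : HasSubst g := HasSubst.of_constantCoeff_zero' hg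
  rw [coeff_subst' hsub]
  rw [finsum_eq_sum_of_support_subset]
  · refine Finset.sum_congr rfl fun d _ => ?_
    rw [smul_eq_mul]
  · intro d hd
    rw [Function.mem_support] at hd
    rw [Finset.coe_range, Set.mem_Iio]
    by_contra hlt
    push Not at hlt
    apply hd
    have h1 : coeff j (g ^ d) = 0 := by
      apply coeff_of_lt_order
      refine lt_of_lt_of_le ?_ (le_order_pow_of_constantCoeff_eq_zero d hg)
      exact_mod_cast hlt
    rw [h1, smul_zero]

theorem coeff_pow_self_of_constantCoeff_eq_zero {A : Type*} [CommRing A] (g : A⟦X⟧)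
    (hg : constantCoeff g = 0) (j : ℕ) : coeff j (g ^ j) = (coeff 1 g) ^ j := by
  have h1 := eq_X_mul_shift_add_const g
  rw [hg, map_zero, add_zero] at h1
  set g₁ : A⟦X⟧ := mk fun p => coeff (p + 1) g with hg₁
  rw [h1, mul_pow]
  have h2 := coeff_X_pow_mul (g₁ ^ j) j 0
  rw [zero_add] at h2
  rw [h2, coeff_zero_eq_constantCoeff_apply, map_pow]
  congr 1
  rw [← coeff_zero_eq_constantCoeff_apply, hg₁, coeff_mk, coeff_succ_X_mul, coeff_mk]

/-- The total Hasse derivative w.r.t. `t` is obtained from the one w.r.t. `s` by substituting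
`T ↦ H_t(s) - s`. -/
theorem hasse_change_var (hK : IsFunctionField k K) (s : K) (Hs : K →ₐ[k] PowerSeries K)
    (hHs : LocRes.IsHasseFamily s Hs) (t : K) (Ht : K →ₐ[k] PowerSeries K)
    (hHt : LocRes.IsHasseFamily t Ht) (y : K) :
    Ht y = (Hs y).subst (Ht s - C s) := by
  set g : PowerSeries K := Ht s - C s with hg
  have hg0 : constantCoeff g = 0 := by
    rw [hg, map_sub, hHt.2, constantCoeff_C, sub_self]
  have hsub : HasSubst g := HasSubst.of_constantCoeff_zero' hg0
  let σ : PowerSeries K →ₐ[k] PowerSeries K :=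
    (substAlgHom (R := K) hsub).restrictScalars k
  have hσ : ∀ f, σ f = f.subst g := by
    intro f
    change substAlgHom (R := K) hsub f = _
    rw [coe_substAlgHom]
  let Φ₂ : K →ₐ[k] PowerSeries K := σ.comp Hs
  have hΦ₂ : ∀ z, Φ₂ z = (Hs z).subst g := fun z => hσ (Hs z)
  have hs := transcendental_of_isHasseFamily hK s Hs hHs
  have hε : ∀ z, constantCoeff (Ht z) = constantCoeff (Φ₂ z) := by
    intro z
    rw [hΦ₂, hHt.2, ← coeff_zero_eq_constantCoeff_apply, coeff_subst_eq_sum g hg0]
    simp only [zero_add, Finset.range_one, Finset.sum_singleton, pow_zero, coeff_zero_eq_constantCoeff,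
      map_one, mul_one]
    exact (hHs.2 z).symm
  have hs12 : Ht s = Φ₂ s := by
    rw [hΦ₂, hHs.1, subst_add hsub, subst_X hsub]
    have : (C s : PowerSeries K).subst g = C s := by
      rw [subst_C]
      rfl
    rw [this, hg]
    ring
  have heq := algHom_eq_of_transcendental hK Ht Φ₂ (constantCoeff (R := K)) hε hs hs12
  rw [heq, hΦ₂]

theorem hasseD_change_var (hK : IsFunctionField k K) (s : K) (Hs : K →ₐ[k] PowerSeries K)
    (hHs : LocRes.IsHasseFamily s Hs) (t : K) (Ht : K →ₐ[k] PowerSeries K)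
    (hHt : LocRes.IsHasseFamily t Ht) (y : K) (j : ℕ) :
    LocRes.hasseD Ht j y = ∑ d ∈ Finset.range (j + 1),
      LocRes.hasseD Hs d y * coeff j ((Ht s - C s) ^ d) := by
  have hg0 : constantCoeff (Ht s - C s) = 0 := by
    rw [map_sub, hHt.2, constantCoeff_C, sub_self]
  rw [LocRes.hasseD_apply, hasse_change_var hK s Hs hHs t Ht hHt y, coeff_subst_eq_sum _ hg0]
  rfl

theorem hasseD_one_self (t : K) (Ht : K →ₐ[k] PowerSeries K) (hHt : LocRes.IsHasseFamily t Ht) :
    LocRes.hasseD Ht 1 t = 1 := by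
  rw [LocRes.hasseD_apply, hHt.1, map_add, coeff_C, coeff_one_X]
  simp

/-- `ds/dt · dt/ds = 1`. -/
theorem hasseD_one_mul_hasseD_one (hK : IsFunctionField k K) (s : K) (Hs : K →ₐ[k] PowerSeries K)
    (hHs : LocRes.IsHasseFamily s Hs) (t : K) (Ht : K →ₐ[k] PowerSeries K)
    (hHt : LocRes.IsHasseFamily t Ht) :
    LocRes.hasseD Hs 1 t * LocRes.hasseD Ht 1 s = 1 := by
  have h1 := hasseD_change_var hK s Hs hHs t Ht hHt t 1
  rw [hasseD_one_self t Ht hHt] at h1
  have hg0 : constantCoeff (Ht s - C s) = 0 := by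
    rw [map_sub, hHt.2, constantCoeff_C, sub_self]
  rw [Finset.sum_range_succ, Finset.sum_range_one, pow_zero, pow_one, coeff_one,
    if_neg (by omega), mul_zero, zero_add] at h1
  rw [h1]
  congr 1
  rw [map_sub, coeff_C, if_neg (by omega), sub_zero]
  rfl

end Groth.Agent.H57
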