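import Groth.Agent.H57.MapDiv
import Mathlib.FieldTheory.Relrank

set_option autoImplicit false

namespace Groth.Agent.H57

open FunFld Groth.Agent.FF WithZero IntermediateField

universe u v
variable {k : Type u} {K : Type v} [Field k] [Field K] [Algebra k K]

/-- Degree of `K` over `k(τ x)` for an endomorphism `τ`. -/
theorem finrank_adjoin_tau (τ : K →ₐ[k] K) (x : K) :
    Module.finrank (adjoin k ({τ x} : Set K)) K =
      Module.finrank (adjoin k ({x} : Set K)) K * Module.finrank τ.fieldRange K := by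
  have h1 := IntermediateField.relfinrank_map_map (adjoin k ({x} : Set K)) (⊤ : IntermediateField k K) τ
  rw [IntermediateField.relfinrank_top_right, IntermediateField.adjoin_map, Set.image_singleton,
    ← AlgHom.fieldRange_eq_map] at h1
  have hle : adjoin k ({τ x} : Set K) ≤ τ.fieldRange := by
    rw [IntermediateField.adjoin_le_iff]
    rintro _ rfl
    exact ⟨x, rfl⟩
  rw [← IntermediateField.relfinrank_mul_finrank_top hle, h1]

/-- The divisor of a single function. -/
theorem mapDiv_unique_deg (hK : IsFunctionField k K) (φ : Fin 1 → K) :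
    (mapDiv k φ).deg = 0 := by
  have : mapDiv k φ = -FunFld.div k (φ 0) := by
    ext P
    rw [mapDiv_apply hK, Finsupp.neg_apply, div_apply hK]
    congr 1
  rw [this, deg_neg, deg_div_eq_zero hK, neg_zero]

section
variable [IsAlgClosed k]

theorem deg_mapDiv_tau (hK : IsFunctionField k K) (τ : K →ₐ[k] K) {n : ℕ}
    (φ : Fin (n + 1) → K) (hφ : LinearIndependent k φ) :
    (mapDiv k (τ ∘ φ)).deg = Module.finrank τ.fieldRange K * (mapDiv k φ).deg := by
  classical
  have : Infinite k := IsAlgClosed.instInfinite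
  rcases Nat.eq_zero_or_pos n with hn | hn
  · subst hn
    rw [mapDiv_unique_deg hK, mapDiv_unique_deg hK, mul_zero]
  have hφ0 : ∀ i, φ i ≠ 0 := fun i => hφ.ne_zero i
  have hτφ0 : ∀ i, (τ ∘ φ) i ≠ 0 := fun i => by
    rw [Function.comp_apply, Ne, map_eq_zero]; exact hφ0 i
  set D := mapDiv k φ with hD
  set D' := mapDiv k (τ ∘ φ) with hD'
  set W := Submodule.span k (Set.range φ) with hW
  have hWL : W ≤ L D := span_le_L_mapDiv hK φ
  set g := φ 0 with hg
  have hg0 : g ≠ 0 := hφ0 0
  have hτg0 : τ g ≠ 0 := hτφ0 0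
  set E : Divisor k K := FunFld.div k g + D with hE
  set E' : Divisor k K := FunFld.div k (τ g) + D' with hE'
  have hE0 : 0 ≤ E := by
    have := (mem_L_iff_div hK D hg0).1 (mem_L_mapDiv hK φ 0)
    rwa [add_comm] at this
  have hE0' : 0 ≤ E' := by
    have := (mem_L_iff_div hK D' hτg0).1 (mem_L_mapDiv hK (τ ∘ φ) 0)
    rwa [add_comm] at this
  have hdegE : E.deg = D.deg := by rw [hE, deg_add, deg_div_eq_zero hK, zero_add]
  have hdegE' : E'.deg = D'.deg := by rw [hE', deg_add, deg_div_eq_zero hK, zero_add]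
  -- E is not zero
  have hi1 : (⟨1, by omega⟩ : Fin (n + 1)) ≠ 0 := by
    intro h
    have := congrArg Fin.val h
    simp at this
  set i₁ : Fin (n + 1) := ⟨1, by omega⟩ with hi₁
  have htr : Transcendental k (φ i₁ / g) := by
    intro halg
    obtain ⟨a, ha⟩ := hK.2 _ halg
    have h1 : φ i₁ = a • φ 0 := by
      rw [Algebra.smul_def, ha, ← hg]; field_simp
    have hnot : φ i₁ ∉ Submodule.span k (φ '' {0}) := hφ.notMem_span_image (by simpa using hi1)
    rw [Set.image_singleton, Submodule.mem_span_singleton] at hnot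
    exact hnot ⟨a, h1.symm⟩
  obtain ⟨Q₁, hQ₁⟩ := exists_pole_of_transcendental hK htr
  have hEQ₁ : E Q₁ ≠ 0 := by
    rw [ord_div Q₁ (hφ0 i₁) hg0] at hQ₁
    have := neg_mapDiv_le_ord hK φ Q₁ i₁
    rw [hE, Finsupp.add_apply, div_apply hK]
    change -(D Q₁) ≤ _ at this
    omega
  -- the generic element
  set S : Set (Place k K ⊕ Place k K) :=
    Sum.inl '' {Q | E Q ≠ 0} ∪ Sum.inr '' {Q | E' Q ≠ 0} with hS
  have hSfin : S.Finite := by
    apply Set.Finite.union
    · apply Set.Finite.image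
      have : {Q | E Q ≠ 0} = (E.support : Set (Place k K)) := by ext Q; simp
      rw [this]; exact Finset.finite_toSet _
    · apply Set.Finite.image
      have : {Q | E' Q ≠ 0} = (E'.support : Set (Place k K)) := by ext Q; simp
      rw [this]; exact Finset.finite_toSet _
  obtain ⟨f, hfW, hfgen⟩ := exists_mem_forall_not_mem W S hSfin
    (Sum.elim (fun Q => L (D - Finsupp.single Q 1))
      (fun Q => Submodule.comap τ.toLinearMap (L (D' - Finsupp.single Q 1)))) (by
      rintro (Q | Q) _
      · obtain ⟨i, hi⟩ := exists_ord_eq_neg_mapDiv hK φ Q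
        exact exists_mem_span_not_mem_L hK φ Q ⟨i, hφ0 i, hi⟩
      · obtain ⟨i, hi⟩ := exists_ord_eq_neg_mapDiv hK (τ ∘ φ) Q
        refine ⟨φ i, Submodule.subset_span ⟨i, rfl⟩, fun hmem => ?_⟩
        have := hmem Q
        change Q.1 ((τ ∘ φ) i) ≤ _ at this
        rw [val_le_exp_iff Q (hτφ0 i), Finsupp.sub_apply, Finsupp.single_eq_same] at this
        change _ = -(D' Q) at hi
        omega)
  have hf0 : f ≠ 0 := by
    rintro rfl
    exact hfgen (Sum.inl Q₁) (Or.inl ⟨Q₁, hEQ₁, rfl⟩) (Submodule.zero_mem _)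
  have hτf0 : τ f ≠ 0 := by rw [Ne, map_eq_zero]; exact hf0
  have hτfW : τ f ∈ L D' := by
    have : τ f ∈ Submodule.span k (Set.range (τ ∘ φ)) := by
      have h1 : Submodule.span k (Set.range (τ ∘ φ)) = W.map τ.toLinearMap := by
        rw [hW, Submodule.map_span, Set.range_comp]
        rfl
      rw [h1]
      exact ⟨f, hfW, rfl⟩
    exact span_le_L_mapDiv hK (τ ∘ φ) this
  have hx : poleDiv k (f / g) = E := by
    have := poleDiv_div_eq hK (D := D) (D' := D) (B := 0) le_rfl (by rw [sub_zero]) hg0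
      hE0 (hWL hfW) hf0 (fun Q hQ => hfgen (Sum.inl Q) (Or.inl ⟨Q, hQ, rfl⟩))
    rw [this, sub_zero]
  have hx' : poleDiv k (τ f / τ g) = E' := by
    have := poleDiv_div_eq hK (D := D') (D' := D') (B := 0) le_rfl (by rw [sub_zero]) hτg0
      hE0' hτfW hτf0 (fun Q hQ => hfgen (Sum.inr Q) (Or.inr ⟨Q, hQ, rfl⟩))
    rw [this, sub_zero]
  have hxtr : Transcendental k (f / g) := by
    intro halg
    obtain ⟨c, hc⟩ := hK.2 _ halg
    rw [← hc, poleDiv_algebraMap hK] at hx
    apply hEQ₁
    rw [← hx, Finsupp.zero_apply]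
  have hxtr' : Transcendental k (τ (f / g)) := by
    intro halg
    obtain ⟨c, hc⟩ := hK.2 _ halg
    apply hxtr
    have : f / g = algebraMap k K c := by
      apply τ.injective
      have h3 : τ (algebraMap k K c) = algebraMap k K c := AlgHom.commutes τ c
      exact hc.symm.trans h3.symm
    rw [this]
    exact isAlgebraic_algebraMap c
  have h1 := deg_poleDiv_eq hK hxtr
  have h2 := deg_poleDiv_eq hK hxtr'
  rw [map_div₀, hx', hdegE'] at h2
  rw [hx, hdegE] at h1
  rw [h2, h1, ← map_div₀, finrank_adjoin_tau]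
  push_cast
  ring

end

end Groth.Agent.H57
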