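import Groth.Agent.H57.DiffFinite
import Groth.Agent.H57.WDivAt
import Groth.Agent.H57.MapDiv

set_option autoImplicit false

namespace Groth.Agent.H57

open FunFld Groth.Agent.FF WithZero

universe u v
variable {k : Type u} {K : Type v} [Field k] [Field K] [Algebra k K]

section MapDiv
variable {ι : Type*} [Fintype ι] [Nonempty ι]

/-- Monotonicity of the divisor of a tuple in the spanned linear system. -/
theorem mapDiv_le_of_mem_span (hK : IsFunctionField k K) (φ ψ : ι → K) (hψ0 : ∀ i, ψ i ≠ 0)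
    (hψ : ∀ i, ψ i ∈ Submodule.span k (Set.range φ)) (P : Place k K) :
    mapDiv k ψ P ≤ mapDiv k φ P := by
  obtain ⟨i, hi⟩ := exists_ord_eq_neg_mapDiv hK ψ P
  have hmem := span_le_L_mapDiv hK φ (hψ i) P
  rw [val_le_exp_iff P (hψ0 i)] at hmem
  omega

/-- Multiplying a tuple without zero entries by a nonzero function subtracts its divisor. -/
theorem mapDiv_mul_apply (hK : IsFunctionField k K) (ψ : ι → K) (hψ0 : ∀ i, ψ i ≠ 0) (y : K)
    (hy : y ≠ 0) (P : Place k K) :
    mapDiv k (fun i => y * ψ i) P = mapDiv k ψ P - P.ord y := by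
  apply le_antisymm
  · obtain ⟨i, hi⟩ := exists_ord_eq_neg_mapDiv hK (fun i => y * ψ i) P
    have h1 := neg_mapDiv_le_ord hK ψ P i
    change P.ord (y * ψ i) = _ at hi
    rw [ord_mul P hy (hψ0 i)] at hi
    omega
  · obtain ⟨i, hi⟩ := exists_ord_eq_neg_mapDiv hK ψ P
    have h1 := neg_mapDiv_le_ord hK (fun i => y * ψ i) P i
    change _ ≤ P.ord (y * ψ i) at h1
    rw [ord_mul P hy (hψ0 i)] at h1
    omega

end MapDiv

/-- The divisor of `y · Aφ` for `φ` linearly independent and `A` invertible over the constants. -/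
theorem mapDiv_equiv_apply (hK : IsFunctionField k K) {n : ℕ} (φ : Fin (n + 1) → K)
    (hφ : LinearIndependent k φ) (A : Matrix (Fin (n + 1)) (Fin (n + 1)) k) (hA : A.det ≠ 0)
    (y : K) (hy : y ≠ 0) (φ' : Fin (n + 1) → K) (hφ' : ∀ i, φ' i = y * ∑ j, A i j • φ j)
    (P : Place k K) :
    mapDiv k φ' P = mapDiv k φ P - P.ord y := by
  classical
  set ψ : Fin (n + 1) → K := fun i => ∑ j, A i j • φ j with hψ
  have hAu : IsUnit A := (Matrix.isUnit_iff_isUnit_det A).2 (isUnit_iff_ne_zero.2 hA)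
  have hψmem : ∀ i, ψ i ∈ Submodule.span k (Set.range φ) := fun i =>
    Submodule.sum_mem _ fun j _ => Submodule.smul_mem _ _ (Submodule.subset_span ⟨j, rfl⟩)
  have hinv : ∀ j, φ j = ∑ i, A⁻¹ j i • ψ i := by
    intro j
    simp only [hψ, Finset.smul_sum, smul_smul]
    rw [Finset.sum_comm]
    have : ∀ l, ∑ i, (A⁻¹ j i * A i l) • φ l = ((A⁻¹ * A) j l) • φ l := by
      intro l
      rw [Matrix.mul_apply, Finset.sum_smul]
    simp only [this]
    rw [Matrix.nonsing_inv_mul A ((Matrix.isUnit_iff_isUnit_det A).1 hAu)]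
    simp [Matrix.one_apply]
  have hφmem : ∀ j, φ j ∈ Submodule.span k (Set.range ψ) := fun j => by
    rw [hinv j]
    exact Submodule.sum_mem _ fun i _ => Submodule.smul_mem _ _ (Submodule.subset_span ⟨i, rfl⟩)
  have hφ0 : ∀ j, φ j ≠ 0 := fun j => hφ.ne_zero j
  have hψ0 : ∀ i, ψ i ≠ 0 := by
    intro i h0
    have hli := Fintype.linearIndependent_iff.1 hφ (fun j => A i j) h0
    have : A.det = 0 := Matrix.det_eq_zero_of_row_eq_zero i hli
    exact hA this
  have h1 : mapDiv k ψ P = mapDiv k φ P :=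
    le_antisymm (mapDiv_le_of_mem_span hK φ ψ hψ0 hψmem P)
      (mapDiv_le_of_mem_span hK ψ φ hφ0 hφmem P)
  have h2 : φ' = fun i => y * ψ i := funext hφ'
  rw [h2, mapDiv_mul_apply hK ψ hψ0 y hy P, h1]

section
variable [IsAlgClosed k]

/-- The coefficient of `[ds]` at a place, for a separating variable `s`. -/
theorem divDiff_one_apply (hK : IsFunctionField k K) (s : K) (Hs : K →ₐ[k] PowerSeries K)
    (hHs : LocRes.IsHasseFamily s Hs) (Φ : Place k K → (K →ₐ[k] LaurentSeries k))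
    (hΦ : ∀ P : Place k K, LocRes.IsExpansionAt P.1 (Φ P)) (P : Place k K) :
    divDiff Φ 1 s P = LocRes.ordDiff (Φ P) 1 s := by
  unfold divDiff
  rw [dif_pos (finite_support_ordDiff hK s Hs hHs Φ hΦ)]
  rfl

omit [IsAlgClosed k] in
/-- The derivative of the expansion of a separating variable does not vanish. -/
theorem D_expansion_ne_zero (hK : IsFunctionField k K) (s : K) (Hs : K →ₐ[k] PowerSeries K)
    (hHs : LocRes.IsHasseFamily s Hs) (P : Place k K) (φ : K →ₐ[k] LaurentSeries k)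
    (hφ : LocRes.IsExpansionAt P.1 φ) : LocRes.D k (φ s) ≠ 0 := by
  obtain ⟨t, ht⟩ := hφ.2.2
  have h1 := vDiff_one_uniformizer P.1 φ hφ t ht
  rw [D_expansion_eq' hK φ s Hs hHs t] at h1
  intro h0
  rw [h0, mul_zero, map_zero] at h1
  exact zero_ne_one h1

omit [IsAlgClosed k] in
/-- Change of separating variable in the order of the differential. -/
theorem ordDiff_change (hK : IsFunctionField k K) (s : K) (Hs : K →ₐ[k] PowerSeries K)
    (hHs : LocRes.IsHasseFamily s Hs) (t : K) (ht : LocRes.hasseD Hs 1 t ≠ 0) (P : Place k K)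
    (φ : K →ₐ[k] LaurentSeries k) (hφ : LocRes.IsExpansionAt P.1 φ) :
    LocRes.ordDiff φ 1 t = LocRes.ordDiff φ 1 s + P.ord (LocRes.hasseD Hs 1 t) := by
  unfold LocRes.ordDiff LocRes.vDiff Place.ord
  rw [map_one, one_mul, one_mul, D_expansion_eq' hK φ s Hs hHs t, map_mul, hφ.1,
    log_mul ((P.1.ne_zero_iff).2 ht)
      ((Valuation.ne_zero_iff _).2 (D_expansion_ne_zero hK s Hs hHs P φ hφ))]
  ring

end

end Groth.Agent.H57
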