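import Groth.Agent.H57.ResWeil
import Groth.Agent.H57.WDivInvar
import Groth.Agent.S10992

/-!
# The divisor of `ds` for a separating variable is canonical
-/

set_option autoImplicit false

namespace Groth.Agent.H57

open FunFld Groth.Agent.FF WithZero

universe u v
variable {k : Type u} {K : Type v} [Field k] [Field K] [Algebra k K]

/-- The divisor of the differential of a separating variable, read through expansions over the
constant field, is canonical. -/
theorem isCanonical_divDiff (hK : IsFunctionField k K) (s : K) (Hs : K →ₐ[k] PowerSeries K)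
    (hHs : LocRes.IsHasseFamily s Hs) (Φ : Place k K → (K →ₐ[k] LaurentSeries k))
    (hΦ : ∀ P : Place k K, LocRes.IsExpansionAt P.1 (Φ P)) :
    IsCanonical k K (divDiff Φ 1 s) := by
  have hD : ∀ P : Place k K, LocRes.D k (Φ P s) ≠ 0 :=
    fun P => D_expansion_ne_zero hK s Hs hHs P (Φ P) (hΦ P)
  have hT : ∀ _P : Place k K, ∃ β : k, Algebra.trace k k β ≠ 0 := fun _ =>
    ⟨1, by rw [Algebra.trace_self_apply]; exact one_ne_zero⟩
  refine ⟨ResW.resW hK (fun _ => k) Φ hΦ 1 s,
    ResW.resW_ne_zero hK (fun _ => k) Φ hΦ 1 s one_ne_zero hD hT, ?_⟩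
  have hdiv := ResW.resW_divisor hK (fun _ => k) Φ hΦ 1 s one_ne_zero hD hT
  refine hdiv.2 _ (fun P => ?_)
  unfold divDiff
  rw [dif_pos hdiv.1]
  rfl

/-- The degree of the divisor of `ds` is `2g - 2`. -/
theorem deg_divDiff (hK : IsFunctionField k K) (s : K) (Hs : K →ₐ[k] PowerSeries K)
    (hHs : LocRes.IsHasseFamily s Hs) (Φ : Place k K → (K →ₐ[k] LaurentSeries k))
    (hΦ : ∀ P : Place k K, LocRes.IsExpansionAt P.1 (Φ P)) :
    (divDiff Φ 1 s).deg = 2 * (genus k K : ℤ) - 2 :=
  ((Groth.Agent.S10992.result k K hK _).1 (isCanonical_divDiff hK s Hs hHs Φ hΦ)).2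

end Groth.Agent.H57
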