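import Groth.Agent.H57.WDivPos
import Groth.Agent.H57.CanonDs

/-!
# Nonnegativity of the Weierstrass divisor
-/

set_option autoImplicit false

namespace Groth.Agent.H57

open FunFld Groth.Agent.FF WithZero

universe u v
variable {k : Type u} {K : Type v} [Field k] [Field K] [Algebra k K]

/-- A matrix with integral entries outside one column, whose entries are bounded by `b`, has
determinant bounded by `b`. -/
theorem val_det_le {R : Type*} [CommRing R] (w : Valuation R ℤᵐ⁰) {m : ℕ}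
    (M : Matrix (Fin m) (Fin m) R) (c₀ : Fin m) (b : ℤᵐ⁰)
    (hM : ∀ i j, j ≠ c₀ → w (M i j) ≤ 1) (hc : ∀ i, w (M i c₀) ≤ b) : w M.det ≤ b := by
  classical
  rw [Matrix.det_apply]
  refine w.map_sum_le fun σ _ => ?_
  have hsign : w (Equiv.Perm.sign σ • ∏ i, M (σ i) i) = w (∏ i, M (σ i) i) := by
    rcases Int.units_eq_one_or (Equiv.Perm.sign σ) with h | h
    · rw [h, one_smul]
    · rw [h, Units.neg_smul, one_smul, Valuation.map_neg]
  rw [hsign, map_prod, ← Finset.mul_prod_erase _ _ (Finset.mem_univ c₀)]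
  calc w (M (σ c₀) c₀) * ∏ x ∈ Finset.univ.erase c₀, w (M (σ x) x)
      ≤ b * 1 := by
        refine mul_le_mul' (hc _) (Finset.prod_le_one' fun i hi => hM _ _ (Finset.ne_of_mem_erase hi))
    _ = b := mul_one _

section
variable [IsAlgClosed k]

/-- The coefficient at `P` of the Weierstrass divisor, computed with a local parameter at `P` and a
tuple normalized at `P`, is nonnegative. -/
theorem wDiv_apply_nonneg (hK : IsFunctionField k K) (P : Place k K) (τ : K →ₐ[k] K) {n : ℕ}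
    (φ : Fin (n + 1) → K) (hφ0 : ∀ i, φ i ≠ 0) (hnorm : ∀ i, P.1 (φ i) ≤ 1)
    (hunit : ∃ i, P.1 (φ i) = 1)
    (t : K) (ht : P.1 t = exp (-1 : ℤ)) (Ht : K →ₐ[k] PowerSeries K)
    (hHt : LocRes.IsHasseFamily t Ht) (J : Fin n → ℕ) (hdet : (wrMat τ Ht φ J).det ≠ 0)
    (Φ : Place k K → (K →ₐ[k] LaurentSeries k)) (hΦ : LocRes.IsExpansionAt P.1 (Φ P)) :
    0 ≤ wDiv τ Ht Φ t φ J P := by
  classical
  rw [wDiv_apply, div_apply hK, divDiff_one_apply_uniformizer Φ P hΦ t ht,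
    mapDiv_apply_eq_zero φ P hnorm hunit, mul_zero, mul_zero, add_zero, add_zero]
  obtain ⟨i₁, hi₁⟩ := exists_ord_eq_neg_mapDiv hK (τ ∘ φ) P
  have hτ0 : ∀ i, τ (φ i) ≠ 0 := fun i h0 => hφ0 i ((map_eq_zero τ).1 h0)
  have hle : P.1 (wrMat τ Ht φ J).det ≤ P.1 (τ (φ i₁)) := by
    refine val_det_le P.1 _ 0 _ ?_ ?_
    · intro i j hj
      obtain ⟨l, rfl⟩ := Fin.exists_succ_eq.2 hj
      change P.1 (LocRes.hasseD Ht (J l) (φ i)) ≤ 1
      exact val_hasseD_le_one hK P t ht Ht hHt _ (hnorm i) _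
    · intro i
      change P.1 (τ (φ i)) ≤ P.1 (τ (φ i₁))
      rw [val_eq_exp_neg_ord P (hτ0 i₁), val_le_exp_iff P (hτ0 i), neg_neg]
      change P.ord ((τ ∘ φ) i₁) ≤ P.ord ((τ ∘ φ) i)
      rw [hi₁]
      exact neg_mapDiv_le_ord hK (τ ∘ φ) P i
  rw [val_eq_exp_neg_ord P (hτ0 i₁), val_le_exp_iff P hdet, neg_neg] at hle
  change P.ord ((τ ∘ φ) i₁) ≤ _ at hle
  rw [hi₁] at hle
  omega

end

end Groth.Agent.H57
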