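import Groth.Prelude.Def_W4bk4goldsch45p2
import Mathlib.LinearAlgebra.Matrix.NonsingularInverse
import Mathlib.LinearAlgebra.Matrix.ToLin
import Mathlib.LinearAlgebra.Span.Basic
import Mathlib.LinearAlgebra.Dimension.StrongRankCondition
import Mathlib.Order.Interval.Finset.Fin

set_option autoImplicit false

namespace Groth.Agent.H57

open FunFld

/-- Jumps are preserved by injective linear maps. -/
theorem isJump_comp_iff {R M M' : Type*} [Ring R] [AddCommGroup M] [AddCommGroup M'] [Module R M]
    [Module R M'] (T : M →ₗ[R] M') (hT : Function.Injective T) (c : ℕ → M) (j : ℕ) :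
    IsJump R (fun m => T (c m)) j ↔ IsJump R c j := by
  unfold IsJump
  have h1 : (fun m => T (c m)) '' Set.Iio j = T '' (c '' Set.Iio j) := by
    rw [Set.image_image]
  rw [h1, ← Submodule.map_span, not_iff_not]
  constructor
  · rintro ⟨y, hy, hyj⟩
    rwa [← hT hyj]
  · intro h
    exact ⟨c j, h, rfl⟩

theorem isOrders_congr_of_isJump {R M M' : Type*} [Semiring R] [AddCommMonoid M] [AddCommMonoid M']
    [Module R M] [Module R M'] (c : ℕ → M) (c' : ℕ → M')
    (h : ∀ j, IsJump R c' j ↔ IsJump R c j) {n : ℕ} (J : Fin n → ℕ) :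
    IsOrders R c' J ↔ IsOrders R c J := by
  unfold IsOrders
  simp only [h]

/-- `hasseD H j` is additive and `k`-homogeneous. -/
theorem hasseD_sum_smul {k K : Type*} [Field k] [Field K] [Algebra k K]
    (H : K →ₐ[k] PowerSeries K) (m : ℕ) {ι : Type*} (s : Finset ι) (a : ι → k) (f : ι → K) :
    LocRes.hasseD H m (∑ j ∈ s, a j • f j) = ∑ j ∈ s, a j • LocRes.hasseD H m (f j) := by
  simp only [LocRes.hasseD_apply, map_sum, map_smul]
  refine Finset.sum_congr rfl fun j _ => ?_
  exact (PowerSeries.coeff (R := K) m).map_smul_of_tower (a j) (H (f j))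

/-- The columns of `hcol` of `A φ` are `A` applied to the columns of `hcol` of `φ`. -/
theorem hcol_matrix_smul {k K : Type*} [Field k] [Field K] [Algebra k K] {n : ℕ}
    (τ : K →ₐ[k] K) (H : K →ₐ[k] PowerSeries K) (φ φ' : Fin n → K)
    (A : Matrix (Fin n) (Fin n) k) (hφ' : ∀ i, φ' i = ∑ j, A i j • φ j) (m : ℕ) :
    hcol τ H φ' m = (A.map (algebraMap k K)).mulVecLin (hcol τ H φ m) := by
  funext i
  rw [Matrix.mulVecLin_apply, Matrix.mulVec, dotProduct]
  cases m with
  | zero =>
    change τ (φ' i) = ∑ j, (A.map (algebraMap k K)) i j * τ (φ j)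
    rw [hφ' i, map_sum]
    refine Finset.sum_congr rfl fun j _ => ?_
    rw [map_smul, Matrix.map_apply, Algebra.smul_def]
  | succ m =>
    change LocRes.hasseD H m (φ' i) = ∑ j, (A.map (algebraMap k K)) i j * LocRes.hasseD H m (φ j)
    rw [hφ' i, hasseD_sum_smul]
    refine Finset.sum_congr rfl fun j _ => ?_
    rw [Matrix.map_apply, Algebra.smul_def]

theorem wrMat_matrix_smul {k K : Type*} [Field k] [Field K] [Algebra k K] {n : ℕ}
    (τ : K →ₐ[k] K) (H : K →ₐ[k] PowerSeries K) (φ φ' : Fin (n + 1) → K)
    (A : Matrix (Fin (n + 1)) (Fin (n + 1)) k) (hφ' : ∀ i, φ' i = ∑ j, A i j • φ j)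
    (I : Fin n → ℕ) :
    wrMat τ H φ' I = A.map (algebraMap k K) * wrMat τ H φ I := by
  ext i c
  rw [Matrix.mul_apply]
  refine Fin.cases ?_ (fun l => ?_) c
  · change τ (φ' i) = ∑ j, (A.map (algebraMap k K)) i j * τ (φ j)
    rw [hφ' i, map_sum]
    refine Finset.sum_congr rfl fun j _ => ?_
    rw [map_smul, Matrix.map_apply, Algebra.smul_def]
  · change LocRes.hasseD H (I l) (φ' i) =
      ∑ j, (A.map (algebraMap k K)) i j * LocRes.hasseD H (I l) (φ j)
    rw [hφ' i, hasseD_sum_smul]
    refine Finset.sum_congr rfl fun j _ => ?_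
    rw [Matrix.map_apply, Algebra.smul_def]

/-- The span of the columns before `N` is spanned by the jump columns before `N`. -/
theorem span_Iio_eq_span_jumps {R M : Type*} [Ring R] [AddCommGroup M] [Module R M]
    (c : ℕ → M) (N : ℕ) :
    Submodule.span R (c '' Set.Iio N) =
      Submodule.span R (c '' {j | j < N ∧ IsJump R c j}) := by
  induction N with
  | zero => simp
  | succ N ih =>
    have h1 : Set.Iio (N + 1) = insert N (Set.Iio N) := by
      ext j; simp only [Set.mem_Iio, Set.mem_insert_iff]; omega
    rw [h1, Set.image_insert_eq, Submodule.span_insert, ih]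
    by_cases hN : IsJump R c N
    · have h2 : {j | j < N + 1 ∧ IsJump R c j} = insert N {j | j < N ∧ IsJump R c j} := by
        ext j
        simp only [Set.mem_ofPred_eq, Set.mem_insert_iff]
        constructor
        · rintro ⟨hj, hjj⟩
          rcases Nat.lt_succ_iff_lt_or_eq.1 hj with h | h
          · exact Or.inr ⟨h, hjj⟩
          · exact Or.inl h
        · rintro (rfl | ⟨hj, hjj⟩)
          · exact ⟨Nat.lt_succ_self _, hN⟩
          · exact ⟨Nat.lt_succ_of_lt hj, hjj⟩
      rw [h2, Set.image_insert_eq, Submodule.span_insert]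
    · have hmem : c N ∈ Submodule.span R (c '' Set.Iio N) := not_not.1 hN
      have h2 : {j | j < N + 1 ∧ IsJump R c j} = {j | j < N ∧ IsJump R c j} := by
        ext j
        simp only [Set.mem_ofPred_eq]
        constructor
        · rintro ⟨hj, hjj⟩
          rcases Nat.lt_succ_iff_lt_or_eq.1 hj with h | h
          · exact ⟨h, hjj⟩
          · subst h; exact absurd hjj hN
        · rintro ⟨hj, hjj⟩
          exact ⟨Nat.lt_succ_of_lt hj, hjj⟩
      rw [h2, sup_eq_right, Submodule.span_singleton_le_iff_mem, ← ih]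
      exact hmem

/-- If `n + 1` columns `c 0, c (J' 0 + 1), …` are linearly independent (with `J'` increasing), the
order sequence `J` is termwise at most `J'`. -/
theorem orders_le_of_linearIndependent {K V : Type*} [Field K] [AddCommGroup V] [Module K V]
    (c : ℕ → V) {n : ℕ} (J : Fin n → ℕ) (hJ : IsOrders K c J) (J' : Fin n → ℕ)
    (hJ' : StrictMono J')
    (hli : LinearIndependent K
      (fun i : Fin (n + 1) => Fin.cases (motive := fun _ => V) (c 0) (fun l => c (J' l + 1)) i)) :
    ∀ l, J l ≤ J' l := by
  classical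
  intro l
  by_contra hlt
  push Not at hlt
  obtain ⟨hJmono, hJrange⟩ := hJ
  -- the finite set of possible jumps below `J' l + 2`
  let T : Finset ℕ := insert 0 ((Finset.Iio l).image (fun m => J m + 1))
  have hTcard : T.card ≤ (l : ℕ) + 1 := by
    calc T.card ≤ ((Finset.Iio l).image (fun m => J m + 1)).card + 1 := Finset.card_insert_le _ _
      _ ≤ (Finset.Iio l).card + 1 := by gcongr; exact Finset.card_image_le
      _ = (l : ℕ) + 1 := by rw [Fin.card_Iio]
  have hsub : {j | j < J' l + 2 ∧ IsJump K c j} ⊆ (T : Set ℕ) := by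
    intro j hj
    obtain ⟨hjlt, hjj⟩ := hj
    simp only [T, Finset.coe_insert, Finset.coe_image, Finset.coe_Iio, Set.mem_insert_iff,
      Set.mem_image, Set.mem_Iio]
    rcases Nat.eq_zero_or_pos j with h0 | hpos
    · exact Or.inl h0
    · right
      obtain ⟨j', rfl⟩ : ∃ j', j = j' + 1 := ⟨j - 1, by omega⟩
      obtain ⟨m, hm⟩ := (hJrange j').2 hjj
      refine ⟨m, ?_, by rw [hm]⟩
      by_contra hml
      push Not at hml
      have : J l ≤ J m := hJmono.monotone hml
      omega
  -- the restricted independent family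
  have hl2 : (l : ℕ) + 2 ≤ n + 1 := by have := l.2; omega
  let e : Fin ((l : ℕ) + 2) → Fin (n + 1) := Fin.castLE hl2
  have he : Function.Injective e := Fin.castLE_injective hl2
  have hli' := hli.comp e he
  have hrange : Set.range ((fun i : Fin (n + 1) =>
      Fin.cases (motive := fun _ => V) (c 0) (fun l => c (J' l + 1)) i) ∘ e) ≤
      Submodule.span K ((T.image c : Finset V) : Set V) := by
    rintro _ ⟨i, rfl⟩
    have hmem : ((fun i : Fin (n + 1) =>
        Fin.cases (motive := fun _ => V) (c 0) (fun l => c (J' l + 1)) i) ∘ e) i ∈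
        Submodule.span K (c '' Set.Iio (J' l + 2)) := by
      apply Submodule.subset_span
      simp only [Function.comp_apply]
      induction h : e i using Fin.cases with
      | zero => exact ⟨0, by simp, rfl⟩
      | succ m =>
        refine ⟨J' m + 1, ?_, rfl⟩
        have hm : (m : ℕ) + 1 = (i : ℕ) := by
          have := congrArg Fin.val h
          simp only [e, Fin.val_castLE, Fin.val_succ] at this
          omega
        have hml : m ≤ l := by
          rw [Fin.le_def]
          have := i.2
          omega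
        have := hJ'.monotone hml
        simp only [Set.mem_Iio]
        omega
    rw [span_Iio_eq_span_jumps] at hmem
    refine Submodule.span_mono ?_ hmem
    rw [Finset.coe_image]
    exact Set.image_mono hsub
  have hcard := linearIndependent_le_span_aux' _ hli' _ hrange
  have hcard' : Fintype.card ((T.image c : Finset V) : Set V) = (T.image c).card := by
    simp
  rw [hcard', Fintype.card_fin] at hcard
  have := Finset.card_image_le (s := T) (f := c)
  omega

/-- The columns of the Wronskian matrix are the corresponding columns of `hcol`. -/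
theorem wrMat_col {k K : Type*} [Field k] [Field K] [Algebra k K] {n : ℕ}
    (τ : K →ₐ[k] K) (H : K →ₐ[k] PowerSeries K) (φ : Fin (n + 1) → K) (I : Fin n → ℕ)
    (c : Fin (n + 1)) :
    (wrMat τ H φ I).col c =
      Fin.cases (motive := fun _ => Fin (n + 1) → K) (hcol τ H φ 0)
        (fun l => hcol τ H φ (I l + 1)) c := by
  funext i
  refine Fin.cases ?_ (fun l => ?_) c
  · rfl
  · rfl

theorem linearIndependent_hcol_of_det_wrMat_ne_zero {k K : Type*} [Field k] [Field K]
    [Algebra k K] {n : ℕ}
    (τ : K →ₐ[k] K) (H : K →ₐ[k] PowerSeries K) (φ : Fin (n + 1) → K) (I : Fin n → ℕ)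
    (hdet : (wrMat τ H φ I).det ≠ 0) :
    LinearIndependent K (fun c : Fin (n + 1) =>
      Fin.cases (motive := fun _ => Fin (n + 1) → K) (hcol τ H φ 0)
        (fun l => hcol τ H φ (I l + 1)) c) := by
  have h1 : LinearIndependent K (wrMat τ H φ I).col :=
    Matrix.linearIndependent_cols_iff_isUnit.2
      ((Matrix.isUnit_iff_isUnit_det _).2 (isUnit_iff_ne_zero.2 hdet))
  have h2 : (wrMat τ H φ I).col = fun c : Fin (n + 1) =>
      Fin.cases (motive := fun _ => Fin (n + 1) → K) (hcol τ H φ 0)
        (fun l => hcol τ H φ (I l + 1)) c := funext (wrMat_col τ H φ I)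
  rwa [h2] at h1

end Groth.Agent.H57
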