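import Groth.Agent.H57.Expansion

set_option autoImplicit false

namespace Groth.Agent.H57

open FunFld Groth.Agent.FF WithZero

universe u v
variable {k : Type u} {K : Type v} [Field k] [Field K] [Algebra k K]

/-- Functions with strictly decreasing valuations at a place are linearly independent over the
constants. -/
theorem linearIndependent_of_strictAnti_val (P : Place k K) {m : ℕ} (f : Fin m → K)
    (hval : StrictAnti fun i => P.1 (f i)) (hne : ∀ i, f i ≠ 0) : LinearIndependent k f := by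
  classical
  rw [Fintype.linearIndependent_iff]
  intro b hb
  by_contra hcon
  push Not at hcon
  obtain ⟨i₁, hi₁⟩ := hcon
  set S := Finset.univ.filter (fun i => b i ≠ 0) with hS
  have hSne : S.Nonempty := ⟨i₁, by rw [hS, Finset.mem_filter]; exact ⟨Finset.mem_univ _, hi₁⟩⟩
  set i₀ := S.min' hSne with hi₀
  have hi₀S : i₀ ∈ S := Finset.min'_mem S hSne
  have hb0 : b i₀ ≠ 0 := by
    rw [hS, Finset.mem_filter] at hi₀S
    exact hi₀S.2
  have hlt : ∀ i, i < i₀ → b i = 0 := by
    intro i hi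
    by_contra h
    have : i ∈ S := by rw [hS, Finset.mem_filter]; exact ⟨Finset.mem_univ _, h⟩
    exact absurd (Finset.min'_le S i this) (not_le.2 hi)
  have hsplit := Finset.add_sum_erase Finset.univ (fun i => b i • f i) (Finset.mem_univ i₀)
  rw [hb] at hsplit
  have h1 : b i₀ • f i₀ = -∑ i ∈ Finset.univ.erase i₀, b i • f i := eq_neg_of_add_eq_zero_left hsplit
  have h2 : P.1 (∑ i ∈ Finset.univ.erase i₀, b i • f i) < P.1 (f i₀) := by
    apply Valuation.map_sum_lt
    · rw [P.1.ne_zero_iff]; exact hne i₀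
    · intro i hi
      rw [Finset.mem_erase] at hi
      rcases lt_or_gt_of_ne hi.1 with h | h
      · rw [hlt i h, zero_smul, map_zero, zero_lt_iff, P.1.ne_zero_iff]
        exact hne i₀
      · exact (val_smul_le P (b i) (f i)).trans_lt (hval h)
  have h3 : P.1 (b i₀ • f i₀) = P.1 (f i₀) := val_smul P hb0 _
  rw [h1, Valuation.map_neg] at h3
  exact absurd h3 (ne_of_lt h2)

section Dot
variable {ι : Type*} [Fintype ι]

/-- The dot product functional. -/
noncomputable def dotL {κ : Type*} [Field κ] (β : ι → κ) : (ι → κ) →ₗ[κ] κ where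
  toFun w := ∑ i, β i * w i
  map_add' w w' := by
    simp only [Pi.add_apply, mul_add, Finset.sum_add_distrib]
  map_smul' c w := by
    simp only [Pi.smul_apply, smul_eq_mul, RingHom.id_apply, Finset.mul_sum]
    refine Finset.sum_congr rfl fun i _ => ?_
    ring

theorem dotL_apply {κ : Type*} [Field κ] (β w : ι → κ) : dotL β w = ∑ i, β i * w i := rfl

end Dot

section
variable [IsAlgClosed k] (hK : IsFunctionField k K) (P : Place k K)
variable (t : K) (ht : P.1 t = exp (-1 : ℤ))
include hK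

omit [IsAlgClosed k] hK in
theorem val_eq_exp_neg_iff_le_not_le (x : K) (j : ℕ) :
    P.1 x = exp (-(j : ℤ)) ↔ P.1 x ≤ exp (-(j : ℤ)) ∧ ¬ P.1 x ≤ exp (-((j + 1 : ℕ) : ℤ)) := by
  constructor
  · intro h
    refine ⟨h.le, ?_⟩
    rw [h, exp_le_exp]
    push_cast
    omega
  · rintro ⟨h1, h2⟩
    have hx : x ≠ 0 := by
      rintro rfl
      rw [map_zero] at h2
      exact h2 zero_le
    rw [val_le_exp_iff P hx] at h1 h2
    rw [val_eq_exp_neg_ord P hx]
    congr 1
    push_cast at h2
    omega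

/-- `x` has order exactly `j` iff its first `j` expansion coefficients vanish and the `j`-th does
not. -/
theorem val_eq_exp_neg_iff (j : ℕ) (x : P.O) :
    P.1 (x : K) = exp (-(j : ℤ)) ↔
      (∀ i, i < j → ecoeff hK P t ht i x = 0) ∧ ecoeff hK P t ht j x ≠ 0 := by
  rw [val_eq_exp_neg_iff_le_not_le, val_le_exp_neg_iff hK P t ht, val_le_exp_neg_iff hK P t ht]
  constructor
  · rintro ⟨h1, h2⟩
    refine ⟨h1, fun h => h2 fun i hi => ?_⟩
    rcases Nat.lt_succ_iff_lt_or_eq.1 hi with h3 | h3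
    · exact h1 i h3
    · rw [h3]; exact h
  · rintro ⟨h1, h2⟩
    exact ⟨h1, fun h => h2 (h j (Nat.lt_succ_self j))⟩

omit hK in
theorem evalP_eq_algebraMap_rho (hK : IsFunctionField k K) (w : K) (hw : P.1 w ≤ 1) :
    evalP P w = algebraMap k (IsLocalRing.ResidueField P.O)
      (rho hK P ⟨w, (Valuation.mem_valuationSubring_iff _ _).2 hw⟩) := by
  rw [algebraMap_rho]
  unfold evalP
  rw [dif_pos hw]

include ht in
/-- A function of order exactly `j` can be scaled by a constant to have leading coefficient `1` with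
respect to the local parameter `t`. -/
theorem exists_normalize (f : K) (j : ℕ) (hf : P.1 f = exp (-(j : ℤ))) :
    ∃ a : k, a ≠ 0 ∧ evalP P ((a • f) / t ^ j) = 1 := by
  have ht0 := ne_zero_of_val_eq_exp P ht
  have hz : P.1 (f / t ^ j) = 1 := by
    rw [map_div₀, map_pow, ht, hf, ← exp_nsmul, nsmul_eq_mul, mul_neg, mul_one]
    exact div_self exp_ne_zero
  have hzmem : f / t ^ j ∈ P.O := (Valuation.mem_valuationSubring_iff _ _).2 hz.le
  have hρ : rho hK P ⟨f / t ^ j, hzmem⟩ ≠ 0 := by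
    intro h
    rw [rho_eq_zero_iff] at h
    exact absurd hz (ne_of_lt h)
  refine ⟨(rho hK P ⟨f / t ^ j, hzmem⟩)⁻¹, inv_ne_zero hρ, ?_⟩
  have hle : P.1 (((rho hK P ⟨f / t ^ j, hzmem⟩)⁻¹ • f) / t ^ j) ≤ 1 := by
    rw [smul_div_assoc]
    exact (val_smul_le P _ _).trans hz.le
  rw [evalP_eq_algebraMap_rho P hK _ hle]
  have : (⟨((rho hK P ⟨f / t ^ j, hzmem⟩)⁻¹ • f) / t ^ j,
      (Valuation.mem_valuationSubring_iff _ _).2 hle⟩ : P.O) =
      algebraMap k P.O (rho hK P ⟨f / t ^ j, hzmem⟩)⁻¹ * ⟨f / t ^ j, hzmem⟩ := by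
    apply Subtype.ext
    change ((rho hK P ⟨f / t ^ j, hzmem⟩)⁻¹ • f) / t ^ j = algebraMap k K _ * (f / t ^ j)
    rw [smul_div_assoc, Algebra.smul_def]
  rw [this, map_mul, rho_algebraMap, inv_mul_cancel₀ hρ, map_one]

variable {ι : Type*} [Fintype ι] (φ : ι → K) (hnorm : ∀ i, P.1 (φ i) ≤ 1)

include hnorm

omit [IsAlgClosed k] hK [Fintype ι] in
theorem mem_O_of_norm (i : ι) : φ i ∈ P.O := (Valuation.mem_valuationSubring_iff _ _).2 (hnorm i)

/-- The `k`-linear combination of the `φ i` as an element of the valuation ring. -/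
noncomputable def comb (b : ι → k) : P.O :=
  ∑ i, algebraMap k P.O (b i) * ⟨φ i, mem_O_of_norm P φ hnorm i⟩

omit [IsAlgClosed k] hK in
theorem coe_comb (b : ι → k) : ((comb P φ hnorm b : P.O) : K) = ∑ i, b i • φ i := by
  unfold comb
  push_cast
  refine Finset.sum_congr rfl fun i _ => ?_
  rw [Algebra.smul_def]
  rfl

theorem ecoeff_comb (b : ι → k) (m : ℕ) :
    ecoeff hK P t ht m (comb P φ hnorm b) =
      ∑ i, b i * ecoeff hK P t ht m ⟨φ i, mem_O_of_norm P φ hnorm i⟩ := by
  unfold comb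
  rw [← coeff_expandO, map_sum, map_sum]
  refine Finset.sum_congr rfl fun i _ => ?_
  rw [coeff_expandO, ecoeff_algebraMap_mul]

variable (Ht : K →ₐ[k] PowerSeries K) (hHt : LocRes.IsHasseFamily t Ht)
include hHt ht

omit [IsAlgClosed k] hK [Fintype ι] ht hnorm in
theorem hcolAt_zero_eq_one : hcolAt P Ht φ 0 = hcolAt P Ht φ 1 := by
  funext i
  change evalP P (φ i) = evalP P (LocRes.hasseD Ht 0 (φ i))
  rw [hasseD_zero_apply t Ht hHt]

omit [Fintype ι] in
theorem hcolAt_succ (m : ℕ) (i : ι) :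
    hcolAt P Ht φ (m + 1) i = algebraMap k (IsLocalRing.ResidueField P.O)
      (ecoeff hK P t ht m ⟨φ i, mem_O_of_norm P φ hnorm i⟩) := by
  change evalP P (LocRes.hasseD Ht m (φ i)) = _
  exact evalP_hasseD hK P t ht Ht hHt (φ i) (hnorm i) m

theorem dotL_hcolAt_succ (b : ι → k) (m : ℕ) :
    dotL (fun i => algebraMap k (IsLocalRing.ResidueField P.O) (b i)) (hcolAt P Ht φ (m + 1)) =
      algebraMap k (IsLocalRing.ResidueField P.O) (ecoeff hK P t ht m (comb P φ hnorm b)) := by
  rw [dotL_apply, ecoeff_comb, map_sum]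
  refine Finset.sum_congr rfl fun i _ => ?_
  rw [hcolAt_succ hK P t ht φ hnorm Ht hHt, map_mul]

/-- Column `j + 1` of the matrix of values at `P` is a jump iff some function in the span of `φ` has
order exactly `j` at `P` (`j ≥ 1`). -/
theorem isJump_hcolAt_succ_iff (j : ℕ) (hj : 1 ≤ j) :
    IsJump (IsLocalRing.ResidueField P.O) (hcolAt P Ht φ) (j + 1) ↔
      ∃ f ∈ Submodule.span k (Set.range φ), P.1 f = exp (-(j : ℤ)) := by
  classical
  have hbij := bijective_algebraMap_residueField hK P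
  constructor
  · intro hjump
    obtain ⟨ℓ, hℓ1, hℓ2⟩ := Submodule.exists_dual_map_eq_bot_of_notMem hjump inferInstance
    have hℓ0 : ∀ m, m < j + 1 → ℓ (hcolAt P Ht φ m) = 0 := by
      intro m hm
      have : ℓ (hcolAt P Ht φ m) ∈ Submodule.map ℓ
          (Submodule.span (IsLocalRing.ResidueField P.O) (hcolAt P Ht φ '' Set.Iio (j + 1))) :=
        Submodule.mem_map_of_mem (Submodule.subset_span ⟨m, hm, rfl⟩)
      rw [hℓ2] at this
      exact (Submodule.mem_bot _).1 this
    choose b hb using fun i => hbij.2 (ℓ (Pi.single i 1))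
    have hℓ : ∀ w, ℓ w = dotL (fun i => algebraMap k (IsLocalRing.ResidueField P.O) (b i)) w := by
      intro w
      rw [LinearMap.pi_apply_eq_sum_univ ℓ w, dotL_apply]
      refine Finset.sum_congr rfl fun i _ => ?_
      rw [hb i, smul_eq_mul, mul_comm]
      congr 2
      funext i'
      rw [Pi.single_apply]
      simp only [eq_comm]
    refine ⟨_, ?_, ((val_eq_exp_neg_iff hK P t ht j (comb P φ hnorm b)).2 ⟨?_, ?_⟩)⟩
    · rw [coe_comb]
      exact Submodule.sum_mem _ fun i _ => Submodule.smul_mem _ _ (Submodule.subset_span ⟨i, rfl⟩)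
    · intro m hm
      apply hbij.1
      rw [map_zero, ← dotL_hcolAt_succ hK P t ht φ hnorm Ht hHt, ← hℓ]
      exact hℓ0 (m + 1) (by omega)
    · intro h
      apply hℓ1
      rw [hℓ, dotL_hcolAt_succ hK P t ht φ hnorm Ht hHt, h, map_zero]
  · rintro ⟨f, hf, hfv⟩
    obtain ⟨b, rfl⟩ := (Submodule.mem_span_range_iff_exists_fun k).1 hf
    rw [← coe_comb P φ hnorm b, val_eq_exp_neg_iff hK P t ht] at hfv
    obtain ⟨h1, h2⟩ := hfv
    intro hmem
    set ℓ := dotL (fun i => algebraMap k (IsLocalRing.ResidueField P.O) (b i)) with hℓ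
    have hker : Submodule.span (IsLocalRing.ResidueField P.O) (hcolAt P Ht φ '' Set.Iio (j + 1)) ≤
        LinearMap.ker ℓ := by
      rw [Submodule.span_le]
      rintro _ ⟨m, hm, rfl⟩
      rw [SetLike.mem_coe, LinearMap.mem_ker]
      rcases m with _ | m
      · rw [hcolAt_zero_eq_one P t φ Ht hHt, hℓ, dotL_hcolAt_succ hK P t ht φ hnorm Ht hHt,
          h1 0 (by omega), map_zero]
      · rw [hℓ, dotL_hcolAt_succ hK P t ht φ hnorm Ht hHt, h1 m (by
          rw [Set.mem_Iio] at hm; omega), map_zero]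
    have h3 := hker hmem
    rw [LinearMap.mem_ker, hℓ, dotL_hcolAt_succ hK P t ht φ hnorm Ht hHt] at h3
    exact h2 (hbij.1 (by rw [h3, map_zero]))

end

end Groth.Agent.H57
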