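import Groth.Agent.H57.Classical
import Groth.Agent.H57.ExpandAt
import Groth.Agent.H57.CanonOrders
import Groth.Agent.S12597
import Groth.Agent.S12598
import Groth.Agent.S12603
import Groth.Agent.S12605
import Groth.Agent.S12607
import Groth.Agent.S12608
import Groth.Agent.S12609
import Groth.Agent.S12614
import Groth.Agent.S12615

/-!
# Weierstrass points of the canonical map: local analysis

Classical orders under the characteristic hypothesis (no birationality needed), and the
coefficient of the Weierstrass divisor of the canonical map at a place in terms of the gap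
sequence there.
-/

set_option autoImplicit false

namespace Groth.Agent.H57

open FunFld Groth.Agent.FF WithZero

universe u v
variable {k : Type u} {K : Type v} [Field k] [Field K] [Algebra k K]

section
variable [IsAlgClosed k]

/-- Under the characteristic hypothesis, every projective map is classical. -/
theorem isOrders_classical (hK : IsFunctionField k K) {n : ℕ} (φ : Fin (n + 1) → K)
    (hφ : LinearIndependent k φ)
    (hchar : ringChar k = 0 ∨ (mapDiv k φ).deg < ringChar k)
    (s : K) (H : K →ₐ[k] PowerSeries K) (hH : LocRes.IsHasseFamily s H) :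
    IsOrders K (hcol (AlgHom.id k K) H φ) (fun l : Fin n => (l : ℕ) + 1) := by
  classical
  have hφ0 : ∀ i, φ i ≠ 0 := fun i => hφ.ne_zero i
  set N : ℕ := ((mapDiv k φ).deg).toNat with hNdef
  have hN : ringChar k = 0 ∨ N < ringChar k := by
    rcases hchar with h | h
    · exact Or.inl h
    · by_cases h0 : ringChar k = 0
      · exact Or.inl h0
      · right
        omega
  obtain ⟨P⟩ := exists_place hK
  obtain ⟨t, ht⟩ := P.2.2 (WithZero.exp (-1 : ℤ))
  obtain ⟨Ht, hHt⟩ := exists_local_hasse' hK s H hH P t ht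
  obtain ⟨i₀, hi₀⟩ := Finite.exists_max (fun i => P.1 (φ i))
  set y : K := (φ i₀)⁻¹ with hy
  have hy0 : y ≠ 0 := inv_ne_zero (hφ0 i₀)
  set φ' : Fin (n + 1) → K := y • φ with hφ'def
  have hφ'li : LinearIndependent k φ' := by
    have hker : LinearMap.ker (LinearMap.mulLeft k y) = ⊥ := by
      rw [LinearMap.ker_eq_bot]
      intro a b hab
      exact mul_left_cancel₀ hy0 hab
    exact hφ.map' (LinearMap.mulLeft k y) hker
  have hnorm : ∀ i, P.1 (φ' i) ≤ 1 := by
    intro i
    change P.1 (y * φ i) ≤ 1
    rw [hy, map_mul, map_inv₀, inv_mul_le_iff₀ (zero_lt_iff.2 ((P.1.ne_zero_iff).2 (hφ0 i₀))),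
      mul_one]
    exact hi₀ i
  have hone : φ' i₀ = 1 := by
    change y * φ i₀ = 1
    rw [hy, inv_mul_cancel₀ (hφ0 i₀)]
  have heff : (1 : K) ∈ Submodule.span k (Set.range φ') :=
    Submodule.subset_span ⟨i₀, hone⟩
  have hunit : P.1 (φ' i₀) = 1 := by rw [hone, map_one]
  obtain ⟨J', hJ'⟩ := exists_isOrders_hcolAt hK P φ' hφ'li hnorm i₀ hunit t ht Ht hHt
  have h607 := (Groth.Agent.S12607.result k K hK P φ' hφ'li heff hnorm t ht Ht hHt J' hJ').2
  have hpos : ∀ l, 0 < J' l := by
    intro l
    by_contra h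
    have h0 : J' l = 0 := by omega
    have hj := (hJ'.2 0).1 ⟨l, h0⟩
    apply hj
    rw [zero_add, ← hcolAt_zero_eq_one P t φ' Ht hHt]
    exact Submodule.subset_span ⟨0, by simp, rfl⟩
  have hmapP : mapDiv k φ' P = 0 := mapDiv_apply_eq_zero φ' P hnorm ⟨i₀, hunit⟩
  have hbound : ∀ l, J' l ≤ N := by
    intro l
    obtain ⟨f, hf, hfv⟩ := (h607 (J' l)).1 (Or.inr ⟨l, rfl⟩)
    have hf0 : f ≠ 0 := by
      rintro rfl
      rw [map_zero] at hfv
      exact WithZero.exp_ne_zero hfv.symm
    have hord : P.ord f = J' l := by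
      unfold FunFld.Place.ord
      rw [hfv, WithZero.log_exp, neg_neg]
    have h1 := ord_le_deg_mapDiv hK φ' P hmapP f hf hf0
    rw [hord, hφ'def, deg_mapDiv_smul hK φ hφ0 y hy0] at h1
    omega
  have hinj : Function.Injective fun l => (J' l : k) := by
    intro a b hab
    exact hJ'.1.injective (natCast_inj_of_le hN (hbound a) (hbound b) hab)
  have hv0 : ∀ i, (J' i : k) ≠ 0 := by
    intro i h0
    have : J' i = 0 := natCast_inj_of_le hN (hbound i) (Nat.zero_le N) (by rw [h0, Nat.cast_zero])
    have := hpos i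
    omega
  have hI : StrictMono (fun l : Fin n => (l : ℕ) + 1) := fun a b hab => by
    change (a : ℕ) + 1 < (b : ℕ) + 1
    have : (a : ℕ) < b := hab
    omega
  have hdetbin : (binomMat k J' (fun l : Fin n => (l : ℕ) + 1)).det ≠ 0 :=
    det_choose_succ_ne_zero J' hinj hv0
  have h605 := (Groth.Agent.S12605.result k K hK (AlgHom.id k K) P (fun z hz => hz) φ' hφ'li heff
    hnorm t ht Ht hHt J' hJ' (fun l : Fin n => (l : ℕ) + 1) hI).2
    (Or.inl fun l => Nat.succ_pos _)
  have hval := h605.2 hdetbin
  have hdet : (wrMat (AlgHom.id k K) Ht φ' (fun l : Fin n => (l : ℕ) + 1)).det ≠ 0 := by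
    intro h0
    rw [h0, map_zero] at hval
    exact WithZero.exp_ne_zero hval.symm
  have hfin : Module.finrank K (Fin (n + 1) → K) = n + 1 := Module.finrank_fin_fun K
  have hres : IsOrders K (hcol (AlgHom.id k K) Ht φ') (fun l : Fin n => (l : ℕ) + 1) := by
    have hli := linearIndependent_hcol_of_det_wrMat_ne_zero (AlgHom.id k K) Ht φ' _ hdet
    refine isOrders_of_linearIndependent _ hfin _ hI hli ?_
    intro j hjr hjl
    obtain ⟨l, hl⟩ := hjl
    have hj0 : j = 0 := by
      by_contra hne
      apply hjr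
      refine ⟨⟨j - 1, ?_⟩, ?_⟩
      · have := l.2
        change j < (l : ℕ) + 1 at hl
        omega
      · change j - 1 + 1 = j
        omega
    subst hj0
    intro hjump
    apply hjump
    have h10 : hcol (AlgHom.id k K) Ht φ' (0 + 1) = hcol (AlgHom.id k K) Ht φ' 0 := by
      funext i
      change LocRes.hasseD Ht 0 (φ' i) = φ' i
      rw [LocRes.hasseD_apply, PowerSeries.coeff_zero_eq_constantCoeff_apply]
      exact hHt.2 _
    rw [h10]
    exact Submodule.subset_span ⟨0, by simp, rfl⟩
  have h1 := ((Groth.Agent.S12597.result k K hK φ hφ (AlgHom.id k K) t Ht hHt y hy0).1 _).1 hres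
  exact ((Groth.Agent.S12598.result k K hK φ hφ (AlgHom.id k K) s H hH t Ht hHt).1 _).1 h1

end

end Groth.Agent.H57
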