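import Groth.Agent.H57.AutFin1

/-!
# Weierstrass points of the canonical map: the divisor
-/

set_option autoImplicit false

namespace Groth.Agent.H57

open FunFld Groth.Agent.FF WithZero

universe u v
variable {k : Type u} {K : Type v} [Field k] [Field K] [Algebra k K]

/-- A strictly increasing sequence of naturals grows at least by one at each step. -/
theorem strictMono_fin_add_le {n : ℕ} (J : Fin n → ℕ) (hJ : StrictMono J) (a b : Fin n)
    (hab : a ≤ b) : J a + ((b : ℕ) - (a : ℕ)) ≤ J b := by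
  obtain ⟨d, hd⟩ : ∃ d : ℕ, (b : ℕ) = (a : ℕ) + d := ⟨(b : ℕ) - a, by
    have : (a : ℕ) ≤ b := hab
    omega⟩
  induction d generalizing b with
  | zero =>
    have : b = a := Fin.ext (by omega)
    subst this
    simp
  | succ d ih =>
    have hlt : (a : ℕ) + d < n := by have := b.2; omega
    have h1 := ih ⟨(a : ℕ) + d, hlt⟩ (by change (a : ℕ) ≤ (a : ℕ) + d; omega) rfl
    have h2 : J ⟨(a : ℕ) + d, hlt⟩ < J b := hJ (by
      change (a : ℕ) + d < (b : ℕ)
      omega)
    simp only at h1
    omega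

/-- `2 · (1 + 2 + ⋯ + n) = n (n + 1)`. -/
theorem sum_fin_succ_mul_two (n : ℕ) :
    (∑ l : Fin n, (((l : ℕ) : ℤ) + 1)) * 2 = (n : ℤ) * (n + 1) := by
  induction n with
  | zero => simp
  | succ n ih =>
    rw [Fin.sum_univ_castSucc, add_mul]
    simp only [Fin.val_castSucc, Fin.val_last]
    rw [ih]
    push_cast
    ring

section
variable [IsAlgClosed k]

/-- The genus is the length of a basis of `L(C)`. -/
theorem genus_eq_of_canonical_basis (hK : IsFunctionField k K) {C : Divisor k K}
    (hC : IsCanonical k K C) {n : ℕ} (φ : Fin (n + 1) → K) (hφ : LinearIndependent k φ)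
    (hspan : Submodule.span k (Set.range φ) = L C) : genus k K = n + 1 := by
  rw [← ell_canonical hK hC]
  unfold FunFld.ell
  rw [← hspan, finrank_span_eq_card hφ, Fintype.card_fin]

/-- The divisor of the canonical map is the canonical divisor. -/
theorem mapDiv_canonical (hK : IsFunctionField k K) {C : Divisor k K}
    (hC : IsCanonical k K C) {n : ℕ} (φ : Fin (n + 1) → K) (hφ : LinearIndependent k φ)
    (hspan : Submodule.span k (Set.range φ) = L C) : mapDiv k φ = C := by
  classical
  have hg : genus k K ≠ 0 := by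
    rw [genus_eq_of_canonical_basis hK hC φ hφ hspan]; omega
  ext P
  apply le_antisymm
  · obtain ⟨i, hi⟩ := exists_ord_eq_neg_mapDiv hK φ P
    have hmem : φ i ∈ L C := by rw [← hspan]; exact Submodule.subset_span ⟨i, rfl⟩
    have := hmem P
    rw [val_le_exp_iff P (hφ.ne_zero i)] at this
    omega
  · obtain ⟨f, hf, hf0, hord⟩ := exists_ord_eq_neg_canonical hK hC hg P
    rw [← hspan] at hf
    have := span_le_L_mapDiv hK φ hf P
    rw [val_le_exp_iff P hf0] at this
    omega

/-- The degree of the Weierstrass divisor of the canonical map. -/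
theorem deg_wDiv_canonical (hK : IsFunctionField k K) {C : Divisor k K}
    (hC : IsCanonical k K C) {n : ℕ} (φ : Fin (n + 1) → K) (hφ : LinearIndependent k φ)
    (hspan : Submodule.span k (Set.range φ) = L C)
    (s : K) (H : K →ₐ[k] PowerSeries K) (hH : LocRes.IsHasseFamily s H)
    (hJ : IsOrders K (hcol (AlgHom.id k K) H φ) (fun l : Fin n => (l : ℕ) + 1))
    (Φ : Place k K → (K →ₐ[k] LaurentSeries k))
    (hΦ : ∀ P : Place k K, LocRes.IsExpansionAt P.1 (Φ P)) :
    0 ≤ wDiv (AlgHom.id k K) H Φ s φ (fun l : Fin n => (l : ℕ) + 1) ∧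
    (wDiv (AlgHom.id k K) H Φ s φ (fun l : Fin n => (l : ℕ) + 1)).deg =
      (n : ℤ) * (n + 1) * (n + 2) := by
  have h := Groth.Agent.S12603.result k K hK φ hφ (AlgHom.id k K) s H hH _ hJ Φ hΦ
  refine ⟨h.1, ?_⟩
  rw [h.2, mapDiv_canonical hK hC φ hφ hspan, deg_canonical hK hC,
    genus_eq_of_canonical_basis hK hC φ hφ hspan]
  have hfr : Module.finrank (AlgHom.id k K).fieldRange K = 1 := by
    have : (AlgHom.id k K).fieldRange = ⊤ := by
      rw [AlgHom.fieldRange_eq_top]
      exact Function.surjective_id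
    rw [this]
    exact IntermediateField.finrank_top
  rw [hfr]
  push_cast
  have hsum' : (∑ l : Fin n, (((l : ℕ) : ℤ) + 1)) * 2 = (n : ℤ) * (n + 1) :=
    sum_fin_succ_mul_two n
  have e : (2 * ((n : ℤ) + 1) - 2) * ∑ l : Fin n, (((l : ℕ) : ℤ) + 1) =
      (n : ℤ) * ((∑ l : Fin n, (((l : ℕ) : ℤ) + 1)) * 2) := by ring
  rw [e, hsum']
  ring

end

end Groth.Agent.H57
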