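import Groth.Agent.H57.AutFin2

/-!
# Weierstrass points of the canonical map: the coefficient at a place
-/

set_option autoImplicit false

namespace Groth.Agent.H57

open FunFld Groth.Agent.FF WithZero

universe u v
variable {k : Type u} {K : Type v} [Field k] [Field K] [Algebra k K]

section
variable [IsAlgClosed k]

/-- Local structure of the Weierstrass divisor of the canonical map at a place `P`: its coefficient
is governed by the gap sequence at `P`, and is at most `(g - 1)²`. -/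
theorem canon_wDiv_local (hK : IsFunctionField k K) {C : Divisor k K}
    (hC : IsCanonical k K C) {n : ℕ} (φ : Fin (n + 1) → K) (hφ : LinearIndependent k φ)
    (hspan : Submodule.span k (Set.range φ) = L C)
    (hchar : ringChar k = 0 ∨ 2 * n < ringChar k)
    (s : K) (H : K →ₐ[k] PowerSeries K) (hH : LocRes.IsHasseFamily s H)
    (Φ : Place k K → (K →ₐ[k] LaurentSeries k))
    (hΦ : ∀ P : Place k K, LocRes.IsExpansionAt P.1 (Φ P)) (P : Place k K) :
    ∃ J' : Fin n → ℕ, StrictMono J' ∧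
      (∀ j : ℕ, j ∈ Set.range J' ↔ 1 ≤ j ∧
        L (Finsupp.single P ((j : ℤ) + 1) : Divisor k K) = L (Finsupp.single P (j : ℤ))) ∧
      (wDiv (AlgHom.id k K) H Φ s φ (fun l : Fin n => (l : ℕ) + 1) P = 0 ↔
        ∀ l, J' l = (l : ℕ) + 1) ∧
      wDiv (AlgHom.id k K) H Φ s φ (fun l : Fin n => (l : ℕ) + 1) P ≤ (n : ℤ) ^ 2 := by
  classical
  have hgen := genus_eq_of_canonical_basis hK hC φ hφ hspan
  have hmd := mapDiv_canonical hK hC φ hφ hspan
  have hdegC : (mapDiv k φ).deg = 2 * (n : ℤ) := by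
    rw [hmd, deg_canonical hK hC, hgen]; push_cast; ring
  have hchar' : ringChar k = 0 ∨ (mapDiv k φ).deg < ringChar k := by
    rcases hchar with h | h
    · exact Or.inl h
    · right; rw [hdegC]; exact_mod_cast h
  set J : Fin n → ℕ := fun l : Fin n => (l : ℕ) + 1 with hJdef
  have hJ : IsOrders K (hcol (AlgHom.id k K) H φ) J := isOrders_classical hK φ hφ hchar' s H hH
  have hφ0 : ∀ i, φ i ≠ 0 := fun i => hφ.ne_zero i
  obtain ⟨t, ht⟩ := P.2.2 (WithZero.exp (-1 : ℤ))
  obtain ⟨Ht, hHt⟩ := exists_local_hasse' hK s H hH P t ht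
  obtain ⟨i₀, hi₀⟩ := Finite.exists_max (fun i => P.1 (φ i))
  set y : K := (φ i₀)⁻¹ with hy
  have hy0 : y ≠ 0 := inv_ne_zero (hφ0 i₀)
  set φ' : Fin (n + 1) → K := y • φ with hφ'def
  have hφ'A : ∀ i, φ' i = y * ∑ j, (1 : Matrix (Fin (n + 1)) (Fin (n + 1)) k) i j • φ j := by
    intro i
    simp [Matrix.one_apply, hφ'def]
  have hinv := Groth.Agent.S12614.result k K hK φ hφ (AlgHom.id k K) s H hH t Ht hHt J hJ 1
    (by rw [Matrix.det_one]; exact one_ne_zero) y hy0 φ' hφ'A Φ hΦ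
  rw [← hinv]
  have hφ'li : LinearIndependent k φ' := by
    have hker : LinearMap.ker (LinearMap.mulLeft k y) = ⊥ := by
      rw [LinearMap.ker_eq_bot]
      intro a b hab
      exact mul_left_cancel₀ hy0 hab
    exact hφ.map' (LinearMap.mulLeft k y) hker
  have hnorm : ∀ i, P.1 (φ' i) ≤ 1 := by
    intro i
    change P.1 (y * φ i) ≤ 1
    rw [hy, map_mul, map_inv₀, inv_mul_le_iff₀ (zero_lt_iff.2 ((P.1.ne_zero_iff).2 (hφ0 i₀))),
      mul_one]
    exact hi₀ i
  have hone : φ' i₀ = 1 := by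
    change y * φ i₀ = 1
    rw [hy, inv_mul_cancel₀ (hφ0 i₀)]
  have heff : (1 : K) ∈ Submodule.span k (Set.range φ') :=
    Submodule.subset_span ⟨i₀, hone⟩
  have hunit : P.1 (φ' i₀) = 1 := by rw [hone, map_one]
  have hJt : IsOrders K (hcol (AlgHom.id k K) Ht φ) J :=
    ((Groth.Agent.S12598.result k K hK φ hφ (AlgHom.id k K) s H hH t Ht hHt).1 J).2 hJ
  have hJt' : IsOrders K (hcol (AlgHom.id k K) Ht φ') J :=
    ((Groth.Agent.S12597.result k K hK φ hφ (AlgHom.id k K) t Ht hHt y hy0).1 J).2 hJt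
  obtain ⟨J', hJ'⟩ := exists_isOrders_hcolAt hK P φ' hφ'li hnorm i₀ hunit t ht Ht hHt
  have h607 := (Groth.Agent.S12607.result k K hK P φ' hφ'li heff hnorm t ht Ht hHt J' hJ').2
  have hpos : ∀ l, 0 < J' l := by
    intro l
    by_contra h
    have h0 : J' l = 0 := by omega
    have hj := (hJ'.2 0).1 ⟨l, h0⟩
    apply hj
    rw [zero_add, ← hcolAt_zero_eq_one P t φ' Ht hHt]
    exact Submodule.subset_span ⟨0, by simp, rfl⟩
  have hmapP : mapDiv k φ' P = 0 := mapDiv_apply_eq_zero φ' P hnorm ⟨i₀, hunit⟩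
  have hbound : ∀ l, J' l ≤ 2 * n := by
    intro l
    obtain ⟨f, hf, hfv⟩ := (h607 (J' l)).1 (Or.inr ⟨l, rfl⟩)
    have hf0 : f ≠ 0 := by
      rintro rfl
      rw [map_zero] at hfv
      exact WithZero.exp_ne_zero hfv.symm
    have hord : P.ord f = J' l := by
      unfold FunFld.Place.ord
      rw [hfv, WithZero.log_exp, neg_neg]
    have h1 := ord_le_deg_mapDiv hK φ' P hmapP f hf hf0
    rw [hord, hφ'def, deg_mapDiv_smul hK φ hφ0 y hy0, hdegC] at h1
    omega
  have hN : ringChar k = 0 ∨ 2 * n < ringChar k := hchar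
  have hinj : Function.Injective fun l => (J' l : k) := by
    intro a b hab
    exact hJ'.1.injective (natCast_inj_of_le hN (hbound a) (hbound b) hab)
  have hv0 : ∀ i, (J' i : k) ≠ 0 := by
    intro i h0
    have : J' i = 0 :=
      natCast_inj_of_le hN (hbound i) (Nat.zero_le (2 * n)) (by rw [h0, Nat.cast_zero])
    have := hpos i
    omega
  have hdetbin : (binomMat k J' J).det ≠ 0 := det_choose_succ_ne_zero J' hinj hv0
  have h608 := (Groth.Agent.S12608.result k K hK P φ' hφ'li heff hnorm t ht Ht hHt J hJt' J' hJ'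
    Φ hΦ).2.2
  have h615 := ((Groth.Agent.S12615.result k K hK (AlgHom.id k K) P (fun z hz => hz) φ' hφ'li heff
    hnorm t ht Ht hHt J hJt' J' hJ' Φ hΦ).2 (Or.inl rfl)).2 hdetbin
  refine ⟨J', hJ'.1, ?_, ?_, ?_⟩
  · -- the range of `J'` and the gaps
    intro j
    constructor
    · rintro ⟨l, rfl⟩
      have hj1 : 1 ≤ J' l := hpos l
      refine ⟨hj1, ?_⟩
      have hjump := (hJ'.2 (J' l)).1 ⟨l, rfl⟩
      exact (Groth.Agent.S12609.result k K hK C hC φ hφ hspan P y hy0 heff hnorm t ht Ht hHt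
        (J' l) hj1).1 hjump
    · rintro ⟨hj1, hL⟩
      apply (hJ'.2 j).2
      exact (Groth.Agent.S12609.result k K hK C hC φ hφ hspan P y hy0 heff hnorm t ht Ht hHt
        j hj1).2 hL
  · -- vanishing of the coefficient
    rw [← h608]
  · -- the bound
    rw [h615]
    have hterm : ∀ l : Fin n, (J' l : ℤ) - J l ≤ (n : ℤ) := by
      intro l
      have hn0 : 0 < n := by have := l.2; omega
      have hlast := strictMono_fin_add_le J' hJ'.1 l ⟨n - 1, by omega⟩ (by
        change (l : ℕ) ≤ n - 1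
        have := l.2
        omega)
      have hb := hbound ⟨n - 1, by omega⟩
      simp only at hlast
      have hl := l.2
      change ((J' l : ℕ) : ℤ) - (((l : ℕ) + 1 : ℕ) : ℤ) ≤ n
      push_cast
      omega
    calc ∑ l, ((J' l : ℤ) - J l) ≤ ∑ _l : Fin n, (n : ℤ) := Finset.sum_le_sum fun l _ => hterm l
      _ = (n : ℤ) ^ 2 := by simp [sq]

end

end Groth.Agent.H57
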