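import Groth.Agent.H57.AutFin3
import Groth.Agent.FunFld.AutFix

/-!
# Weierstrass points of the canonical map: invariance under automorphisms and counting
-/

set_option autoImplicit false

namespace Groth.Agent.H57

open FunFld Groth.Agent.FF WithZero

universe u v
variable {k : Type u} {K : Type v} [Field k] [Field K] [Algebra k K]

theorem twist_injective (σ : K ≃ₐ[k] K) :
    Function.Injective (fun P : Place k K => twist P σ) := by
  intro P Q h
  have h' := congrArg (fun R => twist R σ.symm) h
  simp only [twist_twist_symm] at h'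
  exact h'

theorem twist_mul (P : Place k K) (σ ρ : K ≃ₐ[k] K) :
    twist (twist P σ) ρ = twist P (σ * ρ) := by
  apply Subtype.ext
  ext x
  rfl

theorem twist_one (P : Place k K) : twist P (1 : K ≃ₐ[k] K) = P := by
  apply Subtype.ext
  ext x
  rfl

theorem twist_eq_iff (P Q : Place k K) (σ : K ≃ₐ[k] K) :
    twist Q σ = twist P σ ↔ Q = P :=
  (twist_injective σ).eq_iff

/-- `f ∈ L(m · P^σ)` iff `σ f ∈ L(m · P)`. -/
theorem mem_L_single_twist (P : Place k K) (σ : K ≃ₐ[k] K) (m : ℤ) (f : K) :
    f ∈ L (Finsupp.single (twist P σ) m : Divisor k K) ↔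
      σ f ∈ L (Finsupp.single P m : Divisor k K) := by
  classical
  have key : ∀ Q : Place k K, (Finsupp.single (twist P σ) m : Divisor k K) (twist Q σ) =
      (Finsupp.single P m : Divisor k K) Q := by
    intro Q
    rw [Finsupp.single_apply, Finsupp.single_apply]
    by_cases h : P = Q
    · rw [if_pos h, if_pos (by rw [h])]
    · rw [if_neg h, if_neg]
      intro h'
      exact h ((twist_injective σ) h')
  constructor
  · intro hf Q
    have := hf (twist Q σ)
    rw [key Q, twist_apply] at this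
    exact this
  · intro hf Q
    have h1 := hf (twist Q σ.symm)
    rw [twist_apply, σ.symm_apply_apply, ← key (twist Q σ.symm), twist_symm_twist] at h1
    exact h1

/-- The gap conditions at `P^σ` and at `P` agree. -/
theorem L_succ_eq_twist_iff (P : Place k K) (σ : K ≃ₐ[k] K) (j : ℤ) :
    L (Finsupp.single (twist P σ) (j + 1) : Divisor k K) = L (Finsupp.single (twist P σ) j) ↔
      L (Finsupp.single P (j + 1) : Divisor k K) = L (Finsupp.single P j) := by
  have aux : ∀ (P : Place k K) (σ : K ≃ₐ[k] K),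
      L (Finsupp.single P (j + 1) : Divisor k K) = L (Finsupp.single P j) →
      L (Finsupp.single (twist P σ) (j + 1) : Divisor k K) = L (Finsupp.single (twist P σ) j) := by
    intro P σ h
    apply le_antisymm
    · intro f hf
      rw [mem_L_single_twist] at hf ⊢
      rw [← h]
      exact hf
    · exact L_mono (single_le_single_of_le _ (by omega))
  constructor
  · intro h
    have := aux (twist P σ) σ.symm h
    rwa [twist_twist_symm] at this
  · exact aux P σ

section
variable [IsAlgClosed k]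

/-- The support of the Weierstrass divisor of the canonical map is stable under automorphisms. -/
theorem canon_wDiv_twist_eq_zero_iff (hK : IsFunctionField k K) {C : Divisor k K}
    (hC : IsCanonical k K C) {n : ℕ} (φ : Fin (n + 1) → K) (hφ : LinearIndependent k φ)
    (hspan : Submodule.span k (Set.range φ) = L C)
    (hchar : ringChar k = 0 ∨ 2 * n < ringChar k)
    (s : K) (H : K →ₐ[k] PowerSeries K) (hH : LocRes.IsHasseFamily s H)
    (Φ : Place k K → (K →ₐ[k] LaurentSeries k))
    (hΦ : ∀ P : Place k K, LocRes.IsExpansionAt P.1 (Φ P)) (P : Place k K) (σ : K ≃ₐ[k] K) :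
    wDiv (AlgHom.id k K) H Φ s φ (fun l : Fin n => (l : ℕ) + 1) (twist P σ) = 0 ↔
      wDiv (AlgHom.id k K) H Φ s φ (fun l : Fin n => (l : ℕ) + 1) P = 0 := by
  obtain ⟨J₁, hJ₁m, hJ₁r, hJ₁z, -⟩ :=
    canon_wDiv_local hK hC φ hφ hspan hchar s H hH Φ hΦ (twist P σ)
  obtain ⟨J₂, hJ₂m, hJ₂r, hJ₂z, -⟩ := canon_wDiv_local hK hC φ hφ hspan hchar s H hH Φ hΦ P
  have hrange : Set.range J₁ = Set.range J₂ := by
    ext j
    rw [hJ₁r j, hJ₂r j, L_succ_eq_twist_iff P σ (j : ℤ)]
  have hJ : J₁ = J₂ := (StrictMono.range_inj hJ₁m hJ₂m).1 hrange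
  rw [hJ₁z, hJ₂z, hJ]

/-- There are at least `g + 3` Weierstrass points. -/
theorem card_support_canon_wDiv (hK : IsFunctionField k K) {C : Divisor k K}
    (hC : IsCanonical k K C) {n : ℕ} (hn : 0 < n) (φ : Fin (n + 1) → K)
    (hφ : LinearIndependent k φ)
    (hspan : Submodule.span k (Set.range φ) = L C)
    (hchar : ringChar k = 0 ∨ 2 * n < ringChar k)
    (s : K) (H : K →ₐ[k] PowerSeries K) (hH : LocRes.IsHasseFamily s H)
    (Φ : Place k K → (K →ₐ[k] LaurentSeries k))
    (hΦ : ∀ P : Place k K, LocRes.IsExpansionAt P.1 (Φ P)) :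
    n + 4 ≤ (wDiv (AlgHom.id k K) H Φ s φ (fun l : Fin n => (l : ℕ) + 1)).support.card := by
  classical
  have hgen := genus_eq_of_canonical_basis hK hC φ hφ hspan
  have hmd := mapDiv_canonical hK hC φ hφ hspan
  have hdegC : (mapDiv k φ).deg = 2 * (n : ℤ) := by
    rw [hmd, deg_canonical hK hC, hgen]; push_cast; ring
  have hchar' : ringChar k = 0 ∨ (mapDiv k φ).deg < ringChar k := by
    rcases hchar with h | h
    · exact Or.inl h
    · right; rw [hdegC]; exact_mod_cast h
  have hJ := isOrders_classical hK φ hφ hchar' s H hH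
  obtain ⟨-, hdeg⟩ := deg_wDiv_canonical hK hC φ hφ hspan s H hH hJ Φ hΦ
  set W := wDiv (AlgHom.id k K) H Φ s φ (fun l : Fin n => (l : ℕ) + 1) with hW
  have hdeg' : W.deg = ∑ P ∈ W.support, W P := by
    unfold FunFld.Divisor.deg Finsupp.sum
    refine Finset.sum_congr rfl fun P _ => ?_
    change W P * (P.deg : ℤ) = W P
    rw [deg_eq_one_of_isAlgClosed hK P, Nat.cast_one, mul_one]
  have hle : W.deg ≤ (W.support.card : ℤ) * (n : ℤ) ^ 2 := by
    rw [hdeg']
    calc ∑ P ∈ W.support, W P ≤ ∑ _P ∈ W.support, (n : ℤ) ^ 2 :=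
          Finset.sum_le_sum fun P _ =>
            (canon_wDiv_local hK hC φ hφ hspan hchar s H hH Φ hΦ P).choose_spec.2.2.2
      _ = (W.support.card : ℤ) * (n : ℤ) ^ 2 := by
          rw [Finset.sum_const, nsmul_eq_mul]
  rw [hdeg] at hle
  by_contra hlt
  push Not at hlt
  have hc : (W.support.card : ℤ) ≤ n + 3 := by
    have : W.support.card ≤ n + 3 := by omega
    exact_mod_cast this
  have hn' : (1 : ℤ) ≤ n := by exact_mod_cast hn
  nlinarith [sq_nonneg (n : ℤ), mul_le_mul_of_nonneg_right hc (sq_nonneg (n : ℤ))]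

end

end Groth.Agent.H57
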