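import Groth.Agent.H57.AutFin4

/-!
# A function fixed by all automorphisms fixing sufficiently many places
-/

set_option autoImplicit false

namespace Groth.Agent.H57

open FunFld Groth.Agent.FF WithZero IntermediateField

universe u v
variable {k : Type u} {K : Type v} [Field k] [Field K] [Algebra k K]

section
variable [IsAlgClosed k]

/-- At every place there is a nonconstant function `x` with a pole only there, of order at most
`g + 1`, such that the corresponding `L`-space is spanned by `1` and `x`. -/
theorem exists_first_nongap_function (hK : IsFunctionField k K) (P : Place k K) :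
    ∃ (m : ℕ) (x : K), m ≤ genus k K + 1 ∧ x ∉ Set.range (algebraMap k K) ∧
      x ∈ L (Finsupp.single P (m : ℤ) : Divisor k K) ∧
      ∀ f ∈ L (Finsupp.single P (m : ℤ) : Divisor k K),
        ∃ a b : k, f = algebraMap k K a + algebraMap k K b * x := by
  classical
  set g := genus k K with hg
  have hex : ∃ m : ℕ, 2 ≤ ell (Finsupp.single P (m : ℤ) : Divisor k K) := by
    refine ⟨g + 1, ?_⟩
    have h1 := ell_add_gapCount hK P (g + 1)
    have h2 : gapCount (IsGapAt P) (g + 1) ≤ gapCount (IsGapAt P) (max (g + 1) (2 * g - 1)) :=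
      gapCount_mono _ (le_max_left _ _)
    rw [gapCount_eq_genus hK P _ (le_max_right _ _)] at h2
    omega
  set m := Nat.find hex with hm
  have hm2 : 2 ≤ ell (Finsupp.single P (m : ℤ) : Divisor k K) := Nat.find_spec hex
  have hmle : m ≤ g + 1 := by
    apply Nat.find_min' hex
    have h1 := ell_add_gapCount hK P (g + 1)
    have h2 : gapCount (IsGapAt P) (g + 1) ≤ gapCount (IsGapAt P) (max (g + 1) (2 * g - 1)) :=
      gapCount_mono _ (le_max_left _ _)
    rw [gapCount_eq_genus hK P _ (le_max_right _ _)] at h2
    omega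
  have hm0 : m ≠ 0 := by
    intro h0
    rw [h0] at hm2
    simp only [Nat.cast_zero, Finsupp.single_zero] at hm2
    rw [ell_zero hK] at hm2
    omega
  have hprev : ell (Finsupp.single P ((m - 1 : ℕ) : ℤ) : Divisor k K) < 2 := by
    have := Nat.find_min hex (m := m - 1) (by omega)
    omega
  have hell2 : ell (Finsupp.single P (m : ℤ) : Divisor k K) = 2 := by
    have h1 := ell_single_succ_le hK P ((m - 1 : ℕ) : ℤ)
    have hcast : ((m - 1 : ℕ) : ℤ) + 1 = (m : ℤ) := by
      have : 1 ≤ m := by omega
      push_cast [this]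
      ring
    rw [hcast] at h1
    omega
  set D : Divisor k K := Finsupp.single P (m : ℤ) with hD
  have hfinL := finite_L hK D
  have h1L : (1 : K) ∈ L D := by
    intro Q
    rw [map_one, ← exp_zero, exp_le_exp, hD, Finsupp.single_apply]
    split_ifs
    · positivity
    · exact le_rfl
  set W : Submodule k K := Submodule.span k {(1 : K)} with hW
  have hWle : W ≤ L D := by
    rw [hW, Submodule.span_le, Set.singleton_subset_iff]
    exact h1L
  have hWrank : Module.finrank k W = 1 := finrank_span_singleton one_ne_zero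
  have hWlt : W < L D := by
    refine lt_of_le_of_ne hWle fun h => ?_
    unfold ell at hell2
    rw [← h, hWrank] at hell2
    omega
  obtain ⟨x, hxL, hxW⟩ := SetLike.exists_of_lt hWlt
  have hxr : x ∉ Set.range (algebraMap k K) := by
    rintro ⟨c, rfl⟩
    apply hxW
    rw [hW, Submodule.mem_span_singleton]
    exact ⟨c, by rw [Algebra.smul_def, mul_one]⟩
  refine ⟨m, x, hmle, hxr, hxL, ?_⟩
  set V : Submodule k K := Submodule.span k {(1 : K), x} with hV
  have hVle : V ≤ L D := by
    rw [hV, Submodule.span_le]
    intro z hz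
    rcases hz with rfl | hz
    · exact h1L
    · rw [Set.mem_singleton_iff] at hz
      rw [hz]; exact hxL
  have hWV : W < V := by
    refine lt_of_le_of_ne (Submodule.span_mono (by simp)) fun h => ?_
    apply hxW
    rw [h]
    exact Submodule.subset_span (by simp)
  have hVfin : Module.Finite k V := Submodule.finiteDimensional_of_le hVle
  have hVrank : Module.finrank k V = Module.finrank k (L D) := by
    have h1 := Submodule.finrank_lt_finrank_of_lt hWV
    have h2 := Submodule.finrank_mono hVle
    unfold ell at hell2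
    omega
  have hVeq : V = L D := Submodule.eq_of_le_of_finrank_eq hVle hVrank
  intro f hf
  rw [← hVeq, hV, Submodule.mem_span_pair] at hf
  obtain ⟨a, b, hab⟩ := hf
  refine ⟨a, b, ?_⟩
  rw [← hab, Algebra.smul_def, Algebra.smul_def, mul_one]

/-- If `x` spans `L(mP₁)` together with `1`, every automorphism fixing `m + 2` places including
`P₁` fixes `x`. -/
theorem apply_eq_of_fixes (hK : IsFunctionField k K) (P₁ : Place k K) (m : ℕ) (x : K)
    (hxr : x ∉ Set.range (algebraMap k K))
    (hxL : x ∈ L (Finsupp.single P₁ (m : ℤ) : Divisor k K))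
    (hsp : ∀ f ∈ L (Finsupp.single P₁ (m : ℤ) : Divisor k K),
      ∃ a b : k, f = algebraMap k K a + algebraMap k K b * x)
    (T : Finset (Place k K)) (hP₁ : P₁ ∈ T) (hcard : m + 2 ≤ T.card)
    (σ : K ≃ₐ[k] K) (hσ : ∀ Q ∈ T, twist Q σ = Q) : σ x = x := by
  classical
  set D : Divisor k K := Finsupp.single P₁ (m : ℤ) with hD
  have hD0 : ∀ Q : Place k K, 0 ≤ D Q := by
    intro Q
    rw [hD, Finsupp.single_apply]
    split_ifs
    · positivity
    · exact le_rfl
  have hreg : ∀ Q : Place k K, Q ≠ P₁ → Q.1 x ≤ 1 := by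
    intro Q hQ
    have := hxL Q
    rw [hD, Finsupp.single_apply, if_neg (Ne.symm hQ), exp_zero] at this
    exact this
  -- the values of `x` at the places other than `P₁`
  have hc : ∀ Q : Place k K, ∃ ξ : k, Q ≠ P₁ → Q.1 (x - algebraMap k K ξ) < 1 := by
    intro Q
    by_cases hQ : Q = P₁
    · exact ⟨0, fun h => absurd hQ h⟩
    · obtain ⟨ξ, hξ⟩ := exists_const_approx hK Q (hreg Q hQ)
      exact ⟨ξ, fun _ => hξ⟩
  choose c hc using hc
  set T' := T.erase P₁ with hT'
  have hT'card : m + 1 ≤ T'.card := by
    rw [hT', Finset.card_erase_of_mem hP₁]; omega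
  have hT'ne : ∀ Q ∈ T', Q ≠ P₁ := fun Q hQ => (Finset.mem_erase.1 hQ).1
  -- two places with different values
  obtain ⟨Q, hQ, Q', hQ', hne⟩ : ∃ Q ∈ T', ∃ Q' ∈ T', c Q ≠ c Q' := by
    by_contra hall
    push Not at hall
    obtain ⟨Q₀, hQ₀⟩ : T'.Nonempty := Finset.card_pos.1 (by omega)
    set c₀ := c Q₀ with hc₀
    set w : K := x - algebraMap k K c₀ with hw
    have hwr : w ∉ Set.range (algebraMap k K) := by
      rintro ⟨d, hd⟩
      apply hxr
      refine ⟨d + c₀, ?_⟩
      rw [map_add, hd, hw]; ring
    have hwtr := transcendental_of_not_mem_range hK hwr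
    have hw0 : w ≠ 0 := by
      rintro h0
      exact hwr ⟨0, by rw [map_zero, h0]⟩
    have hwL : w ∈ L D := by
      apply Submodule.sub_mem _ hxL
      intro R
      refine (R.2.1 c₀).trans ?_
      rw [← exp_zero, exp_le_exp]
      exact hD0 R
    have hpole : poleDiv k w ≤ D := by
      intro R
      rw [poleDiv_apply hK]
      have h3 := hwL R
      rw [val_le_exp_iff R hw0] at h3
      exact max_le (by linarith) (hD0 R)
    have hdegpole : (poleDiv k w).deg ≤ m := by
      refine (deg_mono hpole).trans ?_
      rw [hD, deg_single, deg_eq_one_of_isAlgClosed hK P₁]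
      simp
    have hzero : (∑ R ∈ T', (Finsupp.single R 1 : Divisor k K)) ≤ zeroDiv k w := by
      intro R
      rw [zeroDiv_apply hK, Finsupp.finsetSum_apply]
      simp only [Finsupp.single_apply]
      rw [Finset.sum_ite_eq' T' R]
      split_ifs with hRT
      · have h1 := hc R (hT'ne R hRT)
        rw [hall R hRT Q₀ hQ₀] at h1
        have h2 := (val_lt_one_iff R hw0).mp h1
        exact le_max_of_le_left (by omega)
      · exact le_max_right _ _
    have hdegzero : (T'.card : ℤ) ≤ (zeroDiv k w).deg := by
      refine le_trans ?_ (deg_mono hzero)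
      rw [deg_sum]
      have : ∀ R ∈ T', Divisor.deg (Finsupp.single R 1 : Divisor k K) = 1 := by
        intro R _
        rw [deg_single, deg_eq_one_of_isAlgClosed hK R]; simp
      rw [Finset.sum_congr rfl this]
      simp
    have h1 := deg_poleDiv_eq hK hwtr
    have h2 := deg_zeroDiv_eq hK hwtr
    rw [h2, ← h1] at hdegzero
    have : (T'.card : ℤ) ≤ m := hdegzero.trans hdegpole
    omega
  -- `σ x` lies in `L(mP₁)`
  have hσL : σ x ∈ L D := by
    have h1 := (mem_L_single_twist P₁ σ (m : ℤ) x).1
    rw [hσ P₁ hP₁] at h1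
    exact h1 hxL
  obtain ⟨a, b, hab⟩ := hsp _ hσL
  -- the relation at a place of `T'`
  have hrel : ∀ R ∈ T', (1 - b) * c R - a = 0 := by
    intro R hR
    have hRT : R ∈ T := Finset.mem_of_mem_erase hR
    have h1 := val_sub_apply_lt_one hK R σ (hσ R hRT) (hreg R (hT'ne R hR))
    have h2 := hc R (hT'ne R hR)
    by_contra hne0
    have h3 : R.1 (algebraMap k K ((1 - b) * c R - a)) = 1 := val_algebraMap R hne0
    have e : algebraMap k K ((1 - b) * c R - a) =
        (x - σ x) - algebraMap k K (1 - b) * (x - algebraMap k K (c R)) := by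
      rw [hab]
      simp only [map_sub, map_mul, map_one]
      ring
    have h4 : R.1 (algebraMap k K (1 - b) * (x - algebraMap k K (c R))) < 1 := by
      rw [map_mul]
      calc R.1 (algebraMap k K (1 - b)) * R.1 (x - algebraMap k K (c R))
          ≤ 1 * R.1 (x - algebraMap k K (c R)) := mul_le_mul' (R.2.1 _) le_rfl
        _ < 1 := by rw [one_mul]; exact h2
    have h5 : R.1 (algebraMap k K ((1 - b) * c R - a)) < 1 := by
      rw [e]
      exact lt_of_le_of_lt (R.1.map_sub _ _) (max_lt h1 h4)
    rw [h3] at h5
    exact lt_irrefl _ h5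
  have hr1 := hrel Q hQ
  have hr2 := hrel Q' hQ'
  have hb : b = 1 := by
    have h : (1 - b) * (c Q - c Q') = 0 := by linear_combination hr1 - hr2
    rcases mul_eq_zero.1 h with h | h
    · exact (sub_eq_zero.1 h).symm
    · exact absurd (sub_eq_zero.1 h) hne
  have ha : a = 0 := by
    rw [hb] at hr1
    linear_combination -hr1
  rw [hab, ha, hb, map_zero, map_one, zero_add, one_mul]

end

/-- Only finitely many automorphisms fix a given transcendental element. -/
theorem finite_stabilizer (hK : IsFunctionField k K) (x : K) (hx : Transcendental k x) :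
    {σ : K ≃ₐ[k] K | σ x = x}.Finite := by
  classical
  have hfd := finite_adjoin_of_transcendental hK hx
  have hfix : ∀ σ : K ≃ₐ[k] K, σ x = x → ∀ y ∈ adjoin k ({x} : Set K), σ y = y := by
    intro σ hσx y hy
    induction hy using IntermediateField.adjoin_induction with
    | mem z hz =>
      rw [Set.mem_singleton_iff] at hz
      rw [hz]; exact hσx
    | algebraMap c => exact σ.commutes c
    | add a b _ _ ha hb => rw [map_add, ha, hb]
    | inv a _ ha => rw [map_inv₀, ha]
    | mul a b _ _ ha hb => rw [map_mul, ha, hb]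
  let F : {σ : K ≃ₐ[k] K | σ x = x} → (K ≃ₐ[adjoin k ({x} : Set K)] K) := fun σ =>
    AlgEquiv.ofRingEquiv (f := (σ.1 : K ≃+* K)) (fun y => hfix σ.1 σ.2 y.1 y.2)
  have hF : Function.Injective F := by
    intro σ ρ h
    apply Subtype.ext
    apply AlgEquiv.ext
    intro z
    have := congrArg (fun τ : K ≃ₐ[adjoin k ({x} : Set K)] K => τ z) h
    exact this
  have : Finite (K ≃ₐ[adjoin k ({x} : Set K)] K) := inferInstance
  exact Set.finite_coe_iff.1 (Finite.of_injective F hF)

end Groth.Agent.H57
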