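import Groth.Agent.H57.GapComb

/-!
# Sums of gaps and of complementary order sequences
-/

set_option autoImplicit false

namespace Groth.Agent.H57

/-- The sum of the gaps in `[1, N]` is at most the square of their number, when the non-gaps are
closed under addition. -/
theorem sum_gaps_le (G : ℕ → Prop) [DecidablePred G]
    (hsemi : ∀ m m', 1 ≤ m → 1 ≤ m' → ¬ G m → ¬ G m' → ¬ G (m + m')) (N : ℕ) :
    ∑ m ∈ (Finset.Icc 1 N).filter G, m ≤ (gapCount G N) ^ 2 := by
  classical
  induction N with
  | zero =>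
    simp
  | succ N ih =>
    by_cases hG : G (N + 1)
    · have hc := gapCount_succ_of_gap G hG
      have hins : (Finset.Icc 1 (N + 1)).filter G = insert (N + 1) ((Finset.Icc 1 N).filter G) := by
        ext m
        simp only [Finset.mem_filter, Finset.mem_Icc, Finset.mem_insert]
        constructor
        · rintro ⟨⟨h1, h2⟩, hGm⟩
          rcases Nat.lt_or_ge m (N + 1) with hlt | hge
          · exact Or.inr ⟨⟨h1, by omega⟩, hGm⟩
          · exact Or.inl (by omega)
        · rintro (rfl | ⟨⟨h1, h2⟩, hGm⟩)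
          · exact ⟨⟨by omega, le_rfl⟩, hG⟩
          · exact ⟨⟨h1, by omega⟩, hGm⟩
      rw [hins, Finset.sum_insert (by simp), hc]
      have h1 := sub_one_le_two_mul_gapCount G hsemi (n := N + 1) (by omega) hG
      rw [Nat.add_sub_cancel] at h1
      nlinarith
    · have hc := gapCount_succ_of_not_gap G hG
      have heq : (Finset.Icc 1 (N + 1)).filter G = (Finset.Icc 1 N).filter G := by
        ext m
        simp only [Finset.mem_filter, Finset.mem_Icc]
        constructor
        · rintro ⟨⟨h1, h2⟩, hGm⟩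
          refine ⟨⟨h1, ?_⟩, hGm⟩
          by_contra hlt
          have : m = N + 1 := by omega
          rw [this] at hGm
          exact hG hGm
        · rintro ⟨⟨h1, h2⟩, hGm⟩
          exact ⟨⟨h1, by omega⟩, hGm⟩
      rw [heq, hc]
      exact ih

/-- The bound on a strictly increasing positive sequence whose complements `M - J' l` avoid the
gaps. -/
theorem two_mul_sum_orders_le (G : ℕ → Prop)
    (hsemi : ∀ m m', 1 ≤ m → 1 ≤ m' → ¬ G m → ¬ G m' → ¬ G (m + m'))
    (n g M : ℕ) (hM : M ≤ n + g)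
    (hcount : gapCount G (n + g - 1) = g)
    (J' : Fin n → ℕ) (hmono : StrictMono J') (hpos : ∀ l, 1 ≤ J' l) (hle : ∀ l, J' l ≤ M)
    (hnon : ∀ l, 1 ≤ M - J' l → ¬ G (M - J' l)) :
    2 * ∑ l, (J' l : ℤ) + (n + g) * (n + g - 1) ≤ 2 * n * (n + g) + 2 * (g : ℤ) ^ 2 := by
  classical
  set T : Finset ℕ := Finset.univ.image (fun l : Fin n => M - J' l) with hT
  set Z : Finset ℕ := (Finset.range (n + g)).filter (fun m => ¬ (1 ≤ m ∧ G m)) with hZ
  set GP : Finset ℕ := (Finset.range (n + g)).filter (fun m => 1 ≤ m ∧ G m) with hGP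
  have hinj : Function.Injective (fun l : Fin n => M - J' l) := by
    intro a b hab
    simp only at hab
    have h1 := hle a
    have h2 := hle b
    exact hmono.injective (by omega)
  have hTcard : T.card = n := by
    rw [hT, Finset.card_image_of_injective _ hinj, Finset.card_univ, Fintype.card_fin]
  have hTZ : T ⊆ Z := by
    intro m hm
    rw [hT, Finset.mem_image] at hm
    obtain ⟨l, -, rfl⟩ := hm
    rw [hZ, Finset.mem_filter, Finset.mem_range]
    refine ⟨?_, ?_⟩
    · have := hpos l
      have := hle l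
      omega
    · rintro ⟨h1, h2⟩
      exact hnon l h1 h2
  have hGPeq : GP = (Finset.Icc 1 (n + g - 1)).filter G := by
    ext m
    simp only [hGP, Finset.mem_filter, Finset.mem_range, Finset.mem_Icc]
    constructor
    · rintro ⟨h1, h2, h3⟩
      exact ⟨⟨h2, by omega⟩, h3⟩
    · rintro ⟨⟨h1, h2⟩, h3⟩
      exact ⟨by omega, h1, h3⟩
  have hGPcard : GP.card = g := by
    rw [hGPeq]
    have : gapCount G (n + g - 1) = ((Finset.Icc 1 (n + g - 1)).filter G).card := by
      unfold gapCount
      congr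
    rw [← this, hcount]
  have hZcard : Z.card + GP.card = n + g := by
    rw [hZ, hGP, add_comm, Finset.card_filter_add_card_filter_not, Finset.card_range]
  have hTZeq : T = Z := Finset.eq_of_subset_of_card_le hTZ (by omega)
  -- sums
  have hsumT : ∑ m ∈ T, (m : ℤ) = n * (M : ℤ) - ∑ l, (J' l : ℤ) := by
    rw [hT, Finset.sum_image (fun a _ b _ hab => hinj hab)]
    have : ∀ l : Fin n, ((M - J' l : ℕ) : ℤ) = (M : ℤ) - J' l := fun l => by
      have := hle l
      omega
    simp only [this]
    rw [Finset.sum_sub_distrib, Finset.sum_const, Finset.card_univ, Fintype.card_fin, nsmul_eq_mul]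
  have hsplit : ∑ m ∈ Z, (m : ℤ) + ∑ m ∈ GP, (m : ℤ) = ∑ m ∈ Finset.range (n + g), (m : ℤ) := by
    rw [hZ, hGP, add_comm]
    exact Finset.sum_filter_add_sum_filter_not _ _ _
  have hrange : 2 * ∑ m ∈ Finset.range (n + g), (m : ℤ) = ((n : ℤ) + g) * (n + g - 1) := by
    have h := Finset.sum_range_id_mul_two (n + g)
    have h' : ((∑ i ∈ Finset.range (n + g), i : ℕ) : ℤ) * 2 = (((n + g) * (n + g - 1) : ℕ) : ℤ) := by
      exact_mod_cast h
    rw [Nat.cast_sum] at h'
    rcases Nat.eq_zero_or_pos (n + g) with h0 | hp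
    · have hn0 : n = 0 := by omega
      have hg0 : g = 0 := by omega
      subst hn0 hg0
      simp
    · rw [Nat.cast_mul, Nat.cast_sub hp] at h'
      push_cast at h'
      linarith
  have hgaps : ∑ m ∈ GP, (m : ℤ) ≤ (g : ℤ) ^ 2 := by
    have h := sum_gaps_le G hsemi (n + g - 1)
    rw [← hGPeq, hcount] at h
    have h' : ((∑ m ∈ GP, m : ℕ) : ℤ) ≤ ((g ^ 2 : ℕ) : ℤ) := by exact_mod_cast h
    rw [Nat.cast_sum] at h'
    push_cast at h'
    exact h'
  have hMz : (M : ℤ) ≤ n + g := by exact_mod_cast hM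
  rw [hTZeq] at hsumT
  have hn0 : (0 : ℤ) ≤ n := Nat.cast_nonneg n
  nlinarith
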