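import Groth.Agent.H57.AutFin5
import Groth.Agent.H57.GapSum

/-!
# The sharp count of Weierstrass points of the canonical map
-/

set_option autoImplicit false

namespace Groth.Agent.H57

open FunFld Groth.Agent.FF WithZero

universe u v
variable {k : Type u} {K : Type v} [Field k] [Field K] [Algebra k K]

/-- Order sequences are unique. -/
theorem isOrders_unique {R M : Type*} [Semiring R] [AddCommMonoid M] [Module R M] (c : ℕ → M)
    {n : ℕ} (J₁ J₂ : Fin n → ℕ) (h₁ : IsOrders R c J₁) (h₂ : IsOrders R c J₂) : J₁ = J₂ := by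
  apply (StrictMono.range_inj h₁.1 h₂.1).1
  ext j
  rw [h₁.2 j, h₂.2 j]

theorem filter_Icc_succ_of_gap (G : ℕ → Prop) [DecidablePred G] {N : ℕ} (hG : G (N + 1)) :
    (Finset.Icc 1 (N + 1)).filter G = insert (N + 1) ((Finset.Icc 1 N).filter G) := by
  ext m
  simp only [Finset.mem_filter, Finset.mem_Icc, Finset.mem_insert]
  constructor
  · rintro ⟨⟨h1, h2⟩, hGm⟩
    rcases Nat.lt_or_ge m (N + 1) with hlt | hge
    · exact Or.inr ⟨⟨h1, by omega⟩, hGm⟩
    · exact Or.inl (by omega)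
  · rintro (rfl | ⟨⟨h1, h2⟩, hGm⟩)
    · exact ⟨⟨by omega, le_rfl⟩, hG⟩
    · exact ⟨⟨h1, by omega⟩, hGm⟩

theorem filter_Icc_succ_of_not_gap (G : ℕ → Prop) [DecidablePred G] {N : ℕ} (hG : ¬ G (N + 1)) :
    (Finset.Icc 1 (N + 1)).filter G = (Finset.Icc 1 N).filter G := by
  ext m
  simp only [Finset.mem_filter, Finset.mem_Icc]
  constructor
  · rintro ⟨⟨h1, h2⟩, hGm⟩
    refine ⟨⟨h1, ?_⟩, hGm⟩
    by_contra hlt
    have : m = N + 1 := by omega
    rw [this] at hGm
    exact hG hGm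
  · rintro ⟨⟨h1, h2⟩, hGm⟩
    exact ⟨⟨h1, by omega⟩, hGm⟩

/-- If `1` and `2` are gaps, the sum of the gaps is strictly less than the square of their
number. -/
theorem sum_gaps_succ_le (G : ℕ → Prop) [DecidablePred G]
    (hsemi : ∀ m m', 1 ≤ m → 1 ≤ m' → ¬ G m → ¬ G m' → ¬ G (m + m'))
    (h1 : G 1) (h2 : G 2) (N : ℕ) (hN : 2 ≤ N) :
    ∑ m ∈ (Finset.Icc 1 N).filter G, m + 1 ≤ (gapCount G N) ^ 2 := by
  classical
  induction N, hN using Nat.le_induction with
  | base =>
    have hc0 : gapCount G 0 = 0 := by unfold gapCount; simp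
    have hc1 : gapCount G 1 = 1 := by rw [gapCount_succ_of_gap G (N := 0) h1, hc0]
    have hc2 : gapCount G 2 = 2 := by rw [gapCount_succ_of_gap G (N := 1) h2, hc1]
    have hs0 : (Finset.Icc 1 0).filter G = ∅ := by simp
    have hs1 : (Finset.Icc 1 1).filter G = {1} := by
      rw [filter_Icc_succ_of_gap G (N := 0) h1, hs0]; rfl
    have hs2 : (Finset.Icc 1 2).filter G = {2, 1} := by
      rw [filter_Icc_succ_of_gap G (N := 1) h2, hs1]
    rw [hs2, hc2]
    simp
  | succ N hN ih =>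
    by_cases hG : G (N + 1)
    · rw [filter_Icc_succ_of_gap G hG, Finset.sum_insert (by simp), gapCount_succ_of_gap G hG]
      have h3 := sub_one_le_two_mul_gapCount G hsemi (n := N + 1) (by omega) hG
      rw [Nat.add_sub_cancel] at h3
      nlinarith
    · rw [filter_Icc_succ_of_not_gap G hG, gapCount_succ_of_not_gap G hG]
      exact ih

section
variable [IsAlgClosed k]

/-- Local structure of the Weierstrass divisor of the canonical map at a place `P`: the formula
for its coefficient in terms of the orders at `P`, which are given by the gaps at `P`. -/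
theorem canon_wDiv_formula (hK : IsFunctionField k K) {C : Divisor k K}
    (hC : IsCanonical k K C) {n : ℕ} (φ : Fin (n + 1) → K) (hφ : LinearIndependent k φ)
    (hspan : Submodule.span k (Set.range φ) = L C)
    (hchar : ringChar k = 0 ∨ 2 * n < ringChar k)
    (s : K) (H : K →ₐ[k] PowerSeries K) (hH : LocRes.IsHasseFamily s H)
    (Φ : Place k K → (K →ₐ[k] LaurentSeries k))
    (hΦ : ∀ P : Place k K, LocRes.IsExpansionAt P.1 (Φ P)) (P : Place k K) :
    ∃ J' : Fin n → ℕ, StrictMono J' ∧ (∀ l, J' l ≤ 2 * n) ∧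
      (∀ j : ℕ, j ∈ Set.range J' ↔ 1 ≤ j ∧
        L (Finsupp.single P ((j : ℤ) + 1) : Divisor k K) = L (Finsupp.single P (j : ℤ))) ∧
      wDiv (AlgHom.id k K) H Φ s φ (fun l : Fin n => (l : ℕ) + 1) P =
        ∑ l, ((J' l : ℤ) - ((l : ℕ) + 1 : ℕ)) := by
  classical
  have hgen := genus_eq_of_canonical_basis hK hC φ hφ hspan
  have hmd := mapDiv_canonical hK hC φ hφ hspan
  have hdegC : (mapDiv k φ).deg = 2 * (n : ℤ) := by
    rw [hmd, deg_canonical hK hC, hgen]; push_cast; ring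
  have hchar' : ringChar k = 0 ∨ (mapDiv k φ).deg < ringChar k := by
    rcases hchar with h | h
    · exact Or.inl h
    · right; rw [hdegC]; exact_mod_cast h
  set J : Fin n → ℕ := fun l : Fin n => (l : ℕ) + 1 with hJdef
  have hJ : IsOrders K (hcol (AlgHom.id k K) H φ) J := isOrders_classical hK φ hφ hchar' s H hH
  have hφ0 : ∀ i, φ i ≠ 0 := fun i => hφ.ne_zero i
  obtain ⟨t, ht⟩ := P.2.2 (WithZero.exp (-1 : ℤ))
  obtain ⟨Ht, hHt⟩ := exists_local_hasse' hK s H hH P t ht
  obtain ⟨i₀, hi₀⟩ := Finite.exists_max (fun i => P.1 (φ i))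
  set y : K := (φ i₀)⁻¹ with hy
  have hy0 : y ≠ 0 := inv_ne_zero (hφ0 i₀)
  set φ' : Fin (n + 1) → K := y • φ with hφ'def
  have hφ'A : ∀ i, φ' i = y * ∑ j, (1 : Matrix (Fin (n + 1)) (Fin (n + 1)) k) i j • φ j := by
    intro i
    simp [Matrix.one_apply, hφ'def]
  have hinv := Groth.Agent.S12614.result k K hK φ hφ (AlgHom.id k K) s H hH t Ht hHt J hJ 1
    (by rw [Matrix.det_one]; exact one_ne_zero) y hy0 φ' hφ'A Φ hΦ
  rw [← hinv]
  have hφ'li : LinearIndependent k φ' := by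
    have hker : LinearMap.ker (LinearMap.mulLeft k y) = ⊥ := by
      rw [LinearMap.ker_eq_bot]
      intro a b hab
      exact mul_left_cancel₀ hy0 hab
    exact hφ.map' (LinearMap.mulLeft k y) hker
  have hnorm : ∀ i, P.1 (φ' i) ≤ 1 := by
    intro i
    change P.1 (y * φ i) ≤ 1
    rw [hy, map_mul, map_inv₀, inv_mul_le_iff₀ (zero_lt_iff.2 ((P.1.ne_zero_iff).2 (hφ0 i₀))),
      mul_one]
    exact hi₀ i
  have hone : φ' i₀ = 1 := by
    change y * φ i₀ = 1
    rw [hy, inv_mul_cancel₀ (hφ0 i₀)]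
  have heff : (1 : K) ∈ Submodule.span k (Set.range φ') :=
    Submodule.subset_span ⟨i₀, hone⟩
  have hunit : P.1 (φ' i₀) = 1 := by rw [hone, map_one]
  have hJt : IsOrders K (hcol (AlgHom.id k K) Ht φ) J :=
    ((Groth.Agent.S12598.result k K hK φ hφ (AlgHom.id k K) s H hH t Ht hHt).1 J).2 hJ
  have hJt' : IsOrders K (hcol (AlgHom.id k K) Ht φ') J :=
    ((Groth.Agent.S12597.result k K hK φ hφ (AlgHom.id k K) t Ht hHt y hy0).1 J).2 hJt
  obtain ⟨J', hJ'⟩ := exists_isOrders_hcolAt hK P φ' hφ'li hnorm i₀ hunit t ht Ht hHt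
  have h607 := (Groth.Agent.S12607.result k K hK P φ' hφ'li heff hnorm t ht Ht hHt J' hJ').2
  have hpos : ∀ l, 0 < J' l := by
    intro l
    by_contra h
    have h0 : J' l = 0 := by omega
    have hj := (hJ'.2 0).1 ⟨l, h0⟩
    apply hj
    rw [zero_add, ← hcolAt_zero_eq_one P t φ' Ht hHt]
    exact Submodule.subset_span ⟨0, by simp, rfl⟩
  have hmapP : mapDiv k φ' P = 0 := mapDiv_apply_eq_zero φ' P hnorm ⟨i₀, hunit⟩
  have hbound : ∀ l, J' l ≤ 2 * n := by
    intro l
    obtain ⟨f, hf, hfv⟩ := (h607 (J' l)).1 (Or.inr ⟨l, rfl⟩)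
    have hf0 : f ≠ 0 := by
      rintro rfl
      rw [map_zero] at hfv
      exact WithZero.exp_ne_zero hfv.symm
    have hord : P.ord f = J' l := by
      unfold FunFld.Place.ord
      rw [hfv, WithZero.log_exp, neg_neg]
    have h1 := ord_le_deg_mapDiv hK φ' P hmapP f hf hf0
    rw [hord, hφ'def, deg_mapDiv_smul hK φ hφ0 y hy0, hdegC] at h1
    omega
  have hN : ringChar k = 0 ∨ 2 * n < ringChar k := hchar
  have hinj : Function.Injective fun l => (J' l : k) := by
    intro a b hab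
    exact hJ'.1.injective (natCast_inj_of_le hN (hbound a) (hbound b) hab)
  have hv0 : ∀ i, (J' i : k) ≠ 0 := by
    intro i h0
    have : J' i = 0 :=
      natCast_inj_of_le hN (hbound i) (Nat.zero_le (2 * n)) (by rw [h0, Nat.cast_zero])
    have := hpos i
    omega
  have hdetbin : (binomMat k J' J).det ≠ 0 := det_choose_succ_ne_zero J' hinj hv0
  have h615 := ((Groth.Agent.S12615.result k K hK (AlgHom.id k K) P (fun z hz => hz) φ' hφ'li heff
    hnorm t ht Ht hHt J hJt' J' hJ' Φ hΦ).2 (Or.inl rfl)).2 hdetbin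
  refine ⟨J', hJ'.1, hbound, ?_, ?_⟩
  · intro j
    constructor
    · rintro ⟨l, rfl⟩
      have hj1 : 1 ≤ J' l := hpos l
      refine ⟨hj1, ?_⟩
      have hjump := (hJ'.2 (J' l)).1 ⟨l, rfl⟩
      exact (Groth.Agent.S12609.result k K hK C hC φ hφ hspan P y hy0 heff hnorm t ht Ht hHt
        (J' l) hj1).1 hjump
    · rintro ⟨hj1, hL⟩
      apply (hJ'.2 j).2
      exact (Groth.Agent.S12609.result k K hK C hC φ hφ hspan P y hy0 heff hnorm t ht Ht hHt
        j hj1).2 hL
  · rw [h615]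

end

end Groth.Agent.H57
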