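import Groth.Agent.H57.AutFin6

/-!
# The sharp bound for the coefficients of the Weierstrass divisor of the canonical map
-/

set_option autoImplicit false

namespace Groth.Agent.H57

open FunFld Groth.Agent.FF WithZero

universe u v
variable {k : Type u} {K : Type v} [Field k] [Field K] [Algebra k K]

section
variable [IsAlgClosed k]

/-- In positive genus `1` is a gap at every place. -/
theorem isGapAt_one (hK : IsFunctionField k K) (hg : genus k K ≠ 0) (P : Place k K) :
    IsGapAt P 1 := by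
  rw [isGapAt_iff_ell_eq hK P 1]
  have h1 := ell_single_one hK hg P
  simp only [Nat.cast_one, sub_self, Finsupp.single_zero]
  rw [h1, ell_zero hK]

/-- `2 W(P) ≤ g (g - 1)`, with strict inequality when `2` is a gap at `P`. -/
theorem two_mul_canon_wDiv_le (hK : IsFunctionField k K) {C : Divisor k K}
    (hC : IsCanonical k K C) {n : ℕ} (hn : 0 < n) (φ : Fin (n + 1) → K) (hφ : LinearIndependent k φ)
    (hspan : Submodule.span k (Set.range φ) = L C)
    (hchar : ringChar k = 0 ∨ 2 * n < ringChar k)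
    (s : K) (H : K →ₐ[k] PowerSeries K) (hH : LocRes.IsHasseFamily s H)
    (Φ : Place k K → (K →ₐ[k] LaurentSeries k))
    (hΦ : ∀ P : Place k K, LocRes.IsExpansionAt P.1 (Φ P)) (P : Place k K) :
    2 * wDiv (AlgHom.id k K) H Φ s φ (fun l : Fin n => (l : ℕ) + 1) P ≤ (n : ℤ) * (n + 1) ∧
    (IsGapAt P 2 →
      2 * wDiv (AlgHom.id k K) H Φ s φ (fun l : Fin n => (l : ℕ) + 1) P + 2 ≤
        (n : ℤ) * (n + 1)) := by
  classical
  obtain ⟨J', hmono, hb, hr, hW⟩ := canon_wDiv_formula hK hC φ hφ hspan hchar s H hH Φ hΦ P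
  have hgen := genus_eq_of_canonical_basis hK hC φ hφ hspan
  have hg0 : genus k K ≠ 0 := by omega
  have hG1 := isGapAt_one hK hg0 P
  have hsemi := not_isGapAt_add P
  set N : ℕ := 2 * n + 1 with hN
  have hcount : gapCount (IsGapAt P) N = n + 1 := by
    rw [gapCount_eq_genus hK P N (by omega), hgen]
  have hgapiff : ∀ j : ℕ, 1 ≤ j → (IsGapAt P (j + 1) ↔
      L (Finsupp.single P ((j : ℤ) + 1) : Divisor k K) = L (Finsupp.single P (j : ℤ))) := by
    intro j _
    unfold IsGapAt
    have e1 : ((j + 1 : ℕ) : ℤ) = (j : ℤ) + 1 := by push_cast; ring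
    have e2 : ((j + 1 : ℕ) : ℤ) - 1 = (j : ℤ) := by push_cast; ring
    rw [e2, e1]
  have hset : (Finset.Icc 1 N).filter (IsGapAt P) =
      insert 1 (Finset.univ.image (fun l : Fin n => J' l + 1)) := by
    ext γ
    simp only [Finset.mem_filter, Finset.mem_Icc, Finset.mem_insert, Finset.mem_image,
      Finset.mem_univ, true_and]
    constructor
    · rintro ⟨⟨h1, h2⟩, hGγ⟩
      by_cases hγ : γ = 1
      · exact Or.inl hγ
      · right
        obtain ⟨j, rfl⟩ : ∃ j, γ = j + 1 := ⟨γ - 1, by omega⟩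
        have hj1 : 1 ≤ j := by omega
        obtain ⟨l, hl⟩ := (hr j).2 ⟨hj1, (hgapiff j hj1).1 hGγ⟩
        exact ⟨l, by rw [hl]⟩
    · rintro (rfl | ⟨l, rfl⟩)
      · exact ⟨⟨le_rfl, by omega⟩, hG1⟩
      · have h1 := (hr (J' l)).1 ⟨l, rfl⟩
        have := hb l
        exact ⟨⟨by omega, by omega⟩, (hgapiff (J' l) h1.1).2 h1.2⟩
  have hpos : ∀ l, 1 ≤ J' l := fun l => ((hr (J' l)).1 ⟨l, rfl⟩).1
  have hnotmem : (1 : ℕ) ∉ Finset.univ.image (fun l : Fin n => J' l + 1) := by
    rw [Finset.mem_image]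
    rintro ⟨l, -, hl⟩
    have := hpos l
    omega
  have hinj : Function.Injective (fun l : Fin n => J' l + 1) := by
    intro a b hab
    apply hmono.injective
    simp only at hab
    omega
  have hsum : ∑ m ∈ (Finset.Icc 1 N).filter (IsGapAt P), m = 1 + ∑ l, (J' l + 1) := by
    rw [hset, Finset.sum_insert hnotmem, Finset.sum_image (fun a _ b _ hab => hinj hab)]
  have hWz : 2 * wDiv (AlgHom.id k K) H Φ s φ (fun l : Fin n => (l : ℕ) + 1) P =
      2 * ∑ l, (J' l : ℤ) - (n : ℤ) * (n + 1) := by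
    rw [hW, Finset.sum_sub_distrib, mul_sub]
    have := sum_fin_succ_mul_two n
    have e : ∑ l : Fin n, ((((l : ℕ) + 1 : ℕ) : ℤ)) = ∑ l : Fin n, (((l : ℕ) : ℤ) + 1) := by
      refine Finset.sum_congr rfl fun l _ => ?_
      push_cast
      ring
    rw [e]
    linarith
  have hsumZ : ((∑ m ∈ (Finset.Icc 1 N).filter (IsGapAt P), m : ℕ) : ℤ) =
      1 + n + ∑ l, (J' l : ℤ) := by
    rw [hsum]
    push_cast
    rw [Finset.sum_add_distrib]
    simp
    ring
  constructor
  · have h := sum_gaps_le (IsGapAt P) hsemi N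
    rw [hcount] at h
    have h' : ((∑ m ∈ (Finset.Icc 1 N).filter (IsGapAt P), m : ℕ) : ℤ) ≤ ((n : ℤ) + 1) ^ 2 := by
      exact_mod_cast h
    rw [hsumZ] at h'
    rw [hWz]
    nlinarith
  · intro hG2
    have h := sum_gaps_succ_le (IsGapAt P) hsemi hG1 hG2 N (by omega)
    rw [hcount] at h
    have h' : ((∑ m ∈ (Finset.Icc 1 N).filter (IsGapAt P), m : ℕ) : ℤ) + 1 ≤
        ((n : ℤ) + 1) ^ 2 := by
      exact_mod_cast h
    rw [hsumZ] at h'
    rw [hWz]
    nlinarith

/-- There are at least `2g + 2` Weierstrass points, and when there are exactly that many, `2` is a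
non-gap at each of them. -/
theorem card_support_canon_wDiv_sharp (hK : IsFunctionField k K) {C : Divisor k K}
    (hC : IsCanonical k K C) {n : ℕ} (hn : 0 < n) (φ : Fin (n + 1) → K)
    (hφ : LinearIndependent k φ)
    (hspan : Submodule.span k (Set.range φ) = L C)
    (hchar : ringChar k = 0 ∨ 2 * n < ringChar k)
    (s : K) (H : K →ₐ[k] PowerSeries K) (hH : LocRes.IsHasseFamily s H)
    (Φ : Place k K → (K →ₐ[k] LaurentSeries k))
    (hΦ : ∀ P : Place k K, LocRes.IsExpansionAt P.1 (Φ P)) :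
    2 * n + 4 ≤ (wDiv (AlgHom.id k K) H Φ s φ (fun l : Fin n => (l : ℕ) + 1)).support.card ∧
    ((wDiv (AlgHom.id k K) H Φ s φ (fun l : Fin n => (l : ℕ) + 1)).support.card = 2 * n + 4 →
      ∀ P ∈ (wDiv (AlgHom.id k K) H Φ s φ (fun l : Fin n => (l : ℕ) + 1)).support,
        ¬ IsGapAt P 2) := by
  classical
  have hgen := genus_eq_of_canonical_basis hK hC φ hφ hspan
  have hmd := mapDiv_canonical hK hC φ hφ hspan
  have hdegC : (mapDiv k φ).deg = 2 * (n : ℤ) := by
    rw [hmd, deg_canonical hK hC, hgen]; push_cast; ring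
  have hchar' : ringChar k = 0 ∨ (mapDiv k φ).deg < ringChar k := by
    rcases hchar with h | h
    · exact Or.inl h
    · right; rw [hdegC]; exact_mod_cast h
  have hJ := isOrders_classical hK φ hφ hchar' s H hH
  obtain ⟨-, hdeg⟩ := deg_wDiv_canonical hK hC φ hφ hspan s H hH hJ Φ hΦ
  set W := wDiv (AlgHom.id k K) H Φ s φ (fun l : Fin n => (l : ℕ) + 1) with hW
  have hdeg' : W.deg = ∑ P ∈ W.support, W P := by
    unfold FunFld.Divisor.deg Finsupp.sum
    refine Finset.sum_congr rfl fun P _ => ?_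
    change W P * (P.deg : ℤ) = W P
    rw [deg_eq_one_of_isAlgClosed hK P, Nat.cast_one, mul_one]
  have hbd := fun P => two_mul_canon_wDiv_le hK hC hn φ hφ hspan hchar s H hH Φ hΦ P
  have hn' : (1 : ℤ) ≤ n := by exact_mod_cast hn
  have hle : 2 * W.deg ≤ (W.support.card : ℤ) * ((n : ℤ) * (n + 1)) := by
    rw [hdeg', Finset.mul_sum]
    calc ∑ P ∈ W.support, 2 * W P ≤ ∑ _P ∈ W.support, (n : ℤ) * (n + 1) :=
          Finset.sum_le_sum fun P _ => (hbd P).1
      _ = (W.support.card : ℤ) * ((n : ℤ) * (n + 1)) := by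
          rw [Finset.sum_const, nsmul_eq_mul]
  rw [hdeg] at hle
  have hpos : (0 : ℤ) < (n : ℤ) * (n + 1) := by positivity
  constructor
  · by_contra hlt
    push Not at hlt
    have hc : (W.support.card : ℤ) ≤ 2 * n + 3 := by
      have : W.support.card ≤ 2 * n + 3 := by omega
      exact_mod_cast this
    have := mul_le_mul_of_nonneg_right hc hpos.le
    nlinarith
  · intro hcard P hP hG2
    have hlt : 2 * W.deg + 2 ≤ (W.support.card : ℤ) * ((n : ℤ) * (n + 1)) := by
      rw [hdeg', Finset.mul_sum, ← Finset.add_sum_erase _ _ hP]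
      have h1 := (hbd P).2 hG2
      have h2 : ∑ Q ∈ W.support.erase P, 2 * W Q ≤
          ((W.support.card : ℤ) - 1) * ((n : ℤ) * (n + 1)) := by
        calc ∑ Q ∈ W.support.erase P, 2 * W Q ≤ ∑ _Q ∈ W.support.erase P, (n : ℤ) * (n + 1) :=
              Finset.sum_le_sum fun Q _ => (hbd Q).1
          _ = ((W.support.card : ℤ) - 1) * ((n : ℤ) * (n + 1)) := by
              rw [Finset.sum_const, nsmul_eq_mul, Finset.card_erase_of_mem hP]
              have : 1 ≤ W.support.card := Finset.card_pos.2 ⟨P, hP⟩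
              push_cast [this]
              ring
      linarith
    rw [hdeg, hcard] at hlt
    push_cast at hlt
    nlinarith

end

end Groth.Agent.H57
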