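import Mathlib
import Groth.Prelude.Def_LocRes

/-!
# Existence of the total Hasse derivative with respect to a separating variable
-/

set_option autoImplicit false

namespace Groth.Agent.H57

open Polynomial IntermediateField

universe u v
variable {k : Type u} {K : Type v} [Field k] [Field K] [Algebra k K]

/-- The function field is formally smooth over the polynomial ring in a separating variable. -/
theorem formallySmooth_polynomial_of_isSeparable (s : K) (hs : Transcendental k s)
    [Algebra.IsSeparable k⟮s⟯ K] :
    letI : Algebra k[X] K := (Polynomial.aeval s).toRingHom.toAlgebra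
    Algebra.FormallySmooth k[X] K := by
  let algPK : Algebra k[X] K := (Polynomial.aeval s).toRingHom.toAlgebra
  let algPE : Algebra k[X] k⟮s⟯ := (Polynomial.aeval (AdjoinSimple.gen k s)).toRingHom.toAlgebra
  have htower : IsScalarTower k[X] k⟮s⟯ K := by
    refine IsScalarTower.of_algebraMap_eq fun p => ?_
    change Polynomial.aeval s p = ((Polynomial.aeval (AdjoinSimple.gen k s) p : k⟮s⟯) : K)
    have := Polynomial.aeval_algHom_apply (IntermediateField.val k⟮s⟯) (AdjoinSimple.gen k s) p
    rw [IntermediateField.val_mk] at this
    exact this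
  -- `k(s)` is the fraction field of `k[X]`
  let e : RatFunc k ≃ₐ[k[X]] k⟮s⟯ :=
    AlgEquiv.ofRingEquiv (f := (RatFunc.algEquivOfTranscendental s hs).toRingEquiv) (fun p => by
      change RatFunc.algEquivOfTranscendental s hs (algebraMap k[X] (RatFunc k) p) = _
      rw [RatFunc.algEquivOfTranscendental_algebraMap]
      rfl)
  have hloc : IsLocalization (nonZeroDivisors k[X]) k⟮s⟯ :=
    IsLocalization.isLocalization_of_algEquiv (nonZeroDivisors k[X]) e
  have h1 : Algebra.FormallySmooth k[X] k⟮s⟯ :=
    Algebra.FormallySmooth.of_isLocalization (nonZeroDivisors k[X])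
  have h2 : Algebra.FormallyEtale k⟮s⟯ K := Algebra.FormallyEtale.of_isSeparable k⟮s⟯ K
  exact Algebra.FormallySmooth.comp k[X] k⟮s⟯ K

/-- **Existence of the total Hasse derivative** with respect to a separating variable. -/
theorem exists_isHasseFamily_of_isSeparable (s : K) (hs : Transcendental k s)
    [Algebra.IsSeparable k⟮s⟯ K] :
    ∃ H : K →ₐ[k] PowerSeries K, LocRes.IsHasseFamily s H := by
  let algPK : Algebra k[X] K := (Polynomial.aeval s).toRingHom.toAlgebra
  have hsm : Algebra.FormallySmooth k[X] K := formallySmooth_polynomial_of_isSeparable s hs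
  let algPS : Algebra k[X] (PowerSeries K) :=
    (Polynomial.aeval (PowerSeries.C s + PowerSeries.X : PowerSeries K)).toRingHom.toAlgebra
  have htK : IsScalarTower k k[X] K := by
    refine IsScalarTower.of_algebraMap_eq fun c => ?_
    change algebraMap k K c = Polynomial.aeval s (Polynomial.C c)
    rw [Polynomial.aeval_C]
  have htS : IsScalarTower k k[X] (PowerSeries K) := by
    refine IsScalarTower.of_algebraMap_eq fun c => ?_
    change algebraMap k (PowerSeries K) c =
      Polynomial.aeval (PowerSeries.C s + PowerSeries.X : PowerSeries K) (Polynomial.C c)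
    rw [Polynomial.aeval_C]
  set I : Ideal (PowerSeries K) := Ideal.span {PowerSeries.X} with hI
  have hmem : ∀ f : PowerSeries K, f ∈ I ↔ PowerSeries.constantCoeff f = 0 := by
    intro f
    rw [hI, Ideal.mem_span_singleton, PowerSeries.X_dvd_iff]
  -- the map to the quotient
  have hcc : ∀ p : k[X], PowerSeries.constantCoeff
      (Polynomial.aeval (PowerSeries.C s + PowerSeries.X : PowerSeries K) p) =
        Polynomial.aeval s p := by
    intro p
    have h := Polynomial.hom_eval₂ p (algebraMap k (PowerSeries K))
      (PowerSeries.constantCoeff (R := K)) (PowerSeries.C s + PowerSeries.X)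
    have hcomp : (PowerSeries.constantCoeff (R := K)).comp (algebraMap k (PowerSeries K)) =
        algebraMap k K := by
      ext c
      rw [RingHom.comp_apply, PowerSeries.algebraMap_apply, PowerSeries.constantCoeff_C]
    have hx : PowerSeries.constantCoeff (PowerSeries.C s + PowerSeries.X : PowerSeries K) = s := by
      rw [map_add, PowerSeries.constantCoeff_C, PowerSeries.constantCoeff_X, add_zero]
    rw [Polynomial.aeval_def, Polynomial.aeval_def, h, hcomp, hx]
  let f : K →ₐ[k[X]] PowerSeries K ⧸ I :=
    { toRingHom := (Ideal.Quotient.mk I).comp (PowerSeries.C (R := K))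
      commutes' := fun p => by
        change Ideal.Quotient.mk I (PowerSeries.C (Polynomial.aeval s p)) =
          Ideal.Quotient.mk I (Polynomial.aeval (PowerSeries.C s + PowerSeries.X : PowerSeries K) p)
        rw [Ideal.Quotient.eq, hmem, map_sub, PowerSeries.constantCoeff_C, hcc, sub_self] }
  obtain ⟨g, hg⟩ := Algebra.FormallySmooth.exists_mkₐ_comp_eq_of_isAdicComplete f
  refine ⟨g.restrictScalars k, ?_, ?_⟩
  · change g s = _
    have h1 : s = algebraMap k[X] K Polynomial.X := by
      change s = Polynomial.aeval s Polynomial.X
      rw [Polynomial.aeval_X]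
    rw [h1, g.commutes]
    change Polynomial.aeval (PowerSeries.C s + PowerSeries.X : PowerSeries K) Polynomial.X = _
    rw [Polynomial.aeval_X, ← h1]
  · intro y
    change PowerSeries.constantCoeff (g y) = y
    have h1 := congrArg (fun φ => φ y) hg
    change Ideal.Quotient.mk I (g y) = Ideal.Quotient.mk I (PowerSeries.C y) at h1
    rw [Ideal.Quotient.eq, hmem, map_sub, PowerSeries.constantCoeff_C, sub_eq_zero] at h1
    exact h1

end Groth.Agent.H57
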