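import Groth.Agent.H57.HasseIter

set_option autoImplicit false

namespace Groth.Agent.H57

open FunFld Groth.Agent.FF PowerSeries

universe u v
variable {k : Type u} {K : Type v} [Field k] [Field K] [Algebra k K]

theorem hasseD_mul (H : K →ₐ[k] PowerSeries K) (M : ℕ) (x y : K) :
    LocRes.hasseD H M (x * y) =
      ∑ p ∈ Finset.HasAntidiagonal.antidiagonal M, LocRes.hasseD H p.1 x * LocRes.hasseD H p.2 y := by
  simp only [LocRes.hasseD_apply, map_mul, PowerSeries.coeff_mul]

theorem hasseD_sum (H : K →ₐ[k] PowerSeries K) (M : ℕ) {ι : Type*} (S : Finset ι) (f : ι → K) :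
    LocRes.hasseD H M (∑ i ∈ S, f i) = ∑ i ∈ S, LocRes.hasseD H M (f i) := by
  simp only [LocRes.hasseD_apply, map_sum]

theorem hasseD_zero_right (H : K →ₐ[k] PowerSeries K) (M : ℕ) : LocRes.hasseD H M 0 = 0 := by
  simp [LocRes.hasseD_apply]

theorem hasseD_one (H : K →ₐ[k] PowerSeries K) (M : ℕ) (hM : 1 ≤ M) : LocRes.hasseD H M 1 = 0 := by
  rw [LocRes.hasseD_apply, map_one, PowerSeries.coeff_one, if_neg (by omega)]

open scoped Classical in
/-- The rows `(Dʲ φᵢ)ⱼ` of a `k`-linearly independent tuple are `K`-linearly independent. -/
theorem hasse_rows_independent_aux (hK : IsFunctionField k K) (s : K)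
    (H : K →ₐ[k] PowerSeries K) (hH : LocRes.IsHasseFamily s H) {m : ℕ} (φ : Fin m → K)
    (hφ : LinearIndependent k φ) :
    ∀ (N : ℕ) (a : Fin m → K), (Finset.univ.filter (fun i => a i ≠ 0)).card ≤ N →
      (∀ j, ∑ i, a i * LocRes.hasseD H j (φ i) = 0) → a = 0 := by
  classical
  intro N
  induction N with
  | zero =>
    intro a hcard _
    funext i
    change a i = 0
    by_contra hi
    have : i ∈ Finset.univ.filter (fun i => a i ≠ 0) := by simp [hi]
    have := Finset.card_pos.2 ⟨i, this⟩
    omega
  | succ N ih =>
    intro a hcard hrel
    by_contra hne
    obtain ⟨i₀, hi₀⟩ : ∃ i₀, a i₀ ≠ 0 := by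
      by_contra hno
      push Not at hno
      exact hne (funext hno)
    set b : Fin m → K := fun i => a i / a i₀ with hb
    have hb₀ : b i₀ = 1 := div_self hi₀
    have hbrel : ∀ j, ∑ i, b i * LocRes.hasseD H j (φ i) = 0 := by
      intro j
      have := hrel j
      have h2 : ∑ i, b i * LocRes.hasseD H j (φ i) =
          (∑ i, a i * LocRes.hasseD H j (φ i)) / a i₀ := by
        rw [Finset.sum_div]
        refine Finset.sum_congr rfl fun i _ => ?_
        simp only [hb]
        ring
      rw [h2, this, zero_div]
    have hbsupp : ∀ i, a i = 0 → b i = 0 := by
      intro i hi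
      simp only [hb, hi, zero_div]
    -- all higher Hasse derivatives of the `b i` vanish
    have hbm : ∀ M, 1 ≤ M → ∀ i, LocRes.hasseD H M (b i) = 0 := by
      intro M
      induction M using Nat.strong_induction_on with
      | _ M ihM =>
        intro hM
        have hrelM : ∀ j, ∑ i, LocRes.hasseD H M (b i) * LocRes.hasseD H j (φ i) = 0 := by
          intro j
          have h1 := congrArg (LocRes.hasseD H M) (hbrel j)
          rw [hasseD_sum, hasseD_zero_right] at h1
          have h2 : ∀ i, LocRes.hasseD H M (b i * LocRes.hasseD H j (φ i)) =
              b i * (((M + j).choose j : K) * LocRes.hasseD H (M + j) (φ i)) +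
                LocRes.hasseD H M (b i) * LocRes.hasseD H j (φ i) := by
            intro i
            rw [hasseD_mul]
            rw [Finset.sum_eq_add_of_mem ((0, M) : ℕ × ℕ) ((M, 0) : ℕ × ℕ)
              (by simp) (by simp) (by
                intro h
                have := congrArg Prod.fst h
                simp only at this
                omega)]
            · simp only
              rw [hasseD_zero_apply s H hH, hasseD_zero_apply s H hH, hasseD_hasseD hK s H hH]
            · intro c hc hcne
              rw [Finset.HasAntidiagonal.mem_antidiagonal] at hc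
              have hc1 : 1 ≤ c.1 := by
                by_contra h0
                apply hcne.1
                ext
                · simp only; omega
                · simp only; omega
              have hc2 : c.1 < M := by
                by_contra h0
                apply hcne.2
                ext
                · simp only; omega
                · simp only; omega
              rw [ihM c.1 hc2 hc1 i, zero_mul]
          simp only [h2, Finset.sum_add_distrib] at h1
          have h3 : ∑ i, b i * (((M + j).choose j : K) * LocRes.hasseD H (M + j) (φ i)) = 0 := by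
            have : ∑ i, b i * (((M + j).choose j : K) * LocRes.hasseD H (M + j) (φ i)) =
                ((M + j).choose j : K) * ∑ i, b i * LocRes.hasseD H (M + j) (φ i) := by
              rw [Finset.mul_sum]
              refine Finset.sum_congr rfl fun i _ => ?_
              ring
            rw [this, hbrel, mul_zero]
          rw [h3, zero_add] at h1
          exact h1
        have hcardM : (Finset.univ.filter (fun i => LocRes.hasseD H M (b i) ≠ 0)).card ≤ N := by
          have hsub : Finset.univ.filter (fun i => LocRes.hasseD H M (b i) ≠ 0) ⊆
              (Finset.univ.filter (fun i => a i ≠ 0)).erase i₀ := by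
            intro i hi
            simp only [Finset.mem_filter, Finset.mem_univ, true_and] at hi
            simp only [Finset.mem_erase, Finset.mem_filter, Finset.mem_univ, true_and]
            refine ⟨?_, ?_⟩
            · rintro rfl
              apply hi
              rw [hb₀, hasseD_one H M hM]
            · intro hai
              apply hi
              rw [hbsupp i hai, hasseD_zero_right]
          have h1 := Finset.card_le_card hsub
          have h2 : i₀ ∈ Finset.univ.filter (fun i => a i ≠ 0) := by simp [hi₀]
          rw [Finset.card_erase_of_mem h2] at h1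
          omega
        have := ih (fun i => LocRes.hasseD H M (b i)) hcardM hrelM
        intro i
        exact congrFun this i
    -- hence the `b i` are constants
    have hconst : ∀ i, b i ∈ Set.range (algebraMap k K) := fun i =>
      mem_range_of_hasseD_eq_zero hK s H hH (b i) (fun j hj => hbm j hj i)
    choose c hc using hconst
    have h0 := hbrel 0
    simp only [hasseD_zero_apply s H hH] at h0
    have h1 : ∑ i, c i • φ i = 0 := by
      rw [← h0]
      refine Finset.sum_congr rfl fun i _ => ?_
      rw [Algebra.smul_def, hc i]
    have h2 := (Fintype.linearIndependent_iff.1 hφ) c h1 i₀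
    have h3 := hc i₀
    rw [h2, map_zero, hb₀] at h3
    exact zero_ne_one h3

theorem hasse_rows_independent (hK : IsFunctionField k K) (s : K)
    (H : K →ₐ[k] PowerSeries K) (hH : LocRes.IsHasseFamily s H) {m : ℕ} (φ : Fin m → K)
    (hφ : LinearIndependent k φ) (a : Fin m → K)
    (ha : ∀ j, ∑ i, a i * LocRes.hasseD H j (φ i) = 0) : a = 0 :=
  hasse_rows_independent_aux hK s H hH φ hφ m a
    ((Finset.card_le_univ _).trans (by rw [Fintype.card_fin])) ha

end Groth.Agent.H57
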