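import Groth.Agent.H57.HasseIter
import Mathlib.RingTheory.LaurentSeries

set_option autoImplicit false

namespace Groth.Agent.H57

open FunFld Groth.Agent.FF PowerSeries

section Taylor

variable {F : Type*} [Field F]

/-- The Taylor map `F[[X]] → F((X))[[Y]]`. -/
noncomputable def taylorL₀ : PowerSeries F →+* PowerSeries (LaurentSeries F) :=
  (PowerSeries.map (HahnSeries.ofPowerSeries ℤ F)).comp taylorPS

theorem coeff_taylorL₀ (j : ℕ) (g : PowerSeries F) :
    PowerSeries.coeff j (taylorL₀ g) = HahnSeries.ofPowerSeries ℤ F (psHasse j g) := by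
  unfold taylorL₀
  rw [RingHom.comp_apply, PowerSeries.coeff_map, coeff_taylorPS]

theorem isUnit_taylorL₀ (y : Submonoid.powers (PowerSeries.X : PowerSeries F)) :
    IsUnit (taylorL₀ (y : PowerSeries F)) := by
  obtain ⟨_, n, rfl⟩ := y
  change IsUnit (taylorL₀ (PowerSeries.X ^ n))
  rw [map_pow]
  apply IsUnit.pow
  rw [PowerSeries.isUnit_iff_constantCoeff, ← PowerSeries.coeff_zero_eq_constantCoeff_apply,
    coeff_taylorL₀, psHasse_zero, HahnSeries.ofPowerSeries_X]
  exact (HahnSeries.isUnit_iff (x := HahnSeries.single (1 : ℤ) (1 : F))).2 (by simp)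

/-- The Taylor map `F((X)) → F((X))[[Y]]`, `f(X) ↦ f(X + Y)`. -/
noncomputable def taylorL : LaurentSeries F →+* PowerSeries (LaurentSeries F) :=
  IsLocalization.lift (M := Submonoid.powers (PowerSeries.X : PowerSeries F))
    (g := taylorL₀) isUnit_taylorL₀

theorem taylorL_coe (g : PowerSeries F) :
    taylorL (HahnSeries.ofPowerSeries ℤ F g) = taylorL₀ g :=
  IsLocalization.lift_eq (M := Submonoid.powers (PowerSeries.X : PowerSeries F))
    isUnit_taylorL₀ g

theorem constantCoeff_taylorL (f : LaurentSeries F) :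
    PowerSeries.constantCoeff (taylorL f) = f := by
  have h : (PowerSeries.constantCoeff (R := LaurentSeries F)).comp taylorL = RingHom.id _ := by
    apply IsLocalization.ringHom_ext (Submonoid.powers (PowerSeries.X : PowerSeries F))
    ext g : 1
    change PowerSeries.constantCoeff (taylorL (HahnSeries.ofPowerSeries ℤ F g)) =
      HahnSeries.ofPowerSeries ℤ F g
    rw [taylorL_coe, ← PowerSeries.coeff_zero_eq_constantCoeff_apply, coeff_taylorL₀, psHasse_zero]
  exact DFunLike.congr_fun h f

theorem taylorL₀_C (a : F) :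
    taylorL₀ (PowerSeries.C a) = PowerSeries.C (HahnSeries.C a : LaurentSeries F) := by
  refine PowerSeries.ext fun j => ?_
  rw [coeff_taylorL₀, PowerSeries.coeff_C]
  split_ifs with hj
  · subst hj
    rw [psHasse_zero, HahnSeries.ofPowerSeries_C]
  · rw [psHasse_C j (Nat.pos_of_ne_zero hj), map_zero]

theorem taylorL₀_X :
    taylorL₀ (PowerSeries.X : PowerSeries F) =
      PowerSeries.C (HahnSeries.single (1 : ℤ) (1 : F) : LaurentSeries F) + PowerSeries.X := by
  refine PowerSeries.ext fun j => ?_
  rw [coeff_taylorL₀, map_add, PowerSeries.coeff_C]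
  rcases j with _ | _ | j
  · rw [psHasse_zero, if_pos rfl, HahnSeries.ofPowerSeries_X]
    simp
  · rw [if_neg (by omega), PowerSeries.coeff_one_X, zero_add]
    have : psHasse 1 (PowerSeries.X : PowerSeries F) = 1 := by
      refine PowerSeries.ext fun i => ?_
      rw [coeff_psHasse, PowerSeries.coeff_one, PowerSeries.coeff_X]
      rcases i with _ | i
      · simp
      · rw [if_neg (by omega), if_neg (by omega), mul_zero]
    rw [this, map_one, zero_add]
  · rw [if_neg (by omega), zero_add, PowerSeries.coeff_X, if_neg (by omega)]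
    have : psHasse (j + 2) (PowerSeries.X : PowerSeries F) = 0 := by
      refine PowerSeries.ext fun i => ?_
      rw [coeff_psHasse, PowerSeries.coeff_X, if_neg (by omega), mul_zero, map_zero]
    rw [this, map_zero]

end Taylor

section Expansion

universe u v w
variable {k : Type u} {K : Type v} [Field k] [Field K] [Algebra k K]
variable {F : Type w} [Field F] [Algebra k F]

/-- Hasse derivatives with respect to `t` correspond, through a Laurent expansion sending `t` to
`X`, to the Taylor map on Laurent series. -/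
theorem map_hasse_eq_taylorL (hK : IsFunctionField k K)
    (φ : K →ₐ[k] LaurentSeries F) (t : K) (ht : φ t = HahnSeries.single 1 1)
    (H : K →ₐ[k] PowerSeries K) (hH : LocRes.IsHasseFamily t H) (x : K) :
    PowerSeries.map (φ : K →+* LaurentSeries F) (H x) = taylorL (φ x) := by
  have hs := transcendental_of_isHasseFamily hK t H hH
  let Φ₁ : K →ₐ[k] PowerSeries (LaurentSeries F) :=
    { toRingHom := (PowerSeries.map (φ : K →+* LaurentSeries F)).comp (H : K →+* PowerSeries K)
      commutes' := fun c => by
        change PowerSeries.map (φ : K →+* LaurentSeries F) (H (algebraMap k K c)) = _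
        rw [AlgHom.commutes, PowerSeries.algebraMap_apply, PowerSeries.map_C,
          PowerSeries.algebraMap_apply]
        congr 1
        exact AlgHom.commutes φ c }
  let Φ₂ : K →ₐ[k] PowerSeries (LaurentSeries F) :=
    { toRingHom := (taylorL (F := F)).comp (φ : K →+* LaurentSeries F)
      commutes' := fun c => by
        change taylorL (φ (algebraMap k K c)) = _
        rw [LocRes.map_algebraMap, ← HahnSeries.ofPowerSeries_C, taylorL_coe, taylorL₀_C,
          PowerSeries.algebraMap_apply]
        congr 1
        rw [HahnSeries.algebraMap_apply', PowerSeries.algebraMap_apply,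
          HahnSeries.ofPowerSeries_C] }
  have hΦ₁ : ∀ z, Φ₁ z = PowerSeries.map (φ : K →+* LaurentSeries F) (H z) := fun z => rfl
  have hΦ₂ : ∀ z, Φ₂ z = taylorL (φ z) := fun z => rfl
  have hε : ∀ z, PowerSeries.constantCoeff (R := LaurentSeries F) (Φ₁ z) =
      PowerSeries.constantCoeff (R := LaurentSeries F) (Φ₂ z) := by
    intro z
    rw [hΦ₁, hΦ₂, constantCoeff_taylorL, ← PowerSeries.coeff_zero_eq_constantCoeff_apply,
      PowerSeries.coeff_map, PowerSeries.coeff_zero_eq_constantCoeff_apply, hH.2]
    rfl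
  have hs12 : Φ₁ t = Φ₂ t := by
    rw [hΦ₁, hΦ₂, hH.1, ht, ← HahnSeries.ofPowerSeries_X, taylorL_coe, taylorL₀_X, map_add,
      PowerSeries.map_C, PowerSeries.map_X]
    congr 2
  have heq := algHom_eq_of_transcendental hK Φ₁ Φ₂ (PowerSeries.constantCoeff (R := LaurentSeries F))
    hε hs hs12
  exact DFunLike.congr_fun heq x

/-- If `x` expands as a power series `g`, then `D_t^{(j)} x` expands as the `j`-th Hasse
derivative of `g`. -/
theorem expansion_hasseD (hK : IsFunctionField k K)
    (φ : K →ₐ[k] LaurentSeries F) (t : K) (ht : φ t = HahnSeries.single 1 1)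
    (H : K →ₐ[k] PowerSeries K) (hH : LocRes.IsHasseFamily t H) (x : K) (g : PowerSeries F)
    (hx : φ x = HahnSeries.ofPowerSeries ℤ F g) (j : ℕ) :
    φ (LocRes.hasseD H j x) = HahnSeries.ofPowerSeries ℤ F (psHasse j g) := by
  have h := congrArg (PowerSeries.coeff j) (map_hasse_eq_taylorL hK φ t ht H hH x)
  rw [PowerSeries.coeff_map, hx, taylorL_coe, coeff_taylorL₀] at h
  exact h

/-- The power series Hasse derivative agrees with Mathlib's Laurent series Hasse derivative. -/
theorem ofPowerSeries_psHasse (j : ℕ) (g : PowerSeries F) :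
    HahnSeries.ofPowerSeries ℤ F (psHasse j g) =
      LaurentSeries.hasseDeriv F j (HahnSeries.ofPowerSeries ℤ F g) := by
  ext m
  rw [LaurentSeries.hasseDeriv_coeff, PowerSeries.coeff_coe, PowerSeries.coeff_coe]
  by_cases hm : m < 0
  · rw [if_pos hm]
    by_cases hmj : m + (j : ℤ) < 0
    · rw [if_pos hmj, smul_zero]
    · rw [if_neg hmj]
      obtain ⟨a, ha⟩ := Int.eq_ofNat_of_zero_le (not_lt.1 hmj)
      rw [ha, Ring.choose_natCast, Nat.choose_eq_zero_of_lt (by omega)]
      simp
  · rw [if_neg hm, if_neg (by omega)]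
    obtain ⟨a, rfl⟩ := Int.eq_ofNat_of_zero_le (not_lt.1 hm)
    rw [coeff_psHasse]
    have h1 : ((a : ℤ) + (j : ℤ)) = ((a + j : ℕ) : ℤ) := by push_cast; rfl
    rw [h1, Ring.choose_natCast, Int.natAbs_natCast, Int.natAbs_natCast]
    simp

end Expansion

end Groth.Agent.H57
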