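import Groth.Agent.H57.LocRing2
import Groth.Agent.H57.LaurentTaylor
import Groth.Prelude.Def_W4bk4goldsch45p2

set_option autoImplicit false

namespace Groth.Agent.H57

open FunFld Groth.Agent.FF WithZero

universe u v
variable {k : Type u} {K : Type v} [Field k] [Field K] [Algebra k K]

section
variable [IsAlgClosed k] (hK : IsFunctionField k K) (P : Place k K)
include hK

theorem bijective_algebraMap_residueField :
    Function.Bijective (algebraMap k (IsLocalRing.ResidueField P.O)) := by
  have hfin := finite_residueField hK P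
  have hint : Algebra.IsIntegral k (IsLocalRing.ResidueField P.O) :=
    @Algebra.IsIntegral.of_finite k _ _ _ _ hfin
  exact IsAlgClosed.algebraMap_bijective_of_isIntegral

/-- The residue constant map `O_P → k`. -/
noncomputable def rho : P.O →+* k :=
  ((RingEquiv.ofBijective (algebraMap k (IsLocalRing.ResidueField P.O))
    (bijective_algebraMap_residueField hK P)).symm : IsLocalRing.ResidueField P.O →+* k).comp
    (IsLocalRing.residue P.O)

theorem algebraMap_rho (x : P.O) :
    algebraMap k (IsLocalRing.ResidueField P.O) (rho hK P x) = IsLocalRing.residue P.O x := by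
  unfold rho
  simp only [RingHom.coe_comp, RingHom.coe_coe, Function.comp_apply]
  exact (RingEquiv.ofBijective (algebraMap k (IsLocalRing.ResidueField P.O))
    (bijective_algebraMap_residueField hK P)).apply_symm_apply _

theorem rho_algebraMap (c : k) : rho hK P (algebraMap k P.O c) = c := by
  apply (bijective_algebraMap_residueField hK P).1
  rw [algebraMap_rho]
  rfl

theorem val_sub_rho_lt_one (x : P.O) : P.1 ((x : K) - algebraMap k K (rho hK P x)) < 1 := by
  have h1 : res P (x - algebraMap k P.O (rho hK P x)) = 0 := by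
    rw [map_sub, ← algebraMap_res, algebraMap_rho, sub_self]
  rw [res_eq_zero_iff] at h1
  exact h1

theorem rho_eq_zero_iff (x : P.O) : rho hK P x = 0 ↔ P.1 (x : K) < 1 := by
  have h := val_sub_rho_lt_one hK P x
  exact (val_lt_one_iff_of_residue P h).symm

theorem rho_eq_of_val_lt_one (x : P.O) (c : k) (h : P.1 ((x : K) - algebraMap k K c) < 1) :
    rho hK P x = c :=
  residue_const_unique P _ (val_sub_rho_lt_one hK P x) h

variable (t : K) (ht : P.1 t = exp (-1 : ℤ))

omit [IsAlgClosed k] hK in
theorem ne_zero_of_val_eq_exp {t : K} (ht : P.1 t = exp (-1 : ℤ)) : t ≠ 0 := by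
  rw [← P.1.ne_zero_iff, ht]
  exact exp_ne_zero

/-- The shift operator `x ↦ (x - x(P)) / t` on the valuation ring. -/
noncomputable def shift (x : P.O) : P.O :=
  ⟨((x : K) - algebraMap k K (rho hK P x)) / t, by
    rw [Valuation.mem_valuationSubring_iff, map_div₀, ht]
    have h := (val_lt_one_iff_le_exp_neg_one P _).1 (val_sub_rho_lt_one hK P x)
    rw [div_le_one₀ (zero_lt_iff.2 exp_ne_zero)]
    exact h⟩

theorem coe_shift (x : P.O) :
    ((shift hK P t ht x : P.O) : K) = ((x : K) - algebraMap k K (rho hK P x)) / t := rfl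

theorem shift_spec (x : P.O) :
    (x : K) = algebraMap k K (rho hK P x) + t * (shift hK P t ht x : K) := by
  have ht0 := ne_zero_of_val_eq_exp P ht
  rw [coe_shift]
  field_simp
  ring

theorem shift_add (x y : P.O) :
    shift hK P t ht (x + y) = shift hK P t ht x + shift hK P t ht y := by
  apply Subtype.ext
  have ht0 := ne_zero_of_val_eq_exp P ht
  change ((((x + y : P.O) : K)) - algebraMap k K (rho hK P (x + y))) / t =
    ((x : K) - algebraMap k K (rho hK P x)) / t + ((y : K) - algebraMap k K (rho hK P y)) / t
  rw [map_add, map_add]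
  push_cast
  field_simp
  ring

theorem shift_mul (x y : P.O) :
    shift hK P t ht (x * y) =
      shift hK P t ht x * y + algebraMap k P.O (rho hK P x) * shift hK P t ht y := by
  apply Subtype.ext
  have ht0 := ne_zero_of_val_eq_exp P ht
  change ((((x * y : P.O) : K)) - algebraMap k K (rho hK P (x * y))) / t =
    ((x : K) - algebraMap k K (rho hK P x)) / t * (y : K) +
      algebraMap k K (rho hK P x) * (((y : K) - algebraMap k K (rho hK P y)) / t)
  rw [map_mul, map_mul]
  push_cast
  field_simp
  ring

theorem shift_algebraMap (c : k) : shift hK P t ht (algebraMap k P.O c) = 0 := by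
  apply Subtype.ext
  change ((algebraMap k K c) - algebraMap k K (rho hK P (algebraMap k P.O c))) / t = 0
  rw [rho_algebraMap, sub_self, zero_div]

theorem shift_algebraMap_mul (c : k) (x : P.O) :
    shift hK P t ht (algebraMap k P.O c * x) = algebraMap k P.O c * shift hK P t ht x := by
  rw [shift_mul, shift_algebraMap, zero_mul, zero_add, rho_algebraMap]

/-- The `m`-th expansion coefficient of `x` at `P` with respect to `t`. -/
noncomputable def ecoeff (m : ℕ) (x : P.O) : k := rho hK P ((shift hK P t ht)^[m] x)

theorem ecoeff_zero (x : P.O) : ecoeff hK P t ht 0 x = rho hK P x := rfl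

theorem ecoeff_succ (m : ℕ) (x : P.O) :
    ecoeff hK P t ht (m + 1) x = ecoeff hK P t ht m (shift hK P t ht x) := by
  unfold ecoeff
  rw [Function.iterate_succ_apply]

theorem ecoeff_add (m : ℕ) (x y : P.O) :
    ecoeff hK P t ht m (x + y) = ecoeff hK P t ht m x + ecoeff hK P t ht m y := by
  induction m generalizing x y with
  | zero => simp only [ecoeff_zero, map_add]
  | succ m ih => rw [ecoeff_succ, ecoeff_succ, ecoeff_succ, shift_add, ih]

theorem ecoeff_algebraMap_mul (m : ℕ) (c : k) (x : P.O) :
    ecoeff hK P t ht m (algebraMap k P.O c * x) = c * ecoeff hK P t ht m x := by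
  induction m generalizing x with
  | zero => simp only [ecoeff_zero, map_mul, rho_algebraMap]
  | succ m ih => rw [ecoeff_succ, ecoeff_succ, shift_algebraMap_mul, ih]

theorem ecoeff_mul (m : ℕ) (x y : P.O) :
    ecoeff hK P t ht m (x * y) =
      ∑ p ∈ Finset.HasAntidiagonal.antidiagonal m, ecoeff hK P t ht p.1 x * ecoeff hK P t ht p.2 y := by
  induction m generalizing x y with
  | zero =>
    simp only [Finset.Nat.antidiagonal_zero, Finset.sum_singleton, ecoeff_zero, map_mul]
  | succ m ih =>
    rw [ecoeff_succ, shift_mul, ecoeff_add, ih, ecoeff_algebraMap_mul,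
      Finset.Nat.sum_antidiagonal_succ]
    rw [add_comm]
    congr 1

theorem ecoeff_algebraMap (m : ℕ) (c : k) :
    ecoeff hK P t ht m (algebraMap k P.O c) = if m = 0 then c else 0 := by
  cases m with
  | zero => simp only [ecoeff_zero, rho_algebraMap, if_true]
  | succ m =>
    rw [ecoeff_succ, shift_algebraMap, if_neg (by omega)]
    have : (0 : P.O) = algebraMap k P.O 0 * 0 := by simp
    rw [this, ecoeff_algebraMap_mul, zero_mul]

/-- The expansion homomorphism `O_P → k[[X]]`. -/
noncomputable def expandO : P.O →+* PowerSeries k where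
  toFun x := PowerSeries.mk fun m => ecoeff hK P t ht m x
  map_one' := by
    ext m
    rw [PowerSeries.coeff_mk, PowerSeries.coeff_one]
    have : (1 : P.O) = algebraMap k P.O 1 := (map_one _).symm
    rw [this, ecoeff_algebraMap]
  map_mul' x y := by
    ext m
    rw [PowerSeries.coeff_mk, PowerSeries.coeff_mul, ecoeff_mul]
    refine Finset.sum_congr rfl fun p _ => ?_
    rw [PowerSeries.coeff_mk, PowerSeries.coeff_mk]
  map_zero' := by
    ext m
    rw [PowerSeries.coeff_mk, map_zero]
    have : (0 : P.O) = algebraMap k P.O 0 := (map_zero _).symm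
    rw [this, ecoeff_algebraMap]
    simp
  map_add' x y := by
    ext m
    rw [PowerSeries.coeff_mk, map_add, PowerSeries.coeff_mk, PowerSeries.coeff_mk, ecoeff_add]

theorem coeff_expandO (m : ℕ) (x : P.O) :
    PowerSeries.coeff m (expandO hK P t ht x) = ecoeff hK P t ht m x := by
  unfold expandO
  simp [PowerSeries.coeff_mk]

theorem expandO_algebraMap (c : k) :
    expandO hK P t ht (algebraMap k P.O c) = PowerSeries.C c := by
  ext m
  rw [coeff_expandO, ecoeff_algebraMap, PowerSeries.coeff_C]

theorem val_le_exp_neg_iff (m : ℕ) (x : P.O) :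
    P.1 (x : K) ≤ exp (-(m : ℤ)) ↔ ∀ i, i < m → ecoeff hK P t ht i x = 0 := by
  induction m generalizing x with
  | zero =>
    simp only [Nat.cast_zero, neg_zero, exp_zero, not_lt_zero, false_imp_iff, implies_true,
      iff_true]
    exact x.2
  | succ m ih =>
    have hspec := shift_spec hK P t ht x
    constructor
    · intro h i hi
      have hlt : P.1 (x : K) < 1 := by
        refine h.trans_lt ?_
        rw [← exp_zero, exp_lt_exp]
        push_cast
        omega
      have hρ : rho hK P x = 0 := (rho_eq_zero_iff hK P x).2 hlt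
      rw [hρ, map_zero, zero_add] at hspec
      cases i with
      | zero => exact hρ
      | succ i =>
        rw [ecoeff_succ]
        apply (ih (shift hK P t ht x)).1 _ i (by omega)
        rw [hspec, map_mul, ht] at h
        have h2 : exp (-((m + 1 : ℕ) : ℤ)) = exp (-1 : ℤ) * exp (-(m : ℤ)) := by
          rw [← exp_add]; congr 1; push_cast; ring
        rw [h2] at h
        exact le_of_mul_le_mul_left h (zero_lt_iff.2 exp_ne_zero)
    · intro h
      have hρ : rho hK P x = 0 := h 0 (by omega)
      rw [hρ, map_zero, zero_add] at hspec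
      have h1 : P.1 ((shift hK P t ht x : P.O) : K) ≤ exp (-(m : ℤ)) := by
        apply (ih (shift hK P t ht x)).2
        intro i hi
        rw [← ecoeff_succ]
        exact h (i + 1) (by omega)
      rw [hspec, map_mul, ht]
      have h2 : exp (-((m + 1 : ℕ) : ℤ)) = exp (-1 : ℤ) * exp (-(m : ℤ)) := by
        rw [← exp_add]; congr 1; push_cast; ring
      rw [h2]
      exact mul_le_mul' le_rfl h1

theorem expandO_injective : Function.Injective (expandO hK P t ht) := by
  rw [injective_iff_map_eq_zero]
  intro x hx
  by_contra hx0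
  have hxK : (x : K) ≠ 0 := fun h => hx0 (Subtype.ext h)
  have hall : ∀ m : ℕ, P.1 (x : K) ≤ exp (-(m : ℤ)) := by
    intro m
    rw [val_le_exp_neg_iff hK P t ht]
    intro i _
    rw [← coeff_expandO, hx, map_zero]
  have hord : 0 ≤ P.ord (x : K) := (val_le_one_iff P hxK).1 x.2
  have := hall ((P.ord (x : K)).toNat + 1)
  rw [val_le_exp_iff P hxK] at this
  push_cast at this
  have h2 : ((P.ord (x : K)).toNat : ℤ) = P.ord (x : K) := Int.toNat_of_nonneg hord
  omega

theorem constantCoeff_expandO (x : P.O) :
    PowerSeries.constantCoeff (expandO hK P t ht x) = rho hK P x := by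
  rw [← PowerSeries.coeff_zero_eq_constantCoeff_apply, coeff_expandO, ecoeff_zero]

theorem expandO_t :
    expandO hK P t ht ⟨t, by
      rw [Valuation.mem_valuationSubring_iff, ht, ← exp_zero, exp_le_exp]; norm_num⟩ =
      PowerSeries.X := by
  have htmem : t ∈ P.O := by
    rw [Valuation.mem_valuationSubring_iff, ht, ← exp_zero, exp_le_exp]; norm_num
  have ht0 := ne_zero_of_val_eq_exp P ht
  have hρ : rho hK P ⟨t, htmem⟩ = 0 := by
    rw [rho_eq_zero_iff]
    change P.1 t < 1
    rw [ht, ← exp_zero, exp_lt_exp]; norm_num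
  have hshift : shift hK P t ht ⟨t, htmem⟩ = 1 := by
    apply Subtype.ext
    rw [coe_shift, hρ, map_zero, sub_zero]
    change t / t = 1
    exact div_self ht0
  ext m
  rw [coeff_expandO, PowerSeries.coeff_X]
  rcases m with _ | _ | m
  · rw [ecoeff_zero, hρ, if_neg (by omega)]
  · rw [ecoeff_succ, hshift, ecoeff_zero, map_one, if_pos rfl]
  · rw [ecoeff_succ, hshift, ecoeff_succ]
    have h1 : shift hK P t ht (1 : P.O) = 0 := by
      have : (1 : P.O) = algebraMap k P.O 1 := (map_one _).symm
      rw [this, shift_algebraMap]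
    rw [h1, if_neg (by omega)]
    have : (0 : P.O) = algebraMap k P.O 0 := (map_zero _).symm
    rw [this, ecoeff_algebraMap]
    simp

theorem ofPowerSeries_comp_expandO_injective :
    Function.Injective ((HahnSeries.ofPowerSeries ℤ k).comp (expandO hK P t ht)) := by
  rw [RingHom.coe_comp]
  exact HahnSeries.ofPowerSeries_injective.comp (expandO_injective hK P t ht)

/-- The Laurent expansion `K → k((X))` at `P` with respect to the local parameter `t`. -/
noncomputable def expandK : K →ₐ[k] LaurentSeries k :=
  { toRingHom := IsFractionRing.lift (A := P.O) (K := K)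
      (g := (HahnSeries.ofPowerSeries ℤ k).comp (expandO hK P t ht))
      (ofPowerSeries_comp_expandO_injective hK P t ht)
    commutes' := fun c => by
      change IsFractionRing.lift (A := P.O) (K := K)
        (ofPowerSeries_comp_expandO_injective hK P t ht) (algebraMap P.O K (algebraMap k P.O c)) = _
      rw [IsFractionRing.lift_algebraMap, RingHom.comp_apply, expandO_algebraMap,
        HahnSeries.algebraMap_apply', PowerSeries.algebraMap_apply]
      rfl }

theorem expandK_coe (x : P.O) :
    expandK hK P t ht (x : K) = HahnSeries.ofPowerSeries ℤ k (expandO hK P t ht x) := by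
  change IsFractionRing.lift (A := P.O) (K := K)
    (ofPowerSeries_comp_expandO_injective hK P t ht) (algebraMap P.O K x) = _
  rw [IsFractionRing.lift_algebraMap, RingHom.comp_apply]

theorem expandK_t : expandK hK P t ht t = HahnSeries.single (1 : ℤ) (1 : k) := by
  have htmem : t ∈ P.O := by
    rw [Valuation.mem_valuationSubring_iff, ht, ← exp_zero, exp_le_exp]; norm_num
  have h := expandK_coe hK P t ht ⟨t, htmem⟩
  rw [expandO_t, HahnSeries.ofPowerSeries_X] at h
  exact h

/-- An element whose expansion is a power series is integral at `P`. -/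
theorem val_le_one_of_expandK (z : K) (g : PowerSeries k)
    (hz : expandK hK P t ht z = HahnSeries.ofPowerSeries ℤ k g) : P.1 z ≤ 1 := by
  by_contra hlt
  rw [not_le] at hlt
  have hz0 : z ≠ 0 := by
    rintro rfl
    rw [map_zero] at hlt
    exact not_lt_of_ge zero_le_one hlt
  have hy : P.1 z⁻¹ < 1 := by
    rw [map_inv₀]
    exact inv_lt_one_of_one_lt₀ hlt
  have hymem : z⁻¹ ∈ P.O := by
    rw [Valuation.mem_valuationSubring_iff]; exact hy.le
  have h1 : expandK hK P t ht z * expandK hK P t ht z⁻¹ = 1 := by
    rw [← map_mul, mul_inv_cancel₀ hz0, map_one]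
  have h2 := expandK_coe hK P t ht ⟨z⁻¹, hymem⟩
  change expandK hK P t ht z⁻¹ = _ at h2
  rw [hz, h2, ← map_mul, ← map_one (HahnSeries.ofPowerSeries ℤ k)] at h1
  have h3 := HahnSeries.ofPowerSeries_injective h1
  have h4 := congrArg PowerSeries.constantCoeff h3
  rw [map_mul, constantCoeff_expandO, map_one] at h4
  have h5 : rho hK P ⟨z⁻¹, hymem⟩ = 0 := (rho_eq_zero_iff hK P _).2 hy
  rw [h5, mul_zero] at h4
  exact zero_ne_one h4

variable (Ht : K →ₐ[k] PowerSeries K) (hHt : LocRes.IsHasseFamily t Ht)
include hHt ht

/-- Hasse derivatives with respect to a local parameter at `P` preserve the valuation ring. -/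
theorem val_hasseD_le_one (x : K) (hx : P.1 x ≤ 1) (j : ℕ) : P.1 (LocRes.hasseD Ht j x) ≤ 1 := by
  have hxmem : x ∈ P.O := (Valuation.mem_valuationSubring_iff _ _).2 hx
  have h := expansion_hasseD hK (expandK hK P t ht) t (expandK_t hK P t ht) Ht hHt x
    (expandO hK P t ht ⟨x, hxmem⟩) (expandK_coe hK P t ht ⟨x, hxmem⟩) j
  exact val_le_one_of_expandK hK P t ht _ _ h

theorem expandO_hasseD (x : K) (hx : P.1 x ≤ 1) (j : ℕ) :
    expandO hK P t ht ⟨LocRes.hasseD Ht j x,
      (Valuation.mem_valuationSubring_iff _ _).2 (val_hasseD_le_one hK P t ht Ht hHt x hx j)⟩ =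
      psHasse j (expandO hK P t ht ⟨x, (Valuation.mem_valuationSubring_iff _ _).2 hx⟩) := by
  have hxmem : x ∈ P.O := (Valuation.mem_valuationSubring_iff _ _).2 hx
  have h := expansion_hasseD hK (expandK hK P t ht) t (expandK_t hK P t ht) Ht hHt x
    (expandO hK P t ht ⟨x, hxmem⟩) (expandK_coe hK P t ht ⟨x, hxmem⟩) j
  have h2 := expandK_coe hK P t ht ⟨LocRes.hasseD Ht j x,
      (Valuation.mem_valuationSubring_iff _ _).2 (val_hasseD_le_one hK P t ht Ht hHt x hx j)⟩
  change expandK hK P t ht (LocRes.hasseD Ht j x) = _ at h2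
  rw [h] at h2
  exact (HahnSeries.ofPowerSeries_injective h2).symm

theorem rho_hasseD (x : K) (hx : P.1 x ≤ 1) (j : ℕ) :
    rho hK P ⟨LocRes.hasseD Ht j x,
      (Valuation.mem_valuationSubring_iff _ _).2 (val_hasseD_le_one hK P t ht Ht hHt x hx j)⟩ =
      ecoeff hK P t ht j ⟨x, (Valuation.mem_valuationSubring_iff _ _).2 hx⟩ := by
  rw [← constantCoeff_expandO hK P t ht, expandO_hasseD hK P t ht Ht hHt x hx j,
    ← PowerSeries.coeff_zero_eq_constantCoeff_apply, coeff_psHasse, zero_add, Nat.choose_self,
    Nat.cast_one, one_mul, coeff_expandO]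

/-- The value at `P` of the `j`-th Hasse derivative is the `j`-th expansion coefficient. -/
theorem evalP_hasseD (x : K) (hx : P.1 x ≤ 1) (j : ℕ) :
    evalP P (LocRes.hasseD Ht j x) = algebraMap k (IsLocalRing.ResidueField P.O)
      (ecoeff hK P t ht j ⟨x, (Valuation.mem_valuationSubring_iff _ _).2 hx⟩) := by
  have h1 := val_hasseD_le_one hK P t ht Ht hHt x hx j
  rw [← rho_hasseD hK P t ht Ht hHt x hx j, algebraMap_rho]
  unfold evalP
  rw [dif_pos h1]

end

end Groth.Agent.H57
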