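import Groth.Agent.H57.WDivPos
import Groth.Agent.H57.OrdersExist
import Groth.Agent.S12599
import Mathlib.LinearAlgebra.Vandermonde

set_option autoImplicit false

namespace Groth.Agent.H57

open FunFld Groth.Agent.FF WithZero

universe u v
variable {k : Type u} {K : Type v} [Field k] [Field K] [Algebra k K]

/-- The matrix of binomial coefficients `(v i choose j)` is invertible when the `v i` are distinct
in the field. -/
theorem det_choose_ne_zero {R : Type*} [Field R] {m : ℕ} (v : Fin m → ℕ)
    (hv : Function.Injective fun i => (v i : R)) :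
    (Matrix.of fun i j : Fin m => ((Nat.choose (v i) (j : ℕ) : ℕ) : R)).det ≠ 0 := by
  have h := Matrix.det_eval_matrixOfPolynomials_eq_det_vandermonde (fun i => (v i : R))
    (fun i : Fin m => descPochhammer R i) (fun i => descPochhammer_natDegree R i)
    (fun i => monic_descPochhammer R i)
  set A : Matrix (Fin m) (Fin m) R :=
    Matrix.of fun i j : Fin m => ((Nat.choose (v i) (j : ℕ) : ℕ) : R) with hA
  set w : Fin m → R := fun j => ((Nat.factorial (j : ℕ) : ℕ) : R) with hw
  have h2 : (Matrix.of fun i j : Fin m => (descPochhammer R j).eval (v i : R)) =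
      Matrix.of fun i j => w j * A i j := by
    ext i j
    simp only [Matrix.of_apply, hA, hw]
    rw [descPochhammer_eval_eq_descFactorial, Nat.descFactorial_eq_factorial_mul_choose,
      Nat.cast_mul]
  rw [h2, Matrix.det_mul_row w A] at h
  intro h0
  rw [h0, mul_zero] at h
  exact (Matrix.det_vandermonde_ne_zero_iff.2 hv) h

/-- The matrix of binomial coefficients `(v i choose j + 1)` is invertible when the `v i` are
distinct and nonzero in the field. -/
theorem det_choose_succ_ne_zero {R : Type*} [Field R] {n : ℕ} (v : Fin n → ℕ)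
    (hv : Function.Injective fun i => (v i : R)) (hv0 : ∀ i, (v i : R) ≠ 0) :
    (Matrix.of fun i j : Fin n => ((Nat.choose (v i) ((j : ℕ) + 1) : ℕ) : R)).det ≠ 0 := by
  set w : Fin (n + 1) → ℕ := Fin.cases 0 v with hw
  have hwinj : Function.Injective fun i => (w i : R) := by
    intro a b hab
    induction a using Fin.cases with
    | zero =>
      induction b using Fin.cases with
      | zero => rfl
      | succ b =>
        simp only [hw, Fin.cases_zero, Fin.cases_succ, Nat.cast_zero] at hab
        exact absurd hab.symm (hv0 _)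
    | succ a =>
      induction b using Fin.cases with
      | zero =>
        simp only [hw, Fin.cases_zero, Fin.cases_succ, Nat.cast_zero] at hab
        exact absurd hab (hv0 _)
      | succ b =>
        simp only [hw, Fin.cases_succ] at hab
        rw [hv hab]
  have h := det_choose_ne_zero w hwinj
  rw [det_eq_det_submatrix_succ _ (by simp [hw]) (Or.inl fun s => by simp [hw])] at h
  have heq : (Matrix.of fun i j : Fin (n + 1) => ((Nat.choose (w i) (j : ℕ) : ℕ) : R)).submatrix
      Fin.succ Fin.succ = Matrix.of fun i j : Fin n => ((Nat.choose (v i) ((j : ℕ) + 1) : ℕ) : R) := by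
    ext i j
    simp [hw]
  rwa [heq] at h

/-- Natural numbers below the characteristic are distinct in the field. -/
theorem natCast_inj_of_le {R : Type*} [Field R] {N : ℕ} (hN : ringChar R = 0 ∨ N < ringChar R)
    {a b : ℕ} (ha : a ≤ N) (hb : b ≤ N) (h : (a : R) = b) : a = b := by
  have hmod := (CharP.natCast_eq_natCast R (ringChar R)).1 h
  rcases hN with h0 | hlt
  · rw [h0] at hmod
    exact Nat.modEq_zero_iff.1 hmod
  · exact Nat.ModEq.eq_of_lt_of_lt hmod (lt_of_le_of_lt ha hlt) (lt_of_le_of_lt hb hlt)

/-- A criterion for an explicit order sequence: the leading column and the columns at the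
sequence are linearly independent in a space of the right dimension, and the skipped columns are
not jumps. -/
theorem isOrders_of_linearIndependent {F V : Type*} [Field F] [AddCommGroup V] [Module F V]
    (c : ℕ → V) {n : ℕ} (hfin : Module.finrank F V = n + 1) (I : Fin n → ℕ) (hI : StrictMono I)
    (hli : LinearIndependent F (fun q : Fin (n + 1) =>
      Fin.cases (motive := fun _ => V) (c 0) (fun l => c (I l + 1)) q))
    (hnon : ∀ j, j ∉ Set.range I → (∃ l, j < I l) → ¬ IsJump F c (j + 1)) :
    IsOrders F c I := by
  classical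
  have : Module.Finite F V := Module.finite_of_finrank_pos (by rw [hfin]; exact Nat.succ_pos n)
  set d : Fin (n + 1) → V := fun q =>
    Fin.cases (motive := fun _ => V) (c 0) (fun l => c (I l + 1)) q with hd
  have hjr : ∀ j, IsJump F c (j + 1) → j ∈ Set.range I := by
    intro j hj
    by_contra hnr
    by_cases hex : ∃ l, j < I l
    · exact hnon j hnr hex hj
    · push Not at hex
      apply hj
      have htop : Submodule.span F (Set.range d) = ⊤ :=
        hli.span_eq_top_of_card_eq_finrank' (by rw [Fintype.card_fin, hfin])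
      have hsub : Set.range d ⊆ c '' Set.Iio (j + 1) := by
        rintro _ ⟨q, rfl⟩
        induction q using Fin.cases with
        | zero => exact ⟨0, by simp, rfl⟩
        | succ l =>
          refine ⟨I l + 1, ?_, rfl⟩
          rw [Set.mem_Iio]
          have h1 := hex l
          have h2 : I l ≠ j := fun h => hnr ⟨l, h⟩
          omega
      have : (⊤ : Submodule F V) ≤ Submodule.span F (c '' Set.Iio (j + 1)) := by
        rw [← htop]
        exact Submodule.span_mono hsub
      exact this Submodule.mem_top
  refine ⟨hI, fun j => ⟨?_, hjr j⟩⟩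
  rintro ⟨l, rfl⟩
  unfold IsJump
  rw [span_Iio_eq_span_jumps]
  intro hmem
  have hle : Submodule.span F (c '' {j' | j' < I l + 1 ∧ IsJump F c j'}) ≤
      Submodule.span F (d '' {q | q < Fin.succ l}) := by
    apply Submodule.span_mono
    rintro _ ⟨j', ⟨hj'lt, hj'j⟩, rfl⟩
    rcases Nat.eq_zero_or_pos j' with h0 | hpos
    · subst h0
      exact ⟨0, Fin.succ_pos l, rfl⟩
    · obtain ⟨j'', rfl⟩ : ∃ j'', j' = j'' + 1 := ⟨j' - 1, by omega⟩
      obtain ⟨l', hl'⟩ := hjr j'' hj'j
      have hl'l : l' < l := by
        by_contra hcon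
        push Not at hcon
        have := hI.monotone hcon
        omega
      refine ⟨Fin.succ l', Fin.succ_lt_succ_iff.2 hl'l, ?_⟩
      simp only [hd, Fin.cases_succ, hl']
  have hnot := hli.notMem_span_image (s := {q | q < Fin.succ l}) (x := Fin.succ l)
    (by simp)
  apply hnot
  have := hle hmem
  simpa [hd] using this

section
variable [IsAlgClosed k]

/-- A local parameter at a place is a separating variable (no expansion family needed). -/
theorem exists_local_hasse' (hK : IsFunctionField k K) (s : K) (Hs : K →ₐ[k] PowerSeries K)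
    (hHs : LocRes.IsHasseFamily s Hs) (P : Place k K) (t : K) (ht : P.1 t = exp (-1 : ℤ)) :
    ∃ Ht : K →ₐ[k] PowerSeries K, LocRes.IsHasseFamily t Ht := by
  apply exists_isHasseFamily s Hs hHs t
  intro h0
  have h1 := D_expansion_eq' hK (expandK hK P t ht) s Hs hHs t
  rw [h0, map_zero, zero_mul, expandK_t] at h1
  have h2 := congrArg (fun f : LaurentSeries k => f.coeff 0) h1
  simp only [LocRes.D_coeff, zero_add, HahnSeries.coeff_single_same, one_smul,
    HahnSeries.coeff_zero] at h2
  exact one_ne_zero h2

/-- Orders at a place exist for a tuple integral at the place with a unit entry. -/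
theorem exists_isOrders_hcolAt (hK : IsFunctionField k K) (P : Place k K) {n : ℕ}
    (φ : Fin (n + 1) → K) (hφ : LinearIndependent k φ) (hnorm : ∀ i, P.1 (φ i) ≤ 1)
    (i₀ : Fin (n + 1)) (hi₀ : P.1 (φ i₀) = 1) (t : K) (ht : P.1 t = exp (-1 : ℤ))
    (Ht : K →ₐ[k] PowerSeries K) (hHt : LocRes.IsHasseFamily t Ht) :
    ∃ J' : Fin n → ℕ, IsOrders (IsLocalRing.ResidueField P.O) (hcolAt P Ht φ) J' := by
  classical
  set c := hcolAt P Ht φ with hc
  have hrows := Groth.Agent.S12599.result k K hK φ hφ P hnorm t ht Ht hHt
  have hspan : Submodule.span (IsLocalRing.ResidueField P.O) (Set.range c) = ⊤ := by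
    by_contra hne
    have hlt : Submodule.span (IsLocalRing.ResidueField P.O) (Set.range c) < ⊤ :=
      lt_top_iff_ne_top.2 hne
    obtain ⟨f, hf0, hf⟩ := Submodule.exists_le_ker_of_lt_top _ hlt
    set a : Fin (n + 1) → IsLocalRing.ResidueField P.O := fun i => f (Pi.single i 1) with ha
    have hfv : ∀ v : Fin (n + 1) → IsLocalRing.ResidueField P.O, f v = ∑ i, a i * v i := by
      intro v
      have hv : v = ∑ i, v i • (Pi.single i (1 : IsLocalRing.ResidueField P.O) :
          Fin (n + 1) → IsLocalRing.ResidueField P.O) := by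
        funext l
        simp [Finset.sum_apply, Pi.single_apply]
      conv_lhs => rw [hv]
      rw [map_sum]
      refine Finset.sum_congr rfl fun i _ => ?_
      rw [map_smul, smul_eq_mul, mul_comm]
    have ha0 : ∀ i, a i = 0 := by
      apply Fintype.linearIndependent_iff.1 hrows a
      funext j
      have hmem : c (j + 1) ∈ Submodule.span (IsLocalRing.ResidueField P.O) (Set.range c) :=
        Submodule.subset_span ⟨j + 1, rfl⟩
      have h1 := hf hmem
      rw [LinearMap.mem_ker, hfv] at h1
      simp only [Finset.sum_apply, Pi.smul_apply, smul_eq_mul, Pi.zero_apply]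
      exact h1
    apply hf0
    apply LinearMap.ext
    intro v
    rw [hfv]
    simp [ha0]
  have hc0 : c 0 ≠ 0 := by
    intro h
    have h1 := congrFun h i₀
    change evalP P (φ i₀) = 0 at h1
    rw [evalP_eq_algebraMap_rho P hK _ (hnorm i₀), map_eq_zero, rho_eq_zero_iff, hi₀] at h1
    exact lt_irrefl _ h1
  exact exists_isOrders_of_span_eq_top c hspan hc0 (n := n) (by simp)

/-- A function in the linear system of a tuple normalized at `P` vanishes at `P` to order at most
the degree of the tuple. -/
theorem ord_le_deg_mapDiv (hK : IsFunctionField k K) {ι : Type*} [Fintype ι] [Nonempty ι]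
    (φ : ι → K) (P : Place k K) (hP : mapDiv k φ P = 0) (f : K)
    (hf : f ∈ Submodule.span k (Set.range φ)) (hf0 : f ≠ 0) :
    P.ord f ≤ (mapDiv k φ).deg := by
  classical
  have hfL : f ∈ L (mapDiv k φ) := span_le_L_mapDiv hK φ hf
  have hfL' : f ∈ L (mapDiv k φ - Finsupp.single P (P.ord f)) := by
    intro Q
    by_cases hQ : Q = P
    · subst hQ
      rw [Finsupp.sub_apply, Finsupp.single_eq_same, hP, zero_sub, val_eq_exp_neg_ord Q hf0]
    · rw [Finsupp.sub_apply, Finsupp.single_apply, if_neg (Ne.symm hQ), sub_zero]
      exact hfL Q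
  by_contra hlt
  push Not at hlt
  have hdeg : (mapDiv k φ - Finsupp.single P (P.ord f)).deg < 0 := by
    rw [deg_sub, deg_single, Groth.Agent.H57.deg_eq_one_of_isAlgClosed hK P]
    simp only [Nat.cast_one, mul_one]
    linarith
  have hbot := L_eq_bot_of_deg_neg hK _ hdeg
  rw [hbot] at hfL'
  exact hf0 ((Submodule.mem_bot k).1 hfL')

omit [IsAlgClosed k] in
/-- Scaling a tuple without zero entries does not change its degree. -/
theorem deg_mapDiv_smul (hK : IsFunctionField k K) {ι : Type*} [Fintype ι] [Nonempty ι]
    (φ : ι → K) (hφ0 : ∀ i, φ i ≠ 0) (y : K) (hy : y ≠ 0) :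
    (mapDiv k (y • φ)).deg = (mapDiv k φ).deg := by
  have h : mapDiv k (y • φ) = mapDiv k φ - FunFld.div k y := by
    ext P
    rw [Finsupp.sub_apply, div_apply hK]
    exact mapDiv_mul_apply hK φ hφ0 y hy P
  rw [h, deg_sub, deg_div_eq_zero hK, sub_zero]

end

end Groth.Agent.H57
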