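import Groth.Agent.H57.GapComb
import Groth.Agent.FunFld.RR

set_option autoImplicit false

namespace Groth.Agent.H57

open FunFld Groth.Agent.FF WithZero

universe u v
variable {k : Type u} {K : Type v} [Field k] [Field K] [Algebra k K]

/-- Over an algebraically closed constant field every place has degree one. -/
theorem deg_eq_one_of_isAlgClosed [IsAlgClosed k] (hK : IsFunctionField k K) (P : Place k K) :
    P.deg = 1 := by
  have hfin := finite_residueField hK P
  have hint : Algebra.IsIntegral k (IsLocalRing.ResidueField P.O) :=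
    @Algebra.IsIntegral.of_finite k _ _ _ _ hfin
  have hbij : Function.Bijective (algebraMap k (IsLocalRing.ResidueField P.O)) :=
    IsAlgClosed.algebraMap_bijective_of_isIntegral
  unfold Place.deg
  have htop : (⊥ : Subalgebra k (IsLocalRing.ResidueField P.O)) = ⊤ :=
    (Algebra.surjective_algebraMap_iff.1 hbij.2).symm
  exact Subalgebra.bot_eq_top_iff_finrank_eq_one.1 htop

/-- `m` is a gap number at `P`. -/
def IsGapAt (P : Place k K) (m : ℕ) : Prop :=
  L (Finsupp.single P (m : ℤ)) = L (Finsupp.single P ((m : ℤ) - 1))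

theorem single_le_single_of_le (P : Place k K) {a b : ℤ} (h : a ≤ b) :
    (Finsupp.single P a : Divisor k K) ≤ Finsupp.single P b := by
  classical
  intro Q
  rw [Finsupp.single_apply, Finsupp.single_apply]
  split_ifs
  · exact h
  · exact le_rfl

theorem ell_single_succ_le [IsAlgClosed k] (hK : IsFunctionField k K) (P : Place k K) (a : ℤ) :
    ell (Finsupp.single P (a + 1) : Divisor k K) ≤ ell (Finsupp.single P a : Divisor k K) + 1 := by
  have h := ell_le_add hK (single_le_single_of_le P (show a ≤ a + 1 by omega))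
  rw [deg_single, deg_single, deg_eq_one_of_isAlgClosed hK P] at h
  have : (ell (Finsupp.single P (a + 1) : Divisor k K) : ℤ) ≤
      ell (Finsupp.single P a : Divisor k K) + 1 := by
    push_cast at h; linarith
  exact_mod_cast this

theorem isGapAt_iff_ell_eq (hK : IsFunctionField k K) (P : Place k K) (m : ℕ) :
    IsGapAt P m ↔ ell (Finsupp.single P (m : ℤ) : Divisor k K) =
      ell (Finsupp.single P ((m : ℤ) - 1) : Divisor k K) := by
  unfold IsGapAt
  constructor
  · intro h
    unfold ell
    rw [h]
  · intro h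
    have hle : L (Finsupp.single P ((m : ℤ) - 1) : Divisor k K) ≤ L (Finsupp.single P (m : ℤ)) :=
      L_mono (single_le_single_of_le P (by omega))
    have := finite_L hK (Finsupp.single P (m : ℤ))
    exact (Submodule.eq_of_le_of_finrank_eq hle h.symm).symm

/-- `ℓ(NP) + #gaps in [1, N] = N + 1`. -/
theorem ell_add_gapCount [IsAlgClosed k] (hK : IsFunctionField k K) (P : Place k K) (N : ℕ) :
    ell (Finsupp.single P (N : ℤ) : Divisor k K) + gapCount (IsGapAt P) N = N + 1 := by
  induction N with
  | zero =>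
    have h0 : gapCount (IsGapAt P) 0 = 0 := by
      classical
      unfold gapCount
      simp
    rw [h0]
    simp only [Nat.cast_zero, Finsupp.single_zero, add_zero, zero_add]
    exact ell_zero hK
  | succ N ih =>
    have hcast : ((N + 1 : ℕ) : ℤ) - 1 = (N : ℤ) := by push_cast; ring
    by_cases hgap : IsGapAt P (N + 1)
    · rw [gapCount_succ_of_gap _ hgap]
      have := (isGapAt_iff_ell_eq hK P (N + 1)).1 hgap
      rw [hcast] at this
      omega
    · rw [gapCount_succ_of_not_gap _ hgap]
      have hne := mt (isGapAt_iff_ell_eq hK P (N + 1)).2 hgap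
      rw [hcast] at hne
      have hle := ell_single_succ_le hK P (N : ℤ)
      have hmono : ell (Finsupp.single P (N : ℤ) : Divisor k K) ≤
          ell (Finsupp.single P ((N : ℤ) + 1) : Divisor k K) :=
        ell_mono hK (single_le_single_of_le P (by omega))
      have hcast2 : ((N + 1 : ℕ) : ℤ) = (N : ℤ) + 1 := by push_cast; ring
      rw [hcast2] at hne ⊢
      omega

/-- There are exactly `g` gaps. -/
theorem gapCount_eq_genus [IsAlgClosed k] (hK : IsFunctionField k K) (P : Place k K) (N : ℕ)
    (hN : 2 * genus k K - 1 ≤ N) : gapCount (IsGapAt P) N = genus k K := by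
  have h1 := ell_add_gapCount hK P N
  have hdeg : Divisor.deg (Finsupp.single P (N : ℤ) : Divisor k K) = N := by
    rw [deg_single, deg_eq_one_of_isAlgClosed hK P]; simp
  have h2 := ell_eq_of_deg_ge hK (Finsupp.single P (N : ℤ)) (by rw [hdeg]; omega)
  rw [hdeg] at h2
  omega

/-- A function in `L(mP)` but not in `L((m-1)P)` has a pole of exact order `m` at `P`. -/
theorem ord_eq_of_mem_of_not_mem (P : Place k K) (m : ℤ) {f : K}
    (hf : f ∈ L (Finsupp.single P m : Divisor k K))
    (hf' : f ∉ L (Finsupp.single P (m - 1) : Divisor k K)) : f ≠ 0 ∧ P.ord f = -m := by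
  classical
  have hf0 : f ≠ 0 := by
    rintro rfl
    exact hf' (Submodule.zero_mem _)
  refine ⟨hf0, ?_⟩
  have h1 := hf P
  rw [Finsupp.single_eq_same, val_le_exp_iff P hf0] at h1
  have h2 : ¬ P.1 f ≤ exp (m - 1) := by
    intro hP
    apply hf'
    intro Q
    by_cases hQ : Q = P
    · subst hQ
      rw [Finsupp.single_eq_same]
      exact hP
    · have := hf Q
      rw [Finsupp.single_eq_of_ne hQ] at this ⊢
      exact this
  rw [val_le_exp_iff P hf0] at h2
  omega

/-- Non-gaps form a semigroup. -/
theorem not_isGapAt_add (P : Place k K) (m m' : ℕ) (_hm : 1 ≤ m) (_hm' : 1 ≤ m')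
    (h : ¬ IsGapAt P m) (h' : ¬ IsGapAt P m') : ¬ IsGapAt P (m + m') := by
  classical
  unfold IsGapAt at h h' ⊢
  have hle : ∀ a : ℕ, L (Finsupp.single P ((a : ℤ) - 1) : Divisor k K) ≤
      L (Finsupp.single P (a : ℤ)) := fun a => L_mono (single_le_single_of_le P (by omega))
  obtain ⟨f, hf, hf'⟩ : ∃ f, f ∈ L (Finsupp.single P (m : ℤ) : Divisor k K) ∧
      f ∉ L (Finsupp.single P ((m : ℤ) - 1) : Divisor k K) := by
    by_contra hno
    push Not at hno
    exact h (le_antisymm hno (hle m))
  obtain ⟨f₂, hf₂, hf₂'⟩ : ∃ f, f ∈ L (Finsupp.single P (m' : ℤ) : Divisor k K) ∧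
      f ∉ L (Finsupp.single P ((m' : ℤ) - 1) : Divisor k K) := by
    by_contra hno
    push Not at hno
    exact h' (le_antisymm hno (hle m'))
  obtain ⟨hf0, hord⟩ := ord_eq_of_mem_of_not_mem P _ hf hf'
  obtain ⟨hf₂0, hord₂⟩ := ord_eq_of_mem_of_not_mem P _ hf₂ hf₂'
  intro heq
  have hmul : f * f₂ ∈ L (Finsupp.single P (((m + m' : ℕ) : ℤ)) : Divisor k K) := by
    have := mul_mem_L hf hf₂
    rw [← Finsupp.single_add] at this
    push_cast
    exact this
  rw [heq] at hmul
  have hP := hmul P
  rw [Finsupp.single_eq_same, val_le_exp_iff P (mul_ne_zero hf0 hf₂0), ord_mul P hf0 hf₂0,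
    hord, hord₂] at hP
  push_cast at hP
  omega

end Groth.Agent.H57
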