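import Groth.Agent.H57.Jumps
import Groth.Agent.H57.Orders
import Mathlib

set_option autoImplicit false

namespace Groth.Agent.H57

open FunFld Polynomial

/-- Rows of binomial coefficients `C(a_r, i)`, `i ≤ a_last - a_0`, for strictly increasing `a`
are linearly independent over any field. -/
theorem binom_rows_indep (k : Type*) [Field k] {m : ℕ} (a : Fin (m + 1) → ℕ) (ha : StrictMono a)
    (μ : Fin (m + 1) → k)
    (h : ∀ i, i ≤ a (Fin.last m) - a 0 → ∑ r, μ r * ((a r).choose i : k) = 0) : μ = 0 := by
  classical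
  set N := a (Fin.last m) - a 0 with hN
  have ha0 : ∀ r, a 0 ≤ a r := fun r => ha.monotone (Fin.zero_le r)
  have halast : ∀ r, a r ≤ a (Fin.last m) := fun r => ha.monotone (Fin.le_last r)
  set b : Fin (m + 1) → ℕ := fun r => a r - a 0 with hb
  have hbinj : Function.Injective b := by
    intro r s hrs
    apply ha.injective
    have h1 := ha0 r
    have h2 := ha0 s
    simp only [hb] at hrs
    omega
  set G : k[X] := ∑ r, C (μ r) * (X + 1) ^ a r with hG
  set H : k[X] := ∑ r, C (μ r) * (X + 1) ^ b r with hH
  have hGH : G = (X + 1) ^ a 0 * H := by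
    rw [hG, hH, Finset.mul_sum]
    refine Finset.sum_congr rfl fun r _ => ?_
    have : a r = a 0 + b r := by simp only [hb]; have := ha0 r; omega
    rw [this, pow_add]
    ring
  have hGcoeff : ∀ i, G.coeff i = ∑ r, μ r * ((a r).choose i : k) := by
    intro i
    rw [hG, finsetSum_coeff]
    refine Finset.sum_congr rfl fun r _ => ?_
    rw [coeff_C_mul, coeff_X_add_one_pow]
  have hdvdG : (X : k[X]) ^ (N + 1) ∣ G := by
    rw [X_pow_dvd_iff]
    intro d hd
    rw [hGcoeff]
    exact h d (by omega)
  have hcop : IsCoprime ((X : k[X]) ^ (N + 1)) ((X + 1) ^ a 0) := by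
    apply IsCoprime.pow
    refine ⟨-1, 1, ?_⟩
    ring
  have hdvdH : (X : k[X]) ^ (N + 1) ∣ H := by
    rw [hGH] at hdvdG
    exact hcop.dvd_of_dvd_mul_left hdvdG
  have hdegH : H.natDegree ≤ N := by
    rw [hH]
    apply natDegree_sum_le_of_forall_le
    intro r _
    refine (natDegree_C_mul_le _ _).trans ?_
    refine (natDegree_pow_le).trans ?_
    have h1 : (X + 1 : k[X]).natDegree ≤ 1 := by
      have := natDegree_X_add_C (1 : k)
      rw [map_one] at this
      rw [this]
    calc b r * (X + 1 : k[X]).natDegree ≤ b r * 1 := Nat.mul_le_mul_left _ h1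
      _ = b r := mul_one _
      _ ≤ N := by simp only [hb, hN]; have := halast r; omega
  have hH0 : H = 0 := by
    apply eq_zero_of_dvd_of_natDegree_lt hdvdH
    rw [natDegree_X_pow]
    omega
  -- substitute X - 1
  have hcomp : H.comp (X - 1) = ∑ r, C (μ r) * X ^ b r := by
    rw [hH, Polynomial.sum_comp]
    refine Finset.sum_congr rfl fun r _ => ?_
    rw [mul_comp, C_comp, pow_comp, add_comp, X_comp, one_comp, sub_add_cancel]
  rw [hH0, zero_comp] at hcomp
  funext r
  have := congrArg (fun p : k[X] => p.coeff (b r)) hcomp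
  simp only [coeff_zero, finsetSum_coeff, coeff_C_mul, coeff_X_pow] at this
  rw [Finset.sum_eq_single r] at this
  · simpa using this.symm
  · intro s _ hsr
    rw [if_neg (fun h => hsr (hbinj h.symm)), mul_zero]
  · intro h; exact absurd (Finset.mem_univ r) h

/-- The strictly increasing enumeration of all jump indices of a spanning sequence. -/
theorem exists_jump_enum {K V : Type*} [Field K] [AddCommGroup V] [Module K V]
    [FiniteDimensional K V] (c : ℕ → V) (hspan : Submodule.span K (Set.range c) = ⊤)
    {n : ℕ} (hn : Module.finrank K V = n) :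
    ∃ I : Fin n → ℕ, StrictMono I ∧ ∀ j, j ∈ Set.range I ↔ IsJump K c j := by
  classical
  set T : Set ℕ := {j | IsJump K c j} with hT
  have hbound : ∀ F : Finset ℕ, (F : Set ℕ) ⊆ T → F.card ≤ n := by
    intro F hF
    have hli := linearIndependent_of_isJump c (F.orderEmbOfFin rfl)
      (F.orderEmbOfFin rfl).strictMono (fun i => hF (F.orderEmbOfFin_mem rfl i))
    have := hli.fintype_card_le_finrank
    rwa [Fintype.card_fin, hn] at this
  have hTfin : T.Finite := by
    by_contra hinf
    obtain ⟨F, hF, hFcard⟩ := (Set.not_finite.mp hinf).exists_subset_card_eq (n + 1)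
    have := hbound F hF
    omega
  set Tf := hTfin.toFinset with hTf
  have hmemTf : ∀ j, j ∈ Tf ↔ IsJump K c j := by
    intro j
    rw [hTf, Set.Finite.mem_toFinset]
    rfl
  have hle : Tf.card ≤ n := hbound Tf (by
    intro j hj
    exact (hmemTf j).1 hj)
  have hspanT : Submodule.span K ((Tf.image c : Finset V) : Set V) = ⊤ := by
    rw [eq_top_iff, ← hspan, Submodule.span_le]
    rintro _ ⟨N, rfl⟩
    have h1 : c N ∈ Submodule.span K (c '' Set.Iio (N + 1)) :=
      Submodule.subset_span ⟨N, by simp, rfl⟩
    rw [span_Iio_eq_span_jumps] at h1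
    refine Submodule.span_mono ?_ h1
    rintro _ ⟨j, ⟨_, hj⟩, rfl⟩
    rw [Finset.coe_image]
    exact ⟨j, (hmemTf j).2 hj, rfl⟩
  have hge : n ≤ Tf.card := by
    have h1 := finrank_span_finset_le_card (R := K) (Tf.image c)
    rw [Set.finrank, hspanT, finrank_top, hn] at h1
    exact h1.trans Finset.card_image_le
  have hcard : Tf.card = n := le_antisymm hle hge
  refine ⟨Tf.orderEmbOfFin hcard, (Tf.orderEmbOfFin hcard).strictMono, fun j => ?_⟩
  rw [← hmemTf j]
  have := Finset.range_orderEmbOfFin Tf hcard
  rw [Set.ext_iff] at this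
  have h2 := this j
  rw [Finset.mem_coe] at h2
  exact h2

/-- If the first `N + 1` terms span a space of dimension at least `l + 1`, the `l`-th jump index
is at most `N`. -/
theorem jump_enum_le {K V : Type*} [Field K] [AddCommGroup V] [Module K V]
    [FiniteDimensional K V] (c : ℕ → V) {n : ℕ} (I : Fin n → ℕ) (hI : StrictMono I)
    (hIr : ∀ j, j ∈ Set.range I ↔ IsJump K c j) (l : Fin n) (N : ℕ)
    (hrank : (l : ℕ) + 1 ≤ Module.finrank K (Submodule.span K (c '' Set.Iio (N + 1)))) :
    I l ≤ N := by
  classical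
  by_contra hlt
  rw [not_le] at hlt
  set F : Finset V := (Finset.univ.filter (fun i : Fin n => i < l)).image (fun i => c (I i)) with hF
  have hsub : Submodule.span K (c '' Set.Iio (N + 1)) ≤ Submodule.span K (F : Set V) := by
    rw [span_Iio_eq_span_jumps]
    apply Submodule.span_mono
    rintro _ ⟨j, ⟨hj1, hj2⟩, rfl⟩
    obtain ⟨i, rfl⟩ := (hIr j).2 hj2
    rw [hF, Finset.coe_image]
    refine ⟨i, ?_, rfl⟩
    rw [Finset.coe_filter]
    refine ⟨Finset.mem_univ _, ?_⟩
    rw [← hI.lt_iff_lt]
    omega
  have h1 := Submodule.finrank_mono hsub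
  have h2 := finrank_span_finset_le_card (R := K) F
  rw [Set.finrank] at h2
  have h3 : F.card ≤ (l : ℕ) := by
    refine Finset.card_image_le.trans ?_
    have : (Finset.univ.filter (fun i : Fin n => i < l)) = Finset.Iio l := by
      ext i; simp
    rw [this, Fin.card_Iio]
  omega

/-- For strictly increasing `J'`, there is a strictly increasing `I` with `I l ≤ J' l - J' 0` such
that the matrix of binomial coefficients `C(J' r, I s)` is nonsingular over `k`. -/
theorem exists_binom_index (k : Type*) [Field k] {n : ℕ} (hn : 0 < n) (J' : Fin n → ℕ)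
    (hJ' : StrictMono J') :
    ∃ I : Fin n → ℕ, StrictMono I ∧ (∀ l, I l + J' ⟨0, hn⟩ ≤ J' l) ∧
      (binomMat k J' I).det ≠ 0 := by
  classical
  set b : ℕ → (Fin n → k) := fun i r => ((J' r).choose i : k) with hb
  have hJ0 : ∀ l, J' ⟨0, hn⟩ ≤ J' l := fun l => hJ'.monotone (Fin.mk_le_of_le_val (Nat.zero_le _))
  -- the rank claim
  have hrank : ∀ l : Fin n, (l : ℕ) + 1 ≤ Module.finrank k
      (Submodule.span k (b '' Set.Iio (J' l - J' ⟨0, hn⟩ + 1))) := by
    intro l
    set W := Submodule.span k (b '' Set.Iio (J' l - J' ⟨0, hn⟩ + 1)) with hW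
    have hle : (l : ℕ) + 1 ≤ n := l.2
    set π : (Fin n → k) →ₗ[k] (Fin ((l : ℕ) + 1) → k) := LinearMap.funLeft k k (Fin.castLE hle)
      with hπ
    have htop : W.map π = ⊤ := by
      by_contra hne
      obtain ⟨f, hf0, hf⟩ := Submodule.exists_dual_map_eq_bot_of_lt_top (lt_top_iff_ne_top.2 hne)
        inferInstance
      apply hf0
      set μ : Fin ((l : ℕ) + 1) → k := fun r => f (fun j => if r = j then 1 else 0) with hμ
      have hfv : ∀ v, f v = ∑ r, μ r * v r := by
        intro v
        rw [LinearMap.pi_apply_eq_sum_univ f v]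
        refine Finset.sum_congr rfl fun r _ => ?_
        rw [smul_eq_mul, mul_comm]
      have hμ0 : μ = 0 := by
        apply binom_rows_indep k (fun r => J' (Fin.castLE hle r))
          (fun r s hrs => hJ' (by exact hrs))
        intro i hi
        have hlast : Fin.castLE hle (Fin.last (l : ℕ)) = l := Fin.ext rfl
        have hzero : Fin.castLE hle (0 : Fin ((l : ℕ) + 1)) = ⟨0, hn⟩ := Fin.ext rfl
        simp only [hlast, hzero] at hi
        have hmem : f (π (b i)) ∈ (W.map π).map f :=
          Submodule.mem_map_of_mem (Submodule.mem_map_of_mem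
            (Submodule.subset_span ⟨i, by simp only [Set.mem_Iio]; omega, rfl⟩))
        rw [hf, Submodule.mem_bot, hfv] at hmem
        exact hmem
      refine LinearMap.ext fun v => ?_
      rw [hfv, hμ0]
      simp
    have h1 := Submodule.finrank_map_le π W
    rw [htop, finrank_top, Module.finrank_fin_fun] at h1
    exact h1
  -- b spans
  have hspan : Submodule.span k (Set.range b) = ⊤ := by
    obtain ⟨n', rfl⟩ : ∃ n', n = n' + 1 := ⟨n - 1, by omega⟩
    have h1 := hrank (Fin.last n')
    rw [Fin.val_last] at h1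
    have h2 : Submodule.span k (b '' Set.Iio (J' (Fin.last n') - J' ⟨0, hn⟩ + 1)) = ⊤ := by
      apply Submodule.eq_top_of_finrank_eq
      apply le_antisymm (Submodule.finrank_le _)
      rw [Module.finrank_fin_fun]
      exact h1
    rw [eq_top_iff, ← h2]
    exact Submodule.span_mono (Set.image_subset_range _ _)
  obtain ⟨I, hI, hIr⟩ := exists_jump_enum b hspan (Module.finrank_fin_fun k)
  refine ⟨I, hI, fun l => ?_, ?_⟩
  · have := jump_enum_le b I hI hIr l _ (hrank l)
    have := hJ0 l
    omega
  · have hli := linearIndependent_of_isJump b I hI (fun i => (hIr _).1 ⟨i, rfl⟩)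
    have hcol : (binomMat k J' I).col = fun s => b (I s) := by
      funext s r
      rfl
    rw [← hcol] at hli
    exact ((Matrix.isUnit_iff_isUnit_det _).1 (Matrix.linearIndependent_cols_iff_isUnit.1 hli)).ne_zero

end Groth.Agent.H57
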