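import Groth.Agent.H57.StrongBound
import Groth.Agent.H57.HasseExist
import Groth.Agent.H57.MapDiv
import Groth.Agent.S12604
import Groth.Agent.S12600
import Groth.Agent.FunFld.Perfect
import Groth.Agent.FunFld.SepVar
import Groth.Agent.FunFld.RR

/-!
# Counting strong fixed points with the complete linear system `|(n+g)P₀|`
-/

set_option autoImplicit false

namespace Groth.Agent.H57

open FunFld Groth.Agent.FF WithZero

universe u v
variable {k : Type u} {K : Type v} [Field k] [Field K] [Algebra k K]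

section
variable [IsAlgClosed k]

/-- A function with a pole of exact order `m` at `P` and no other pole, when `m` is not a gap. -/
theorem exists_ord_eq_neg_of_not_isGapAt (P : Place k K) (m : ℕ) (h : ¬ IsGapAt P m) :
    ∃ f : K, f ∈ L (Finsupp.single P (m : ℤ) : Divisor k K) ∧ f ≠ 0 ∧ P.ord f = -(m : ℤ) := by
  have hle : L (Finsupp.single P ((m : ℤ) - 1) : Divisor k K) ≤ L (Finsupp.single P (m : ℤ)) :=
    L_mono (single_le_single_of_le P (by omega))
  obtain ⟨f, hf, hf'⟩ : ∃ f, f ∈ L (Finsupp.single P (m : ℤ) : Divisor k K) ∧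
      f ∉ L (Finsupp.single P ((m : ℤ) - 1) : Divisor k K) := by
    by_contra hno
    push Not at hno
    exact h (le_antisymm hno hle)
  obtain ⟨hf0, hord⟩ := ord_eq_of_mem_of_not_mem P _ hf hf'
  exact ⟨f, hf, hf0, hord⟩

theorem not_isGapAt_of_le (hK : IsFunctionField k K) (P : Place k K) (m : ℕ)
    (hm : 2 * genus k K ≤ m) : ¬ IsGapAt P m := by
  rw [isGapAt_iff_ell_eq hK]
  have hdeg : ∀ a : ℤ, Divisor.deg (Finsupp.single P a : Divisor k K) = a := fun a => by
    rw [deg_single, deg_eq_one_of_isAlgClosed hK P]; simp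
  have h1 := ell_eq_of_deg_ge hK (Finsupp.single P (m : ℤ)) (by rw [hdeg]; omega)
  have h2 := ell_eq_of_deg_ge hK (Finsupp.single P ((m : ℤ) - 1)) (by rw [hdeg]; omega)
  rw [hdeg] at h1 h2
  omega

/-- **Counting strong fixed points.** -/
theorem strongFixed_count_le (hK : IsFunctionField k K) (τ : K →ₐ[k] K) (n : ℕ)
    (hn : genus k K < n) (P₀ : Place k K) (hP₀ : IsStrongFixedPt τ P₀) :
    {P : Place k K | IsStrongFixedPt τ P}.Finite ∧
    ∃ X : ℤ, (n : ℤ) * ((n : ℤ) - 1) ≤ X ∧ X ≤ n * ((n : ℤ) - 1) + 2 * (genus k K : ℤ) ^ 2 ∧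
      2 * (n : ℤ) * (Set.ncard {P : Place k K | IsStrongFixedPt τ P} : ℤ) ≤
        2 * ((n : ℤ) + Module.finrank τ.fieldRange K) * (n + genus k K) +
          (2 * (genus k K : ℤ) - 2) * X := by
  classical
  set g := genus k K with hg
  have hn0 : 0 < n := by omega
  set D : Divisor k K := Finsupp.single P₀ ((n + g : ℕ) : ℤ) with hD
  have hdegs : ∀ a : ℤ, Divisor.deg (Finsupp.single P₀ a : Divisor k K) = a := fun a => by
    rw [deg_single, deg_eq_one_of_isAlgClosed hK P₀]; simp
  have hdeg : D.deg = ((n + g : ℕ) : ℤ) := hdegs _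
  have hell : ell D = n + 1 := by
    have h := ell_eq_of_deg_ge hK D (by rw [hdeg]; push_cast; omega)
    rw [hdeg] at h
    push_cast at h
    omega
  have hfinL : FiniteDimensional k (L D) := finite_L hK D
  let b : Module.Basis (Fin (n + 1)) k (L D) := Module.finBasisOfFinrankEq k (L D) hell
  set φ : Fin (n + 1) → K := fun i => ((b i : L D) : K) with hφdef
  have hφ : LinearIndependent k φ := by
    have := b.linearIndependent.map' (L D).subtype (Submodule.ker_subtype _)
    exact this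
  have hspan : Submodule.span k (Set.range φ) = L D := by
    have h1 : Set.range φ = (L D).subtype '' Set.range b := by
      ext x
      constructor
      · rintro ⟨i, rfl⟩
        exact ⟨b i, ⟨i, rfl⟩, rfl⟩
      · rintro ⟨_, ⟨i, rfl⟩, rfl⟩
        exact ⟨i, rfl⟩
    rw [h1, ← Submodule.map_span, b.span_eq, Submodule.map_subtype_top]
  -- `τ(φ)` is not a multiple of `φ`
  have hτφ : ¬ ∃ y : K, ∀ i, τ (φ i) = y * φ i := by
    rintro ⟨y, hy⟩
    have hall : ∀ f ∈ L D, τ f = y * f := by
      intro f hf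
      rw [← hspan] at hf
      have heq : Set.EqOn τ.toLinearMap (LinearMap.mulLeft k y) (Set.range φ) := by
        rintro _ ⟨i, rfl⟩
        exact hy i
      exact LinearMap.eqOn_span heq hf
    have h1mem : (1 : K) ∈ L D := by
      intro Q
      rw [map_one, ← exp_zero, exp_le_exp]
      by_cases hQ : Q = P₀
      · rw [hQ, hD, Finsupp.single_eq_same]; positivity
      · rw [hD, Finsupp.single_eq_of_ne hQ]
    have hy1 : y = 1 := by
      have := hall 1 h1mem
      rw [map_one, mul_one] at this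
      exact this.symm
    obtain ⟨f₂, hf₂, hf₂0, hord₂⟩ := exists_ord_eq_neg_of_not_isGapAt P₀ (n + g)
      (not_isGapAt_of_le hK P₀ (n + g) (by omega))
    obtain ⟨f₁, hf₁, hf₁0, hord₁⟩ := exists_ord_eq_neg_of_not_isGapAt P₀ (n + g - 1)
      (not_isGapAt_of_le hK P₀ (n + g - 1) (by omega))
    have hf₁D : f₁ ∈ L D := L_mono (single_le_single_of_le P₀ (by push_cast; omega)) hf₁
    have hτ1 : τ f₁ = f₁ := by rw [hall f₁ hf₁D, hy1, one_mul]
    have hτ2 : τ f₂ = f₂ := by rw [hall f₂ hf₂, hy1, one_mul]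
    have hz0 : f₁ / f₂ ≠ 0 := div_ne_zero hf₁0 hf₂0
    have hordz : P₀.ord (f₁ / f₂) = 1 := by
      rw [div_eq_mul_inv, ord_mul P₀ hf₁0 (inv_ne_zero hf₂0), ord_inv, hord₁, hord₂]
      have : ((n + g - 1 : ℕ) : ℤ) = (n : ℤ) + g - 1 := by omega
      rw [this]
      push_cast
      ring
    have hlt : P₀.1 (f₁ / f₂) < 1 := by rw [val_lt_one_iff P₀ hz0, hordz]; norm_num
    have h2 := hP₀ _ hlt
    rw [map_div₀, hτ1, hτ2, val_le_exp_iff P₀ hz0, hordz] at h2
    omega
  -- Hasse family and orders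
  have hgeo : IsGeometric k K := isGeometric_of_perfectField hK
  obtain ⟨s, hst, hsep⟩ := exists_separating hK hgeo
  obtain ⟨H, hH⟩ := exists_isHasseFamily_of_isSeparable s hst
  obtain ⟨J, hJ, -⟩ := Groth.Agent.S12600.result k K hK φ hφ τ s H hH
  have h604 := Groth.Agent.S12604.result k K hK τ φ hφ hτφ s H hH J hJ
  have hup := two_mul_sum_tauOrders_le hK τ P₀ hP₀ n hn φ hφ hspan hτφ s H hH J hJ
  refine ⟨h604.1, 2 * ∑ l, (J l : ℤ), ?_, hup, ?_⟩
  · -- lower bound on the sum of a strictly increasing sequence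
    have hJm : ∀ (m : ℕ) (hm : m < n), m ≤ J ⟨m, hm⟩ := by
      intro m
      induction m with
      | zero => intro _; exact Nat.zero_le _
      | succ m ih =>
        intro hm
        have h1 := ih (by omega)
        have hlt := hJ.1 (show (⟨m, by omega⟩ : Fin n) < ⟨m + 1, hm⟩ by
          rw [Fin.lt_def]; exact Nat.lt_succ_self m)
        omega
    have hJl : ∀ l : Fin n, ((l : ℕ) : ℤ) ≤ J l := by
      intro l
      exact_mod_cast hJm l l.2
    have h1 : ∑ l : Fin n, ((l : ℕ) : ℤ) ≤ ∑ l, (J l : ℤ) := Finset.sum_le_sum fun l _ => hJl l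
    have h2 : ∑ l : Fin n, ((l : ℕ) : ℤ) = ∑ i ∈ Finset.range n, (i : ℤ) :=
      Fin.sum_univ_eq_sum_range (fun i => (i : ℤ)) n
    have h3 : 2 * ∑ i ∈ Finset.range n, (i : ℤ) = (n : ℤ) * ((n : ℤ) - 1) := by
      have h := Finset.sum_range_id_mul_two n
      have h' : ((∑ i ∈ Finset.range n, i : ℕ) : ℤ) * 2 = (((n * (n - 1) : ℕ)) : ℤ) := by
        exact_mod_cast h
      rw [Nat.cast_sum, Nat.cast_mul, Nat.cast_sub hn0] at h'
      push_cast at h'
      linarith
    linarith
  · -- the degree of the linear system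
    have hmd : mapDiv k φ ≤ D := by
      intro Q
      obtain ⟨i, hi⟩ := exists_ord_eq_neg_mapDiv hK φ Q
      have hmem : φ i ∈ L D := by rw [← hspan]; exact Submodule.subset_span ⟨i, rfl⟩
      have := hmem Q
      rw [val_le_exp_iff Q (hφ.ne_zero i)] at this
      omega
    have hdm : (mapDiv k φ).deg ≤ (n : ℤ) + g := by
      have := deg_mono hmd
      rw [hdeg] at this
      push_cast at this
      exact this
    have h2 := h604.2
    have hd0 : (0 : ℤ) ≤ (n : ℤ) + Module.finrank τ.fieldRange K := by positivity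
    nlinarith

end

end Groth.Agent.H57
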