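import Groth.Agent.H57.AutFin7
import Groth.Agent.S11044
import Groth.Agent.S11046
import Groth.Agent.H57.StrongBound2

/-!
# Hyperelliptic fields: places where `2` is a non-gap are ramified for the double cover
-/

set_option autoImplicit false

namespace Groth.Agent.H57

open FunFld Groth.Agent.FF WithZero IntermediateField

universe u v
variable {k : Type u} {K : Type v} [Field k] [Field K] [Algebra k K]

section
variable [IsAlgClosed k]

/-- Powers of a function with a double pole at `P₁` and no other pole: `ℓ(2jP₁) ≥ j + 1`. -/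
theorem succ_le_ell_two_mul (hK : IsFunctionField k K) (P₁ : Place k K) (x : K)
    (hxL : x ∈ L (Finsupp.single P₁ (2 : ℤ) : Divisor k K)) (hx0 : x ≠ 0)
    (hord : P₁.ord x = -2) (j : ℕ) :
    j + 1 ≤ ell (Finsupp.single P₁ ((2 * j : ℕ) : ℤ) : Divisor k K) := by
  classical
  induction j with
  | zero =>
    simp only [Nat.mul_zero, Nat.cast_zero, Finsupp.single_zero]
    rw [ell_zero hK]
  | succ j ih =>
    have hle : L (Finsupp.single P₁ ((2 * j : ℕ) : ℤ) : Divisor k K) ≤
        L (Finsupp.single P₁ ((2 * (j + 1) : ℕ) : ℤ)) :=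
      L_mono (single_le_single_of_le P₁ (by push_cast; omega))
    have hpow0 : x ^ (j + 1) ≠ 0 := pow_ne_zero _ hx0
    have hmem : x ^ (j + 1) ∈ L (Finsupp.single P₁ ((2 * (j + 1) : ℕ) : ℤ) : Divisor k K) := by
      intro Q
      rw [val_le_exp_iff Q hpow0, ord_pow]
      by_cases hQ : Q = P₁
      · subst hQ
        rw [Finsupp.single_eq_same, hord]
        push_cast
        linarith
      · rw [Finsupp.single_eq_of_ne hQ]
        have := hxL Q
        rw [Finsupp.single_eq_of_ne hQ, val_le_exp_iff Q hx0] at this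
        have hj : (0 : ℤ) ≤ ((j + 1 : ℕ) : ℤ) := Nat.cast_nonneg _
        nlinarith
    have hnmem : x ^ (j + 1) ∉ L (Finsupp.single P₁ ((2 * j : ℕ) : ℤ) : Divisor k K) := by
      intro h
      have := h P₁
      rw [Finsupp.single_eq_same, val_le_exp_iff P₁ hpow0, ord_pow, hord] at this
      push_cast at this
      linarith
    have hlt : L (Finsupp.single P₁ ((2 * j : ℕ) : ℤ) : Divisor k K) <
        L (Finsupp.single P₁ ((2 * (j + 1) : ℕ) : ℤ)) :=
      lt_of_le_of_ne hle fun h => hnmem (h ▸ hmem)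
    have hfin := finite_L hK (Finsupp.single P₁ ((2 * (j + 1) : ℕ) : ℤ))
    have := Submodule.finrank_lt_finrank_of_lt hlt
    unfold ell at ih ⊢
    omega

/-- If `2` is a non-gap at `P₁`, then `(2g - 2) P₁` is a canonical divisor. -/
theorem isCanonical_single_of_not_isGapAt_two (hK : IsFunctionField k K) (hg : 1 ≤ genus k K)
    (P₁ : Place k K) (h2 : ¬ IsGapAt P₁ 2) :
    IsCanonical k K (Finsupp.single P₁ ((2 * (genus k K - 1) : ℕ) : ℤ) : Divisor k K) := by
  obtain ⟨x, hxL, hx0, hord⟩ := exists_ord_eq_neg_of_not_isGapAt P₁ 2 h2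
  rw [isCanonical_iff hK]
  have hcast : ((2 * (genus k K - 1) : ℕ) : ℤ) = 2 * (genus k K : ℤ) - 2 := by
    have : 1 ≤ genus k K := hg
    push_cast [this]
    ring
  refine ⟨le_antisymm ?_ ?_, ?_⟩
  · have := Groth.Agent.S11046.result k K hK P₁ (2 * (genus k K - 1)) (by rw [hcast])
    omega
  · have := succ_le_ell_two_mul hK P₁ x hxL hx0 hord (genus k K - 1)
    omega
  · rw [deg_single, deg_eq_one_of_isAlgClosed hK P₁, hcast]
    simp

/-- In a field of genus at least `2` with a function `x` having a double pole at `P₁` and no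
other pole: at a place `P ≠ P₁` where `2` is a non-gap, `x - x(P)` vanishes doubly. -/
theorem two_le_ord_sub_const (hK : IsFunctionField k K) (hg : 2 ≤ genus k K)
    (P₁ P : Place k K) (hne : P ≠ P₁) (h2 : ¬ IsGapAt P₁ 2) (h2' : ¬ IsGapAt P 2)
    (x : K) (hxL : x ∈ L (Finsupp.single P₁ (2 : ℤ) : Divisor k K))
    (c : k) (hw0 : x - algebraMap k K c ≠ 0) (hc : P.1 (x - algebraMap k K c) < 1) :
    2 ≤ P.ord (x - algebraMap k K c) := by
  classical
  set g := genus k K with hgdef
  set C₁ : Divisor k K := Finsupp.single P₁ ((2 * (g - 1) : ℕ) : ℤ) with hC₁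
  have hC : IsCanonical k K C₁ := isCanonical_single_of_not_isGapAt_two hK (by omega) P₁ h2
  have hg0 : genus k K ≠ 0 := by omega
  -- ℓ(2P) = 2
  have hell2 : ell (Finsupp.single P (2 : ℤ) : Divisor k K) = 2 := by
    have h1 := ell_add_gapCount hK P 2
    simp only [Nat.cast_ofNat] at h1
    have hc0 : gapCount (IsGapAt P) 0 = 0 := by unfold gapCount; simp
    have hc1 : gapCount (IsGapAt P) 1 = 1 := by
      rw [gapCount_succ_of_gap _ (N := 0) (isGapAt_one hK hg0 P), hc0]
    have hc2 : gapCount (IsGapAt P) 2 = 1 := by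
      rw [gapCount_succ_of_not_gap _ (N := 1) h2', hc1]
    omega
  have hrr := riemann_roch hK hC (Finsupp.single P (2 : ℤ))
  rw [hell2, deg_single, deg_eq_one_of_isAlgClosed hK P] at hrr
  have hellC2 : ell (C₁ - Finsupp.single P (2 : ℤ)) = g - 1 := by
    have : (ell (C₁ - Finsupp.single P (2 : ℤ)) : ℤ) = (g : ℤ) - 1 := by
      push_cast at hrr
      rw [← hgdef] at hrr
      linarith
    omega
  have h44 := Groth.Agent.S11044.result k K hK (by omega) C₁ (Or.inr hC) P
  rw [ell_canonical hK hC] at h44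
  have hleL : L (C₁ - Finsupp.single P (2 : ℤ)) ≤ L (C₁ - Finsupp.single P 1) := by
    apply L_mono
    apply sub_le_sub_left
    exact single_le_single_of_le P (by norm_num)
  have hfin := finite_L hK (C₁ - Finsupp.single P 1)
  have hLeq : L (C₁ - Finsupp.single P (2 : ℤ)) = L (C₁ - Finsupp.single P 1) := by
    apply Submodule.eq_of_le_of_finrank_le hleL
    unfold ell at hellC2 h44
    omega
  set w := x - algebraMap k K c with hw
  have hwmem : w ∈ L (C₁ - Finsupp.single P 1) := by
    intro Q
    rw [Finsupp.sub_apply, val_le_exp_iff Q hw0]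
    by_cases hQ : Q = P
    · subst hQ
      rw [Finsupp.single_eq_same, hC₁, Finsupp.single_eq_of_ne hne]
      have := (val_lt_one_iff Q hw0).1 hc
      omega
    · rw [Finsupp.single_eq_of_ne hQ, sub_zero]
      have hwQ : Q.1 w ≤ exp ((Finsupp.single P₁ (2 : ℤ) : Divisor k K) Q) := by
        refine (Q.1.map_sub _ _).trans (max_le (hxL Q) ((Q.2.1 c).trans ?_))
        rw [← exp_zero, exp_le_exp, Finsupp.single_apply]
        split_ifs <;> norm_num
      rw [val_le_exp_iff Q hw0] at hwQ
      rw [hC₁]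
      by_cases hQ1 : Q = P₁
      · subst hQ1
        rw [Finsupp.single_eq_same] at hwQ ⊢
        have : ((2 * (g - 1) : ℕ) : ℤ) = 2 * (g : ℤ) - 2 := by
          have : 1 ≤ g := by omega
          push_cast [this]
          ring
        rw [this]
        have : (2 : ℤ) ≤ g := by exact_mod_cast hg
        linarith
      · rw [Finsupp.single_eq_of_ne hQ1] at hwQ ⊢
        exact hwQ
  rw [← hLeq] at hwmem
  have := hwmem P
  rw [Finsupp.sub_apply, Finsupp.single_eq_same, hC₁, Finsupp.single_eq_of_ne hne,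
    val_le_exp_iff P hw0] at this
  push_cast at this
  linarith

end

end Groth.Agent.H57
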