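import Groth.Agent.H57.AutFin8

/-!
# Hyperelliptic fields: automorphisms fixing the double cover fix its ramification places
-/

set_option autoImplicit false

namespace Groth.Agent.H57

open FunFld Groth.Agent.FF WithZero IntermediateField

universe u v
variable {k : Type u} {K : Type v} [Field k] [Field K] [Algebra k K]

/-- A two-dimensional `L(D)` with `D ≥ 0` is spanned by `1` and any nonconstant element. -/
theorem exists_pair_of_ell_eq_two (hK : IsFunctionField k K) (D : Divisor k K) (hD : 0 ≤ D)
    (hell : ell D = 2) (x : K) (hxL : x ∈ L D) (hxr : x ∉ Set.range (algebraMap k K)) :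
    ∀ f ∈ L D, ∃ a b : k, f = algebraMap k K a + algebraMap k K b * x := by
  classical
  have hfinL := finite_L hK D
  have h1L : (1 : K) ∈ L D := by
    intro Q
    rw [map_one, ← exp_zero, exp_le_exp]
    exact hD Q
  set W : Submodule k K := Submodule.span k {(1 : K)} with hW
  have hWrank : Module.finrank k W = 1 := finrank_span_singleton one_ne_zero
  have hxW : x ∉ W := by
    intro h
    rw [hW, Submodule.mem_span_singleton] at h
    obtain ⟨c, hc⟩ := h
    exact hxr ⟨c, by rw [← hc, Algebra.smul_def, mul_one]⟩
  set V : Submodule k K := Submodule.span k {(1 : K), x} with hV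
  have hVle : V ≤ L D := by
    rw [hV, Submodule.span_le]
    intro z hz
    rcases hz with rfl | hz
    · exact h1L
    · rw [Set.mem_singleton_iff] at hz
      rw [hz]; exact hxL
  have hWV : W < V := by
    refine lt_of_le_of_ne (Submodule.span_mono (by simp)) fun h => ?_
    apply hxW
    rw [h]
    exact Submodule.subset_span (by simp)
  have hVfin : Module.Finite k V := Submodule.finiteDimensional_of_le hVle
  have hVrank : Module.finrank k V = Module.finrank k (L D) := by
    have h1 := Submodule.finrank_lt_finrank_of_lt hWV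
    have h2 := Submodule.finrank_mono hVle
    unfold ell at hell
    omega
  have hVeq : V = L D := Submodule.eq_of_le_of_finrank_eq hVle hVrank
  intro f hf
  rw [← hVeq, hV, Submodule.mem_span_pair] at hf
  obtain ⟨a, b, hab⟩ := hf
  refine ⟨a, b, ?_⟩
  rw [← hab, Algebra.smul_def, Algebra.smul_def, mul_one]

section
variable [IsAlgClosed k]

/-- The pole divisor of a function in `L(2P₁)` is at most `2P₁`. -/
theorem deg_poleDiv_le_two (hK : IsFunctionField k K) (P₁ : Place k K) (w : K)
    (hwL : w ∈ L (Finsupp.single P₁ (2 : ℤ) : Divisor k K)) (hw0 : w ≠ 0) :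
    (poleDiv k w).deg ≤ 2 := by
  classical
  have hpole : poleDiv k w ≤ Finsupp.single P₁ (2 : ℤ) := by
    intro R
    rw [poleDiv_apply hK]
    have h3 := hwL R
    rw [val_le_exp_iff R hw0] at h3
    refine max_le (by linarith) ?_
    rw [Finsupp.single_apply]
    split_ifs <;> norm_num
  refine (deg_mono hpole).trans ?_
  rw [deg_single, deg_eq_one_of_isAlgClosed hK P₁]
  simp

/-- A function with a double pole at `P₁` and no other pole generates a subfield of index `2`. -/
theorem finrank_adjoin_of_double_pole (hK : IsFunctionField k K) (P₁ : Place k K) (x : K)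
    (hxL : x ∈ L (Finsupp.single P₁ (2 : ℤ) : Divisor k K)) (hx0 : x ≠ 0)
    (hord : P₁.ord x = -2) : Module.finrank (adjoin k ({x} : Set K)) K = 2 := by
  classical
  have hxtr : Transcendental k x := transcendental_of_ord_neg hK (P := P₁) (by rw [hord]; norm_num)
  have h1 := deg_poleDiv_eq hK hxtr
  have h2 := deg_poleDiv_le_two hK P₁ x hxL hx0
  have h3 : (Finsupp.single P₁ (2 : ℤ) : Divisor k K) ≤ poleDiv k x := by
    intro R
    rw [poleDiv_apply hK, Finsupp.single_apply]
    split_ifs with h
    · subst h
      rw [hord]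
      exact le_max_of_le_left (by norm_num)
    · exact le_max_right _ _
  have h4 := deg_mono h3
  rw [deg_single, deg_eq_one_of_isAlgClosed hK P₁] at h4
  have : ((Module.finrank (adjoin k ({x} : Set K)) K : ℕ) : ℤ) = 2 := by
    rw [← h1]
    simp only [Nat.cast_one, mul_one] at h4
    omega
  exact_mod_cast this

/-- An automorphism fixing `x` (double pole at `P₁`, no other pole) fixes `P₁`. -/
theorem twist_pole_eq_of_apply_eq (P₁ : Place k K) (x : K)
    (hxL : x ∈ L (Finsupp.single P₁ (2 : ℤ) : Divisor k K)) (hx0 : x ≠ 0)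
    (hord : P₁.ord x = -2) (σ : K ≃ₐ[k] K) (hσ : σ x = x) : twist P₁ σ = P₁ := by
  classical
  by_contra hne
  have h1 := hxL (twist P₁ σ)
  rw [Finsupp.single_eq_of_ne hne, exp_zero, twist_apply, hσ, val_le_one_iff P₁ hx0, hord] at h1
  omega

/-- An automorphism fixing `x` fixes every place other than `P₁` at which `2` is a non-gap. -/
theorem twist_eq_of_apply_eq (hK : IsFunctionField k K) (hg : 2 ≤ genus k K)
    (P₁ P : Place k K) (hne : P ≠ P₁) (h2 : ¬ IsGapAt P₁ 2) (h2' : ¬ IsGapAt P 2)
    (x : K) (hxL : x ∈ L (Finsupp.single P₁ (2 : ℤ) : Divisor k K))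
    (hxr : x ∉ Set.range (algebraMap k K))
    (σ : K ≃ₐ[k] K) (hσ : σ x = x) : twist P σ = P := by
  classical
  have hreg : P.1 x ≤ 1 := by
    have := hxL P
    rw [Finsupp.single_eq_of_ne hne, exp_zero] at this
    exact this
  obtain ⟨c, hc⟩ := exists_const_approx hK P hreg
  set w := x - algebraMap k K c with hw
  have hwr : w ∉ Set.range (algebraMap k K) := by
    rintro ⟨d, hd⟩
    apply hxr
    refine ⟨d + c, ?_⟩
    rw [map_add, hd, hw]; ring
  have hw0 : w ≠ 0 := by
    rintro h0
    exact hwr ⟨0, by rw [map_zero, h0]⟩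
  have hwtr := transcendental_of_not_mem_range hK hwr
  have hord2 := two_le_ord_sub_const hK hg P₁ P hne h2 h2' x hxL c hw0 hc
  have hwL : w ∈ L (Finsupp.single P₁ (2 : ℤ) : Divisor k K) := by
    apply Submodule.sub_mem _ hxL
    intro R
    refine (R.2.1 c).trans ?_
    rw [← exp_zero, exp_le_exp, Finsupp.single_apply]
    split_ifs <;> norm_num
  have hσw : σ w = w := by rw [hw, map_sub, hσ, σ.commutes]
  by_contra hP'
  set P' := twist P σ with hP'def
  have hzeroP' : 0 < P'.ord w := by
    rw [← val_lt_one_iff P' hw0, hP'def, twist_apply, hσw]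
    exact hc
  have hzero : (Finsupp.single P (2 : ℤ) + Finsupp.single P' (1 : ℤ) : Divisor k K) ≤
      zeroDiv k w := by
    intro R
    rw [zeroDiv_apply hK, Finsupp.add_apply, Finsupp.single_apply, Finsupp.single_apply]
    by_cases hR : P = R
    · subst hR
      rw [if_pos rfl, if_neg hP', add_zero]
      exact le_max_of_le_left hord2
    · rw [if_neg hR, zero_add]
      by_cases hR' : P' = R
      · rw [if_pos hR', ← hR']
        exact le_max_of_le_left (by omega)
      · rw [if_neg hR']
        exact le_max_right _ _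
  have h1 := deg_mono hzero
  rw [deg_add, deg_single, deg_single, deg_eq_one_of_isAlgClosed hK P,
    deg_eq_one_of_isAlgClosed hK P', deg_zeroDiv_eq hK hwtr, ← deg_poleDiv_eq hK hwtr] at h1
  have h2 := deg_poleDiv_le_two hK P₁ w hwL hw0
  simp only [Nat.cast_one, mul_one] at h1
  omega

end

end Groth.Agent.H57
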