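import Mathlib

/-!
# `mapBifunctor - E G c` preserves colimits (first variable) (helper57)

First-variable analogue of helper5's `KFlatColim.isColimitMapBifunctorCocone`.
-/

set_option autoImplicit false

open CategoryTheory CategoryTheory.Limits HomologicalComplex

namespace Groth.Agent.H57.BifunctorColimLeft

variable {C₁ C₂ D : Type*} [Category C₁] [Category C₂] [Category D]
  [HasZeroMorphisms C₁] [HasZeroMorphisms C₂] [Preadditive D]
  (G : C₁ ⥤ C₂ ⥤ D) [G.PreservesZeroMorphisms] [∀ X₁, (G.obj X₁).PreservesZeroMorphisms]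
  {I₁ I₂ I : Type*} {c₁ : ComplexShape I₁} {c₂ : ComplexShape I₂} (c : ComplexShape I)
  [TotalComplexShape c₁ c₂ c] [DecidableEq I]
  [∀ (K₁ : HomologicalComplex C₁ c₁) (K₂ : HomologicalComplex C₂ c₂), HasMapBifunctor K₁ K₂ G c]
  {J : Type*} [Category J]

lemma ι_map₂_flip_obj_map (E : HomologicalComplex C₂ c₂) {K L : HomologicalComplex C₁ c₁}
    (φ : K ⟶ L) (p : I₁) (q : I₂) (n : I) (h : ComplexShape.π c₁ c₂ c (p, q) = n) :
    ιMapBifunctor K E G c p q n h ≫ (((G.map₂HomologicalComplex c₁ c₂ c).flip.obj E).map φ).f n =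
      (G.map (φ.f p)).app (E.X q) ≫ ιMapBifunctor L E G c p q n h := by
  refine (ι_mapBifunctorMap φ (𝟙 E) G c p q n h).trans ?_
  rw [HomologicalComplex.id_f, (G.obj (L.X p)).map_id, Category.id_comp]

/-- `mapBifunctor - E G c` preserves the colimits preserved by every `G.flip.obj Y`. -/
noncomputable def isColimitMapBifunctorCocone [HasColimitsOfShape J C₁]
    [∀ Y, PreservesColimitsOfShape J (G.flip.obj Y)]
    (E : HomologicalComplex C₂ c₂) (K : J ⥤ HomologicalComplex C₁ c₁) (s : Cocone K)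
    (hs : IsColimit s) :
    IsColimit (((G.map₂HomologicalComplex c₁ c₂ c).flip.obj E).mapCocone s) := by
  refine HomologicalComplex.isColimitOfEval _ _ (fun n => ?_)
  have hpq : ∀ (p : I₁) (q : I₂),
      IsColimit ((HomologicalComplex.eval C₁ c₁ p ⋙ G.flip.obj (E.X q)).mapCocone s) :=
    fun p q => isColimitOfPreserves _ hs
  let T := (G.map₂HomologicalComplex c₁ c₂ c).flip.obj E
  let tc : ∀ (t : Cocone ((K ⋙ T) ⋙ HomologicalComplex.eval D c n)) (p : I₁) (q : I₂)
      (_ : ComplexShape.π c₁ c₂ c (p, q) = n),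
      Cocone (K ⋙ HomologicalComplex.eval C₁ c₁ p ⋙ G.flip.obj (E.X q)) := fun t p q h =>
    { pt := t.pt
      ι := { app := fun j => ιMapBifunctor (K.obj j) E G c p q n h ≫ t.ι.app j
             naturality := fun j j' φ => by
               have h1 := ι_map₂_flip_obj_map G c E (K.map φ) p q n h
               have h2 : ((T.map (K.map φ)).f n) ≫ t.ι.app j' = t.ι.app j := t.w φ
               change (G.map ((K.map φ).f p)).app (E.X q) ≫
                   ιMapBifunctor (K.obj j') E G c p q n h ≫ t.ι.app j' =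
                 (ιMapBifunctor (K.obj j) E G c p q n h ≫ t.ι.app j) ≫ 𝟙 _
               rw [Category.comp_id, ← h2]
               calc (G.map ((K.map φ).f p)).app (E.X q) ≫
                     ιMapBifunctor (K.obj j') E G c p q n h ≫ t.ι.app j'
                   = ((G.map ((K.map φ).f p)).app (E.X q) ≫
                     ιMapBifunctor (K.obj j') E G c p q n h) ≫ t.ι.app j' :=
                     (Category.assoc _ _ _).symm
                 _ = (ιMapBifunctor (K.obj j) E G c p q n h ≫ (T.map (K.map φ)).f n) ≫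
                       t.ι.app j' := congrArg (fun x => x ≫ t.ι.app j') h1.symm
                 _ = _ := Category.assoc _ _ _ } }
  let sι : ∀ j, K.obj j ⟶ s.pt := fun j => s.ι.app j
  let dsc : ∀ (t : Cocone ((K ⋙ T) ⋙ HomologicalComplex.eval D c n)),
      (mapBifunctor s.pt E G c).X n ⟶ t.pt := fun t =>
    mapBifunctorDesc (fun p q h =>
      ((hpq p q).desc (tc t p q h) : (G.obj (s.pt.X p)).obj (E.X q) ⟶ t.pt))
  have hd : ∀ (t : Cocone ((K ⋙ T) ⋙ HomologicalComplex.eval D c n)) (p : I₁) (q : I₂)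
      (h : ComplexShape.π c₁ c₂ c (p, q) = n),
      ιMapBifunctor s.pt E G c p q n h ≫ dsc t = (hpq p q).desc (tc t p q h) :=
    fun t p q h => ι_mapBifunctorDesc _ _ _ _
  have hfac : ∀ (t : Cocone ((K ⋙ T) ⋙ HomologicalComplex.eval D c n)) (j : J),
      ((T.map (sι j)).f n) ≫ dsc t = t.ι.app j := by
    intro t j
    apply mapBifunctor.hom_ext
    intro p q h
    have h1 := ι_map₂_flip_obj_map G c E (sι j) p q n h
    calc ιMapBifunctor (K.obj j) E G c p q n h ≫ (T.map (sι j)).f n ≫ dsc t
        = (ιMapBifunctor (K.obj j) E G c p q n h ≫ (T.map (sι j)).f n) ≫ dsc t :=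
          (Category.assoc _ _ _).symm
      _ = ((G.map ((sι j).f p)).app (E.X q) ≫ ιMapBifunctor s.pt E G c p q n h) ≫ dsc t :=
          congrArg (fun x => x ≫ dsc t) h1
      _ = (G.map ((sι j).f p)).app (E.X q) ≫ ιMapBifunctor s.pt E G c p q n h ≫ dsc t :=
          Category.assoc _ _ _
      _ = (G.map ((sι j).f p)).app (E.X q) ≫ (hpq p q).desc (tc t p q h) := by rw [hd]
      _ = _ := (hpq p q).fac (tc t p q h) j
  have huniq : ∀ (t : Cocone ((K ⋙ T) ⋙ HomologicalComplex.eval D c n))
      (m : (mapBifunctor s.pt E G c).X n ⟶ t.pt),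
      (∀ j, ((T.map (sι j)).f n) ≫ m = t.ι.app j) → m = dsc t := by
    intro t m hm
    apply mapBifunctor.hom_ext
    intro p q h
    rw [hd]
    apply (hpq p q).hom_ext
    intro j
    rw [(hpq p q).fac]
    have h1 := ι_map₂_flip_obj_map G c E (sι j) p q n h
    change (G.map ((sι j).f p)).app (E.X q) ≫ ιMapBifunctor s.pt E G c p q n h ≫ m =
      ιMapBifunctor (K.obj j) E G c p q n h ≫ t.ι.app j
    rw [← hm j]
    calc (G.map ((sι j).f p)).app (E.X q) ≫ ιMapBifunctor s.pt E G c p q n h ≫ m
        = ((G.map ((sι j).f p)).app (E.X q) ≫ ιMapBifunctor s.pt E G c p q n h) ≫ m :=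
          (Category.assoc _ _ _).symm
      _ = (ιMapBifunctor (K.obj j) E G c p q n h ≫ (T.map (sι j)).f n) ≫ m :=
          congrArg (fun x => x ≫ m) h1.symm
      _ = _ := Category.assoc _ _ _
  exact
    { desc := fun t => dsc t
      fac := fun t j => hfac t j
      uniq := fun t m hm => huniq t m hm }

/-- `mapBifunctor - E G c` preserves colimits of shape `J` when every `G.flip.obj Y` does. -/
lemma preservesColimitsOfShape_flip_obj [HasColimitsOfShape J C₁]
    [∀ Y, PreservesColimitsOfShape J (G.flip.obj Y)] (E : HomologicalComplex C₂ c₂) :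
    PreservesColimitsOfShape J ((G.map₂HomologicalComplex c₁ c₂ c).flip.obj E) :=
  ⟨fun {K} => ⟨fun {s} hs => ⟨isColimitMapBifunctorCocone G c E K s hs⟩⟩⟩

end Groth.Agent.H57.BifunctorColimLeft
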