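import Groth.Agent.H57.HasseChange
import Groth.Agent.H57.LaurentTaylor

set_option autoImplicit false

namespace Groth.Agent.H57

open FunFld Groth.Agent.FF PowerSeries

universe u v w
variable {k : Type u} {K : Type v} [Field k] [Field K] [Algebra k K]

/-- A function with nonzero derivative with respect to `s` has a total Hasse derivative. -/
theorem exists_isHasseFamily (s : K) (Hs : K →ₐ[k] PowerSeries K)
    (hHs : LocRes.IsHasseFamily s Hs) (t : K) (ht : LocRes.hasseD Hs 1 t ≠ 0) :
    ∃ Ht : K →ₐ[k] PowerSeries K, LocRes.IsHasseFamily t Ht := by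
  set g : PowerSeries K := Hs t - C t with hg
  have hg0 : constantCoeff g = 0 := by
    rw [hg, map_sub, hHs.2, constantCoeff_C, sub_self]
  have hg1 : coeff 1 g = LocRes.hasseD Hs 1 t := by
    rw [hg, map_sub, coeff_C, if_neg one_ne_zero, sub_zero]
    rfl
  have hunit : IsUnit (coeff 1 g) := by
    rw [hg1]; exact isUnit_iff_ne_zero.2 ht
  set ψ : PowerSeries K := g.substInvOfIsUnit hunit with hψ
  have hψ0 : constantCoeff ψ = 0 := constantCoeff_substInvOfIsUnit g hunit
  have hsub : HasSubst ψ := HasSubst.of_constantCoeff_zero' hψ0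
  let σ : PowerSeries K →ₐ[k] PowerSeries K :=
    (substAlgHom (R := K) hsub).restrictScalars k
  have hσ : ∀ f, σ f = f.subst ψ := by
    intro f
    change substAlgHom (R := K) hsub f = _
    rw [coe_substAlgHom]
  refine ⟨σ.comp Hs, ?_, ?_⟩
  · change σ (Hs t) = _
    have : Hs t = C t + g := by rw [hg]; ring
    rw [hσ, this, subst_add hsub, subst_substInvOfIsUnit_right g hg0 hunit]
    congr 1
    rw [subst_C]
    rfl
  · intro y
    change constantCoeff (σ (Hs y)) = y
    rw [hσ, ← coeff_zero_eq_constantCoeff_apply, coeff_subst_eq_sum ψ hψ0]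
    simp only [zero_add, Finset.range_one, Finset.sum_singleton, pow_zero,
      coeff_zero_eq_constantCoeff, map_one, mul_one]
    exact hHs.2 y

variable {F : Type w} [Field F] [Algebra k F]

/-- Chain rule: the Taylor expansion of `φ z` is obtained from the total Hasse derivative of `z`
with respect to `s` by substituting the increment of `φ s`. -/
theorem taylorL_eq_subst (hK : IsFunctionField k K) (φ : K →ₐ[k] LaurentSeries F) (s : K)
    (Hs : K →ₐ[k] PowerSeries K) (hHs : LocRes.IsHasseFamily s Hs) (z : K) :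
    taylorL (φ z) =
      (PowerSeries.map (φ : K →+* LaurentSeries F) (Hs z)).subst (taylorL (φ s) - C (φ s)) := by
  have hs := transcendental_of_isHasseFamily hK s Hs hHs
  set g : PowerSeries (LaurentSeries F) := taylorL (φ s) - C (φ s) with hg
  have hg0 : constantCoeff g = 0 := by
    rw [hg, map_sub, constantCoeff_taylorL, constantCoeff_C, sub_self]
  have hsub : HasSubst g := HasSubst.of_constantCoeff_zero' hg0
  let Φ₀ : K →ₐ[k] PowerSeries (LaurentSeries F) :=
    { toRingHom := (PowerSeries.map (φ : K →+* LaurentSeries F)).comp (Hs : K →+* PowerSeries K)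
      commutes' := fun c => by
        change PowerSeries.map (φ : K →+* LaurentSeries F) (Hs (algebraMap k K c)) = _
        rw [AlgHom.commutes, PowerSeries.algebraMap_apply, PowerSeries.map_C,
          PowerSeries.algebraMap_apply]
        congr 1
        exact AlgHom.commutes φ c }
  let σ : PowerSeries (LaurentSeries F) →ₐ[k] PowerSeries (LaurentSeries F) :=
    (substAlgHom (R := LaurentSeries F) hsub).restrictScalars k
  have hσ : ∀ f, σ f = f.subst g := by
    intro f
    change substAlgHom (R := LaurentSeries F) hsub f = _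
    rw [coe_substAlgHom]
  let Φ₁ : K →ₐ[k] PowerSeries (LaurentSeries F) := σ.comp Φ₀
  let Φ₂ : K →ₐ[k] PowerSeries (LaurentSeries F) :=
    { toRingHom := (taylorL (F := F)).comp (φ : K →+* LaurentSeries F)
      commutes' := fun c => by
        change taylorL (φ (algebraMap k K c)) = _
        rw [LocRes.map_algebraMap, ← HahnSeries.ofPowerSeries_C, taylorL_coe, taylorL₀_C,
          PowerSeries.algebraMap_apply]
        congr 1
        rw [HahnSeries.algebraMap_apply', PowerSeries.algebraMap_apply,
          HahnSeries.ofPowerSeries_C] }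
  have hΦ₁ : ∀ y, Φ₁ y = (PowerSeries.map (φ : K →+* LaurentSeries F) (Hs y)).subst g :=
    fun y => hσ _
  have hΦ₂ : ∀ y, Φ₂ y = taylorL (φ y) := fun y => rfl
  have hε : ∀ y, PowerSeries.constantCoeff (R := LaurentSeries F) (Φ₁ y) =
      PowerSeries.constantCoeff (R := LaurentSeries F) (Φ₂ y) := by
    intro y
    rw [hΦ₁, hΦ₂, constantCoeff_taylorL, ← coeff_zero_eq_constantCoeff_apply,
      coeff_subst_eq_sum g hg0]
    simp only [zero_add, Finset.range_one, Finset.sum_singleton, pow_zero,
      coeff_zero_eq_constantCoeff, map_one, mul_one]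
    rw [← coeff_zero_eq_constantCoeff_apply, PowerSeries.coeff_map,
      coeff_zero_eq_constantCoeff_apply, hHs.2]
    rfl
  have hs12 : Φ₁ s = Φ₂ s := by
    rw [hΦ₁, hΦ₂, hHs.1, map_add, PowerSeries.map_C, PowerSeries.map_X, subst_add hsub,
      subst_X hsub, subst_C, hg]
    change C (φ s) + _ = _
    ring
  have heq := algHom_eq_of_transcendental hK Φ₁ Φ₂
    (PowerSeries.constantCoeff (R := LaurentSeries F)) hε hs hs12
  rw [← hΦ₂, ← heq, hΦ₁]

/-- Chain rule, first order: `d(φ z)/dX = φ(dz/ds) · d(φ s)/dX` for functions whose expansions are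
power series. -/
theorem D_expansion_eq (hK : IsFunctionField k K) (φ : K →ₐ[k] LaurentSeries F) (s : K)
    (Hs : K →ₐ[k] PowerSeries K) (hHs : LocRes.IsHasseFamily s Hs) (z : K)
    (g h : PowerSeries F) (hz : φ z = HahnSeries.ofPowerSeries ℤ F g)
    (hs : φ s = HahnSeries.ofPowerSeries ℤ F h) :
    LocRes.D F (φ z) = φ (LocRes.hasseD Hs 1 z) * LocRes.D F (φ s) := by
  have h1 := congrArg (coeff 1) (taylorL_eq_subst hK φ s Hs hHs z)
  have hg0 : constantCoeff (taylorL (φ s) - C (φ s)) = 0 := by
    rw [map_sub, constantCoeff_taylorL, constantCoeff_C, sub_self]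
  rw [coeff_subst_eq_sum _ hg0, Finset.sum_range_succ, Finset.sum_range_one, pow_zero, pow_one,
    coeff_one, if_neg one_ne_zero, mul_zero, zero_add, PowerSeries.coeff_map, map_sub, coeff_C,
    if_neg one_ne_zero, sub_zero, hz, hs, taylorL_coe, taylorL_coe, coeff_taylorL₀,
    coeff_taylorL₀, ofPowerSeries_psHasse, ofPowerSeries_psHasse] at h1
  rw [hz, hs]
  exact h1


/-- The first Taylor coefficient of a Laurent series is its derivative. -/
theorem coeff_one_taylorL (f : LaurentSeries F) : coeff 1 (taylorL f) = LocRes.D F f := by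
  obtain ⟨⟨g, m⟩, hgm⟩ := IsLocalization.surj (Submonoid.powers (PowerSeries.X : PowerSeries F)) f
  change f * HahnSeries.ofPowerSeries ℤ F (m : PowerSeries F) = HahnSeries.ofPowerSeries ℤ F g at hgm
  have hcoe : ∀ q : PowerSeries F, coeff 1 (taylorL (HahnSeries.ofPowerSeries ℤ F q)) =
      LocRes.D F (HahnSeries.ofPowerSeries ℤ F q) := by
    intro q
    rw [taylorL_coe, coeff_taylorL₀, ofPowerSeries_psHasse]
    rfl
  have hleib : ∀ a b : LaurentSeries F, coeff 1 (taylorL (a * b)) =
      a * coeff 1 (taylorL b) + b * coeff 1 (taylorL a) := by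
    intro a b
    rw [map_mul, coeff_mul, Finset.Nat.antidiagonal_succ, Finset.sum_cons,
      Finset.Nat.antidiagonal_zero]
    simp only [Finset.map_singleton, Function.Embedding.coe_prodMap, Function.Embedding.coeFn_mk,
      Prod.map_apply, Nat.succ_eq_add_one, zero_add, Function.Embedding.refl_apply,
      Finset.sum_singleton, coeff_zero_eq_constantCoeff, constantCoeff_taylorL]
    ring
  have h1 : coeff 1 (taylorL (f * HahnSeries.ofPowerSeries ℤ F (m : PowerSeries F))) =
      coeff 1 (taylorL (HahnSeries.ofPowerSeries ℤ F g)) := by rw [hgm]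
  have h2 := congrArg (LocRes.D F) hgm
  rw [hleib, hcoe, hcoe] at h1
  rw [(LocRes.D F).leibniz, smul_eq_mul, smul_eq_mul] at h2
  have hm0 : HahnSeries.ofPowerSeries ℤ F (m : PowerSeries F) ≠ 0 := by
    obtain ⟨_, j, rfl⟩ := m
    change HahnSeries.ofPowerSeries ℤ F (PowerSeries.X ^ j) ≠ 0
    rw [map_pow, HahnSeries.ofPowerSeries_X]
    exact pow_ne_zero _ (by
      intro h
      have := congrArg (fun x : LaurentSeries F => x.coeff 1) h
      simp at this)
  have h3 : HahnSeries.ofPowerSeries ℤ F (m : PowerSeries F) * coeff 1 (taylorL f) =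
      HahnSeries.ofPowerSeries ℤ F (m : PowerSeries F) * LocRes.D F f := by
    have : f * LocRes.D F (HahnSeries.ofPowerSeries ℤ F (m : PowerSeries F)) +
        HahnSeries.ofPowerSeries ℤ F (m : PowerSeries F) * coeff 1 (taylorL f) =
        f * LocRes.D F (HahnSeries.ofPowerSeries ℤ F (m : PowerSeries F)) +
        HahnSeries.ofPowerSeries ℤ F (m : PowerSeries F) * LocRes.D F f := by
      rw [h1, ← h2]
    exact add_left_cancel this
  exact mul_left_cancel₀ hm0 h3

/-- Chain rule, first order, in general. -/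
theorem D_expansion_eq' (hK : IsFunctionField k K) (φ : K →ₐ[k] LaurentSeries F) (s : K)
    (Hs : K →ₐ[k] PowerSeries K) (hHs : LocRes.IsHasseFamily s Hs) (z : K) :
    LocRes.D F (φ z) = φ (LocRes.hasseD Hs 1 z) * LocRes.D F (φ s) := by
  have h1 := congrArg (coeff 1) (taylorL_eq_subst hK φ s Hs hHs z)
  have hg0 : constantCoeff (taylorL (φ s) - C (φ s)) = 0 := by
    rw [map_sub, constantCoeff_taylorL, constantCoeff_C, sub_self]
  rw [coeff_subst_eq_sum _ hg0, Finset.sum_range_succ, Finset.sum_range_one, pow_zero, pow_one,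
    coeff_one, if_neg one_ne_zero, mul_zero, zero_add, PowerSeries.coeff_map, map_sub, coeff_C,
    if_neg one_ne_zero, sub_zero, coeff_one_taylorL, coeff_one_taylorL] at h1
  exact h1

end Groth.Agent.H57
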