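import Groth.Agent.H57.TateLaurent3

/-!
# Tate residues at a valuation of a field with an expansion into Laurent series
-/

set_option autoImplicit false

namespace Groth.Agent.H57.Tate

open LinearMap Module WithZero

variable {k : Type*} [Field k] {K : Type*} [Field K] [Algebra k K]
variable {F : Type*} [Field F] [Algebra k F]

/-- The valuation ring as a `k`-subspace. -/
def valSub (w : Valuation K ℤᵐ⁰) (hw : ∀ c : k, w (algebraMap k K c) ≤ 1) : Submodule k K where
  carrier := {x | w x ≤ 1}
  add_mem' {x y} hx hy := (w.map_add x y).trans (max_le hx hy)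
  zero_mem' := by simp
  smul_mem' c x hx := by
    change w (c • x) ≤ 1
    rw [Algebra.smul_def, map_mul]
    exact mul_le_one' (hw c) hx

/-- Multiplication by an element of `K` as a `k`-linear operator. -/
noncomputable def mulK (k : Type*) [Field k] {K : Type*} [Field K] [Algebra k K] (x : K) :
    End k K := LinearMap.mulLeft k x

@[simp] theorem mulK_apply (x y : K) : mulK k x y = x * y := rfl

/-- An expansion as a `k`-linear map for the coefficientwise module structure. -/
noncomputable def phiLin (φ : K →ₐ[k] LaurentSeries F) : K →ₗ[k] LaurentSeries F where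
  toFun := φ
  map_add' := map_add φ
  map_smul' c x := by
    rw [RingHom.id_apply, Algebra.smul_def, map_mul, LocRes.map_algebraMap, smul_eq_C_mul]

@[simp] theorem phiLin_apply (φ : K →ₐ[k] LaurentSeries F) (x : K) : phiLin φ x = φ x := rfl

theorem phiLin_injective (φ : K →ₐ[k] LaurentSeries F) : Function.Injective (phiLin φ) :=
  φ.toRingHom.injective

variable (w : Valuation K ℤᵐ⁰) (φ : K →ₐ[k] LaurentSeries F) (hφ : LocRes.IsExpansionAt w φ)
include hφ

/-- Density: every Laurent series is the expansion of a function up to a power series. -/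
theorem exists_sub_mem_Apos (h : LaurentSeries F) : ∃ x : K, h - φ x ∈ Apos k F := by
  obtain ⟨m, hm⟩ := exists_nat_coeff_eq_zero h
  have hv : Valued.v h ≤ exp (m : ℤ) := val_le_exp_of_coeff hm
  clear hm
  induction m generalizing h with
  | zero =>
    refine ⟨0, ?_⟩
    rw [map_zero, sub_zero, mem_Apos_iff]
    simpa using hv
  | succ m ih =>
    obtain ⟨t, ht⟩ := hφ.2.2
    have ht0 : t ≠ 0 := by
      rintro rfl
      rw [map_zero] at ht
      exact exp_ne_zero ht.symm
    have hφt : Valued.v (φ t) = exp (-1 : ℤ) := by rw [hφ.1 t, ht]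
    have hφt0 : φ t ≠ 0 := by
      rw [Ne, map_eq_zero_iff φ φ.toRingHom.injective]
      exact ht0
    set u := h * (φ t) ^ (m + 1) with hu
    have hvu : Valued.v u ≤ 1 := by
      rw [hu, map_mul, map_pow, hφt, ← exp_nsmul]
      calc Valued.v h * exp ((m + 1) • (-1 : ℤ)) ≤ exp ((m + 1 : ℕ) : ℤ) * exp ((m + 1) • (-1 : ℤ)) :=
            mul_le_mul' hv le_rfl
        _ = 1 := by
            rw [← exp_add, ← exp_zero]
            congr 1
            simp
    obtain ⟨z, hz1, hzb⟩ := hφ.2.1 (u.coeff 0)
    have hvz : Valued.v (φ z) ≤ 1 := by rw [hφ.1 z]; exact hz1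
    have hdiff : Valued.v (u - φ z) ≤ exp (-1 : ℤ) := by
      have := (LaurentSeries.valuation_le_iff_coeff_lt_eq_zero F (D := 1) (f := u - φ z)).2
      apply this
      intro n hn
      rw [HahnSeries.coeff_sub]
      rcases lt_or_eq_of_le (show n ≤ 0 by omega) with h1 | h1
      · rw [(mem_Apos_iff (k := k) u).2 hvu n h1, (mem_Apos_iff (k := k) (φ z)).2 hvz n h1, sub_zero]
      · rw [h1, hzb, sub_self]
    set y : K := z / t ^ (m + 1) with hy
    have hkey : h - φ y = (u - φ z) * ((φ t) ^ (m + 1))⁻¹ := by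
      rw [hy, map_div₀, map_pow, hu]
      field_simp
    have hvy : Valued.v (h - φ y) ≤ exp (m : ℤ) := by
      rw [hkey, map_mul, map_inv₀, map_pow, hφt, ← exp_nsmul, ← exp_neg]
      calc Valued.v (u - φ z) * exp (-((m + 1) • (-1 : ℤ))) ≤ exp (-1 : ℤ) * exp (-((m + 1) • (-1 : ℤ))) :=
            mul_le_mul' hdiff le_rfl
        _ = exp (m : ℤ) := by
            rw [← exp_add]
            congr 1
            simp
    obtain ⟨x', hx'⟩ := ih (h - φ y) hvy
    refine ⟨y + x', ?_⟩
    have : h - φ (y + x') = h - φ y - φ x' := by rw [map_add]; abel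
    rw [this]
    exact hx'

variable [FiniteDimensional k F]

/-- **Local comparison.** There is a projection of `K` onto the valuation ring of `w` for which
the Tate residue of `u dv` is the residue read through the expansion `φ`. -/
theorem exists_isProj_fpTrace_eq (hw : ∀ c : k, w (algebraMap k K c) ≤ 1) :
    ∃ π : End k K, LinearMap.IsProj (valSub w hw) π ∧
      ∀ u v : K, fpTrace (theta π (mulK k u) (mulK k v)) = LocRes.locRes φ u v := by
  classical
  obtain ⟨C, hC⟩ := Submodule.exists_isCompl (valSub w hw)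
  set πK : End k K := (valSub w hw).projection C hC with hπK
  have hπKproj : LinearMap.IsProj (valSub w hw) πK :=
    ⟨fun v => Submodule.projection_apply_mem hC v,
      fun a ha => Submodule.projection_apply_of_mem_left hC ha⟩
  refine ⟨πK, hπKproj, fun u v => ?_⟩
  -- the decomposition of the Laurent series
  set C' : Submodule k (LaurentSeries F) := C.map (phiLin φ) with hC'
  have hmemO : ∀ x : K, φ x ∈ Apos k F ↔ x ∈ valSub w hw := by
    intro x
    rw [mem_Apos_iff, hφ.1 x]
    rfl
  have hcompl : IsCompl (Apos k F) C' := by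
    constructor
    · rw [disjoint_iff, eq_bot_iff]
      intro h hh
      rw [Submodule.mem_inf] at hh
      obtain ⟨h1, ⟨c, hc, rfl⟩⟩ := hh
      rw [phiLin_apply, hmemO] at h1
      have : c ∈ valSub w hw ⊓ C := ⟨h1, hc⟩
      rw [hC.inf_eq_bot, Submodule.mem_bot] at this
      rw [this, map_zero]
      exact Submodule.zero_mem _
    · rw [codisjoint_iff, eq_top_iff]
      intro h _
      obtain ⟨x, hx⟩ := exists_sub_mem_Apos w φ hφ h
      have hxd : x ∈ valSub w hw ⊔ C := by rw [hC.sup_eq_top]; trivial
      rw [Submodule.mem_sup] at hxd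
      obtain ⟨o, ho, c, hc, rfl⟩ := hxd
      have : h = (h - φ (o + c) + φ o) + phiLin φ c := by
        rw [phiLin_apply, map_add]; abel
      rw [this]
      exact Submodule.add_mem_sup (Submodule.add_mem _ hx ((hmemO o).2 ho))
        (Submodule.mem_map_of_mem hc)
  set π'' : End k (LaurentSeries F) := (Apos k F).projection C' hcompl with hπ''
  have hπ''proj : LinearMap.IsProj (Apos k F) π'' :=
    ⟨fun v => Submodule.projection_apply_mem hcompl v,
      fun a ha => Submodule.projection_apply_of_mem_left hcompl ha⟩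
  set p'' : End k (LaurentSeries F) := C'.projection (Apos k F) hcompl.symm with hp''
  have hsum : π'' + p'' = 1 := Submodule.projection_add_projection_eq_id hcompl
  -- a lift of `p''` to `K`
  have hp''range : ∀ h, ∃ c : K, c ∈ C ∧ φ c = p'' h := by
    intro h
    have := Submodule.projection_apply_mem hcompl.symm h
    obtain ⟨c, hc, hch⟩ := this
    exact ⟨c, hc, hch⟩
  -- the linear lift
  let e : C ≃ₗ[k] C' := LinearEquiv.ofBijective ((phiLin φ).submoduleMap C)
    ⟨fun a b hab => by
      apply Subtype.ext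
      apply phiLin_injective φ
      exact congrArg Subtype.val hab, (phiLin φ).submoduleMap_surjective C⟩
  let p₀ : LaurentSeries F →ₗ[k] K :=
    C.subtype ∘ₗ (e.symm : C' →ₗ[k] C) ∘ₗ (C'.projectionOnto (Apos k F) hcompl.symm)
  have hp₀ : ∀ h, φ (p₀ h) = p'' h := by
    intro h
    change phiLin φ ((e.symm (C'.projectionOnto (Apos k F) hcompl.symm h) : C) : K) = _
    have h1 : phiLin φ ((e.symm (C'.projectionOnto (Apos k F) hcompl.symm h) : C) : K) =
        ((e (e.symm (C'.projectionOnto (Apos k F) hcompl.symm h)) : C') : LaurentSeries F) := rfl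
    rw [h1, LinearEquiv.apply_symm_apply]
    rfl
  -- the operators
  set f : End k (LaurentSeries F) := mulOp k (φ u) with hf
  set g : End k (LaurentSeries F) := mulOp k (φ v) with hg
  have hfg : f * g = g * f := mulOp_comm _ _
  set θ'' := theta π'' f g with hθ''
  have hθ''eq : θ'' = g * p'' * f - p'' * f * g := by
    have h1 : π'' = 1 - p'' := by rw [← hsum]; abel
    rw [hθ'', theta, h1]
    have : (1 - p'') * f * g - g * ((1 - p'') * f) = g * p'' * f - p'' * f * g + (f * g - g * f) := by
      simp only [sub_mul, mul_sub, one_mul, mul_assoc]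
      abel
    rw [this, hfg, sub_self, add_zero]
  let θ₀ : LaurentSeries F →ₗ[k] K := mulK k v ∘ₗ p₀ ∘ₗ f - p₀ ∘ₗ f ∘ₗ g
  have hθ₀ : ∀ h, φ (θ₀ h) = θ'' h := by
    intro h
    rw [hθ''eq]
    change φ (v * p₀ (f h) - p₀ (f (g h))) = g (p'' (f h)) - p'' (f (g h))
    rw [map_sub, map_mul, hp₀, hp₀]
    rfl
  have hθ''comp : θ'' = phiLin φ ∘ₗ θ₀ := by
    ext1 h
    exact (hθ₀ h).symm
  -- compatibility with the operator on `K`
  have hπcomm : ∀ x : K, π'' (φ x) = φ (πK x) := by
    intro x
    have hxd : x ∈ valSub w hw ⊔ C := by rw [hC.sup_eq_top]; trivial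
    rw [Submodule.mem_sup] at hxd
    obtain ⟨o, ho, c, hc, rfl⟩ := hxd
    have e1 : πK (o + c) = o := by
      rw [map_add, Submodule.projection_apply_of_mem_left hC ho,
        Submodule.projection_apply_of_mem_right hC hc, add_zero]
    have e2 : π'' (φ (o + c)) = φ o := by
      rw [map_add, map_add, Submodule.projection_apply_of_mem_left hcompl ((hmemO o).2 ho),
        Submodule.projection_apply_of_mem_right hcompl
          (show φ c ∈ C' from Submodule.mem_map_of_mem (f := phiLin φ) hc), add_zero]
    rw [e1, e2]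
  have hθK : θ₀ ∘ₗ phiLin φ = theta πK (mulK k u) (mulK k v) := by
    ext1 x
    apply phiLin_injective φ
    change φ (θ₀ (φ x)) = φ (theta πK (mulK k u) (mulK k v) x)
    rw [hθ₀, hθ'']
    change π'' (φ u * (φ v * φ x)) - φ v * π'' (φ u * φ x) = φ (πK (u * (v * x)) - v * πK (u * x))
    rw [← map_mul φ v x, ← map_mul φ u (v * x), ← map_mul φ u x, hπcomm, hπcomm, map_sub, map_mul φ]
  have hθ''E0 : InE0 (Apos k F) θ'' :=
    inE0_theta hπ''proj (inE_mulOp (φ u)) (inE_mulOp (φ v)) hfg
  have hfp : IsFP (phiLin φ ∘ₗ θ₀ : End k (LaurentSeries F)) := by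
    rw [← hθ''comp]
    exact hθ''E0.isFP
  have h1 := fpTrace_comp_comm (phiLin φ) θ₀ hfp
  rw [hθK, ← hθ''comp] at h1
  rw [← h1]
  have h2 : fpTrace θ'' = lres k (φ u) (φ v) :=
    tres_eq_of_isProj isProj_piPos hπ''proj (inE_mulOp (φ u)) (inE_mulOp (φ v)) hfg
  rw [h2, lres_eq]
  rfl

end Groth.Agent.H57.Tate
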