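import Groth.Agent.H57.TateGlobal
import Groth.Agent.H57.TateLocal
import Groth.Agent.FunFld.Adele2
import Groth.Agent.FunFld.LFinite
import Groth.Agent.FunFld.Weil

/-!
# Tate residues on the adele space of a function field: global vanishing
-/

set_option autoImplicit false

namespace Groth.Agent.H57.Tate

open LinearMap Module WithZero FunFld Groth.Agent.FF

section Sums
variable {k : Type*} [Field k] {V : Type*} [AddCommGroup V] [Module k V] {A : Submodule k V}

theorem InE0.zero : InE0 A (0 : End k V) := by
  refine ⟨AlmostLE.of_le ?_, ?_⟩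
  · rintro _ ⟨v, rfl⟩
    simp
  · change FiniteDimensional k (A.map (0 : End k V))
    rw [Submodule.map_zero]
    infer_instance

theorem fpTrace_zero : fpTrace (0 : End k V) = 0 :=
  fpTrace_eq_zero_of_pow_eq_zero 0 1 (by simp)

theorem InE0.sum {ι : Type*} (s : Finset ι) (T : ι → End k V) (h : ∀ i ∈ s, InE0 A (T i)) :
    InE0 A (∑ i ∈ s, T i) := by
  classical
  induction s using Finset.induction_on with
  | empty => simpa using InE0.zero
  | insert a s ha ih =>
    rw [Finset.sum_insert ha]
    exact (h a (Finset.mem_insert_self a s)).add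
      (ih fun i hi => h i (Finset.mem_insert_of_mem hi))

theorem fpTrace_sum_of_inE0 {ι : Type*} (s : Finset ι) (T : ι → End k V)
    (h : ∀ i ∈ s, InE0 A (T i)) : fpTrace (∑ i ∈ s, T i) = ∑ i ∈ s, fpTrace (T i) := by
  classical
  induction s using Finset.induction_on with
  | empty => simpa using fpTrace_zero
  | insert a s ha ih =>
    rw [Finset.sum_insert ha, Finset.sum_insert ha,
      fpTrace_add_of_inE0 (h a (Finset.mem_insert_self a s))
        (InE0.sum s T fun i hi => h i (Finset.mem_insert_of_mem hi)),
      ih fun i hi => h i (Finset.mem_insert_of_mem hi)]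

/-- A subspace with finite-dimensional quotient in a bigger one is a direct summand up to a
finite-dimensional subspace. -/
theorem exists_finiteDimensional_sup {X Y : Submodule k V}
    (h : FiniteDimensional k (Y ⧸ X.submoduleOf Y)) :
    ∃ F : Submodule k V, FiniteDimensional k F ∧ F ≤ Y ∧ Y ≤ X ⊔ F := by
  obtain ⟨G, hG⟩ := Submodule.exists_isCompl (X.submoduleOf Y)
  have hGfin : FiniteDimensional k G :=
    (Submodule.quotientEquivOfIsCompl _ G hG).finiteDimensional
  refine ⟨G.map Y.subtype, inferInstance, ?_, ?_⟩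
  · rintro _ ⟨g, _, rfl⟩
    exact g.2
  · intro y hy
    have hy' : (⟨y, hy⟩ : Y) ∈ X.submoduleOf Y ⊔ G := by rw [hG.sup_eq_top]; trivial
    rw [Submodule.mem_sup] at hy'
    obtain ⟨x', hx', g, hg, hsum⟩ := hy'
    have : y = (x' : V) + (g : V) := by
      have := congrArg Subtype.val hsum
      exact this.symm
    rw [this]
    exact Submodule.add_mem_sup hx' ⟨g, hg, rfl⟩

end Sums

universe u v
variable {k : Type u} {K : Type v} [Field k] [Field K] [Algebra k K]

/-- Multiplication by a function on the adele space. -/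
noncomputable def mulA (hK : IsFunctionField k K) (x : K) : End k (adele k K) :=
  (x • (LinearMap.id : (Place k K → K) →ₗ[k] (Place k K → K))).restrict
    (fun a ha => by simpa using adele_smul_mem hK x a ha)

theorem mulA_apply (hK : IsFunctionField k K) (x : K) (a : adele k K) (P : Place k K) :
    (mulA hK x a : Place k K → K) P = x * (a : Place k K → K) P := rfl

theorem mulA_comm (hK : IsFunctionField k K) (x y : K) :
    mulA hK x * mulA hK y = mulA hK y * mulA hK x := by
  ext a P
  simp only [Module.End.mul_apply, mulA_apply]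
  ring

/-- The integral adeles. -/
def A0 (k : Type u) (K : Type v) [Field k] [Field K] [Algebra k K] : Submodule k (adele k K) :=
  (AD (0 : Divisor k K)).submoduleOf (adele k K)

theorem mem_A0_iff (a : adele k K) : a ∈ A0 k K ↔ ∀ P : Place k K, P.1 ((a : Place k K → K) P) ≤ 1 := by
  change (a : Place k K → K) ∈ AD (0 : Divisor k K) ↔ _
  rw [mem_AD]
  simp

/-- The principal adeles. -/
noncomputable def Kdiag (k : Type u) (K : Type v) [Field k] [Field K] [Algebra k K] : Submodule k (adele k K) :=
  (Kd k K).submoduleOf (adele k K)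

theorem mem_Kdiag_iff (a : adele k K) :
    a ∈ Kdiag k K ↔ ∃ x : K, ∀ P, (a : Place k K → K) P = x := by
  change (a : Place k K → K) ∈ Kd k K ↔ _
  constructor
  · rintro ⟨x, hx⟩
    exact ⟨x, fun P => by rw [← hx]; rfl⟩
  · rintro ⟨x, hx⟩
    exact ⟨x, funext fun P => (hx P).symm⟩

theorem finiteDimensional_A0_inf_Kdiag (hK : IsFunctionField k K) :
    FiniteDimensional k ↥(A0 k K ⊓ Kdiag k K) := by
  haveI := finite_L hK (0 : Divisor k K)
  let ψ : L (0 : Divisor k K) →ₗ[k] adele k K :=
    { toFun := fun x => ⟨diag k K x, Kd_le_adele hK ⟨x, rfl⟩⟩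
      map_add' := fun x y => by
        apply Subtype.ext
        simp
      map_smul' := fun c x => by
        apply Subtype.ext
        simp }
  refine Submodule.finiteDimensional_of_le (S₂ := LinearMap.range ψ) ?_
  intro a ha
  rw [Submodule.mem_inf] at ha
  obtain ⟨h1, h2⟩ := ha
  rw [mem_A0_iff] at h1
  rw [mem_Kdiag_iff] at h2
  obtain ⟨x, hx⟩ := h2
  have hxL : x ∈ L (0 : Divisor k K) := by
    intro P
    have := h1 P
    rw [hx P] at this
    simpa using this
  refine ⟨⟨x, hxL⟩, ?_⟩
  apply Subtype.ext
  funext P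
  exact (hx P).symm

theorem exists_finiteDimensional_sup_eq_top (hK : IsFunctionField k K) :
    ∃ F₀ : Submodule k (adele k K), FiniteDimensional k F₀ ∧ A0 k K ⊔ Kdiag k K ⊔ F₀ = ⊤ := by
  have hfin := (finite_adele_quot hK (0 : Divisor k K)).1
  have heq : A0 k K ⊔ Kdiag k K = ADK (0 : Divisor k K) := by
    apply le_antisymm
    · refine sup_le ?_ ?_
      · intro a ha
        exact Submodule.mem_sup_left ha
      · intro a ha
        exact Submodule.mem_sup_right ha
    · intro a ha
      change (a : Place k K → K) ∈ AD (0 : Divisor k K) ⊔ Kd k K at ha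
      rw [Submodule.mem_sup] at ha
      obtain ⟨b, hb, c, hc, hsum⟩ := ha
      have hb' : b ∈ adele k K := AD_le_adele _ hb
      have hc' : c ∈ adele k K := Kd_le_adele hK hc
      have : a = ⟨b, hb'⟩ + ⟨c, hc'⟩ := Subtype.ext hsum.symm
      rw [this]
      exact Submodule.add_mem_sup hb hc
  obtain ⟨F₀, hF₀⟩ := Submodule.exists_isCompl (ADK (0 : Divisor k K))
  refine ⟨F₀, ?_, ?_⟩
  · exact (Submodule.quotientEquivOfIsCompl _ F₀ hF₀).finiteDimensional
  · rw [heq]
    exact hF₀.sup_eq_top

end Groth.Agent.H57.Tate
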