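import Groth.Agent.H57.TateSum2
import Groth.Agent.H57.TateAdele
import Mathlib.RingTheory.Trace.Basic

/-!
# Tate residues and the trace: the residue on a free module over a field
-/

set_option autoImplicit false

namespace Groth.Agent.H57.Tate

open LinearMap Module

variable {k : Type*} [Field k] {K : Type*} [Field K] [Algebra k K]
variable {K' : Type*} [Field K'] [Algebra K K'] [Algebra k K'] [IsScalarTower k K K']
variable {ι : Type*} [Fintype ι] [DecidableEq ι] (b : Basis ι K K')

/-- The `p`-th coordinate embedding `a ↦ a • b p`. -/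
noncomputable def iotaB (p : ι) : K →ₗ[k] K' :=
  (LinearMap.toSpanSingleton K K' (b p)).restrictScalars k

/-- The `p`-th coordinate. -/
noncomputable def prB (p : ι) : K' →ₗ[k] K := (b.coord p).restrictScalars k

@[simp] theorem iotaB_apply (p : ι) (a : K) : iotaB (k := k) b p a = a • b p := rfl

@[simp] theorem prB_apply (p : ι) (w : K') : prB (k := k) b p w = b.repr w p := rfl

theorem prB_iotaB (p q : ι) (a : K) :
    prB (k := k) b p (iotaB (k := k) b q a) = if p = q then a else 0 := by
  rw [iotaB_apply, prB_apply, map_smul, Finsupp.smul_apply, Basis.repr_self, smul_eq_mul,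
    Finsupp.single_apply]
  by_cases h : p = q
  · rw [if_pos h, if_pos h.symm, mul_one]
  · rw [if_neg h, if_neg (Ne.symm h), mul_zero]

theorem sum_iotaB_prB (w : K') : ∑ p, iotaB (k := k) b p (prB (k := k) b p w) = w := by
  simp only [iotaB_apply, prB_apply]
  exact b.sum_repr w

/-- The block-diagonal projection. -/
noncomputable def blockProj (π : End k K) : End k K' :=
  ∑ p, iotaB (k := k) b p ∘ₗ π ∘ₗ prB (k := k) b p

theorem blockProj_apply (π : End k K) (w : K') :
    blockProj b π w = ∑ p, π (b.repr w p) • b p := by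
  unfold blockProj
  rw [LinearMap.sum_apply]
  rfl

theorem isProj_blockProj {A : Submodule k K} {R : Submodule k K'} {π : End k K}
    (hπ : LinearMap.IsProj A π) (h1 : ∀ p, ∀ a ∈ A, a • b p ∈ R)
    (h2 : ∀ w ∈ R, ∀ p, b.repr w p ∈ A) : LinearMap.IsProj R (blockProj b π) := by
  constructor
  · intro w
    rw [blockProj_apply]
    exact Submodule.sum_mem _ fun p _ => h1 p _ (hπ.map_mem _)
  · intro w hw
    rw [blockProj_apply]
    conv_rhs => rw [← b.sum_repr w]
    refine Finset.sum_congr rfl fun p _ => ?_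
    rw [hπ.map_id _ (h2 w hw p)]

/-- The entries of the matrix of multiplication by `y`. -/
noncomputable def mulEntry (y : K') (p q : ι) : K := b.repr (y * b q) p

theorem repr_mul_eq (y w : K') (p : ι) :
    b.repr (y * w) p = ∑ q, mulEntry b y p q * b.repr w q := by
  conv_lhs => rw [← b.sum_repr w, Finset.mul_sum]
  rw [map_sum, Finset.sum_apply']
  refine Finset.sum_congr rfl fun q _ => ?_
  rw [mul_smul_comm, map_smul, Finsupp.smul_apply, smul_eq_mul, mul_comm]
  rfl

theorem repr_algebraMap_mul (x : K) (w : K') (p : ι) :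
    b.repr (algebraMap K K' x * w) p = x * b.repr w p := by
  rw [← Algebra.smul_def, map_smul, Finsupp.smul_apply, smul_eq_mul]

theorem trace_eq_sum_mulEntry (y : K') : Algebra.trace K K' y = ∑ p, mulEntry b y p p := by
  rw [Algebra.trace_eq_matrix_trace b y, Matrix.trace]
  refine Finset.sum_congr rfl fun p _ => ?_
  rw [Matrix.diag_apply, Algebra.leftMulMatrix_eq_repr_mul]
  rfl

/-- The decomposition of `θ' = [π' y, x]` into blocks. -/
theorem theta_blockProj (π : End k K) (y : K') (x : K) :
    theta (blockProj b π) (mulK k y) (mulK k (algebraMap K K' x)) =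
      ∑ p, ∑ q, iotaB (k := k) b p ∘ₗ
        theta π (mulK k (mulEntry b y p q)) (mulK k x) ∘ₗ prB (k := k) b q := by
  apply LinearMap.ext
  intro w
  unfold theta
  rw [LinearMap.sub_apply, Module.End.mul_apply, Module.End.mul_apply, Module.End.mul_apply,
    Module.End.mul_apply, blockProj_apply, blockProj_apply, LinearMap.sum_apply]
  simp only [LinearMap.sum_apply, LinearMap.comp_apply, mulK_apply, iotaB_apply, prB_apply,
    LinearMap.sub_apply, Module.End.mul_apply]
  rw [Finset.mul_sum, ← Finset.sum_sub_distrib]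
  refine Finset.sum_congr rfl fun p _ => ?_
  rw [← Finset.sum_smul, Finset.sum_sub_distrib, sub_smul]
  congr 1
  · congr 1
    rw [← map_sum]
    congr 1
    have : y * (algebraMap K K' x * w) = algebraMap K K' x * (y * w) := by ring
    rw [this, repr_algebraMap_mul, repr_mul_eq, Finset.mul_sum]
    refine Finset.sum_congr rfl fun q _ => ?_
    ring
  · rw [← Algebra.smul_def, smul_smul]
    congr 1
    rw [← Finset.mul_sum, ← map_sum, repr_mul_eq]

theorem mulK_sum {ι' : Type*} (s : Finset ι') (a : ι' → K) :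
    mulK k (∑ i ∈ s, a i) = ∑ i ∈ s, mulK k (a i) := by
  apply LinearMap.ext
  intro z
  rw [LinearMap.sum_apply]
  simp only [mulK_apply]
  rw [Finset.sum_mul]

theorem theta_sum_left {V : Type*} [AddCommGroup V] [Module k V] {ι' : Type*} (s : Finset ι')
    (π g : End k V) (f : ι' → End k V) :
    theta π (∑ i ∈ s, f i) g = ∑ i ∈ s, theta π (f i) g := by
  unfold theta
  rw [Finset.mul_sum, Finset.sum_mul, Finset.mul_sum, ← Finset.sum_sub_distrib]

theorem mulK_comm' (u v : K) : mulK k u * mulK k v = mulK k v * mulK k u := by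
  apply LinearMap.ext
  intro z
  change u * (v * z) = v * (u * z)
  ring

/-- **The residue on a free module**: for a lattice `R = ⊕ A b_p` in `K' = ⊕ K b_p`, the residue
of `y dx` relative to `R` is the residue of `tr(y) dx` relative to `A`. -/
theorem tres_blockProj {A : Submodule k K} {R : Submodule k K'} {π : End k K}
    (hπ : LinearMap.IsProj A π) (h1 : ∀ p, ∀ a ∈ A, a • b p ∈ R)
    (h2 : ∀ w ∈ R, ∀ p, b.repr w p ∈ A) (hE : ∀ u : K, InE A (mulK k u)) (y : K') (x : K) :
    tres (blockProj b π) (mulK k y) (mulK k (algebraMap K K' x)) =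
      tres π (mulK k (Algebra.trace K K' y)) (mulK k x) := by
  classical
  set θl : ι → ι → End k K := fun p q => theta π (mulK k (mulEntry b y p q)) (mulK k x) with hθl
  have hθl0 : ∀ p q, InE0 A (θl p q) := fun p q =>
    inE0_theta hπ (hE _) (hE x) (mulK_comm' _ _)
  set T : ι → ι → End k K' := fun p q =>
    iotaB (k := k) b p ∘ₗ θl p q ∘ₗ prB (k := k) b q with hT
  have hT0 : ∀ p q, InE0 R (T p q) := by
    intro p q
    constructor
    · obtain ⟨F, hF, hle⟩ := (hθl0 p q).1
      refine ⟨F.map (iotaB (k := k) b p), inferInstance, ?_⟩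
      rintro _ ⟨w, rfl⟩
      have hmem : θl p q (prB (k := k) b q w) ∈ A ⊔ F := hle ⟨_, rfl⟩
      rw [Submodule.mem_sup] at hmem
      obtain ⟨a, ha, f, hf, haf⟩ := hmem
      change iotaB (k := k) b p (θl p q (prB (k := k) b q w)) ∈ _
      rw [← haf, map_add]
      exact Submodule.add_mem_sup (h1 p a ha) (Submodule.mem_map_of_mem hf)
    · have hfin : FiniteDimensional k (A.map (θl p q)) := (hθl0 p q).2
      refine Submodule.finiteDimensional_of_le
        (S₂ := (A.map (θl p q)).map (iotaB (k := k) b p)) ?_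
      rintro _ ⟨w, hw, rfl⟩
      exact ⟨θl p q (prB (k := k) b q w), ⟨_, h2 w hw q, rfl⟩, rfl⟩
  have hTtr : ∀ p q, fpTrace (T p q) = if q = p then fpTrace (θl p p) else 0 := by
    intro p q
    have hfp : IsFP (iotaB (k := k) b p ∘ₗ (θl p q ∘ₗ prB (k := k) b q) : End k K') :=
      (hT0 p q).isFP
    have h := fpTrace_comp_comm (iotaB (k := k) b p) (θl p q ∘ₗ prB (k := k) b q) hfp
    change fpTrace (T p q) = _ at h
    rw [h]
    have hcomp : (θl p q ∘ₗ prB (k := k) b q) ∘ₗ iotaB (k := k) b p =
        if q = p then θl p p else 0 := by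
      apply LinearMap.ext
      intro a
      rw [LinearMap.comp_apply, LinearMap.comp_apply, prB_iotaB]
      split_ifs with hqp
      · subst hqp; rfl
      · rw [map_zero]; rfl
    rw [hcomp]
    split_ifs
    · rfl
    · exact fpTrace_zero
  unfold tres
  rw [theta_blockProj]
  change fpTrace (∑ p, ∑ q, T p q) = _
  rw [fpTrace_sum_of_inE0 (A := R) Finset.univ (fun p => ∑ q, T p q)
    (fun p _ => InE0.sum Finset.univ (T p) fun q _ => hT0 p q)]
  have hinner : ∀ p, fpTrace (∑ q, T p q) = fpTrace (θl p p) := by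
    intro p
    rw [fpTrace_sum_of_inE0 (A := R) Finset.univ (T p) (fun q _ => hT0 p q)]
    simp only [hTtr]
    rw [Finset.sum_ite_eq' Finset.univ p, if_pos (Finset.mem_univ p)]
  simp only [hinner]
  rw [trace_eq_sum_mulEntry b y, mulK_sum, theta_sum_left,
    fpTrace_sum_of_inE0 (A := A) Finset.univ _ (fun p _ => hθl0 p p)]

end Groth.Agent.H57.Tate
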