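import Groth.Agent.H57.TraceDual
import Groth.Agent.H57.TateSum3
import Mathlib.RingTheory.Valuation.Extension
import Groth.Agent.FunFld.RelFundIneq

/-!
# An integral basis for a finite extension of a complete discretely valued field
(with coefficient fields), and the trace formula for residues
-/

set_option autoImplicit false

namespace Groth.Agent.H57.CBasis

open WithZero Groth.Agent.H57.Tate Groth.Agent.H57.TDual

universe u₁ u₂ u₃ u₄
variable {K : Type u₁} {L : Type u₂} {F : Type u₃} {E : Type u₄}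
  [Field K] [Field L] [Field F] [Field E]
  [Algebra K F] [Algebra F E] [Algebra K E] [IsScalarTower K F E]
  [Algebra K L] [Algebra L E] [IsScalarTower K L E]

/-- The ramification index of an extension of discrete valuations. -/
theorem exists_ramIdx (v : Valuation F ℤᵐ⁰) (w : Valuation E ℤᵐ⁰) [v.HasExtension w]
    (ht : ∃ t : F, v t = exp (-1 : ℤ)) :
    ∃ e : ℕ, 0 < e ∧ ∀ a : F, w (algebraMap F E a) = v a ^ e := by
  obtain ⟨t, ht⟩ := ht
  have heq : v.IsEquiv (w.comap (algebraMap F E)) := Valuation.HasExtension.val_isEquiv_comap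
  have h1 : ∀ {a : F}, v a = 1 ↔ w (algebraMap F E a) = 1 :=
    Valuation.isEquiv_iff_val_eq_one.1 heq
  have hlt : ∀ {a : F}, v a < 1 ↔ w (algebraMap F E a) < 1 :=
    Valuation.isEquiv_iff_val_lt_one.1 heq
  have ht0 : t ≠ 0 := by
    rintro rfl
    rw [map_zero] at ht
    exact exp_ne_zero ht.symm
  set τ := algebraMap F E t with hτ
  have hτ0 : τ ≠ 0 := (map_ne_zero_iff _ (algebraMap F E).injective).2 ht0
  have hτlt : w τ < 1 := hlt.1 (by rw [ht, ← exp_zero, exp_lt_exp]; norm_num)
  have hwτ0 : w τ ≠ 0 := (Valuation.ne_zero_iff _).2 hτ0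
  set n := log (w τ) with hn
  have hwτ : w τ = exp n := (exp_log hwτ0).symm
  have hnneg : n < 0 := by
    rw [hwτ, ← exp_zero, exp_lt_exp] at hτlt
    exact hτlt
  refine ⟨(-n).toNat, by omega, fun a => ?_⟩
  by_cases ha : a = 0
  · rw [ha, map_zero, map_zero, map_zero, zero_pow (by omega)]
  have hva0 : v a ≠ 0 := (Valuation.ne_zero_iff _).2 ha
  set m := log (v a) with hm
  have hva : v a = exp m := (exp_log hva0).symm
  have hunit : v (a * t ^ m) = 1 := by
    rw [map_mul, map_zpow₀, ht, hva, ← exp_zsmul, ← exp_add, smul_eq_mul]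
    rw [show m + m * (-1 : ℤ) = 0 by ring, exp_zero]
  have hunit' := h1.1 hunit
  rw [map_mul, map_zpow₀, map_mul, map_zpow₀, ← hτ, hwτ, ← exp_zsmul, smul_eq_mul] at hunit'
  have hw : w (algebraMap F E a) = exp (-(m * n)) := by
    rw [exp_neg]
    exact eq_inv_of_mul_eq_one_left hunit'
  rw [hw, hva, ← exp_nsmul]
  congr 1
  rw [nsmul_eq_mul, Int.toNat_of_nonneg (by omega)]
  ring

section Main

variable (v : Valuation F ℤᵐ⁰) (w : Valuation E ℤᵐ⁰)
  (φ : F →ₐ[K] LaurentSeries K) (hφ : LocRes.IsExpansionAt v φ)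
  (ψ : E →ₐ[L] LaurentSeries L) (hψ : LocRes.IsExpansionAt w ψ)
  (e : ℕ) (hepos : 0 < e) (he : ∀ a : F, w (algebraMap F E a) = v a ^ e)

include hφ in
theorem val_algebraMap_le_one (c : K) : v (algebraMap K F c) ≤ 1 := by
  rw [← hφ.1, LocRes.map_algebraMap, ← exp_zero]
  apply val_le_exp_of_coeff
  intro n hn
  rw [HahnSeries.C_apply, HahnSeries.coeff_single_of_ne (by omega)]

include hψ in
theorem val_algebraMapL_le_one (c : L) : w (algebraMap L E c) ≤ 1 := by
  rw [← hψ.1, LocRes.map_algebraMap, ← exp_zero]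
  apply val_le_exp_of_coeff
  intro n hn
  rw [HahnSeries.C_apply, HahnSeries.coeff_single_of_ne (by omega)]

include hφ hψ he hepos in
/-- The residue of an integral element of `F`, computed in `E`. -/
theorem coeff_zero_algebraMap {c : F} (hc : v c ≤ 1) :
    (ψ (algebraMap F E c)).coeff 0 = algebraMap K L ((φ c).coeff 0) := by
  set κ := (φ c).coeff 0 with hκ
  have hm : v (c - algebraMap K F κ) < 1 := by
    rw [← hφ.1]
    apply val_lt_one_of_coeff_zero
    · rw [hφ.1]
      exact (v.map_sub _ _).trans (max_le hc (val_algebraMap_le_one v φ hφ κ))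
    · rw [map_sub, LocRes.map_algebraMap, HahnSeries.coeff_sub, HahnSeries.C_apply,
        HahnSeries.coeff_single_same, Algebra.algebraMap_self, RingHom.id_apply, sub_self]
  have hm' : w (algebraMap F E (c - algebraMap K F κ)) < 1 := by
    rw [he]
    exact pow_lt_one₀ zero_le' hm (by omega)
  have h0 := coeff_zero_of_val_lt_one (f := ψ (algebraMap F E (c - algebraMap K F κ)))
    (by rw [hψ.1]; exact hm')
  rw [map_sub, map_sub, HahnSeries.coeff_sub, sub_eq_zero] at h0
  rw [h0, ← IsScalarTower.algebraMap_apply, IsScalarTower.algebraMap_apply K L E,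
    LocRes.map_algebraMap, Algebra.algebraMap_self, RingHom.id_apply, HahnSeries.C_apply,
    HahnSeries.coeff_single_same]


section Basis

variable {J : Type*} [Fintype J] (θ : Module.Basis J K L) (u : E)

/-- The candidate integral basis `θ_j u^i`. -/
noncomputable def bas (p : Fin e × J) : E := algebraMap L E (θ p.2) * u ^ (p.1 : ℕ)

include hφ hψ he hepos in
/-- Independence of the residues: an integral combination of the `θ_j` of value `< 1` has all
coefficients of value `< 1`. -/
theorem val_lt_one_of_row (c : J → F) (hc : ∀ j, v (c j) ≤ 1)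
    (h : w (∑ j, algebraMap F E (c j) * algebraMap L E (θ j)) < 1) : ∀ j, v (c j) < 1 := by
  classical
  have h0 := coeff_zero_of_val_lt_one
    (f := ψ (∑ j, algebraMap F E (c j) * algebraMap L E (θ j))) (by rw [hψ.1]; exact h)
  rw [map_sum, HahnSeries.coeff_sum] at h0
  have hterm : ∀ j, (ψ (algebraMap F E (c j) * algebraMap L E (θ j))).coeff 0 =
      ((φ (c j)).coeff 0) • θ j := by
    intro j
    have h1 : Valued.v (ψ (algebraMap F E (c j))) ≤ (1 : ℤᵐ⁰) := by
      rw [hψ.1, he]
      exact pow_le_one' (hc j) e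
    have h2 : Valued.v (ψ (algebraMap L E (θ j))) ≤ (1 : ℤᵐ⁰) := by
      rw [hψ.1]
      exact val_algebraMapL_le_one w ψ hψ _
    rw [map_mul, coeff_zero_mul h1 h2, coeff_zero_algebraMap v w φ hφ ψ hψ e hepos he (hc j),
      LocRes.map_algebraMap, Algebra.algebraMap_self, RingHom.id_apply, HahnSeries.C_apply,
      HahnSeries.coeff_single_same, Algebra.smul_def]
  rw [Finset.sum_congr rfl fun j _ => hterm j] at h0
  intro j
  have hκ := Fintype.linearIndependent_iff.1 θ.linearIndependent _ h0 j
  rw [← hφ.1]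
  exact val_lt_one_of_coeff_zero (by rw [hφ.1]; exact hc j) hκ

include hφ hψ he hepos in
/-- One level of the valuation criterion. -/
theorem level (hu : w u = exp (-1 : ℤ)) (a : Fin e × J → F) (ha : ∀ p, v (a p) ≤ 1)
    (h : w (∑ p, algebraMap F E (a p) * bas e θ u p) ≤ exp (-(e : ℤ))) :
    ∀ p, v (a p) < 1 := by
  classical
  set row : Fin e → E := fun i => ∑ j, algebraMap F E (a (i, j)) * algebraMap L E (θ j) with hrow
  have hsum : ∑ p, algebraMap F E (a p) * bas e θ u p = ∑ i : Fin e, row i * u ^ (i : ℕ) := by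
    rw [Fintype.sum_prod_type]
    refine Finset.sum_congr rfl fun i _ => ?_
    rw [hrow, Finset.sum_mul]
    refine Finset.sum_congr rfl fun j _ => ?_
    unfold bas
    rw [mul_assoc]
  rw [hsum] at h
  have hrow1 : ∀ i, w (row i) ≤ 1 := by
    intro i
    apply Valuation.map_sum_le
    intro j _
    rw [map_mul, he]
    calc v (a (i, j)) ^ e * w (algebraMap L E (θ j)) ≤ 1 * 1 :=
          mul_le_mul' (pow_le_one' (ha _) e) (val_algebraMapL_le_one w ψ hψ _)
      _ = 1 := one_mul _
  have hupow : ∀ m : ℕ, w (u ^ m) = exp (-(m : ℤ)) := by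
    intro m
    rw [map_pow, hu, ← exp_nsmul, nsmul_eq_mul, mul_neg, mul_one]
  have key : ∀ n, ∀ (hn : n < e) (j : J), v (a (⟨n, hn⟩, j)) < 1 := by
    intro n
    induction n using Nat.strong_induction_on with
    | _ n ih =>
      intro hn
      set i : Fin e := ⟨n, hn⟩ with hi
      have hothers : ∀ i' ∈ (Finset.univ : Finset (Fin e)).erase i,
          w (row i' * u ^ (i' : ℕ)) ≤ exp (-((n : ℤ) + 1)) := by
        intro i' hi'
        have hne : i' ≠ i := (Finset.mem_erase.1 hi').1
        have hne' : (i' : ℕ) ≠ n := fun h' => hne (Fin.ext h')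
        rcases lt_or_gt_of_ne hne' with hlt | hgt
        · -- lower rows are divisible by `t`
          have hlow : w (row i') ≤ exp (-(e : ℤ)) := by
            apply Valuation.map_sum_le
            intro j _
            rw [map_mul, he]
            have h1 : v (a (i', j)) ≤ exp (-1 : ℤ) :=
              Groth.Agent.FF.Ext.le_exp_neg_one_of_lt_one (ih i' hlt i'.2 j)
            calc v (a (i', j)) ^ e * w (algebraMap L E (θ j)) ≤ (exp (-1 : ℤ)) ^ e * 1 :=
                  mul_le_mul' (pow_le_pow_left' h1 e) (val_algebraMapL_le_one w ψ hψ _)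
              _ = exp (-(e : ℤ)) := by
                  rw [mul_one, ← exp_nsmul, nsmul_eq_mul, mul_neg, mul_one]
          rw [map_mul]
          calc w (row i') * w (u ^ (i' : ℕ)) ≤ exp (-(e : ℤ)) * 1 := by
                refine mul_le_mul' hlow ?_
                rw [hupow, ← exp_zero, exp_le_exp]
                omega
            _ = exp (-(e : ℤ)) := mul_one _
            _ ≤ exp (-((n : ℤ) + 1)) := by
                rw [exp_le_exp]
                omega
        · rw [map_mul]
          calc w (row i') * w (u ^ (i' : ℕ)) ≤ 1 * exp (-((i' : ℕ) : ℤ)) :=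
                mul_le_mul' (hrow1 i') (hupow _).le
            _ = exp (-((i' : ℕ) : ℤ)) := one_mul _
            _ ≤ exp (-((n : ℤ) + 1)) := by
                rw [exp_le_exp]
                omega
      have hsplit : row i * u ^ n = (∑ i' : Fin e, row i' * u ^ (i' : ℕ)) -
          ∑ i' ∈ (Finset.univ : Finset (Fin e)).erase i, row i' * u ^ (i' : ℕ) := by
        rw [← Finset.add_sum_erase _ _ (Finset.mem_univ i), add_sub_cancel_right]
      have hmain : w (row i * u ^ n) ≤ exp (-((n : ℤ) + 1)) := by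
        rw [hsplit]
        refine (w.map_sub _ _).trans (max_le ?_ (Valuation.map_sum_le w hothers))
        refine h.trans ?_
        rw [exp_le_exp]
        omega
      have hrowi : w (row i) < 1 := by
        rw [map_mul, hupow] at hmain
        have h2 : exp (-((n : ℤ) + 1)) = exp (-1 : ℤ) * exp (-(n : ℤ)) := by
          rw [← exp_add]
          congr 1
          ring
        rw [h2] at hmain
        have h3 : w (row i) ≤ exp (-1 : ℤ) :=
          le_of_mul_le_mul_right hmain exp_pos
        exact lt_of_le_of_lt h3 (by rw [← exp_zero, exp_lt_exp]; norm_num)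
      exact val_lt_one_of_row v w φ hφ ψ hψ e hepos he θ (fun j => a (i, j))
        (fun j => ha _) hrowi
  intro p
  obtain ⟨i, j⟩ := p
  exact key i i.2 j

/-- The combination map. -/
noncomputable def Phi (a : Fin e × J → F) : E := ∑ p, algebraMap F E (a p) * bas e θ u p

omit [Algebra K F] [Algebra K E] [IsScalarTower K F E] [IsScalarTower K L E] in
theorem Phi_add (a a' : Fin e × J → F) :
    Phi e θ u (a + a') = Phi e θ u a + Phi e θ u a' := by
  unfold Phi
  rw [← Finset.sum_add_distrib]
  refine Finset.sum_congr rfl fun p _ => ?_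
  rw [Pi.add_apply, map_add, add_mul]

omit [Algebra K F] [Algebra K E] [IsScalarTower K F E] [IsScalarTower K L E] in
theorem Phi_sub (a a' : Fin e × J → F) :
    Phi e θ u (a - a') = Phi e θ u a - Phi e θ u a' := by
  unfold Phi
  rw [← Finset.sum_sub_distrib]
  refine Finset.sum_congr rfl fun p _ => ?_
  rw [Pi.sub_apply, map_sub, sub_mul]

omit [Algebra K F] [Algebra K E] [IsScalarTower K F E] [IsScalarTower K L E] in
theorem Phi_smul (c : F) (a : Fin e × J → F) :
    Phi e θ u (c • a) = algebraMap F E c * Phi e θ u a := by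
  unfold Phi
  rw [Finset.mul_sum]
  refine Finset.sum_congr rfl fun p _ => ?_
  rw [Pi.smul_apply, smul_eq_mul, map_mul, mul_assoc]

omit [Algebra K F] [Algebra K E] [IsScalarTower K F E] [IsScalarTower K L E] in
theorem Phi_zero : Phi e θ u (0 : Fin e × J → F) = 0 := by
  unfold Phi
  refine Finset.sum_eq_zero fun p _ => ?_
  rw [Pi.zero_apply, map_zero, zero_mul]

include hψ in
omit [Algebra K F] [Algebra K E] [IsScalarTower K F E] [IsScalarTower K L E] in
theorem val_bas_le_one (hu : w u = exp (-1 : ℤ)) (p : Fin e × J) : w (bas e θ u p) ≤ 1 := by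
  unfold bas
  rw [map_mul, map_pow, hu]
  calc w (algebraMap L E (θ p.2)) * exp (-1 : ℤ) ^ (p.1 : ℕ) ≤ 1 * 1 := by
        refine mul_le_mul' (val_algebraMapL_le_one w ψ hψ _) (pow_le_one' ?_ _)
        rw [← exp_zero, exp_le_exp]
        norm_num
    _ = 1 := one_mul _

include hψ he in
omit [Algebra K F] [Algebra K E] [IsScalarTower K F E] [IsScalarTower K L E] in
/-- Small coefficients give a small combination. -/
theorem Phi_le (hu : w u = exp (-1 : ℤ)) (a : Fin e × J → F) (N : ℤ)
    (h : ∀ p, v (a p) ≤ exp (-N)) : w (Phi e θ u a) ≤ exp (-((e : ℤ) * N)) := by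
  unfold Phi
  apply Valuation.map_sum_le
  intro p _
  rw [map_mul, he]
  calc v (a p) ^ e * w (bas e θ u p) ≤ exp (-N) ^ e * 1 :=
        mul_le_mul' (pow_le_pow_left' (h p) e) (val_bas_le_one w ψ hψ e θ u hu p)
    _ = exp (-((e : ℤ) * N)) := by
        rw [mul_one, ← exp_nsmul, nsmul_eq_mul, mul_neg]

include hφ hψ he hepos in
/-- **The valuation criterion**: a small combination has small coefficients. -/
theorem general (hu : w u = exp (-1 : ℤ)) {t : F} (ht : v t = exp (-1 : ℤ))
    (a : Fin e × J → F) (N : ℤ) (h : w (Phi e θ u a) ≤ exp (-((e : ℤ) * N))) :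
    ∀ p, v (a p) ≤ exp (-N) := by
  classical
  intro p
  by_contra hp
  rw [not_le] at hp
  obtain ⟨p₀, -, hmax⟩ := Finset.exists_max_image Finset.univ (fun q => v (a q))
    ⟨p, Finset.mem_univ _⟩
  have hm : exp (-N) < v (a p₀) := lt_of_lt_of_le hp (hmax p (Finset.mem_univ _))
  have hm0 : v (a p₀) ≠ 0 := fun h0 => by
    rw [h0] at hm
    exact not_lt.2 zero_le' hm
  set μ := log (v (a p₀)) with hμ
  have hvμ : v (a p₀) = exp μ := (exp_log hm0).symm
  have hμN : 1 ≤ μ + N := by
    rw [hvμ, exp_lt_exp] at hm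
    omega
  have hvt : v (t ^ μ) = exp (-μ) := by
    rw [map_zpow₀, ht, ← exp_zsmul, smul_eq_mul, mul_neg, mul_one]
  set a' : Fin e × J → F := (t ^ μ) • a with ha'
  have ha'1 : ∀ q, v (a' q) ≤ 1 := by
    intro q
    rw [ha', Pi.smul_apply, smul_eq_mul, map_mul, hvt]
    calc exp (-μ) * v (a q) ≤ exp (-μ) * exp μ :=
          mul_le_mul' le_rfl ((hmax q (Finset.mem_univ _)).trans hvμ.le)
      _ = 1 := by rw [← exp_add, neg_add_cancel, exp_zero]
  have hΦ : w (∑ q, algebraMap F E (a' q) * bas e θ u q) ≤ exp (-(e : ℤ)) := by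
    change w (Phi e θ u a') ≤ _
    rw [ha', Phi_smul, map_mul, he, hvt, ← exp_nsmul, nsmul_eq_mul]
    calc exp ((e : ℤ) * -μ) * w (Phi e θ u a)
        ≤ exp ((e : ℤ) * -μ) * exp (-((e : ℤ) * N)) := mul_le_mul' le_rfl h
      _ = exp (-((e : ℤ) * (μ + N))) := by
          rw [← exp_add]
          congr 1
          ring
      _ ≤ exp (-(e : ℤ)) := by
          rw [exp_le_exp]
          have : (e : ℤ) * 1 ≤ (e : ℤ) * (μ + N) :=
            mul_le_mul_of_nonneg_left hμN (by positivity)
          linarith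
  have hlt := level v w φ hφ ψ hψ e hepos he θ u hu a' ha'1 hΦ p₀
  rw [ha', Pi.smul_apply, smul_eq_mul, map_mul, hvt, hvμ, ← exp_add, neg_add_cancel,
    exp_zero] at hlt
  exact lt_irrefl _ hlt

end Basis

include hφ in
/-- **Completeness** of `F`, read through the surjective expansion. -/
theorem exists_limit (hφs : Function.Surjective φ) (a : ℕ → F) (ha : ∀ N, v (a N) ≤ 1)
    (hc : ∀ N : ℕ, v (a (N + 1) - a N) ≤ exp (-(N : ℤ))) :
    ∃ a' : F, v a' ≤ 1 ∧ ∀ N : ℕ, v (a' - a N) ≤ exp (-(N : ℤ)) := by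
  have hcoh : ∀ (N : ℕ) (n : ℤ), n < N → (φ (a (N + 1))).coeff n = (φ (a N)).coeff n := by
    intro N n hn
    have h1 : Valued.v (φ (a (N + 1) - a N)) ≤ exp (-(N : ℤ)) := by
      rw [hφ.1]
      exact hc N
    have h2 := coeff_of_val_le_exp h1 n (by omega)
    rw [map_sub, HahnSeries.coeff_sub, sub_eq_zero] at h2
    exact h2
  have hstab : ∀ (n : ℕ) (M : ℕ), n + 1 ≤ M →
      (φ (a M)).coeff (n : ℤ) = (φ (a (n + 1))).coeff (n : ℤ) := by
    intro n M hM
    induction M, hM using Nat.le_induction with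
    | base => rfl
    | succ M hM ih =>
      rw [hcoh M n (by omega), ih]
  set g : PowerSeries K := PowerSeries.mk fun n : ℕ => (φ (a (n + 1))).coeff (n : ℤ) with hg
  obtain ⟨a', ha'⟩ := hφs (g : LaurentSeries K)
  refine ⟨a', ?_, fun N => ?_⟩
  · rw [← hφ.1, ha']
    exact (LaurentSeries.val_le_one_iff_eq_coe K _).2 ⟨g, rfl⟩
  · rw [← hφ.1, map_sub, ha']
    apply val_le_exp_of_coeff
    intro n hn
    rw [neg_neg] at hn
    rw [HahnSeries.coeff_sub, PowerSeries.coeff_coe]
    split_ifs with hneg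
    · have h1 : Valued.v (φ (a N)) ≤ exp (0 : ℤ) := by
        rw [hφ.1, exp_zero]
        exact ha N
      rw [coeff_of_val_le_exp h1 n (by omega), sub_zero]
    · rw [hg, PowerSeries.coeff_mk, sub_eq_zero]
      have hn0 : 0 ≤ n := not_lt.1 hneg
      have hnat : ((n.natAbs : ℕ) : ℤ) = n := Int.natAbs_of_nonneg hn0
      have := hstab n.natAbs N (by omega)
      rw [← this, hnat]

section Basis2

variable {J : Type*} [Fintype J] (θ : Module.Basis J K L) (u : E)

include hψ in
omit [Algebra K F] [Algebra F E] [Algebra K E] [IsScalarTower K F E] [IsScalarTower K L E]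
  [Algebra K L] in
/-- Expansion of an integral element of `E` in powers of a local parameter, with coefficients in
the coefficient field `L`, up to order `r`. -/
theorem exists_expansion (hu : w u = exp (-1 : ℤ)) (z : E) (hz : w z ≤ 1) (r : ℕ) :
    ∃ l : ℕ → L, w (z - ∑ i ∈ Finset.range r, algebraMap L E (l i) * u ^ i) ≤
      exp (-(r : ℤ)) := by
  classical
  have hu0 : u ≠ 0 := by
    rintro rfl
    rw [map_zero] at hu
    exact exp_ne_zero hu.symm
  induction r with
  | zero =>
    refine ⟨fun _ => 0, ?_⟩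
    rw [Finset.range_zero, Finset.sum_empty, sub_zero]
    simpa using hz
  | succ r ih =>
    obtain ⟨l, hl⟩ := ih
    set zr := z - ∑ i ∈ Finset.range r, algebraMap L E (l i) * u ^ i with hzr
    set q := zr * (u ^ r)⁻¹ with hq
    have hur : w (u ^ r) = exp (-(r : ℤ)) := by
      rw [map_pow, hu, ← exp_nsmul, nsmul_eq_mul, mul_neg, mul_one]
    have hq1 : w q ≤ 1 := by
      rw [hq, map_mul, map_inv₀, hur, ← exp_neg, neg_neg]
      calc w zr * exp (r : ℤ) ≤ exp (-(r : ℤ)) * exp (r : ℤ) := mul_le_mul' hl le_rfl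
        _ = 1 := by rw [← exp_add, neg_add_cancel, exp_zero]
    set c : L := (ψ q).coeff 0 with hc
    have hqc : w (q - algebraMap L E c) < 1 := by
      rw [← hψ.1]
      apply val_lt_one_of_coeff_zero
      · rw [hψ.1]
        exact (w.map_sub _ _).trans (max_le hq1 (val_algebraMapL_le_one w ψ hψ c))
      · rw [map_sub, HahnSeries.coeff_sub, LocRes.map_algebraMap, Algebra.algebraMap_self,
          RingHom.id_apply, HahnSeries.C_apply, HahnSeries.coeff_single_same, sub_self]
    refine ⟨Function.update l r c, ?_⟩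
    have hsum : ∑ i ∈ Finset.range (r + 1), algebraMap L E (Function.update l r c i) * u ^ i =
        (∑ i ∈ Finset.range r, algebraMap L E (l i) * u ^ i) + algebraMap L E c * u ^ r := by
      rw [Finset.sum_range_succ, Function.update_self]
      congr 1
      refine Finset.sum_congr rfl fun i hi => ?_
      rw [Function.update_of_ne (ne_of_lt (Finset.mem_range.1 hi))]
    have hur0 : u ^ r ≠ 0 := pow_ne_zero _ hu0
    have hfinal : z - ∑ i ∈ Finset.range (r + 1),
        algebraMap L E (Function.update l r c i) * u ^ i = (q - algebraMap L E c) * u ^ r := by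
      rw [hsum, sub_mul, hq, inv_mul_cancel_right₀ hur0, hzr]
      ring
    rw [hfinal, map_mul, hur]
    calc w (q - algebraMap L E c) * exp (-(r : ℤ)) ≤ exp (-1 : ℤ) * exp (-(r : ℤ)) :=
          mul_le_mul' (Groth.Agent.FF.Ext.le_exp_neg_one_of_lt_one hqc) le_rfl
      _ = exp (-((r + 1 : ℕ) : ℤ)) := by
          rw [← exp_add]
          congr 1
          push_cast
          ring

include hψ in
/-- Approximation modulo `t` by a combination with constant coefficients. -/
theorem approx1 (hu : w u = exp (-1 : ℤ)) (z : E) (hz : w z ≤ 1) :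
    ∃ κ : Fin e × J → K,
      w (z - Phi e θ u (fun p => algebraMap K F (κ p))) ≤ exp (-(e : ℤ)) := by
  classical
  obtain ⟨l, hl⟩ := exists_expansion w ψ hψ u hu z hz e
  refine ⟨fun p => θ.repr (l (p.1 : ℕ)) p.2, ?_⟩
  have hΦ : Phi e θ u (fun p => algebraMap K F (θ.repr (l (p.1 : ℕ)) p.2)) =
      ∑ i ∈ Finset.range e, algebraMap L E (l i) * u ^ i := by
    unfold Phi
    rw [Fintype.sum_prod_type, ← Fin.sum_univ_eq_sum_range (fun i => algebraMap L E (l i) * u ^ i)]
    refine Finset.sum_congr rfl fun i _ => ?_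
    have h1 : algebraMap L E (l (i : ℕ)) =
        ∑ j, algebraMap K E (θ.repr (l (i : ℕ)) j) * algebraMap L E (θ j) := by
      conv_lhs => rw [← θ.sum_repr (l (i : ℕ))]
      rw [map_sum]
      refine Finset.sum_congr rfl fun j _ => ?_
      rw [Algebra.smul_def, map_mul, ← IsScalarTower.algebraMap_apply K L E]
    rw [h1, Finset.sum_mul]
    refine Finset.sum_congr rfl fun j _ => ?_
    unfold bas
    rw [← IsScalarTower.algebraMap_apply K F E, mul_assoc]
  rw [hΦ]
  exact hl

include hψ he in
/-- Approximation to any order by integral combinations. -/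
theorem approxN (hu : w u = exp (-1 : ℤ)) {t : F} (ht : v t = exp (-1 : ℤ))
    (hvK : ∀ c : K, v (algebraMap K F c) ≤ 1) (z : E) (hz : w z ≤ 1) (N : ℕ) :
    ∃ a : Fin e × J → F, (∀ p, v (a p) ≤ 1) ∧
      w (z - Phi e θ u a) ≤ exp (-((e : ℤ) * N)) := by
  classical
  have ht0 : t ≠ 0 := by
    rintro rfl
    rw [map_zero] at ht
    exact exp_ne_zero ht.symm
  induction N with
  | zero =>
    refine ⟨0, fun p => by simp, ?_⟩
    rw [Phi_zero, sub_zero]
    simpa using hz
  | succ N ih =>
    obtain ⟨a, ha1, ha2⟩ := ih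
    set τN : E := algebraMap F E (t ^ N) with hτN
    have hτN0 : τN ≠ 0 :=
      (map_ne_zero_iff _ (algebraMap F E).injective).2 (pow_ne_zero _ ht0)
    have hwτN : w τN = exp (-((e : ℤ) * N)) := by
      rw [hτN, he, map_pow, ht, ← exp_nsmul, ← exp_nsmul, nsmul_eq_mul, nsmul_eq_mul]
      congr 1
      ring
    set z' := (z - Phi e θ u a) * τN⁻¹ with hz'
    have hz'1 : w z' ≤ 1 := by
      rw [hz', map_mul, map_inv₀, hwτN, ← exp_neg, neg_neg]
      calc w (z - Phi e θ u a) * exp ((e : ℤ) * N)
          ≤ exp (-((e : ℤ) * N)) * exp ((e : ℤ) * N) := mul_le_mul' ha2 le_rfl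
        _ = 1 := by rw [← exp_add, neg_add_cancel, exp_zero]
    obtain ⟨κ, hκ⟩ := approx1 (F := F) w ψ hψ e θ u hu z' hz'1
    refine ⟨a + (t ^ N) • (fun p => algebraMap K F (κ p)), fun p => ?_, ?_⟩
    · rw [Pi.add_apply, Pi.smul_apply, smul_eq_mul]
      refine (v.map_add _ _).trans (max_le (ha1 p) ?_)
      rw [map_mul, map_pow, ht]
      calc exp (-1 : ℤ) ^ N * v (algebraMap K F (κ p)) ≤ 1 * 1 := by
            refine mul_le_mul' (pow_le_one' ?_ _) (hvK _)
            rw [← exp_zero, exp_le_exp]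
            norm_num
        _ = 1 := one_mul _
    · rw [Phi_add, Phi_smul]
      have hfinal : z - (Phi e θ u a + algebraMap F E (t ^ N) *
          Phi e θ u (fun p => algebraMap K F (κ p))) =
          τN * (z' - Phi e θ u (fun p => algebraMap K F (κ p))) := by
        have h1 : τN * ((z - Phi e θ u a) * τN⁻¹) = z - Phi e θ u a := by
          rw [mul_comm, inv_mul_cancel_right₀ hτN0]
        rw [mul_sub, hz', h1]
        ring
      rw [hfinal, map_mul, hwτN]
      calc exp (-((e : ℤ) * N)) * w (z' - Phi e θ u (fun p => algebraMap K F (κ p)))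
          ≤ exp (-((e : ℤ) * N)) * exp (-(e : ℤ)) := mul_le_mul' le_rfl hκ
        _ = exp (-((e : ℤ) * ((N + 1 : ℕ) : ℤ))) := by
            rw [← exp_add]
            congr 1
            push_cast
            ring

end Basis2

omit [Algebra K F] [Algebra F E] [Algebra K E] [IsScalarTower K F E] [IsScalarTower K L E]
  [Algebra K L] [Algebra L E] in
theorem eq_zero_of_forall_val_le {R : Type*} [Field R] (val : Valuation R ℤᵐ⁰) (hepos : 0 < e)
    (d : R) (h : ∀ N : ℕ, val d ≤ exp (-((e : ℤ) * N))) : d = 0 := by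
  by_contra hd
  have hwd : val d ≠ 0 := (Valuation.ne_zero_iff _).2 hd
  set m := log (val d) with hm
  have hm' : val d = exp m := (exp_log hwd).symm
  have := h ((-m).toNat + 1)
  rw [hm', exp_le_exp] at this
  have h1 : (-m) ≤ ((-m).toNat : ℤ) := Int.self_le_toNat _
  have h2 : (((-m).toNat + 1 : ℕ) : ℤ) ≤ (e : ℤ) * (((-m).toNat + 1 : ℕ) : ℤ) :=
    le_mul_of_one_le_left (by positivity) (by exact_mod_cast hepos)
  push_cast at this h2
  linarith

section Basis3

variable {J : Type*} [Fintype J] (θ : Module.Basis J K L) (u : E)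

include hφ hψ he hepos in
/-- Every integral element of `E` is an integral combination of the `θ_j u^i`. -/
theorem exists_repr (hφs : Function.Surjective φ) (hu : w u = exp (-1 : ℤ)) {t : F}
    (ht : v t = exp (-1 : ℤ)) (z : E) (hz : w z ≤ 1) :
    ∃ a : Fin e × J → F, (∀ p, v (a p) ≤ 1) ∧ z = Phi e θ u a := by
  classical
  have hvK := val_algebraMap_le_one v φ hφ
  choose aN haN1 haN2 using approxN v w ψ hψ e he θ u hu ht hvK z hz
  have hcoh : ∀ (N : ℕ) p, v (aN (N + 1) p - aN N p) ≤ exp (-(N : ℤ)) := by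
    intro N
    have h1 : w (Phi e θ u (aN (N + 1) - aN N)) ≤ exp (-((e : ℤ) * N)) := by
      rw [Phi_sub]
      have : Phi e θ u (aN (N + 1)) - Phi e θ u (aN N) =
          (z - Phi e θ u (aN N)) - (z - Phi e θ u (aN (N + 1))) := by ring
      rw [this]
      refine (w.map_sub _ _).trans (max_le (haN2 N) ((haN2 (N + 1)).trans ?_))
      rw [exp_le_exp]
      push_cast
      have : (0 : ℤ) ≤ (e : ℤ) := by positivity
      nlinarith
    exact general v w φ hφ ψ hψ e hepos he θ u hu ht _ N h1
  have hlim : ∀ p, ∃ a' : F, v a' ≤ 1 ∧ ∀ N : ℕ, v (a' - aN N p) ≤ exp (-(N : ℤ)) :=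
    fun p => exists_limit v φ hφ hφs (fun N => aN N p) (fun N => haN1 N p) (fun N => hcoh N p)
  choose a ha1 ha2 using hlim
  refine ⟨a, ha1, ?_⟩
  have hd : ∀ N : ℕ, w (z - Phi e θ u a) ≤ exp (-((e : ℤ) * N)) := by
    intro N
    have : z - Phi e θ u a = (z - Phi e θ u (aN N)) - Phi e θ u (a - aN N) := by
      rw [Phi_sub]
      ring
    rw [this]
    refine (w.map_sub _ _).trans (max_le (haN2 N) ?_)
    exact Phi_le v w ψ hψ e he θ u hu _ N (fun p => ha2 p N)
  exact sub_eq_zero.1 (eq_zero_of_forall_val_le e w hepos _ hd)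

include hφ hψ he hepos in
theorem linearIndependent_bas (hu : w u = exp (-1 : ℤ)) {t : F} (ht : v t = exp (-1 : ℤ)) :
    LinearIndependent F (bas e θ u) := by
  classical
  rw [Fintype.linearIndependent_iff]
  intro g hg p
  have hΦ : Phi e θ u g = 0 := by
    unfold Phi
    rw [← hg]
    refine Finset.sum_congr rfl fun q _ => ?_
    rw [Algebra.smul_def]
  apply eq_zero_of_forall_val_le 1 v one_pos
  intro N
  have := general v w φ hφ ψ hψ e hepos he θ u hu ht g N
    (by rw [hΦ, map_zero]; exact zero_le') p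
  simpa using this

include hφ hψ he hepos in
theorem span_bas (hφs : Function.Surjective φ) (hu : w u = exp (-1 : ℤ)) {t : F}
    (ht : v t = exp (-1 : ℤ)) : ⊤ ≤ Submodule.span F (Set.range (bas e θ u)) := by
  classical
  intro z _
  have ht0 : t ≠ 0 := by
    rintro rfl
    rw [map_zero] at ht
    exact exp_ne_zero ht.symm
  obtain ⟨N, hN⟩ : ∃ N : ℕ, w (algebraMap F E (t ^ N) * z) ≤ 1 := by
    by_cases hz0 : z = 0
    · exact ⟨0, by rw [hz0, mul_zero, map_zero]; exact zero_le'⟩
    have hwz : w z ≠ 0 := (Valuation.ne_zero_iff _).2 hz0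
    set m := log (w z) with hm
    have hm' : w z = exp m := (exp_log hwz).symm
    refine ⟨m.toNat, ?_⟩
    rw [map_mul, he, map_pow, ht, hm', ← exp_nsmul, ← exp_nsmul, ← exp_add, ← exp_zero,
      exp_le_exp, nsmul_eq_mul, nsmul_eq_mul]
    have h1 : m ≤ (m.toNat : ℤ) := Int.self_le_toNat _
    have h2 : ((m.toNat : ℕ) : ℤ) ≤ (e : ℤ) * ((m.toNat : ℕ) : ℤ) :=
      le_mul_of_one_le_left (by positivity) (by exact_mod_cast hepos)
    linarith
  obtain ⟨a, -, ha⟩ := exists_repr v w φ hφ ψ hψ e hepos he θ u hφs hu ht _ hN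
  have hne : algebraMap F E (t ^ N) ≠ 0 :=
    (map_ne_zero_iff _ (algebraMap F E).injective).2 (pow_ne_zero _ ht0)
  have hz : z = Phi e θ u ((t ^ N)⁻¹ • a) := by
    rw [Phi_smul, ← ha, map_inv₀, inv_mul_cancel_left₀ hne]
  rw [hz]
  unfold Phi
  refine Submodule.sum_mem _ fun p _ => ?_
  rw [← Algebra.smul_def]
  exact Submodule.smul_mem _ _ (Submodule.subset_span ⟨p, rfl⟩)

include hφ hψ he hepos θ in
/-- **The integral basis** of a finite extension of a complete discretely valued field. -/
theorem exists_integral_basis (hφs : Function.Surjective φ) (hu : w u = exp (-1 : ℤ)) {t : F}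
    (ht : v t = exp (-1 : ℤ)) :
    ∃ b : Module.Basis (Fin e × J) F E, (∀ p, ∀ a : F, v a ≤ 1 → w (a • b p) ≤ 1) ∧
      (∀ z : E, w z ≤ 1 → ∀ p, v (b.repr z p) ≤ 1) := by
  classical
  set b := Module.Basis.mk (linearIndependent_bas v w φ hφ ψ hψ e hepos he θ u hu ht)
    (span_bas v w φ hφ ψ hψ e hepos he θ u hφs hu ht) with hb
  have hbp : ∀ p, b p = bas e θ u p := fun p => Module.Basis.mk_apply _ _ p
  refine ⟨b, ?_, ?_⟩
  · intro p a ha
    rw [Algebra.smul_def, map_mul, he, hbp]
    calc v a ^ e * w (bas e θ u p) ≤ 1 * 1 :=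
          mul_le_mul' (pow_le_one' ha e) (val_bas_le_one w ψ hψ e θ u hu p)
      _ = 1 := one_mul _
  · intro z hz p
    have hΦ : Phi e θ u (fun q => b.repr z q) = z := by
      unfold Phi
      conv_rhs => rw [← b.sum_repr z]
      refine Finset.sum_congr rfl fun q _ => ?_
      rw [Algebra.smul_def, hbp]
    have := general v w φ hφ ψ hψ e hepos he θ u hu ht (fun q => b.repr z q) 0
      (by rw [hΦ, mul_zero, neg_zero, exp_zero]; exact hz) p
    simpa using this

end Basis3

end Main

end Groth.Agent.H57.CBasis
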