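import Groth.Agent.H57.CompleteBasis

/-!
# The trace formula for residues in a finite extension of a complete discretely valued field
-/

set_option autoImplicit false

namespace Groth.Agent.H57.CBasis

open WithZero Groth.Agent.H57.Tate Groth.Agent.H57.TDual

universe u₁ u₂ u₃ u₄

theorem trace_resExp_eq (K : Type u₁) (L : Type u₂) (F : Type u₃) (E : Type u₄)
    [Field K] [Field L] [Field F] [Field E]
    [Algebra K F] [Algebra F E] [Algebra K E] [IsScalarTower K F E]
    [Algebra K L] [Algebra L E] [IsScalarTower K L E] [FiniteDimensional K L]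
    (v : Valuation F ℤᵐ⁰) (w : Valuation E ℤᵐ⁰) [v.HasExtension w]
    (φ : F →ₐ[K] LaurentSeries K) (hφ : LocRes.IsExpansionAt v φ) (hφs : Function.Surjective φ)
    (ψ : E →ₐ[L] LaurentSeries L) (hψ : LocRes.IsExpansionAt w ψ)
    (x : F) (y : E) :
    Algebra.trace K L (LocRes.resExp ψ y (algebraMap F E x)) =
      LocRes.resExp φ (Algebra.trace F E y) x := by
  classical
  obtain ⟨e, hepos, he⟩ := exists_ramIdx v w hφ.2.2
  obtain ⟨t, ht⟩ := hφ.2.2
  obtain ⟨u, hu⟩ := hψ.2.2
  obtain ⟨b, h1, h2⟩ := exists_integral_basis v w φ hφ ψ hψ e hepos he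
    (Module.finBasis K L) u hφs hu ht
  have hv : ∀ c : K, v (algebraMap K F c) ≤ 1 := val_algebraMap_le_one v φ hφ
  have hw : ∀ c : K, w (algebraMap K E c) ≤ 1 := by
    intro c
    rw [IsScalarTower.algebraMap_apply K L E]
    exact val_algebraMapL_le_one w ψ hψ _
  have hst := IsScalarTower.of_algebraMap_eq (R := K) (S := L) (A := LaurentSeries L) (fun c => by
    rw [HahnSeries.algebraMap_apply' (Γ := ℤ) (R := L) (S := K),
      HahnSeries.algebraMap_apply' (Γ := ℤ) (R := L) (S := L), PowerSeries.algebraMap_apply,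
      PowerSeries.algebraMap_apply, Algebra.algebraMap_self, RingHom.id_apply])
  set ψ' : E →ₐ[K] LaurentSeries L := ψ.restrictScalars K with hψ'def
  have hψ' : LocRes.IsExpansionAt w ψ' := ⟨hψ.1, hψ.2.1, hψ.2.2⟩
  obtain ⟨π, hπ, hπres⟩ := exists_isProj_fpTrace_eq (k := K) v φ hφ hv
  obtain ⟨πQ, hπQ, hπQres⟩ := exists_isProj_fpTrace_eq (k := K) w ψ' hψ' hw
  have hEP : ∀ a : F, InE (valSub v hv) (mulK K a) := fun a => inE_mulK_valSub v φ hφ hv a
  have hEQ : ∀ z : E, InE (valSub w hw) (mulK K z) := fun z => inE_mulK_valSub w ψ' hψ' hw z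
  have h1' : ∀ p, ∀ a ∈ valSub v hv, a • b p ∈ valSub w hw := fun p a ha => h1 p a ha
  have h2' : ∀ z ∈ valSub w hw, ∀ p, b.repr z p ∈ valSub v hv := fun z hz p => h2 z hz p
  have hπR := isProj_blockProj b hπ h1' h2'
  have hblock := tres_blockProj b hπ h1' h2' hEP y x
  have hcomm : mulK K y * mulK K (algebraMap F E x) = mulK K (algebraMap F E x) * mulK K y :=
    mulK_comm' _ _
  have heq := tres_eq_of_isProj hπQ hπR (hEQ y) (hEQ (algebraMap F E x)) hcomm
  have hL : Algebra.trace K L (LocRes.resExp ψ y (algebraMap F E x)) =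
      tres πQ (mulK K y) (mulK K (algebraMap F E x)) := by
    unfold tres
    rw [hπQres]
    rfl
  have hR : LocRes.resExp φ (Algebra.trace F E y) x =
      tres π (mulK K (Algebra.trace F E y)) (mulK K x) := by
    unfold tres
    rw [hπres]
    unfold LocRes.locRes
    rw [Algebra.trace_self_apply]
  rw [hL, hR, ← hblock, heq]

end Groth.Agent.H57.CBasis
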