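import Groth.Agent.S12578
import Groth.Agent.FunFld.IntClosure
import Groth.Agent.FunFld.Approx
import Groth.Agent.FunFld.LocResFF
import Mathlib.RingTheory.DedekindDomain.Different

/-!
# Trace duals, regular differentials and the conductor of `O_P[y]`

For a finite separable extension `K/K₀` of function fields over `k`, a place `P₀` of `K₀` with
`dx₀` of order `0` there, and `y` integral over `O_{P₀}` generating `K`: the order of
`dx/h'(y)` (`h` the minimal polynomial of `y`) at a place `Q` over `P₀` is `≤ 0`, with equality iff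
some unit `z` at `Q` carries the integral closure into `O_{P₀}[y]`.
-/

set_option autoImplicit false

namespace Groth.Agent.H57.Cond

open FunFld WithZero Groth.Agent.FF Groth.Agent.FF.Ext

universe u v

section Series
variable {F : Type*} [Field F]

theorem res_eq_zero_of_val_le_one {f : LaurentSeries F} (h : Valued.v f ≤ 1) :
    LocRes.res F f = 0 := by
  rw [LocRes.res_apply]
  have h' : Valued.v f ≤ (exp (-(0 : ℤ)) : ℤᵐ⁰) := by simpa using h
  exact (LaurentSeries.valuation_le_iff_coeff_lt_eq_zero F).mp h' (-1) (by norm_num)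

theorem res_ne_zero_of_val_eq {f : LaurentSeries F} (h : Valued.v f = (exp (1 : ℤ) : ℤᵐ⁰)) :
    LocRes.res F f ≠ 0 := by
  have h' : Valued.v f = (exp (-(-1 : ℤ)) : ℤᵐ⁰) := by simpa using h
  exact (coeff_of_val_eq h').2

end Series

section Approx
variable {k : Type u} {K : Type v} [Field k] [Field K] [Algebra k K]

/-- Weak approximation with prescribed exact valuations. -/
theorem exists_val_eq {ι : Type*} [Finite ι] (P : ι → Place k K) (hP : Function.Injective P)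
    (γ : ι → ℤ) : ∃ z : K, ∀ i, (P i).1 z = exp (γ i) := by
  have hz : ∀ i, ∃ z : K, (P i).1 z = exp (γ i) := fun i => (P i).2.2 _
  choose z hz using hz
  obtain ⟨m, hm⟩ := (Set.finite_range γ).bddBelow
  obtain ⟨y, hy⟩ := weak_approx P hP z m
  refine ⟨y, fun i => ?_⟩
  have hlt : (P i).1 (y - z i) < (P i).1 (z i) := by
    rw [hz i]
    exact lt_of_lt_of_le (hy i) (exp_le_exp.2 (hm ⟨i, rfl⟩))
  have : y = z i + (y - z i) := by ring
  rw [this, Valuation.map_add_eq_of_lt_left _ hlt, hz i]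

end Approx

section Core

variable {k : Type u} {K₀ K : Type v} [Field k] [Field K₀] [Field K] [Algebra k K₀]
  [Algebra K₀ K] [Algebra k K] [IsScalarTower k K₀ K] [FiniteDimensional K₀ K]
  [Algebra.IsSeparable K₀ K]
variable (hK₀ : IsFunctionField k K₀) (hg : IsGeometric k K₀) (hK : IsFunctionField k K)
  (P₀ : Place k K₀) (φ₀ : K₀ →ₐ[k] LaurentSeries k) (hφ₀ : LocRes.IsExpansionAt P₀.1 φ₀)
  (ψ : Place k K → (K →ₐ[k] LaurentSeries k))
  (hψ : ∀ Q : Place k K, IsOver Q P₀ → LocRes.IsExpansionAt Q.1 (ψ Q))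
  (x₀ : K₀) (hx₀ : Valued.v (LocRes.D k (φ₀ x₀)) = 1)

/-- The valuation of `dx` at `Q`. -/
noncomputable def cv (Q : Place k K) : ℤᵐ⁰ := Valued.v (LocRes.D k (ψ Q (algebraMap K₀ K x₀)))

include hK₀ hg hK hφ₀ hψ in
/-- The sum of the residues of `w dx` over `P₀` is the residue of `tr(w) dx₀`. -/
theorem res_trace_eq (w : K) :
    LocRes.res k (φ₀ (Algebra.trace K₀ K w) * LocRes.D k (φ₀ x₀)) =
      ∑ Q ∈ (finite_isOver (K' := K) P₀).toFinset,
        LocRes.res k (ψ Q w * LocRes.D k (ψ Q (algebraMap K₀ K x₀))) := by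
  have h := Groth.Agent.S12578.result k K₀ K hK₀ hg hK P₀ k φ₀ hφ₀
    (finite_isOver (K' := K) P₀).toFinset (fun Q => by
      rw [Set.Finite.mem_toFinset]; rfl) (fun _ => k) ψ (fun Q hQ => hψ Q (by
      rw [Set.Finite.mem_toFinset] at hQ; exact hQ)) w x₀
  simp only [LocRes.locRes, Algebra.trace_self_apply, LocRes.resExp] at h
  exact h

include hK₀ hg hK hφ₀ hψ hx₀ in
/-- Regular differentials over `P₀` have integral traces against integral elements. -/
theorem trace_le_one_of_regular {w : K}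
    (hw : ∀ Q : Place k K, IsOver Q P₀ → Q.1 w * cv ψ x₀ Q ≤ 1) {u : K}
    (hu : ∀ Q : Place k K, IsOver Q P₀ → Q.1 u ≤ 1) :
    P₀.1 (Algebra.trace K₀ K (w * u)) ≤ 1 := by
  by_contra hcon
  rw [not_le] at hcon
  set τ := Algebra.trace K₀ K (w * u) with hτ
  have hτ0 : τ ≠ 0 := by
    intro h0
    rw [h0, map_zero] at hcon
    exact not_lt.2 zero_le_one hcon
  obtain ⟨t₀, ht₀⟩ := hφ₀.2.2
  have hτv : P₀.1 τ = exp (log (P₀.1 τ)) := (exp_log ((Valuation.ne_zero_iff _).2 hτ0)).symm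
  set m := log (P₀.1 τ) with hm
  have hm1 : 1 ≤ m := by
    rw [hτv, ← exp_zero, exp_lt_exp] at hcon
    omega
  set g : K₀ := t₀ ^ (m - 1) with hgdef
  have hgv : P₀.1 g = exp (-(m - 1)) := by
    rw [hgdef, map_zpow₀, ht₀, ← exp_zsmul]
    congr 1
    simp
  have hg1 : P₀.1 g ≤ 1 := by
    rw [hgv, ← exp_zero, exp_le_exp]
    omega
  have hmain := res_trace_eq hK₀ hg hK P₀ φ₀ hφ₀ ψ hψ x₀ (algebraMap K₀ K g * (w * u))
  have htr : Algebra.trace K₀ K (algebraMap K₀ K g * (w * u)) = g * τ := by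
    rw [← Algebra.smul_def, map_smul, smul_eq_mul]
  rw [htr] at hmain
  have hL : LocRes.res k (φ₀ (g * τ) * LocRes.D k (φ₀ x₀)) ≠ 0 := by
    apply res_ne_zero_of_val_eq
    rw [map_mul, hx₀, mul_one, hφ₀.1, map_mul, hgv, hτv, ← exp_add]
    congr 1
    ring
  apply hL
  rw [hmain]
  apply Finset.sum_eq_zero
  intro Q hQ
  rw [Set.Finite.mem_toFinset] at hQ
  have hQ' : IsOver Q P₀ := hQ
  obtain ⟨e, he⟩ := hQ'
  apply res_eq_zero_of_val_le_one
  rw [map_mul, (hψ Q hQ).1]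
  have h1 : Q.1 (algebraMap K₀ K g) ≤ 1 := (le_one_iff he g).2 hg1
  have h2 := hu Q hQ
  have h3 := hw Q hQ
  unfold cv at h3
  rw [map_mul, map_mul]
  calc Q.1 (algebraMap K₀ K g) * (Q.1 w * Q.1 u) *
        Valued.v (LocRes.D k (ψ Q (algebraMap K₀ K x₀)))
      = (Q.1 (algebraMap K₀ K g) * Q.1 u) *
        (Q.1 w * Valued.v (LocRes.D k (ψ Q (algebraMap K₀ K x₀)))) := by
          rw [mul_comm (Q.1 w) (Q.1 u), ← mul_assoc, mul_assoc]
    _ ≤ 1 * 1 := mul_le_mul' (mul_le_one' h1 h2) h3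
    _ = 1 := one_mul 1

include hK₀ hg hK hφ₀ hψ hx₀ in
/-- Conversely, an element with integral traces against the integral closure gives a differential
regular at every place over `P₀`. -/
theorem regular_of_trace_le_one (hD : ∀ Q : Place k K, IsOver Q P₀ → cv ψ x₀ Q ≠ 0) {w : K}
    (hw : ∀ u : K, (∀ Q : Place k K, IsOver Q P₀ → Q.1 u ≤ 1) →
      P₀.1 (Algebra.trace K₀ K (w * u)) ≤ 1) :
    ∀ Q : Place k K, IsOver Q P₀ → Q.1 w * cv ψ x₀ Q ≤ 1 := by
  classical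
  intro Q₁ hQ₁
  by_contra hcon
  rw [not_le] at hcon
  have hw0 : w ≠ 0 := by
    rintro rfl
    rw [map_zero, zero_mul] at hcon
    exact not_lt.2 zero_le_one hcon
  set c : Place k K → ℤᵐ⁰ := fun Q => Q.1 w * cv ψ x₀ Q with hc
  have hc0 : ∀ Q, IsOver Q P₀ → c Q ≠ 0 := fun Q hQ =>
    mul_ne_zero ((Valuation.ne_zero_iff _).2 hw0) (hD Q hQ)
  have hcexp : ∀ Q, IsOver Q P₀ → c Q = exp (log (c Q)) := fun Q hQ => (exp_log (hc0 Q hQ)).symm
  have hL1 : 1 ≤ log (c Q₁) := by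
    have h := hcon
    change 1 < c Q₁ at h
    rw [hcexp Q₁ hQ₁, ← exp_zero, exp_lt_exp] at h
    omega
  set S := (finite_isOver (K' := K) P₀).toFinset with hS
  have hmemS : ∀ Q, Q ∈ S ↔ IsOver Q P₀ := fun Q => by
    rw [hS, Set.Finite.mem_toFinset]; rfl
  obtain ⟨u, hu⟩ := exists_val_eq (fun Q : ↥S => (Q : Place k K)) Subtype.val_injective
    (fun Q => if (Q : Place k K) = Q₁ then 1 - log (c Q₁) else min 0 (-log (c (Q : Place k K))))
  have huv : ∀ Q, IsOver Q P₀ → Q.1 u =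
      exp (if Q = Q₁ then 1 - log (c Q₁) else min 0 (-log (c Q))) := fun Q hQ =>
    hu ⟨Q, (hmemS Q).2 hQ⟩
  have hu1 : ∀ Q : Place k K, IsOver Q P₀ → Q.1 u ≤ 1 := by
    intro Q hQ
    rw [huv Q hQ, ← exp_zero, exp_le_exp]
    split_ifs
    · omega
    · exact min_le_left _ _
  have hmain := res_trace_eq hK₀ hg hK P₀ φ₀ hφ₀ ψ hψ x₀ (w * u)
  have hL : LocRes.res k (φ₀ (Algebra.trace K₀ K (w * u)) * LocRes.D k (φ₀ x₀)) = 0 := by
    apply res_eq_zero_of_val_le_one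
    rw [map_mul, hx₀, mul_one, hφ₀.1]
    exact hw u hu1
  rw [hL, Finset.sum_eq_single Q₁] at hmain
  · refine res_ne_zero_of_val_eq ?_ hmain.symm
    rw [map_mul, (hψ Q₁ hQ₁).1, map_mul, mul_comm (Q₁.1 w), mul_assoc]
    change Q₁.1 u * c Q₁ = _
    rw [huv Q₁ hQ₁, if_pos rfl, hcexp Q₁ hQ₁, ← exp_add, log_exp]
    congr 1
    ring
  · intro Q hQ hne
    have hQ' := (hmemS Q).1 hQ
    apply res_eq_zero_of_val_le_one
    rw [map_mul, (hψ Q hQ').1, map_mul, mul_comm (Q.1 w), mul_assoc]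
    change Q.1 u * c Q ≤ 1
    rw [huv Q hQ', if_neg hne, hcexp Q hQ', ← exp_add, log_exp, ← exp_zero, exp_le_exp]
    have := min_le_right 0 (-log (c Q))
    omega
  · intro h
    exact absurd ((hmemS Q₁).2 hQ₁) h

end Core

section Euler

variable {k : Type u} {K₀ K : Type v} [Field k] [Field K₀] [Field K] [Algebra k K₀]
  [Algebra K₀ K] [FiniteDimensional K₀ K] [Algebra.IsSeparable K₀ K]

open Polynomial in
theorem delta_ne_zero (y : K) :
    aeval y (derivative (minpoly K₀ y)) ≠ 0 :=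
  (Algebra.IsSeparable.isSeparable K₀ y).aeval_derivative_ne_zero (minpoly.aeval K₀ y)

open Polynomial in
/-- Euler's formula for the trace dual of `O[y]`, elementwise. -/
theorem mul_delta_mem_adjoin_iff (P₀ : Place k K₀) (y : K) (hy : IsIntegral P₀.O y)
    (hgen : Algebra.adjoin K₀ {y} = ⊤) (w : K) :
    w * aeval y (derivative (minpoly K₀ y)) ∈ Algebra.adjoin P₀.O {y} ↔
      ∀ r ∈ Algebra.adjoin P₀.O {y}, P₀.1 (Algebra.trace K₀ K (w * r)) ≤ 1 := by
  have hE := traceForm_dualSubmodule_adjoin P₀.O K₀ hgen hy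
  have hδ := delta_ne_zero (K₀ := K₀) y
  set δ := aeval y (derivative (minpoly K₀ y)) with hδdef
  have h1 : w ∈ (Algebra.traceForm K₀ K).dualSubmodule
      (Subalgebra.toSubmodule (Algebra.adjoin P₀.O {y})) ↔
      ∀ r ∈ Algebra.adjoin P₀.O {y}, P₀.1 (Algebra.trace K₀ K (w * r)) ≤ 1 := by
    rw [LinearMap.BilinForm.mem_dualSubmodule]
    refine forall₂_congr fun r _ => ?_
    rw [Algebra.traceForm_apply, Submodule.mem_one]
    constructor
    · rintro ⟨a, ha⟩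
      rw [← ha]
      exact a.2
    · intro h
      exact ⟨⟨_, h⟩, rfl⟩
  rw [← h1, hE, Submodule.mem_smul_pointwise_iff_exists]
  constructor
  · intro h
    refine ⟨w * δ, h, ?_⟩
    rw [smul_eq_mul, mul_comm w, inv_mul_cancel_left₀ hδ]
  · rintro ⟨b, hb, rfl⟩
    rw [smul_eq_mul, mul_comm, mul_inv_cancel_left₀ hδ]
    exact hb

end Euler

section Main

variable {k : Type u} {K₀ K : Type v} [Field k] [Field K₀] [Field K] [Algebra k K₀]
  [Algebra K₀ K] [Algebra k K] [IsScalarTower k K₀ K] [FiniteDimensional K₀ K]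
  [Algebra.IsSeparable K₀ K]
variable (hK₀ : IsFunctionField k K₀) (hg : IsGeometric k K₀) (hK : IsFunctionField k K)
  (P₀ : Place k K₀) (φ₀ : K₀ →ₐ[k] LaurentSeries k) (hφ₀ : LocRes.IsExpansionAt P₀.1 φ₀)
  (ψ : Place k K → (K →ₐ[k] LaurentSeries k))
  (hψ : ∀ Q : Place k K, IsOver Q P₀ → LocRes.IsExpansionAt Q.1 (ψ Q))
  (x₀ : K₀) (hx₀ : Valued.v (LocRes.D k (φ₀ x₀)) = 1)
  (hD : ∀ Q : Place k K, IsOver Q P₀ → cv ψ x₀ Q ≠ 0)
  (y : K) (hy : IsIntegral P₀.O y) (hgen : Algebra.adjoin K₀ {y} = ⊤)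

omit [FiniteDimensional K₀ K] [Algebra.IsSeparable K₀ K] in
include hy in
theorem val_le_one_of_mem_adjoin {r : K} (hr : r ∈ Algebra.adjoin P₀.O {y})
    {Q : Place k K} (hQ : IsOver Q P₀) : Q.1 r ≤ 1 := by
  obtain ⟨e, he⟩ := hQ
  have hle : Algebra.adjoin P₀.O {y} ≤ integralClosure P₀.O K :=
    Algebra.adjoin_le (Set.singleton_subset_iff.2 hy)
  exact val_le_one_of_isIntegral he (hle hr)

open Polynomial in
include hK₀ hg hK hφ₀ hψ hx₀ hy hgen in
/-- Elements with `z · dx/h'(y)` regular over `P₀` lie in `O[y]`. -/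
theorem mem_adjoin_of_regular {z : K}
    (hz : ∀ Q : Place k K, IsOver Q P₀ →
      Q.1 z * ((Q.1 (aeval y (derivative (minpoly K₀ y))))⁻¹ * cv ψ x₀ Q) ≤ 1) :
    z ∈ Algebra.adjoin P₀.O {y} := by
  have hδ := delta_ne_zero (K₀ := K₀) y
  set δ := aeval y (derivative (minpoly K₀ y)) with hδdef
  have hw : ∀ Q : Place k K, IsOver Q P₀ → Q.1 (z * δ⁻¹) * cv ψ x₀ Q ≤ 1 := by
    intro Q hQ
    rw [map_mul, map_inv₀, mul_assoc]
    exact hz Q hQ
  have h := (mul_delta_mem_adjoin_iff P₀ y hy hgen (z * δ⁻¹)).2 (fun r hr =>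
    trace_le_one_of_regular hK₀ hg hK P₀ φ₀ hφ₀ ψ hψ x₀ hx₀ hw
      (fun Q hQ => val_le_one_of_mem_adjoin P₀ y hy hr hQ))
  rwa [← hδdef, inv_mul_cancel_right₀ hδ] at h

open Polynomial in
include hK₀ hg hK hφ₀ hψ hx₀ hD hy hgen in
/-- **The local adjoint theorem, abstract form.** -/
theorem adjoint_core (Q : Place k K) (hQ : IsOver Q P₀) :
    1 ≤ (Q.1 (aeval y (derivative (minpoly K₀ y))))⁻¹ * cv ψ x₀ Q ∧
    ((Q.1 (aeval y (derivative (minpoly K₀ y))))⁻¹ * cv ψ x₀ Q = 1 ↔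
      ∃ z ∈ Algebra.adjoin P₀.O {y}, Q.1 z = 1 ∧
        ∀ u : K, (∀ Q' : Place k K, IsOver Q' P₀ → Q'.1 u ≤ 1) →
          z * u ∈ Algebra.adjoin P₀.O {y}) := by
  classical
  have hδ := delta_ne_zero (K₀ := K₀) y
  set δ := aeval y (derivative (minpoly K₀ y)) with hδdef
  set d : Place k K → ℤᵐ⁰ := fun Q' => (Q'.1 δ)⁻¹ * cv ψ x₀ Q' with hd
  have hd0 : ∀ Q', IsOver Q' P₀ → d Q' ≠ 0 := fun Q' hQ' =>
    mul_ne_zero (inv_ne_zero ((Valuation.ne_zero_iff _).2 hδ)) (hD Q' hQ')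
  have hdexp : ∀ Q', IsOver Q' P₀ → d Q' = exp (log (d Q')) := fun Q' hQ' =>
    (exp_log (hd0 Q' hQ')).symm
  set S := (finite_isOver (K' := K) P₀).toFinset with hS
  have hmemS : ∀ Q', Q' ∈ S ↔ IsOver Q' P₀ := fun Q' => by
    rw [hS, Set.Finite.mem_toFinset]; rfl
  obtain ⟨z, hz⟩ := exists_val_eq (fun Q' : ↥S => (Q' : Place k K)) Subtype.val_injective
    (fun Q' => -log (d (Q' : Place k K)))
  have hzv : ∀ Q', IsOver Q' P₀ → Q'.1 z * d Q' = 1 := by
    intro Q' hQ'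
    have := hz ⟨Q', (hmemS Q').2 hQ'⟩
    change Q'.1 z = _ at this
    rw [this, hdexp Q' hQ', log_exp, ← exp_add, neg_add_cancel, exp_zero]
  have hstar : ∀ z' : K, (∀ Q', IsOver Q' P₀ → Q'.1 z' * d Q' ≤ 1) →
      z' ∈ Algebra.adjoin P₀.O {y} := fun z' hz' =>
    mem_adjoin_of_regular hK₀ hg hK P₀ φ₀ hφ₀ ψ hψ x₀ hx₀ y hy hgen hz'
  have hzmem : z ∈ Algebra.adjoin P₀.O {y} := hstar z (fun Q' hQ' => (hzv Q' hQ').le)
  have ha : 1 ≤ d Q := by
    have h1 : Q.1 z ≤ 1 := val_le_one_of_mem_adjoin P₀ y hy hzmem hQ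
    have h2 := hzv Q hQ
    by_contra hlt
    rw [not_le] at hlt
    have hzpos : Q.1 z ≠ 0 := by
      intro h0
      rw [h0, zero_mul] at h2
      exact zero_ne_one h2
    have : Q.1 z * d Q < 1 := by
      calc Q.1 z * d Q < Q.1 z * 1 := by
            exact mul_lt_mul_of_pos_left hlt (zero_lt_iff.2 hzpos)
        _ ≤ 1 := by rw [mul_one]; exact h1
    rw [h2] at this
    exact lt_irrefl _ this
  refine ⟨ha, ?_, ?_⟩
  · intro hd1
    refine ⟨z, hzmem, ?_, ?_⟩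
    · have := hzv Q hQ
      change Q.1 z * d Q = 1 at this
      rwa [show d Q = 1 from hd1, mul_one] at this
    · intro u hu
      apply hstar
      intro Q' hQ'
      rw [map_mul, mul_right_comm, hzv Q' hQ', one_mul]
      exact hu Q' hQ'
  · rintro ⟨z', hz'mem, hz'1, hz'⟩
    apply le_antisymm _ ha
    have hreg := regular_of_trace_le_one hK₀ hg hK P₀ φ₀ hφ₀ ψ hψ x₀ hx₀ hD (w := z' * δ⁻¹)
      (fun u hu => by
        have hr := hz' u hu
        have h := (mul_delta_mem_adjoin_iff P₀ y hy hgen (z' * u * δ⁻¹)).1 (by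
          rw [← hδdef, inv_mul_cancel_right₀ hδ]; exact hr) 1 (Subalgebra.one_mem _)
        rw [mul_one] at h
        rwa [mul_right_comm])
      Q hQ
    rw [map_mul, hz'1, one_mul, map_inv₀] at hreg
    exact hreg

end Main

end Groth.Agent.H57.Cond
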