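import Mathlib
import Groth.Prelude.Def_ModSite
import Groth.Agent.Lib.Helper30.ModSiteFree
import Groth.Agent.Lib.Helper45.SummandFree

/-!
# `freeOn O T ≅ unit` for a terminal object `T` of the site (helper57)
-/

set_option autoImplicit false
universe u
open CategoryTheory CategoryTheory.Limits Opposite

namespace Groth.Agent.H57.UnitFreeOn

open Groth.Agent.Lib.Helper30.ModSiteFree

variable {C : Type u} [SmallCategory C] {J : GrothendieckTopology C}
  (O : Sheaf J CommRingCat.{u}) {T : C} (hT : IsTerminal T)

/-- `Hom(unit, F) ≃ F(T)` for `T` terminal. -/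
noncomputable def unitHomEquivT (F : ModSite.Mod O) :
    (SheafOfModules.unit (ModSite.ringSh O) ⟶ F) ≃ F.val.obj (op T) :=
  (F.unitHomEquiv).trans (Groth.Agent.Lib.Helper45.SummandFree.sectionsEquiv hT F)

lemma unitHomEquivT_comp {F F' : ModSite.Mod O}
    (h : SheafOfModules.unit (ModSite.ringSh O) ⟶ F) (g : F ⟶ F') :
    unitHomEquivT O hT F' (h ≫ g) = g.val.app (op T) (unitHomEquivT O hT F h) := by
  unfold unitHomEquivT
  simp only [Equiv.trans_apply]
  rw [SheafOfModules.unitHomEquiv_comp_apply]
  rfl

/-- the unit corepresents sections over the terminal object. -/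
noncomputable def unitCorepresentableBy :
    (secFunctor O T).CorepresentableBy (SheafOfModules.unit (ModSite.ringSh O)) where
  homEquiv {F} := unitHomEquivT O hT F
  homEquiv_comp {F F'} g h := unitHomEquivT_comp O hT h g

/-- `freeOn O T ≅ unit` for `T` terminal. -/
noncomputable def freeOnIsoUnit : ModSite.freeOn O T ≅ SheafOfModules.unit (ModSite.ringSh O) :=
  (freeOnCorepresentableBy O T).uniqueUpToIso (unitCorepresentableBy O hT)

end Groth.Agent.H57.UnitFreeOn
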