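import Mathlib
import Groth.Prelude.Def_DCoh3
import Groth.Agent.S9047
import Groth.Agent.S0468
import Groth.Agent.H57.UnitFreeOn
import Groth.Agent.Lib.Helper32.OpenKInj

/-!
# Maps from `O_X[0]` to a coproduct of uniformly bounded below objects are finite sums (helper57)

`X` a quasi-compact quasi-separated scheme, `M i ∈ D^{≥ a}(O_X)`.  Every morphism
`O_X[0] ⟶ ∐ M i` is a finite sum of morphisms through the summands.
(The scheme version of `S9047`, for the unit instead of `freeOn`, and with the standard derived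
category.)
-/

set_option autoImplicit false
universe u
open CategoryTheory CategoryTheory.Limits AlgebraicGeometry TopologicalSpace Opposite
attribute [local instance] HasDerivedCategory.standard

namespace Groth.Agent.H57.CoprodFin

open Groth.Agent.Lib.Helper83.ExtAcyc Groth.Agent.Lib.Helper83.CoprodDecomp
  Groth.Agent.Lib.Helper83.SingleHom Groth.Agent.Lib.Helper32.DCoprod
  Groth.Agent.Lib.Helper74.ModQc DerivedCategory

section General

variable {D : Type*} [Category D] [Preadditive D]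

/-- every morphism from `G` to the point of the cofan is a finite sum through the injections
(universe-free version of helper74's `FinSum`). -/
def FinFac (G : D) {ι : Type*} {K : ι → D} (c : Cofan K) : Prop :=
  ∀ φ : G ⟶ c.pt, ∃ (T : Finset ι) (ψ : ∀ i, G ⟶ K i), φ = ∑ i ∈ T, ψ i ≫ c.inj i

lemma FinFac.of_isColimit {G : D} {ι : Type*} {K : ι → D} {c c' : Cofan K} (hc : IsColimit c)
    (hc' : IsColimit c') (h : FinFac G c) : FinFac G c' := by
  intro φ
  let e := hc'.coconePointUniqueUpToIso hc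
  obtain ⟨T, ψ, hψ⟩ := h (φ ≫ e.hom)
  refine ⟨T, ψ, ?_⟩
  have h1 : φ = (φ ≫ e.hom) ≫ e.inv := by rw [Category.assoc, e.hom_inv_id, Category.comp_id]
  rw [h1, hψ, Preadditive.sum_comp]
  refine Finset.sum_congr rfl (fun i _ => ?_)
  rw [Category.assoc]
  congr 1
  exact hc'.comp_coconePointUniqueUpToIso_inv hc ⟨i⟩

lemma FinFac.of_iso {G : D} {ι : Type*} {K K' : ι → D} (e : ∀ i, K i ≅ K' i) (c : Cofan K)
    (h : FinFac G c) : FinFac G (Cofan.mk c.pt (fun i => (e i).inv ≫ c.inj i)) := by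
  intro φ
  obtain ⟨T, ψ, hψ⟩ := h φ
  refine ⟨T, fun i => ψ i ≫ (e i).hom, ?_⟩
  rw [hψ]
  refine Finset.sum_congr rfl (fun i _ => ?_)
  simp

lemma FinFac.of_iso_left {G G' : D} (g : G ≅ G') {ι : Type*} {K : ι → D} {c : Cofan K}
    (h : FinFac G c) : FinFac G' c := by
  intro φ
  obtain ⟨T, ψ, hψ⟩ := h (g.hom ≫ φ)
  refine ⟨T, fun i => g.inv ≫ ψ i, ?_⟩
  have h1 : φ = g.inv ≫ (g.hom ≫ φ) := by rw [g.inv_hom_id_assoc]
  rw [h1, hψ, Preadditive.comp_sum]
  refine Finset.sum_congr rfl (fun i _ => ?_)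
  rw [Category.assoc]

end General

section Abstract

variable {A : Type*} [Category A] [Abelian A] {J : Type*} [HasColimitsOfShape (Discrete J) A]
  [HasDerivedCategory A]

/-- copy of helper83's `finSum_cofanQ_single` with independent universes. -/
theorem finFac_cofanQ_single {S : A} (hS : DecompObj J S) (X : J → CochainComplex A ℤ)
    (hlift : ∀ φ : (DerivedCategory.singleFunctor A 0).obj S ⟶ Q.obj (sigmaCx X),
      ∃ f : sg S ⟶ sigmaCx X, qm f = φ) :
    FinFac ((DerivedCategory.singleFunctor A 0).obj S) (cofanQ X) := by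
  intro φ
  obtain ⟨f, rfl⟩ := hlift φ
  obtain ⟨T, hT⟩ := exists_finset_decomp_single hS X f
  refine ⟨T, fun j => qm (f ≫ sigmaCxPr X j), ?_⟩
  have h1 : Q.map f = ∑ j ∈ T, Q.map (f ≫ sigmaCxPr X j) ≫ Q.map (sigmaι X j) := by
    conv_lhs => rw [hT]
    rw [Functor.map_sum]
    refine Finset.sum_congr rfl (fun j _ => ?_)
    rw [Functor.map_comp]
  exact h1

end Abstract

section ExtIso

variable {A : Type*} [Category A] [Abelian A]

lemma EA_of_iso_left.{w} [HasExt.{w} A] {S S' : A} (e : S ≅ S') (Z : A) (h : EA.{w} S Z) :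
    EA.{w} S' Z := by
  intro p hp x
  have h1 := h p hp ((Abelian.Ext.mk₀ e.hom).comp x (zero_add p))
  have h2 : x = (Abelian.Ext.mk₀ e.inv).comp ((Abelian.Ext.mk₀ e.hom).comp x (zero_add p))
      (zero_add p) := by
    rw [Abelian.Ext.mk₀_comp_mk₀_assoc, e.inv_hom_id, Abelian.Ext.mk₀_id_comp]
  rw [h2, h1, Abelian.Ext.comp_zero]

lemma decompObj_of_iso {J : Type*} [HasColimitsOfShape (Discrete J) A] {S S' : A} (e : S ≅ S')
    (h : DecompObj J S) : DecompObj J S' := by
  intro Y g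
  obtain ⟨T, hT⟩ := h Y (e.hom ≫ g)
  refine ⟨T, ?_⟩
  have h1 : g = e.inv ≫ (e.hom ≫ g) := by rw [e.inv_hom_id_assoc]
  rw [h1]
  conv_lhs => rw [hT]
  rw [Preadditive.comp_sum]
  refine Finset.sum_congr rfl (fun j _ => ?_)
  simp only [Category.assoc, e.inv_hom_id_assoc]

end ExtIso

section Scheme

variable (X : Scheme.{u})

open Groth.Agent.S0468

instance : PrespectralSpace ↑X.toTopCat := inferInstanceAs (PrespectralSpace X)

lemma h1c [QuasiSeparatedSpace X] (W : Opens X.toTopCat) (κ : Type u) (Y : κ → Over W)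
    (hY : Covc X.toTopCat W κ Y) : Finite κ ∧ W ∈ Bc X.toTopCat ∧
      Sieve.ofArrows (fun i => (Y i).left) (fun i => (Y i).hom) ∈
        Opens.grothendieckTopology X.toTopCat W ∧
      ∀ (p : ℕ) (a : Fin (p + 1) → κ), (∏ᶜ fun k => Y (a k)).left ∈ Bc X.toTopCat := by
  haveI : QuasiSeparatedSpace ↑X.toTopCat := ‹QuasiSeparatedSpace X›
  obtain ⟨hfin, hW, hcov, hY'⟩ := hY
  refine ⟨hfin, hW, hcov, fun n a => ?_⟩
  change IsCompact (((∏ᶜ fun k => Y (a k)).left : Opens X.toTopCat) : Set X.toTopCat)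
  rw [prod_left_eq Y n a]
  exact isCompact_iInf n _ (fun k => hY' (a k))

lemma h2c (W : Opens X.toTopCat) (hW : W ∈ Bc X.toTopCat)
    (T : Sieve W) (hT : T ∈ Opens.grothendieckTopology X.toTopCat W) :
    ∃ (ι : Type u) (Y : ι → Over W), Covc X.toTopCat W ι Y ∧ ∀ i, T.arrows (Y i).hom := by
  rw [Opens.mem_grothendieckTopology] at hT
  choose V f hf hxV using hT
  have hK : ∀ (x : X.toTopCat) (hx : x ∈ W), ∃ K : Set X.toTopCat, IsCompact K ∧ IsOpen K ∧
      {x} ⊆ K ∧ K ⊆ (V x hx : Set X.toTopCat) := fun x hx =>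
    PrespectralSpace.exists_isCompact_and_isOpen_between isCompact_singleton (V x hx).isOpen
      (Set.singleton_subset_iff.2 (hxV x hx))
  choose K hKc hKo hxK hKV using hK
  obtain ⟨t, ht⟩ := IsCompact.elim_finite_subcover (ι := ↥W) hW (fun x => K x.1 x.2)
    (fun x => hKo x.1 x.2) (fun x hx => Set.mem_iUnion.2 ⟨⟨x, hx⟩, hxK x hx rfl⟩)
  have hKW : ∀ x : ↥W, (⟨K x.1 x.2, hKo x.1 x.2⟩ : Opens X.toTopCat) ≤ W := fun x y hy =>
    (leOfHom (f x.1 x.2)) (hKV x.1 x.2 hy)
  let Y : {x // x ∈ t} → Over W := fun x => Over.mk (homOfLE (hKW x.1))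
  refine ⟨{x // x ∈ t}, Y, ⟨inferInstance, hW, ?_, fun x => hKc x.1.1 x.1.2⟩, fun x => ?_⟩
  · rw [Opens.mem_grothendieckTopology]
    intro y hy
    obtain ⟨x, hxt, hyx⟩ : ∃ x ∈ t, y ∈ K x.1 x.2 := by
      have := ht hy
      simpa only [Set.mem_iUnion, exists_prop] using this
    exact ⟨(Y ⟨x, hxt⟩).left, (Y ⟨x, hxt⟩).hom,
      Sieve.ofArrows_mk _ _ (⟨x, hxt⟩ : {x // x ∈ t}), hyx⟩
  · have hle : (⟨K x.1.1 x.1.2, hKo x.1.1 x.1.2⟩ : Opens X.toTopCat) ≤ V x.1.1 x.1.2 :=
      fun y hy => hKV x.1.1 x.1.2 hy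
    have h := T.downward_closed (hf x.1.1 x.1.2) (homOfLE hle)
    have e : homOfLE hle ≫ f x.1.1 x.1.2 = (Y x).hom := Subsingleton.elim _ _
    rw [e] at h
    exact h

lemma top_mem_Bc [CompactSpace X] : (⊤ : Opens X.toTopCat) ∈ Bc X.toTopCat := by
  change IsCompact ((⊤ : Opens X.toTopCat) : Set X.toTopCat)
  rw [Opens.coe_top]
  haveI : CompactSpace ↑X.toTopCat := ‹CompactSpace X›
  exact isCompact_univ

/-- `freeOn X.sheaf ⊤ ≅ O_X`. -/
noncomputable def freeOnTopIso :
    ModSite.freeOn X.sheaf (⊤ : Opens X.toTopCat) ≅ Coh.structureModule X :=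
  Groth.Agent.H57.UnitFreeOn.freeOnIsoUnit X.sheaf (T := (⊤ : Opens X.toTopCat)) isTerminalTop

variable [CompactSpace X] [QuasiSeparatedSpace X]

lemma decompObj_unit (I : Type u) : DecompObj I (Coh.structureModule X) := by
  classical
  have hqc : ToposFin.IsQCSite (Opens.grothendieckTopology X.toTopCat) (⊤ : Opens X.toTopCat) :=
    Groth.Agent.S9047.Aux.isQCSite_of_mem (Bc X.toTopCat) (Covc X.toTopCat) (h1c X) (h2c X)
      (top_mem_Bc X)
  have hprA : ∀ (Y : I → ModSite.Mod X.sheaf) (j : I),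
      Groth.Agent.Lib.Helper83.CoprodDecomp.prA Y j =
        Groth.Agent.Lib.Helper74.ModQc.prj Y j := by
    intro Y j
    apply Sigma.hom_ext
    intro i
    by_cases hij : i = j
    · subst hij
      rw [Groth.Agent.Lib.Helper83.CoprodDecomp.ι_prA_self,
        Groth.Agent.Lib.Helper74.ModQc.ι_prj_self]
    · rw [Groth.Agent.Lib.Helper83.CoprodDecomp.ι_prA_ne Y hij,
        Groth.Agent.Lib.Helper74.ModQc.ι_prj_ne Y hij]
  have hS : DecompObj I (ModSite.freeOn X.sheaf (⊤ : Opens X.toTopCat)) := by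
    intro Y g
    obtain ⟨T, hT⟩ := Groth.Agent.Lib.Helper74.ModQc.exists_finset_decomp hqc Y g
    refine ⟨T, ?_⟩
    simp only [hprA]
    exact hT
  exact decompObj_of_iso (freeOnTopIso X) hS

lemma EA_unit_sigma_injective [HasExt.{u} X.Modules] {I : Type u} (Z : I → X.Modules)
    (hZ : ∀ i, Injective (Z i)) : EA.{u} (Coh.structureModule X) (∐ Z) := by
  have h := @Groth.Agent.S9047.Aux.EA_sigma_injective _ _ _ _ (Bc X.toTopCat) (Covc X.toTopCat)
    (h1c X) (h2c X) X.sheaf ‹HasExt.{u} X.Modules› _ (top_mem_Bc X) _ Z hZ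
  exact @EA_of_iso_left _ _ _ ‹HasExt.{u} X.Modules› _ _ (freeOnTopIso X) _ h

/-- transport of a colimit cofan along isomorphisms of the family (universe-free copy of
helper74's). -/
def isColimitCofanOfIso' {D : Type*} [Category D] {ι : Type*} {K K' : ι → D}
    (e : ∀ i, K i ≅ K' i) (c : Cofan K)
    (hc : IsColimit c) : IsColimit (Cofan.mk c.pt (fun i => (e i).inv ≫ c.inj i)) :=
  Cofan.IsColimit.mk _
    (fun s => Cofan.IsColimit.desc hc (fun i => (e i).hom ≫ s.inj i))
    (fun s i => by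
      change ((e i).inv ≫ c.inj i) ≫ _ = _
      rw [Category.assoc, Cofan.IsColimit.fac, Iso.inv_hom_id_assoc])
    (fun s m hm => by
      apply Cofan.IsColimit.hom_ext hc
      intro i
      rw [Cofan.IsColimit.fac, ← hm i]
      change _ = (e i).hom ≫ ((e i).inv ≫ c.inj i) ≫ m
      rw [Category.assoc, Iso.hom_inv_id_assoc])

/-- **`O_X[0]` is compact with respect to uniformly bounded below families** on a quasi-compact
quasi-separated scheme. -/
theorem finFac_unit_of_isGE {I : Type u} (M : I → DCoh.D X) (a : ℤ) (hM : ∀ i, (M i).IsGE a)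
    (c : Cofan M) (hc : IsColimit c) : FinFac (DCoh.inD X (Coh.structureModule X)) c := by
  classical
  haveI hGA : IsGrothendieckAbelian.{u} X.Modules :=
    Groth.Agent.Lib.Helper32.OpenKInj.isGrothendieckAbelian_modules X
  haveI hExt : HasExt.{u} X.Modules := hasExt_of_enoughInjectives _
  haveI hfb : HasFiniteBiproducts X.Modules := HasFiniteBiproducts.of_hasFiniteProducts
  haveI hex : HasExactColimitsOfShape (Discrete I) X.Modules :=
    hasExactColimitsOfShape_discrete_of_hasExactColimitsOfShape_finset_discrete X.Modules I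
  have hmod : ∀ i, ∃ (L : CochainComplex X.Modules ℤ), L.IsStrictlyGE a ∧
      (∀ n, Injective (L.X n)) ∧ Nonempty (DerivedCategory.Q.obj L ≅ M i) := by
    intro i
    have := hM i
    obtain ⟨L₀, hL₀, ⟨e⟩⟩ := (M i).exists_iso_Q_obj_of_isGE a
    obtain ⟨L, j, h1', h2', h3'⟩ :=
      CochainComplex.Plus.modelCategoryQuillen.exists_quasiIso_injective L₀ a
    exact ⟨L, h3', h2', ⟨(e ≪≫ asIso (DerivedCategory.Q.map j)).symm⟩⟩
  choose L hLa hLinj hLe using hmod
  let e : ∀ i, DerivedCategory.Q.obj (L i) ≅ M i := fun i => (hLe i).some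
  have hS : DecompObj I (Coh.structureModule X) := decompObj_unit X I
  have hEA : ∀ k, EA.{u} (Coh.structureModule X) ((sigmaCx L).X k) := fun k =>
    EA_unit_sigma_injective X (fun i => (L i).X k) (fun i => hLinj i k)
  haveI hGE : (sigmaCx L).IsStrictlyGE a := by
    rw [CochainComplex.isStrictlyGE_iff]
    intro k hk
    rw [IsZero.iff_id_eq_zero]
    apply Limits.Sigma.hom_ext
    intro i
    exact ((L i).isZero_of_isStrictlyGE a k hk).eq_of_src _ _
  have h0 := finFac_cofanQ_single hS L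
    (fun φ => Groth.Agent.Lib.Helper83.SingleLift.exists_qm_eq_of_EA _ _ a hEA φ)
  have h1' := FinFac.of_iso e (cofanQ L) h0
  exact FinFac.of_isColimit (isColimitCofanOfIso' e (cofanQ L) (isColimitCofanQ L)) hc h1'

end Scheme

end Groth.Agent.H57.CoprodFin
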