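import Mathlib

/-!
# Induction principle for quasi-compact quasi-separated schemes via Mayer–Vietoris (helper57)

A property of schemes which holds for affine schemes and for `Y = U ∪ V` as soon as it holds for
the open subschemes `U`, `V` and `U ∩ V` holds for every quasi-compact quasi-separated scheme.
-/

set_option autoImplicit false
universe u
open CategoryTheory CategoryTheory.Limits AlgebraicGeometry TopologicalSpace

namespace Groth.Agent.H57.QcqsInduction

lemma isSeparated_of_isOpenImmersion {Z Y : Scheme.{u}} (f : Z ⟶ Y) [IsOpenImmersion f]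
    [Y.IsSeparated] : Z.IsSeparated := by
  refine ⟨?_⟩
  have h : terminal.from Z = f ≫ terminal.from Y := Subsingleton.elim _ _
  rw [h]
  infer_instance

lemma quasiSeparatedSpace_opens {Y : Scheme.{u}} [QuasiSeparatedSpace Y] (W : Y.Opens) :
    QuasiSeparatedSpace (W : Scheme.{u}) :=
  W.ι.isOpenEmbedding.quasiSeparatedSpace

lemma compactSpace_opens {Y : Scheme.{u}} (W : Y.Opens) (hW : IsCompact (W : Set Y)) :
    CompactSpace (W : Scheme.{u}) :=
  isCompact_iff_compactSpace.mp hW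

lemma isCompact_biSup {Y : Scheme.{u}} (s : Finset Y.Opens) (hs : ∀ U ∈ s, IsAffineOpen U) :
    IsCompact ((⨆ U ∈ s, U : Y.Opens) : Set Y) := by
  have : ((⨆ U ∈ s, U : Y.Opens) : Set Y) = ⋃ U ∈ s, (U : Set Y) := by
    simp
  rw [this]
  exact s.isCompact_biUnion fun U hU => (hs U hU).isCompact

variable (P : Scheme.{u} → Prop)
  (h_affine : ∀ Y : Scheme.{u}, IsAffine Y → P Y)
  (h_MV : ∀ (Y : Scheme.{u}) (U V : Y.Opens), U ⊔ V = ⊤ →
    P (U : Scheme.{u}) → P (V : Scheme.{u}) → P ((U ⊓ V : Y.Opens) : Scheme.{u}) → P Y)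

include h_affine in
lemma of_iSup_empty (Y : Scheme.{u}) (h : (⊥ : Y.Opens) = ⊤) : P Y := by
  have : IsEmpty Y := by
    refine ⟨fun y => ?_⟩
    have hy : y ∈ (⊤ : Y.Opens) := trivial
    rw [← h] at hy
    exact hy
  exact h_affine Y inferInstance

include h_affine h_MV in
/-- the common induction step. `hW` handles the intersection. -/
lemma step (Y : Scheme.{u}) (s : Finset Y.Opens) (U₀ : Y.Opens) (hU₀ : IsAffineOpen U₀)
    (hcov : (⨆ U ∈ s, U) ⊔ U₀ = ⊤) (h1 : P ((⨆ U ∈ s, U : Y.Opens) : Scheme.{u}))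
    (h2 : P (((⨆ U ∈ s, U) ⊓ U₀ : Y.Opens) : Scheme.{u})) : P Y :=
  h_MV Y _ U₀ hcov h1 (h_affine _ hU₀) h2

/-- preimages in an open subscheme of a finite family of affine opens contained in it. -/
lemma preimage_cover {Y : Scheme.{u}} (W : Y.Opens) (s : Finset Y.Opens) (f : Y.Opens → Y.Opens)
    (hf : ∀ U ∈ s, IsAffineOpen (f U)) (hfW : ∀ U ∈ s, f U ≤ W) (hW : W ≤ ⨆ U ∈ s, f U) :
    ∃ t : Finset (W : Scheme.{u}).Opens, t.card ≤ s.card ∧ (∀ V ∈ t, IsAffineOpen V) ∧
      (⨆ V ∈ t, V) = ⊤ := by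
  classical
  refine ⟨s.image (fun U => W.ι ⁻¹ᵁ (f U)), Finset.card_image_le, ?_, ?_⟩
  · intro V hV
    obtain ⟨U, hU, rfl⟩ := Finset.mem_image.mp hV
    exact (hf U hU).preimage_of_isOpenImmersion W.ι (by rw [Scheme.Opens.opensRange_ι]; exact hfW U hU)
  · rw [Finset.iSup_finset_image]
    have h1 : (⨆ U ∈ s, W.ι ⁻¹ᵁ (f U)) = W.ι ⁻¹ᵁ (⨆ U ∈ s, f U) := by
      simp only [Scheme.Hom.preimage_iSup]
    rw [h1, eq_top_iff]
    intro x _
    exact hW x.2

include h_affine h_MV in
/-- stage 1: separated schemes. -/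
theorem stage1 : ∀ (n : ℕ) (Y : Scheme.{u}) [Y.IsSeparated] (s : Finset Y.Opens), s.card ≤ n →
    (∀ U ∈ s, IsAffineOpen U) → (⨆ U ∈ s, U) = ⊤ → P Y := by
  classical
  intro n
  induction n with
  | zero =>
    intro Y _ s hs _ hcov
    have : s = ∅ := Finset.card_eq_zero.mp (Nat.le_zero.mp hs)
    subst this
    exact of_iSup_empty P h_affine Y (by simpa using hcov)
  | succ n ih =>
    intro Y _ s hs haff hcov
    rcases s.eq_empty_or_nonempty with rfl | ⟨U₀, hU₀⟩
    · exact of_iSup_empty P h_affine Y (by simpa using hcov)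
    set s' := s.erase U₀ with hs'
    have hcard : s'.card ≤ n := by
      rw [hs', Finset.card_erase_of_mem hU₀]; omega
    have haff' : ∀ U ∈ s', IsAffineOpen U := fun U hU => haff U (Finset.mem_of_mem_erase hU)
    have hcov' : (⨆ U ∈ s', U) ⊔ U₀ = ⊤ := by
      rw [← hcov, ← Finset.insert_erase hU₀, Finset.iSup_insert, sup_comm]
    set W' : Y.Opens := ⨆ U ∈ s', U with hW'
    refine step P h_affine h_MV Y s' U₀ (haff U₀ hU₀) hcov' ?_ ?_
    · have : (W' : Scheme.{u}).IsSeparated := isSeparated_of_isOpenImmersion W'.ι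
      obtain ⟨t, ht, htaff, htcov⟩ := preimage_cover W' s' id haff'
        (fun U hU => le_biSup (fun U => U) hU) le_rfl
      exact ih W' t (ht.trans hcard) htaff htcov
    · have : ((W' ⊓ U₀ : Y.Opens) : Scheme.{u}).IsSeparated :=
        isSeparated_of_isOpenImmersion (W' ⊓ U₀).ι
      obtain ⟨t, ht, htaff, htcov⟩ := preimage_cover (W' ⊓ U₀) s' (fun U => U ⊓ U₀)
        (fun U hU => (haff' U hU).inf (haff U₀ hU₀))
        (fun U hU => inf_le_inf_right _ (le_biSup (fun U => U) hU)) (by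
          rw [hW']
          simp only [iSup_inf_eq]
          exact le_rfl)
      exact ih _ t (ht.trans hcard) htaff htcov

/-- a finite affine cover of a quasi-compact scheme, as a finset of opens. -/
lemma exists_finset_affine_cover (Z : Scheme.{u}) [CompactSpace Z] :
    ∃ t : Finset Z.Opens, (∀ V ∈ t, IsAffineOpen V) ∧ (⨆ V ∈ t, V) = ⊤ := by
  classical
  obtain ⟨s, hs, e⟩ := (isCompact_iff_finite_and_eq_biUnion_affineOpens (U := (⊤ : Z.Opens))).mp
    (by simpa using isCompact_univ)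
  refine ⟨hs.toFinset.image (fun V : Z.affineOpens => (V : Z.Opens)), ?_, ?_⟩
  · intro V hV
    obtain ⟨V', -, rfl⟩ := Finset.mem_image.mp hV
    exact V'.2
  · rw [Finset.iSup_finset_image, e]
    simp

include h_affine h_MV in
/-- stage 2: quasi-separated schemes. -/
theorem stage2 : ∀ (n : ℕ) (Y : Scheme.{u}) [QuasiSeparatedSpace Y] (s : Finset Y.Opens),
    s.card ≤ n → (∀ U ∈ s, IsAffineOpen U) → (⨆ U ∈ s, U) = ⊤ → P Y := by
  classical
  intro n
  induction n with
  | zero =>
    intro Y _ s hs _ hcov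
    have : s = ∅ := Finset.card_eq_zero.mp (Nat.le_zero.mp hs)
    subst this
    exact of_iSup_empty P h_affine Y (by simpa using hcov)
  | succ n ih =>
    intro Y _ s hs haff hcov
    rcases s.eq_empty_or_nonempty with rfl | ⟨U₀, hU₀⟩
    · exact of_iSup_empty P h_affine Y (by simpa using hcov)
    set s' := s.erase U₀ with hs'
    have hcard : s'.card ≤ n := by
      rw [hs', Finset.card_erase_of_mem hU₀]; omega
    have haff' : ∀ U ∈ s', IsAffineOpen U := fun U hU => haff U (Finset.mem_of_mem_erase hU)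
    have hcov' : (⨆ U ∈ s', U) ⊔ U₀ = ⊤ := by
      rw [← hcov, ← Finset.insert_erase hU₀, Finset.iSup_insert, sup_comm]
    set W' : Y.Opens := ⨆ U ∈ s', U with hW'
    refine step P h_affine h_MV Y s' U₀ (haff U₀ hU₀) hcov' ?_ ?_
    · have : QuasiSeparatedSpace (W' : Scheme.{u}) := quasiSeparatedSpace_opens W'
      obtain ⟨t, ht, htaff, htcov⟩ := preimage_cover W' s' id haff'
        (fun U hU => le_biSup (fun U => U) hU) le_rfl
      exact ih W' t (ht.trans hcard) htaff htcov
    · have hU₀aff : IsAffine (U₀ : Scheme.{u}) := haff U₀ hU₀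
      have : ((W' ⊓ U₀ : Y.Opens) : Scheme.{u}).IsSeparated :=
        isSeparated_of_isOpenImmersion (Y.homOfLE (inf_le_right : W' ⊓ U₀ ≤ U₀))
      have hc : IsCompact ((W' ⊓ U₀ : Y.Opens) : Set Y) :=
        QuasiSeparatedSpace.inter_isCompact _ _ W'.2 (isCompact_biSup s' haff') U₀.2
          (haff U₀ hU₀).isCompact
      have : CompactSpace ((W' ⊓ U₀ : Y.Opens) : Scheme.{u}) := compactSpace_opens _ hc
      obtain ⟨t, htaff, htcov⟩ := exists_finset_affine_cover ((W' ⊓ U₀ : Y.Opens) : Scheme.{u})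
      exact stage1 P h_affine h_MV t.card _ t le_rfl htaff htcov

include h_affine h_MV in
/-- **Mayer–Vietoris induction** for quasi-compact quasi-separated schemes. -/
theorem qcqs_induction (Y : Scheme.{u}) [CompactSpace Y] [QuasiSeparatedSpace Y] : P Y := by
  obtain ⟨t, htaff, htcov⟩ := exists_finset_affine_cover Y
  exact stage2 P h_affine h_MV t.card Y t le_rfl htaff htcov

end Groth.Agent.H57.QcqsInduction
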