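import Mathlib
import Groth.Prelude.Def_DCoh2
import Groth.Prelude.Def_WeakSerre
import Groth.Agent.S2384
import Groth.Agent.Lib.Helper49.QCohLocal
import Groth.Agent.Lib.Helper1.AffineVanishing
import Groth.Agent.Lib.Helper32.WayOut2

/-!
# Quasi-coherent modules form a weak Serre subcategory; `D_QCoh` is triangulated (helper57)
-/

set_option autoImplicit false
universe u
open CategoryTheory CategoryTheory.Limits AlgebraicGeometry ZeroObject
attribute [local instance] HasDerivedCategory.standard

namespace Groth.Agent.H57.QCohSerre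

open Groth.Agent.Lib.Helper49

variable (X : Scheme.{u})

/-- quasi-coherence as an object property of `X.Modules`. -/
abbrev qcP : ObjectProperty X.Modules := fun M : X.Modules => M.IsQuasicoherent

instance : (qcP X).IsClosedUnderIsomorphisms where
  of_iso e h := isQuasicoherent_of_iso e h

theorem isQuasicoherent_of_isZero {Z : X.Modules} (hZ : IsZero Z) : Z.IsQuasicoherent := by
  have h := isQuasicoherent_finite_limit (Functor.empty.{0} X.Modules) (fun j => j.as.elim)
  exact isQuasicoherent_of_iso
    (hZ.isoZero ≪≫ (HasZeroObject.zeroIsoTerminal (C := X.Modules))).symm h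

instance : (qcP X).ContainsZero where
  exists_zero := ⟨0, isZero_zero _, isQuasicoherent_of_isZero X (isZero_zero _)⟩

instance : (qcP X).IsClosedUnderExtensions where
  prop_X₂_of_shortExact hS h1 h3 := Groth.Agent.S2384.result _ hS h1 h3

instance : (qcP X).IsClosedUnderKernels where
  kernels_le := by
    rintro _ ⟨f, k, hk, hf⟩
    exact isQuasicoherent_of_iso (IsLimit.conePointUniqueUpToIso (kernelIsKernel f) hk)
      (isQuasicoherent_kernel f hf.1 hf.2)

instance : (qcP X).IsClosedUnderCokernels where
  cokernels_le := by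
    rintro _ ⟨f, k, hk, hf⟩
    exact isQuasicoherent_of_iso (IsColimit.coconePointUniqueUpToIso (cokernelIsCokernel f) hk)
      (isQuasicoherent_cokernel f hf.1 hf.2)

instance : WSerre.IsWeakSerre (qcP X) where

variable {X}

open DerivedCategory Pretriangulated

theorem isQCohD_of_iso {K L : DCoh.D X} (e : K ≅ L) (hK : DCoh.IsQCohD K) : DCoh.IsQCohD L :=
  fun i => isQuasicoherent_of_iso ((DerivedCategory.homologyFunctor X.Modules i).mapIso e) (hK i)

/-- two out of three: the first vertex. -/
theorem isQCohD_obj₁ (T : Triangle (DCoh.D X)) (hT : T ∈ distTriang (DCoh.D X))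
    (h₂ : DCoh.IsQCohD T.obj₂) (h₃ : DCoh.IsQCohD T.obj₃) : DCoh.IsQCohD T.obj₁ := by
  intro n
  have e3 := HomologySequence.exact₃ T hT (n - 1) n (by omega)
  have e1 := HomologySequence.exact₁ T hT (n - 1) n (by omega)
  have e2 := HomologySequence.exact₂ T hT n
  exact Groth.Agent.Lib.Helper32.WayOut2.prop_of_exact5 (qcP X) _ _ _ _ _ _ _ e3 e1 e2
    (h₂ (n - 1)) (h₃ (n - 1)) (h₂ n) (h₃ n)

theorem isQCohD_biprod {K L : DCoh.D X} (hK : DCoh.IsQCohD K) (hL : DCoh.IsQCohD L) :
    DCoh.IsQCohD (K ⊞ L) := by
  intro n
  haveI : PreservesBinaryBiproducts (DerivedCategory.homologyFunctor X.Modules n) :=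
    preservesBinaryBiproducts_of_preservesBiproducts _
  have e : (DerivedCategory.homologyFunctor X.Modules n).obj (K ⊞ L) ≅
      (DerivedCategory.homologyFunctor X.Modules n).obj K ⊞
        (DerivedCategory.homologyFunctor X.Modules n).obj L :=
    (DerivedCategory.homologyFunctor X.Modules n).mapBiprod K L
  refine isQuasicoherent_of_iso e.symm ?_
  exact (qcP X).prop_biprod (hK n) (hL n)

end Groth.Agent.H57.QCohSerre
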