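import Mathlib
import Groth.Prelude.Def_DCoh3
import Groth.Prelude.Def_SiteCmp
import Groth.Agent.H57.QCohSerre
import Groth.Agent.Lib.Helper36.PushTrunc.Core3
import Groth.Agent.Lib.Helper83.DerivedPush
import Groth.Agent.Lib.Helper1.AffineVanishing
import Groth.Agent.Lib.Helper30.DQC.SchemeTower
import Groth.Agent.S0028
import Groth.Agent.S11319

/-!
# `g_*` of a K-injective model of `L ∈ D_QCoh^{≤ m}` is exact above `m`, `g` affine (helper57)
-/

set_option autoImplicit false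
universe u
open CategoryTheory CategoryTheory.Limits AlgebraicGeometry TopologicalSpace Opposite
attribute [local instance] HasDerivedCategory.standard

namespace Groth.Agent.H57.RpushAffineA

open Groth.Agent.H57.QCohSerre Groth.Agent.Lib.Helper30.DQC

lemma isZero_of_faithful {C D : Type*} [Category C] [Category D] [HasZeroMorphisms C]
    [HasZeroMorphisms D] (F : C ⥤ D) [F.Faithful] [F.PreservesZeroMorphisms] {X : C}
    (h : IsZero (F.obj X)) : IsZero X := by
  rw [IsZero.iff_id_eq_zero] at h ⊢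
  apply F.map_injective
  rw [CategoryTheory.Functor.map_id, Functor.map_zero]
  exact h

variable {Y S : Scheme.{u}} (g : Y ⟶ S)

/-- higher direct images (in the category of modules) of quasi-coherent modules along an affine
morphism vanish. -/
theorem isZero_rightDerived_push [IsAffineHom g] [HasInjectiveResolutions Y.Modules]
    (F : Y.Modules) (hF : F.IsQuasicoherent) (p : ℕ) (hp : 0 < p) :
    IsZero (((Scheme.Modules.pushforward g).rightDerived p).obj F) := by
  haveI : Coh.IsQCoh F := hF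
  have h1 := Groth.Agent.S0028.result g F p hp
  obtain ⟨e⟩ := Groth.Agent.S11319.result g F p
  have h2 : IsZero (Coh.toAb ((Coh.Rpush g p).obj F)) := IsZero.of_iso h1 e
  exact isZero_of_faithful (SheafOfModules.toSheaf S.ringCatSheaf) h2

lemma cover_affine (X : Scheme.{u}) (U : X.Opens) :
    ∃ (ι : Type u) (Y₀ : ι → X.Opens) (g₀ : ∀ i, Y₀ i ⟶ U),
      Sieve.ofArrows Y₀ g₀ ∈ Opens.grothendieckTopology X U ∧
        ∀ i, Y₀ i ∈ {W : X.Opens | IsAffineOpen W} := by
  refine ⟨{W : X.Opens // IsAffineOpen W ∧ W ≤ U}, fun W => W.1, fun W => homOfLE W.2.2, ?_,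
    fun W => W.2.1⟩
  intro x hx
  obtain ⟨W, hW, hxW, hWU⟩ := exists_affine_le hx
  exact ⟨W, homOfLE hWU, ⟨W, 𝟙 _, homOfLE hWU, Presieve.ofArrows.mk
    (⟨W, hW, hWU⟩ : {W : X.Opens // IsAffineOpen W ∧ W ≤ U}), Subsingleton.elim _ _⟩, hxW⟩

lemma refine_affine (X : Scheme.{u}) (V : X.Opens) (T : Sieve V)
    (hT : T ∈ Opens.grothendieckTopology X V) :
    ∃ (ι : Type u) (Y₀ : ι → X.Opens) (g₀ : ∀ i, Y₀ i ⟶ V), (∀ i, T.arrows (g₀ i)) ∧
      Sieve.ofArrows Y₀ g₀ ∈ Opens.grothendieckTopology X V ∧ ∀ i, IsAffineOpen (Y₀ i) := by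
  refine ⟨{W : X.Opens // IsAffineOpen W ∧ ∃ h : W ≤ V, T.arrows (homOfLE h)}, fun W => W.1,
    fun W => homOfLE W.2.2.choose, fun W => W.2.2.choose_spec, ?_, fun W => W.2.1⟩
  intro x hx
  obtain ⟨W', g, hg, hxW'⟩ := hT x hx
  obtain ⟨W, hW, hxW, hWW'⟩ := exists_affine_le hxW'
  have hWV : W ≤ V := hWW'.trans g.le
  have hTW : T.arrows (homOfLE hWV) := by
    have := T.downward_closed hg (homOfLE hWW')
    exact this
  exact ⟨W, homOfLE hWV, ⟨W, 𝟙 _, homOfLE hWV, Presieve.ofArrows.mk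
    (⟨W, hW, hWV, hTW⟩ : {W : X.Opens // IsAffineOpen W ∧ ∃ h : W ≤ V, T.arrows (homOfLE h)}),
    Subsingleton.elim _ _⟩, hxW⟩

/-- `g_*` of a K-injective model of an object of `D_QCoh^{≤ m}`, `m < 0`, is exact in degree `0`
(`g` affine). -/
theorem exactAt_zero_push [IsAffineHom g]
    (L : DCoh.D Y) (hL : DCoh.IsQCohD L) (m : ℤ) (hm : L.IsLE m) (hm0 : m < 0)
    (I : CochainComplex Y.Modules ℤ) [hI : I.IsKInjective] (e : L ≅ DerivedCategory.Q.obj I) :
    (((Scheme.Modules.pushforward g).mapHomologicalComplex (ComplexShape.up ℤ)).obj I).ExactAt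
      0 := by
  have hIR : HasInjectiveResolutions Y.Modules := inferInstance
  let f : ModSite.RMor Y.sheaf S.sheaf := ModSite.RMor.ofScheme g
  have hR : SiteCmp.HasRpushD f :=
    Groth.Agent.Lib.Helper83.DerivedPush.hasRightDerivedFunctor f.push
      Groth.Agent.Lib.Helper36.PushTrunc.hasKInjRes_mod
  have hWS : WSerre.IsWeakSerre (qcP Y) := inferInstance
  refine @Groth.Agent.Lib.Helper36.PushTrunc.exactAt_zero _ _ _ Y.sheaf _ _ _ S.sheaf f hIR hR
    (qcP Y) hWS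
    {W : Y.Opens | IsAffineOpen W} {W : S.Opens | IsAffineOpen W}
    (cover_affine Y) ?_ (cover_affine S) ?_ 0 ?_ L hL m hm (by omega) I hI e
  · intro V _
    refine ⟨0, fun T hT => ?_⟩
    obtain ⟨ι, Y₀, g₀, h1, h2, h3⟩ := refine_affine Y V T hT
    refine ⟨ι, Y₀, g₀, h1, h2, fun i F hF k hk => ?_⟩
    obtain ⟨q, rfl⟩ : ∃ q : ℕ, k = q + 1 := ⟨k - 1, by omega⟩
    exact @Groth.Agent.Lib.Helper1.subsingleton_HU_of_isAffineOpen Y F hF (Y₀ i) (h3 i) q
  · intro V _
    refine ⟨0, fun T hT => ?_⟩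
    obtain ⟨ι, Y₀, g₀, h1, h2, h3⟩ := refine_affine S V T hT
    refine ⟨ι, Y₀, g₀, h1, h2, fun i F hF k hk => ?_⟩
    obtain ⟨q, rfl⟩ : ∃ q : ℕ, k = q + 1 := ⟨k - 1, by omega⟩
    exact @Groth.Agent.Lib.Helper1.subsingleton_HU_of_isAffineOpen Y F hF (g ⁻¹ᵁ (Y₀ i))
      ((h3 i).preimage g) q
  · intro F hF p hp
    exact isZero_rightDerived_push g F hF p (by exact_mod_cast hp)

end Groth.Agent.H57.RpushAffineA
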