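import Mathlib
import Groth.Agent.Lib.Helper32.TriRF
import Groth.Agent.Lib.Helper32.KInjDerived

/-!
# Lowest cohomology of a total right derived functor (helper57)

For a left exact additive functor `F : A ⥤ B` with total right derived functor `(RF, α)` on unbounded
derived categories and `M ∈ D^{≥ n}(A)`: `H^n(RF M) ≅ F(H^n M)`.
-/

set_option autoImplicit false
universe w w' v v' u u'
open CategoryTheory CategoryTheory.Limits DerivedCategory

namespace Groth.Agent.H57.RpushAffineB

open Groth.Agent.Lib.Helper32 Groth.Agent.Lib.Helper32.KInjDerived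

variable {A : Type u} [Category.{v} A] [Abelian A]
  {B : Type u'} [Category.{v'} B] [Abelian B]
  (F : A ⥤ B) [F.Additive]

/-- homology in the lowest degree commutes with a left exact functor -/
lemma nonempty_homology_iso [PreservesFiniteLimits F] (I : CochainComplex A ℤ) (n : ℤ)
    [I.IsStrictlyGE n] :
    Nonempty (((F.mapHomologicalComplex (ComplexShape.up ℤ)).obj I).homology n ≅
      F.obj (I.homology n)) := by
  let S := I.sc n
  have hz : IsZero (I.X ((ComplexShape.up ℤ).prev n)) :=
    I.isZero_of_isStrictlyGE n _ (by simp)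
  have hf : S.f = 0 := hz.eq_of_src _ _
  let h₁ := ShortComplex.LeftHomologyData.ofHasKernel S hf
  let S' := ((F.mapHomologicalComplex (ComplexShape.up ℤ)).obj I).sc n
  have hf' : S'.f = 0 := by
    show F.map S.f = 0
    rw [hf, F.map_zero]
  let c : KernelFork S.g := KernelFork.ofι (kernel.ι S.g) (kernel.condition _)
  let h₂ : S'.LeftHomologyData :=
    ShortComplex.LeftHomologyData.ofIsLimitKernelFork S' hf' (c.map F)
      (c.mapIsLimit (kernelIsKernel _) F)
  exact ⟨h₂.homologyIso ≪≫ F.mapIso h₁.homologyIso.symm⟩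

variable [HasDerivedCategory.{w} A] [HasDerivedCategory.{w'} B]
  (RF : DerivedCategory A ⥤ DerivedCategory B)
  (α : F.mapHomotopyCategory (ComplexShape.up ℤ) ⋙ DerivedCategory.Qh ⟶ DerivedCategory.Qh ⋙ RF)
  [RF.IsRightDerivedFunctor α (HomotopyCategory.quasiIso A (ComplexShape.up ℤ))]

include α in
/-- `H^i(RF M) ≅ H^i(F I)` for a K-injective representative `I` of `M` -/
lemma nonempty_homologyRFIso (hA : HasKInjRes A) (I : CochainComplex A ℤ) [I.IsKInjective]
    {M : DerivedCategory A} (e : M ≅ Q.obj I) (i : ℤ) :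
    Nonempty ((homologyFunctor B i).obj (RF.obj M) ≅
      ((F.mapHomologicalComplex (ComplexShape.up ℤ)).obj I).homology i) := by
  haveI := TriRF.isIso_β F RF α hA I
  exact ⟨(homologyFunctor B i).mapIso
    (RF.mapIso e ≪≫ (asIso (TriRF.β F RF α I)).symm) ≪≫ (homologyFunctorFactors B i).app _⟩

/-- an object of `D^{≥n}` is represented by a K-injective complex in degrees `≥ n` -/
lemma exists_injective_model [EnoughInjectives A] (M : DerivedCategory A) (n : ℤ) [M.IsGE n] :
    ∃ (I : CochainComplex A ℤ), I.IsKInjective ∧ I.IsStrictlyGE n ∧ Nonempty (M ≅ Q.obj I) := by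
  obtain ⟨L₀, hL₀, ⟨e⟩⟩ := M.exists_iso_Q_obj_of_isGE n
  obtain ⟨I, i, h1, h2, h3⟩ :=
    CochainComplex.Plus.modelCategoryQuillen.exists_quasiIso_injective L₀ n
  exact ⟨I, CochainComplex.isKInjective_of_injective I n, h3, ⟨e ≪≫ asIso (Q.map i)⟩⟩

include α in
/-- `H^n(RF M) ≅ F(H^n M)` for `M ∈ D^{≥ n}` and `F` left exact. -/
theorem nonempty_iso_lowest [PreservesFiniteLimits F] [EnoughInjectives A] (hA : HasKInjRes A)
    (M : DerivedCategory A) (n : ℤ) [M.IsGE n] :
    Nonempty ((homologyFunctor B n).obj (RF.obj M) ≅ F.obj ((homologyFunctor A n).obj M)) := by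
  obtain ⟨I, hI, hIn, ⟨e⟩⟩ := exists_injective_model M n
  obtain ⟨e1⟩ := nonempty_homologyRFIso F RF α hA I e n
  obtain ⟨e2⟩ := nonempty_homology_iso F I n
  exact ⟨e1 ≪≫ e2 ≪≫ F.mapIso ((homologyFunctorFactors A n).app I).symm ≪≫
    F.mapIso ((homologyFunctor A n).mapIso e.symm)⟩

include α in
/-- vanishing of `H^i(RF M)` from exactness of `F I`. -/
theorem isZero_homology_of_exactAt (hA : HasKInjRes A) (I : CochainComplex A ℤ) [I.IsKInjective]
    {M : DerivedCategory A} (e : M ≅ Q.obj I) (i : ℤ)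
    (h : ((F.mapHomologicalComplex (ComplexShape.up ℤ)).obj I).ExactAt i) :
    IsZero ((homologyFunctor B i).obj (RF.obj M)) := by
  obtain ⟨e1⟩ := nonempty_homologyRFIso F RF α hA I e i
  rw [HomologicalComplex.exactAt_iff_isZero_homology] at h
  exact IsZero.of_iso h e1

end Groth.Agent.H57.RpushAffineB
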