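import Mathlib

/-!
# Left derived functors preserve coproducts (helper57)

Abstract lemma: let `α : L ⋙ LF ⟶ F` be a natural transformation (e.g. the counit of a left derived
functor) whose components are isomorphisms on a class `P` of objects ("adapted objects") which is
closed under coproducts of shape `ι`, such that every object of the target of `L` is isomorphic to
`L.obj K` for some `K` in `P`.  If `L` and `F` preserve coproducts of shape `ι`, then so does `LF`.
-/

set_option autoImplicit false

open CategoryTheory CategoryTheory.Limits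

namespace Groth.Agent.H57.DerCoprod

universe w

variable {C D E : Type*} [Category C] [Category D] [Category E]
  (L : C ⥤ D) (F : C ⥤ E) (LF : D ⥤ E) (α : L ⋙ LF ⟶ F)

/-- `LF` preserves the colimit of `K ⋙ L` if `α` is invertible at the objects of the diagram and at
the colimit point. -/
lemma preservesColimit_comp {J : Type*} [Category J] (K : J ⥤ C) (c : Cocone K) (hc : IsColimit c)
    [PreservesColimit K L] [PreservesColimit K F]
    (hα : ∀ j, IsIso (α.app (K.obj j))) (hαc : IsIso (α.app c.pt)) :
    PreservesColimit (K ⋙ L) LF := by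
  apply preservesColimit_of_preserves_colimit_cocone (isColimitOfPreserves L hc)
  -- the diagram iso
  let e : K ⋙ (L ⋙ LF) ≅ K ⋙ F :=
    NatIso.ofComponents (fun j => @asIso _ _ _ _ (α.app (K.obj j)) (hα j))
      (fun {i j} f => α.naturality (K.map f))
  have h2 : IsColimit (F.mapCocone c) := isColimitOfPreserves F hc
  let w : (Cocone.precompose e.inv).obj ((L ⋙ LF).mapCocone c) ≅ F.mapCocone c :=
    Cocone.ext (@asIso _ _ _ _ (α.app c.pt) hαc) (fun j => by
      have := hα j
      change (inv (α.app (K.obj j)) ≫ (L ⋙ LF).map (c.ι.app j)) ≫ α.app c.pt = F.map (c.ι.app j)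
      have hn : (L ⋙ LF).map (c.ι.app j) ≫ α.app c.pt = α.app (K.obj j) ≫ F.map (c.ι.app j) :=
        α.naturality (c.ι.app j)
      rw [Category.assoc, hn, IsIso.inv_hom_id_assoc])
  exact (IsColimit.equivOfNatIsoOfIso e _ _ w).symm h2

variable {ι : Type w} (P : C → Prop)

include α in
/-- **Left derived functors preserve coproducts.** -/
theorem preservesColimit_discrete
    [HasColimitsOfShape (Discrete ι) C]
    [PreservesColimitsOfShape (Discrete ι) L] [PreservesColimitsOfShape (Discrete ι) F]
    (hα : ∀ K, P K → IsIso (α.app K))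
    (hP : ∀ K : ι → C, (∀ i, P (K i)) → P (∐ K))
    (hres : ∀ X : D, ∃ K, P K ∧ Nonempty (L.obj K ≅ X))
    (X : ι → D) : PreservesColimit (Discrete.functor X) LF := by
  choose K hK e using hres
  let e' : ∀ i, L.obj (K (X i)) ≅ X i := fun i => (e (X i)).some
  have h1 : PreservesColimit (Discrete.functor (fun i => K (X i)) ⋙ L) LF :=
    preservesColimit_comp L F LF α (Discrete.functor (fun i => K (X i)))
      (colimit.cocone _) (colimit.isColimit _)
      (fun j => hα _ (hK _)) (hα _ (hP _ (fun i => hK _)))
  exact preservesColimit_of_iso_diagram LF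
    (Discrete.natIso (fun j => e' j.as) :
      Discrete.functor (fun i => K (X i)) ⋙ L ≅ Discrete.functor X)

include α in
/-- The comparison map of a coproduct is an isomorphism. -/
theorem isIso_sigmaDesc
    [HasColimitsOfShape (Discrete ι) C]
    [PreservesColimitsOfShape (Discrete ι) L] [PreservesColimitsOfShape (Discrete ι) F]
    (hα : ∀ K, P K → IsIso (α.app K))
    (hP : ∀ K : ι → C, (∀ i, P (K i)) → P (∐ K))
    (hres : ∀ X : D, ∃ K, P K ∧ Nonempty (L.obj K ≅ X))
    (X : ι → D) [HasCoproduct X] [HasCoproduct (fun i => LF.obj (X i))] :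
    IsIso (Sigma.desc (fun i => LF.map (Sigma.ι X i))) := by
  have := preservesColimit_discrete L F LF α P hα hP hres X
  have : Sigma.desc (fun i => LF.map (Sigma.ι X i)) = sigmaComparison LF X := rfl
  rw [this]
  infer_instance

end Groth.Agent.H57.DerCoprod
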