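import Mathlib
import Groth.Prelude.Def_DCoh4
import Groth.Agent.H57.DerCoprod
import Groth.Agent.H57.BifunctorColimLeft
import Groth.Agent.Lib.Helper5.LTensorCxCompute
import Groth.Agent.Lib.Helper5.KFlatColim
import Groth.Agent.Lib.Helper30.CptDerived
import Groth.Agent.Lib.Helper30.ModFlat
import Groth.Agent.S0955
import Groth.Agent.Lib.Helper28.LpullCompute

/-!
# Coproducts in `D(O_X)` and K-flat complexes (helper57)
-/

set_option autoImplicit false
universe u
open CategoryTheory CategoryTheory.Limits AlgebraicGeometry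
attribute [local instance] HasDerivedCategory.standard

namespace Groth.Agent.H57.DerCoprodSch

variable (X : Scheme.{u})

/-- coproducts are exact in `X.Modules`. -/
lemma hasExactColimitsOfShape_discrete (ι : Type u) :
    HasExactColimitsOfShape (Discrete ι) X.Modules :=
  Groth.Agent.Lib.Helper30.ModFlat.hasExactColimitsOfShape_discrete X.sheaf ι

/-- `Q` preserves coproducts. -/
lemma preservesColimitsOfShape_Q (ι : Type u) :
    PreservesColimitsOfShape (Discrete ι) (DerivedCategory.Q (C := X.Modules)) := by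
  have := hasExactColimitsOfShape_discrete X ι
  infer_instance

/-- a coproduct of K-flat complexes is K-flat. -/
lemma isKFlat_sigma {ι : Type u} (K : ι → CochainComplex X.Modules ℤ)
    (hK : ∀ i, DCoh.IsKFlat (K i)) : DCoh.IsKFlat (∐ K) := by
  have : HasExactColimitsOfShape (Discrete ι) (ModSite.Mod X.sheaf) :=
    hasExactColimitsOfShape_discrete X ι
  exact Groth.Agent.Lib.Helper5.KFlatColim.isKFlat_of_isColimit X.sheaf (Discrete.functor K)
    (colimit.cocone _) (colimit.isColimit _) (fun j => hK j.as)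

/-- every object of `D(O_X)` is represented by a K-flat complex with flat terms. -/
lemma exists_kflat_rep (Z : DCoh.D X) :
    ∃ K : CochainComplex X.Modules ℤ, (DCoh.IsKFlat K ∧ ∀ n : ℤ, FlatMod.IsFlat (K.X n)) ∧
      Nonempty (DerivedCategory.Q.obj K ≅ Z) := by
  obtain ⟨K, q, hK, hfl, hq, -⟩ := Groth.Agent.S0955.result (DerivedCategory.Q.objPreimage Z)
  have : IsIso (DerivedCategory.Q.map q) :=
    (DerivedCategory.isIso_Q_map_iff_quasiIso (C := X.Modules) q).2 hq
  exact ⟨K, ⟨hK, hfl⟩, ⟨asIso (DerivedCategory.Q.map q) ≪≫ DerivedCategory.Q.objObjPreimageIso Z⟩⟩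

/-- `- ⊗ E` on complexes preserves coproducts. -/
lemma preservesColimitsOfShape_tensorCx_flip (E : CochainComplex X.Modules ℤ) (ι : Type u) :
    PreservesColimitsOfShape (Discrete ι) ((DCoh.tensorCx (X := X)).flip.obj E) := by
  have : ∀ Y : X.Modules, PreservesColimitsOfShape (Discrete ι)
      ((DCoh.tensorBi (X := X)).flip.obj Y) := fun Y => by
    have : ((DCoh.tensorBi (X := X)).flip.obj Y).IsLeftAdjoint :=
      Groth.Agent.Lib.Helper30.ModTensorAdj.isLeftAdjoint_flip_obj X.sheaf Y
    infer_instance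
  exact Groth.Agent.H57.BifunctorColimLeft.preservesColimitsOfShape_flip_obj
    (DCoh.tensorBi (X := X)) (ComplexShape.up ℤ) E

/-- `- ⊗^L E` preserves coproducts. -/
theorem isIso_sigmaDesc_LTensorCx (E : CochainComplex X.Modules ℤ) [DCoh.HasLTensorCx E]
    {ι : Type u} (C : ι → DCoh.D X) [HasCoproduct C]
    [HasCoproduct (fun i => (DCoh.LTensorCx E).obj (C i))] :
    IsIso (Sigma.desc (fun i => (DCoh.LTensorCx E).map (Sigma.ι C i))) := by
  have h1 := preservesColimitsOfShape_Q X ι
  have h2 := preservesColimitsOfShape_tensorCx_flip X E ι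
  have h3 : PreservesColimitsOfShape (Discrete ι) (DCoh.tensorCxQ E) := by
    unfold DCoh.tensorCxQ
    infer_instance
  refine Groth.Agent.H57.DerCoprod.isIso_sigmaDesc DerivedCategory.Q (DCoh.tensorCxQ E)
    (DCoh.LTensorCx E)
    ((DCoh.tensorCxQ E).totalLeftDerivedCounit DerivedCategory.Q
      (HomologicalComplex.quasiIso X.Modules (ComplexShape.up ℤ)))
    (fun K => DCoh.IsKFlat K)
    (fun K hK => Groth.Agent.Lib.Helper5.LTensorCxCompute.isIso_counitCx E K hK)
    (fun K hK => isKFlat_sigma X K hK)
    (fun Z => ?_) C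
  obtain ⟨K, hK, e⟩ := exists_kflat_rep X Z
  exact ⟨K, hK.1, e⟩

end Groth.Agent.H57.DerCoprodSch

namespace Groth.Agent.H57.DerCoprodSch

open HomologicalComplex in
/-- termwise functors on complexes preserve the colimits preserved by the functor. -/
lemma preservesColimitsOfShape_mapHomologicalComplex {V W : Type*} [Category V] [Category W]
    [Preadditive V] [Preadditive W] (F : V ⥤ W) [F.Additive] {ι' : Type*} (c : ComplexShape ι')
    (J : Type*) [Category J] [HasColimitsOfShape J V] [HasColimitsOfShape J W]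
    [PreservesColimitsOfShape J F] :
    PreservesColimitsOfShape J (F.mapHomologicalComplex c) :=
  preservesColimitsOfShape_of_eval _ (fun n =>
    (inferInstance : PreservesColimitsOfShape J (eval V c n ⋙ F)))

variable {X Y : Scheme.{u}} (f : X ⟶ Y)

/-- a coproduct of flat modules is flat. -/
lemma isFlat_sigma {ι : Type u} (M : ι → Y.Modules) (hM : ∀ i, FlatMod.IsFlat (M i)) :
    FlatMod.IsFlat (∐ M) := by
  have : HasExactColimitsOfShape (Discrete ι) (ModSite.Mod Y.sheaf) :=
    hasExactColimitsOfShape_discrete Y ι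
  rw [Groth.Agent.Lib.Helper28.TorOne.flat_iff]
  exact Groth.Agent.Lib.Helper30.ModFlat.isFlat_of_isColimit Y.sheaf (Discrete.functor M)
    (fun j => (Groth.Agent.Lib.Helper28.TorOne.flat_iff _).1 (hM j.as))
    (colimit.cocone _) (colimit.isColimit _)

end Groth.Agent.H57.DerCoprodSch

namespace Groth.Agent.H57.DerCoprodSch

variable {X Y : Scheme.{u}} (f : X ⟶ Y)

/-- `Lf^*` preserves coproducts. -/
theorem isIso_sigmaDesc_Lpull [DCoh.HasLpull f] {ι : Type u} (C : ι → DCoh.D Y) [HasCoproduct C]
    [HasCoproduct (fun i => (DCoh.Lpull f).obj (C i))] :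
    IsIso (Sigma.desc (fun i => (DCoh.Lpull f).map (Sigma.ι C i))) := by
  let quot := HomotopyCategory.quotient Y.Modules (ComplexShape.up ℤ)
  let L : CochainComplex Y.Modules ℤ ⥤ DCoh.D Y := quot ⋙ DerivedCategory.Qh
  let F : CochainComplex Y.Modules ℤ ⥤ DCoh.D X := quot ⋙ DCoh.pullKh f
  let α : L ⋙ DCoh.Lpull f ⟶ F :=
    Functor.whiskerLeft quot ((DCoh.pullKh f).totalLeftDerivedCounit DerivedCategory.Qh
      (HomotopyCategory.quasiIso Y.Modules (ComplexShape.up ℤ)))
  have h1 : PreservesColimitsOfShape (Discrete ι) L := preservesColimitsOfShape_Q Y ι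
  have h2 : PreservesColimitsOfShape (Discrete ι)
      ((Scheme.Modules.pullback f).mapHomologicalComplex (ComplexShape.up ℤ)) :=
    preservesColimitsOfShape_mapHomologicalComplex _ _ _
  have h3 : PreservesColimitsOfShape (Discrete ι) (DerivedCategory.Q (C := X.Modules)) :=
    preservesColimitsOfShape_Q X ι
  have h4 : PreservesColimitsOfShape (Discrete ι) F := by
    let e : F ≅ (Scheme.Modules.pullback f).mapHomologicalComplex (ComplexShape.up ℤ) ⋙
        DerivedCategory.Q :=
      Functor.isoWhiskerRight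
        ((Scheme.Modules.pullback f).mapHomotopyCategoryFactors (ComplexShape.up ℤ))
        DerivedCategory.Qh
    exact preservesColimitsOfShape_of_natIso e.symm
  refine Groth.Agent.H57.DerCoprod.isIso_sigmaDesc L F (DCoh.Lpull f) α
    (fun K => Groth.Agent.Lib.Helper28.LpullCompute.PF K)
    (fun K hK => Groth.Agent.Lib.Helper28.LpullCompute.isIso_counit f K hK)
    (fun K hK => ⟨isKFlat_sigma Y K (fun i => (hK i).1), fun n => ?_⟩)
    (fun Z => ?_) C
  · -- terms of a coproduct of complexes
    have hc : IsColimit ((HomologicalComplex.eval Y.Modules (ComplexShape.up ℤ) n).mapCocone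
        (colimit.cocone (Discrete.functor K))) :=
      isColimitOfPreserves _ (colimit.isColimit _)
    let M : ι → Y.Modules := fun i => (K i).X n
    have hM : FlatMod.IsFlat (∐ M) := isFlat_sigma M (fun i => (hK i).2 n)
    let e : (∐ M) ≅ (∐ K).X n :=
      (colimit.isColimit (Discrete.functor M)).coconePointUniqueUpToIso
        ((IsColimit.precomposeHomEquiv (Discrete.natIso (fun j => Iso.refl _) :
          Discrete.functor M ≅ Discrete.functor K ⋙
            HomologicalComplex.eval Y.Modules (ComplexShape.up ℤ) n) _).symm hc)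
    exact Groth.Agent.Lib.Helper28.LpullCompute.isFlat_of_iso e hM
  · obtain ⟨K, hK, e⟩ := exists_kflat_rep Y Z
    exact ⟨K, hK, e⟩

end Groth.Agent.H57.DerCoprodSch
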