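import Mathlib
import Groth.Prelude.Def_DCoh4
import Groth.Agent.Lib.Helper11.ResProp
import Groth.Agent.Lib.Helper11.FinFreeBasis
import Groth.Agent.Lib.Helper30.PerfRestrict
import Groth.Agent.Lib.Helper30.PerfSummand

/-!
# Tensor product of strictly perfect complexes is strictly perfect (helper57)
-/

set_option autoImplicit false
universe u
open CategoryTheory CategoryTheory.Limits AlgebraicGeometry HomologicalComplex

namespace Groth.Agent.H57.PerfTensorA

section Cofan

variable {C : Type*} [Category C] [Preadditive C] [HasFiniteBiproducts C]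
  {ι : Type*} [DecidableEq ι] (M : ι → C) (S : Finset ι)

/-- the cofan with point the biproduct over a finite subset `S`. -/
noncomputable def finCofan : Cofan M :=
  Cofan.mk (⨁ fun s : S => M s.1)
    (fun i => if h : i ∈ S then biproduct.ι (fun s : S => M s.1) ⟨i, h⟩ else 0)

lemma finCofan_inj_of_mem (i : ι) (h : i ∈ S) :
    (finCofan M S).inj i = biproduct.ι (fun s : S => M s.1) ⟨i, h⟩ := by
  simp [finCofan, Cofan.inj, h]

/-- if `M` vanishes outside `S`, then the biproduct over `S` is a coproduct of `M`. -/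
noncomputable def isColimitFinCofan (h0 : ∀ i, i ∉ S → IsZero (M i)) :
    IsColimit (finCofan M S) :=
  mkCofanColimit _ (fun t => biproduct.desc (fun s : S => t.inj s.1))
    (fun t i => by
      by_cases h : i ∈ S
      · rw [finCofan_inj_of_mem M S i h]
        exact biproduct.ι_desc (fun s : S => t.inj s.1) ⟨i, h⟩
      · exact (h0 i h).eq_of_src _ _)
    (fun t m hm => by
      apply biproduct.hom_ext'
      intro s
      rw [biproduct.ι_desc, ← hm s.1, finCofan_inj_of_mem M S s.1 s.2]
      rfl)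

end Cofan

variable {X : Scheme.{u}}

attribute [local instance] Abelian.hasFiniteBiproducts

/-- the point of a colimit cofan of finite locally free modules with finite support is
finite locally free. -/
theorem isFinLocFree_of_cofan {ι : Type} (M : ι → X.Modules) (c : Cofan M) (hc : IsColimit c)
    (S : Finset ι) (h0 : ∀ i, i ∉ S → IsZero (M i)) (h1 : ∀ i, FlatMod.IsFinLocFree (M i)) :
    FlatMod.IsFinLocFree c.pt := by
  classical
  have e₁ : c.pt ≅ ⨁ fun s : S => M s.1 :=
    hc.coconePointUniqueUpToIso (isColimitFinCofan M S h0)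
  let ε : Fin S.card ≃ S := S.equivFin.symm
  have e₂ : (⨁ ((fun s : S => M s.1) ∘ ε)) ≅ ⨁ fun s : S => M s.1 :=
    biproduct.reindex ε (fun s : S => M s.1)
  have h3 : FlatMod.IsFinLocFree (⨁ ((fun s : S => M s.1) ∘ ε)) :=
    Groth.Agent.Lib.Helper11.ResProp.isFinLocFree_biproduct _ (fun j => h1 _)
  exact Groth.Agent.Lib.Helper14.isFinLocFree_of_iso (e₂ ≪≫ e₁.symm) h3

/-- the point of a colimit cofan of zero objects is zero. -/
lemma isZero_of_cofan {C : Type*} [Category C] [HasZeroMorphisms C] {ι : Type*} (M : ι → C)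
    (c : Cofan M) (hc : IsColimit c) (h0 : ∀ i, IsZero (M i)) : IsZero c.pt := by
  rw [IsZero.iff_id_eq_zero]
  apply hc.hom_ext
  rintro ⟨i⟩
  exact (h0 i).eq_of_src _ _

lemma isZero_tensorBi_left {A : X.Modules} (hA : IsZero A) (B : X.Modules) :
    IsZero ((DCoh.tensorBi.obj A).obj B) :=
  (Functor.isZero_iff _).1 ((DCoh.tensorBi (X := X)).map_isZero hA) B

lemma isZero_tensorBi_right (A : X.Modules) {B : X.Modules} (hB : IsZero B) :
    IsZero ((DCoh.tensorBi.obj A).obj B) :=
  ((DCoh.tensorBi (X := X)).obj A).map_isZero hB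

lemma isFinLocFree_tensorBi {A B : X.Modules} (hA : FlatMod.IsFinLocFree A)
    (hB : FlatMod.IsFinLocFree B) : FlatMod.IsFinLocFree ((DCoh.tensorBi.obj A).obj B) :=
  Groth.Agent.Lib.Helper11.FinFreeBasis.isFinLocFree_tensorMod hA hB

open Groth.Agent.Lib.Helper30.PerfRestrict in
/-- the tensor product of two strictly perfect complexes is strictly perfect. -/
theorem isStrictlyPerfect_tensorCx (E₁ E₂ : CochainComplex X.Modules ℤ)
    (h₁ : DCoh.IsStrictlyPerfect E₁) (h₂ : DCoh.IsStrictlyPerfect E₂) :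
    DCoh.IsStrictlyPerfect ((DCoh.tensorCx.obj E₁).obj E₂) := by
  obtain ⟨⟨a₁, b₁, hab₁⟩, hfl₁⟩ := h₁
  obtain ⟨⟨a₂, b₂, hab₂⟩, hfl₂⟩ := h₂
  let gr : GradedObject (ℤ × ℤ) X.Modules :=
    (((DCoh.tensorBi.mapBifunctorHomologicalComplex (ComplexShape.up ℤ) (ComplexShape.up ℤ)).obj
      E₁).obj E₂).toGradedObject
  have hcol := fun n : ℤ => gr.isColimitCofanMapObj
    (ComplexShape.π (ComplexShape.up ℤ) (ComplexShape.up ℤ) (ComplexShape.up ℤ)) n
  refine ⟨⟨a₁ + a₂, b₁ + b₂, fun n hn => ?_⟩, fun n => ?_⟩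
  · refine isZero_of_cofan _ _ (hcol n) ?_
    rintro ⟨⟨p, q⟩, hpq⟩
    have hpq' : p + q = n := hpq
    by_cases hp : p < a₁ ∨ b₁ < p
    · exact isZero_tensorBi_left (hab₁ p hp) _
    · have hq : q < a₂ ∨ b₂ < q := by omega
      exact isZero_tensorBi_right _ (hab₂ q hq)
  · classical
    let S : Finset ((ComplexShape.π (ComplexShape.up ℤ) (ComplexShape.up ℤ)
        (ComplexShape.up ℤ)) ⁻¹' {n}) :=
      (Finset.Icc a₁ b₁).attach.image (fun p => ⟨(p.1, n - p.1), by
        show p.1 + (n - p.1) = n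
        omega⟩)
    refine isFinLocFree_of_cofan _ _ (hcol n) S ?_ ?_
    · rintro ⟨⟨p, q⟩, hpq⟩ hS
      have hpq' : p + q = n := hpq
      have hp : p < a₁ ∨ b₁ < p := by
        by_contra hcon
        apply hS
        rw [Finset.mem_image]
        refine ⟨⟨p, Finset.mem_Icc.2 (by omega)⟩, Finset.mem_attach _ _, ?_⟩
        apply Subtype.ext
        show (p, n - p) = (p, q)
        rw [show n - p = q by omega]
      exact isZero_tensorBi_left (hab₁ p hp) _
    · rintro ⟨⟨p, q⟩, hpq⟩
      exact isFinLocFree_tensorBi (hfl₁ p) (hfl₂ q)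

end Groth.Agent.H57.PerfTensorA
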