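import Mathlib
import Groth.Prelude.Def_DCoh4
import Groth.Agent.H57.PerfTensorA
import Groth.Agent.Lib.Helper30.PerfRestrict
import Groth.Agent.Lib.Helper5.PullTensorIso
import Groth.Agent.Lib.Helper5.LTensorCxCompute
import Groth.Agent.Lib.Helper28.SiteKFlatSymm
import Groth.Agent.Lib.Helper28.TorOne
import Groth.Agent.Lib.Helper49.FinLocFree
import Groth.Agent.S0952
import Groth.Agent.S9058

/-!
# Derived tensor product of perfect complexes is perfect (helper57)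
-/

set_option autoImplicit false
universe u
open CategoryTheory CategoryTheory.Limits AlgebraicGeometry HomologicalComplex
attribute [local instance] HasDerivedCategory.standard

namespace Groth.Agent.H57.PerfTensor

open Groth.Agent.Lib.Helper30.PerfRestrict Groth.Agent.Lib.Helper28

variable {U : Scheme.{u}}

/-- a strictly perfect complex is K-flat. -/
theorem isKFlat_of_isStrictlyPerfect (E : CochainComplex U.Modules ℤ)
    (hE : DCoh.IsStrictlyPerfect E) : DCoh.IsKFlat E := by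
  obtain ⟨⟨a, b, hab⟩, hfl⟩ := hE
  have hle : E.IsStrictlyLE b := (CochainComplex.isStrictlyLE_iff E b).2
    (fun i hi => hab i (Or.inr hi))
  exact Groth.Agent.S9058.result U.sheaf E b hle
    (fun n => (Groth.Agent.Lib.Helper28.TorOne.flat_iff _).1
      (Groth.Agent.Lib.Helper49.isFlat_of_isFinLocFree _ (hfl n)))

/-- `A ↦ Q(Tot(A ⊗ B))` only depends on the class of `A` in `D(O_U)` when `B` is K-flat. -/
theorem nonempty_tensor_iso_left {A A' : CochainComplex U.Modules ℤ}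
    (B : CochainComplex U.Modules ℤ) (hB : DCoh.IsKFlat B)
    (e : DerivedCategory.Q.obj A ≅ DerivedCategory.Q.obj A') :
    Nonempty (DerivedCategory.Q.obj ((DCoh.tensorCx.obj A).obj B) ≅
      DerivedCategory.Q.obj ((DCoh.tensorCx.obj A').obj B)) := by
  have hinv := Groth.Agent.Lib.Helper5.LTensorCxCompute.isInvertedBy_tensorCxQ B hB
  let T : DCoh.D U ⥤ DCoh.D U := Localization.lift (DCoh.tensorCxQ B) hinv DerivedCategory.Q
  let φ : DerivedCategory.Q ⋙ T ≅ DCoh.tensorCxQ B := Localization.fac _ hinv DerivedCategory.Q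
  exact ⟨(φ.app A).symm ≪≫ T.mapIso e ≪≫ φ.app A'⟩

/-- `B ↦ Q(Tot(A ⊗ B))` only depends on the class of `B` in `D(O_U)` when `A` is K-flat. -/
theorem nonempty_tensor_iso_right (A : CochainComplex U.Modules ℤ) (hA : DCoh.IsKFlat A)
    {B B' : CochainComplex U.Modules ℤ}
    (e : DerivedCategory.Q.obj B ≅ DerivedCategory.Q.obj B') :
    Nonempty (DerivedCategory.Q.obj ((DCoh.tensorCx.obj A).obj B) ≅
      DerivedCategory.Q.obj ((DCoh.tensorCx.obj A).obj B')) := by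
  have hinv : (HomologicalComplex.quasiIso U.Modules (ComplexShape.up ℤ)).IsInvertedBy
      (DCoh.tensorCx.obj A ⋙ DerivedCategory.Q) := by
    intro K K' f hf
    let K₀ : CochainComplex (ModSite.Mod U.sheaf) ℤ := K
    let K₀' : CochainComplex (ModSite.Mod U.sheaf) ℤ := K'
    let f₀ : K₀ ⟶ K₀' := f
    haveI : QuasiIso f₀ := hf
    have hq : QuasiIso (mapBifunctorMap (𝟙 A) f (DCoh.tensorBi (X := U)) (ComplexShape.up ℤ)) :=
      BiK.quasiIso_mapR_of_kflat_flip (ModSite.tensorBi U.sheaf) A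
        (SiteKFlatSymm.kflatR_flip U.sheaf A
          ((Groth.Agent.Lib.Helper5.LTensorCompute.isKFlat_iff U.sheaf A).1 hA)) f₀
    exact (DerivedCategory.isIso_Q_map_iff_quasiIso (C := U.Modules) _).2 hq
  let T : DCoh.D U ⥤ DCoh.D U :=
    Localization.lift (DCoh.tensorCx.obj A ⋙ DerivedCategory.Q) hinv DerivedCategory.Q
  let φ : DerivedCategory.Q ⋙ T ≅ DCoh.tensorCx.obj A ⋙ DerivedCategory.Q :=
    Localization.fac _ hinv DerivedCategory.Q
  exact ⟨(φ.app B).symm ≪≫ T.mapIso e ≪≫ φ.app B'⟩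

/-- restriction and pullback of complexes along an open immersion agree. -/
noncomputable def rCIsoPullCx {X : Scheme.{u}} (j : U ⟶ X) [IsOpenImmersion j] :
    rC j ≅ Groth.Agent.Lib.Helper5.PullTensorIso.pullCx j :=
  NatIso.mapHomologicalComplex (Scheme.Modules.restrictFunctorIsoPullback j) (ComplexShape.up ℤ)

/-- **the derived tensor product of perfect complexes is perfect.** -/
theorem isPerfect_LTensorCx {X : Scheme.{u}} (L : CochainComplex X.Modules ℤ)
    (hL : DCoh.IsKFlat L) (hLp : DCoh.IsPerfect (DerivedCategory.Q.obj L)) [DCoh.HasLTensorCx L]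
    (K : DCoh.D X) (hK : DCoh.IsPerfect K) : DCoh.IsPerfect ((DCoh.LTensorCx L).obj K) := by
  rw [isPerfect_iff] at hK hLp ⊢
  intro x
  obtain ⟨V₁, hx₁, h₁⟩ := hK x
  obtain ⟨V₂, hx₂, h₂⟩ := hLp x
  refine ⟨V₁ ⊓ V₂, ⟨hx₁, hx₂⟩, ?_⟩
  obtain ⟨E₁, hE₁, ⟨f₁⟩⟩ := PerfObj.of_le (inf_le_left : V₁ ⊓ V₂ ≤ V₁) h₁
  obtain ⟨E₂, hE₂, ⟨f₂⟩⟩ := PerfObj.of_le (inf_le_right : V₁ ⊓ V₂ ≤ V₂) h₂
  set j := (V₁ ⊓ V₂).ι with hj
  let F := DerivedCategory.Q.objPreimage K
  let eF : DerivedCategory.Q.obj F ≅ K := DerivedCategory.Q.objObjPreimageIso K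
  let pF := (Groth.Agent.Lib.Helper5.PullTensorIso.pullCx j).obj F
  let pL := (Groth.Agent.Lib.Helper5.PullTensorIso.pullCx j).obj L
  have hpL : DCoh.IsKFlat pL := Groth.Agent.S0952.result j L hL
  have g₁ : DerivedCategory.Q.obj pF ≅ DerivedCategory.Q.obj E₁ :=
    DerivedCategory.Q.mapIso ((rCIsoPullCx j).symm.app F) ≪≫ (rDQ j).symm.app F ≪≫
      (rD j).mapIso eF ≪≫ f₁
  have g₂ : DerivedCategory.Q.obj pL ≅ DerivedCategory.Q.obj E₂ :=
    DerivedCategory.Q.mapIso ((rCIsoPullCx j).symm.app L) ≪≫ (rDQ j).symm.app L ≪≫ f₂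
  obtain ⟨k₁⟩ := nonempty_tensor_iso_left pL hpL g₁
  obtain ⟨k₂⟩ := nonempty_tensor_iso_right E₁ (isKFlat_of_isStrictlyPerfect E₁ hE₁) g₂
  refine ⟨(DCoh.tensorCx.obj E₁).obj E₂,
    Groth.Agent.H57.PerfTensorA.isStrictlyPerfect_tensorCx E₁ E₂ hE₁ hE₂, ⟨?_⟩⟩
  exact (rD j).mapIso ((DCoh.LTensorCx L).mapIso eF.symm ≪≫
      Groth.Agent.Lib.Helper5.LTensorCxCompute.ltensorCxIso' L hL F) ≪≫
    (rDQ j).app ((DCoh.tensorCx.obj F).obj L) ≪≫
    DerivedCategory.Q.mapIso ((rCIsoPullCx j).app ((DCoh.tensorCx.obj F).obj L) ≪≫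
      Groth.Agent.Lib.Helper5.PullTensorIso.pullTotIso j F L) ≪≫ k₁ ≪≫ k₂

end Groth.Agent.H57.PerfTensor
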