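import Mathlib
import Groth.Agent.Lib.Helper5.StalkFlat
import Groth.Agent.Lib.Helper30.ModTensorAdj

/-!
# The stalk of a tensor product of sheaves of modules on a ringed space (helper57)

For sheaves of modules `N`, `M` on a ringed space `(X, O)` and `x : X`, the `O_x`-linear bijection
`Ψ : N_x ⊗_{O_x} M_x → (N ⊗_O M)_x`, natural in both variables.
-/

set_option autoImplicit false

open CategoryTheory Limits TopologicalSpace Opposite MonoidalCategory TensorProduct

universe u

namespace Groth.Agent.H57.StalkTensorIso

open Groth.Agent.Lib.Helper5.StalkTensor Groth.Agent.Lib.Helper30.ModTensor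
  Groth.Agent.Lib.Helper30.ModTensorAdj

section Presheaf

variable {X : TopCat.{u}} {R : X.Presheaf CommRingCat.{u}}
  (N M : PresheafOfModules.{u} (R ⋙ forget₂ CommRingCat RingCat)) (x : X)

/-- `θ ∘ ψ = id`. -/
lemma theta_psi (t : St N x ⊗[R.stalk x] St M x) : theta N M x (psi N M x t) = t := by
  induction t using TensorProduct.induction_on with
  | zero => rw [map_zero, map_zero]
  | tmul a b =>
    obtain ⟨W, hW, n, m, rfl, rfl⟩ := exists_rep₂ N M x a b
    rw [psi_tmul, psiFun_gm, theta_gm, tau_tmul]
  | add t t' ht ht' => rw [map_add, map_add, ht, ht']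

lemma psi_bijective : Function.Bijective (psi N M x) :=
  ⟨Function.LeftInverse.injective (theta_psi N M x),
    Function.RightInverse.surjective (psi_theta N M x)⟩

/-- `ψ` is compatible with the scalar action. -/
lemma psiFun_smul_left (r : R.stalk x) (a : St N x) (b : St M x) :
    psiFun N M x (r • a) b = r • psiFun N M x a b := by
  obtain ⟨U, hU, n, rfl⟩ := exists_gm_eq x N a
  obtain ⟨V, hVU, hV, m, rfl⟩ := exists_le_gm_eq x M b hU
  obtain ⟨W, hWV, hW, r₀, rfl⟩ := TopCat.Presheaf.exists_le_germ_eq R r hV
  rw [← gm_rs x N (hWV.trans hVU) hW n, ← gm_rs x M hWV hW m, ← gm_smul, psiFun_gm, psiFun_gm,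
    ← gm_smul]
  rfl

end Presheaf

section LocBij

variable {X : TopCat.{u}}

/-- a locally injective morphism of presheaves of abelian groups is injective on stalks. -/
lemma stalk_injective_of_isLocallyInjective {P Q : (Opens X)ᵒᵖ ⥤ Ab.{u}} (h : P ⟶ Q)
    [Presheaf.IsLocallyInjective (Opens.grothendieckTopology X) h] (x : X) :
    Function.Injective ((TopCat.Presheaf.stalkFunctor Ab.{u} x).map h) := by
  rw [← AddMonoidHom.coe_coe, injective_iff_map_eq_zero]
  intro t ht
  obtain ⟨U, hxU, s, rfl⟩ := TopCat.Presheaf.exists_germ_eq P t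
  have ht' : TopCat.Presheaf.germ Q U x hxU (h.app (op U) s) =
      TopCat.Presheaf.germ Q U x hxU 0 := by
    rw [map_zero]
    exact (TopCat.Presheaf.stalkFunctor_map_germ_apply U x hxU h s).symm.trans ht
  obtain ⟨W, hxW, iU, iV, hW⟩ := TopCat.Presheaf.germ_eq Q x hxU hxU _ _ ht'
  rw [map_zero] at hW
  -- `s|_W` maps to zero
  have h0 : h.app (op W) (P.map iU.op s) = h.app (op W) 0 := by
    rw [map_zero, ← hW]
    exact congrArg (fun φ => (ConcreteCategory.hom φ) s) (h.naturality iU.op)
  have hmem := Presheaf.equalizerSieve_mem (Opens.grothendieckTopology X) h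
    (P.map iU.op s) 0 h0
  obtain ⟨W', g, hg, hxW'⟩ := hmem x hxW
  have hg' : P.map g.op (P.map iU.op s) = P.map g.op 0 := hg
  rw [map_zero] at hg'
  have e1 : TopCat.Presheaf.germ P U x hxU s =
      TopCat.Presheaf.germ P W' x hxW' (P.map g.op (P.map iU.op s)) := by
    rw [TopCat.Presheaf.germ_res_apply, TopCat.Presheaf.germ_res_apply]
  rw [e1, hg', map_zero]
  rfl

/-- a locally bijective morphism of presheaves of abelian groups is bijective on stalks. -/
lemma stalk_bijective_of_isLocallyBijective {P Q : (Opens X)ᵒᵖ ⥤ Ab.{u}} (h : P ⟶ Q)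
    [Presheaf.IsLocallyInjective (Opens.grothendieckTopology X) h]
    [hs : Presheaf.IsLocallySurjective (Opens.grothendieckTopology X) h] (x : X) :
    Function.Bijective ((TopCat.Presheaf.stalkFunctor Ab.{u} x).map h) :=
  ⟨stalk_injective_of_isLocallyInjective h x,
    (TopCat.Presheaf.locally_surjective_iff_surjective_on_stalks h).1 hs x⟩

end LocBij

section Sheafify

variable {X : TopCat.{u}} (O : TopCat.Sheaf CommRingCat.{u} X) (x : X)

/-- the stalk map of the sheafification unit is bijective. -/
lemma sm_shfUnit_bijective (P : PM O) : Function.Bijective (sm (shfUnit P) x) := by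
  have h : (PresheafOfModules.toPresheaf _).map (shfUnit P) =
      CategoryTheory.toSheafify (Opens.grothendieckTopology X) P.presheaf := rfl
  have h1 : Presheaf.IsLocallyInjective (Opens.grothendieckTopology X)
      ((PresheafOfModules.toPresheaf _).map (shfUnit P)) := by
    rw [h]
    exact Presheaf.isLocallyInjective_toSheafify'.{u,u} (Opens.grothendieckTopology X) P.presheaf
  have h2 : Presheaf.IsLocallySurjective (Opens.grothendieckTopology X)
      ((PresheafOfModules.toPresheaf _).map (shfUnit P)) := by
    rw [h]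
    exact Presheaf.isLocallySurjective_toSheafify'.{u,u} (Opens.grothendieckTopology X) P.presheaf
  exact stalk_bijective_of_isLocallyBijective _ x

/-- the stalk at `x` of the ring. -/
abbrev Ox : Type u := ↑(TopCat.Presheaf.stalk (C := CommRingCat.{u}) O.obj x)

variable (N M : ModSite.Mod O)

/-- the tensor product sheaf. -/
noncomputable abbrev tens : ModSite.Mod O := ((ModSite.tensorBi O).obj N).obj M

/-- the presheaf tensor product. -/
noncomputable abbrev ptens : PM O := valObj O N ⊗ valObj O M

/-- the stalk map of the sheafification unit of the presheaf tensor product. -/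
noncomputable def sig : St (ptens O N M) x →ₗ[Ox O x] St (valObj O (tens O N M)) x :=
  smₗ (shfUnit (ptens O N M)) x

lemma sig_apply (t : St (ptens O N M) x) : sig O x N M t = sm (shfUnit (ptens O N M)) x t := rfl

lemma sig_bijective : Function.Bijective (sig O x N M) :=
  sm_shfUnit_bijective O x (ptens O N M)

/-- the bilinear map `(a, b) ↦ σ (ψ (a ⊗ b))`. -/
noncomputable def PsiBil :
    St (valObj O N) x →ₗ[Ox O x] St (valObj O M) x →ₗ[Ox O x] St (valObj O (tens O N M)) x :=
  LinearMap.mk₂ (Ox O x)
    (fun a b => sig O x N M (psiFun (valObj O N) (valObj O M) x a b))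
    (fun a a' b => by rw [psiFun_add_left, map_add])
    (fun r a b => by rw [psiFun_smul_left, map_smul])
    (fun a b b' => by rw [psiFun_add_right, map_add])
    (fun r a b => by rw [← psiFun_smul, psiFun_smul_left, map_smul])

/-- the comparison map `N_x ⊗ M_x → (N ⊗ M)_x`. -/
noncomputable def Psi :
    (St (valObj O N) x ⊗[Ox O x] St (valObj O M) x) →ₗ[Ox O x] St (valObj O (tens O N M)) x :=
  TensorProduct.lift (PsiBil O x N M)

lemma Psi_tmul (a : St (valObj O N) x) (b : St (valObj O M) x) :
    Psi O x N M (a ⊗ₜ[Ox O x] b) = sig O x N M (psiFun (valObj O N) (valObj O M) x a b) := rfl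

lemma Psi_eq (t : St (valObj O N) x ⊗[Ox O x] St (valObj O M) x) :
    Psi O x N M t = sig O x N M (psi (valObj O N) (valObj O M) x t) := by
  induction t using TensorProduct.induction_on with
  | zero => rw [map_zero, map_zero, map_zero]
  | tmul a b => rfl
  | add t t' ht ht' => rw [map_add, map_add, map_add, ht, ht']

lemma Psi_bijective : Function.Bijective (Psi O x N M) := by
  have h : (Psi O x N M : _ → _) =
      (sig O x N M : _ → _) ∘ (psi (valObj O N) (valObj O M) x : _ → _) := by
    funext t
    exact Psi_eq O x N M t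
  rw [h]
  exact (sig_bijective O x N M).comp (psi_bijective _ _ x)

/-- the key formula on germs. -/
lemma Psi_gm (U : Opens X) (hx : x ∈ U) (n : (valObj O N).obj (op U)) (m : (valObj O M).obj (op U)) :
    Psi O x N M (gm (valObj O N) x U hx n ⊗ₜ[Ox O x] gm (valObj O M) x U hx m) =
      gm (valObj O (tens O N M)) x U hx
        ((shfUnit (ptens O N M)).app (op U) (n ⊗ₜ[O.obj.obj (op U)] m)) := by
  rw [Psi_tmul, psiFun_gm, sig_apply, sm_gm]
  rfl

/-- naturality of the sheafification unit, on sections. -/
lemma shfUnit_naturality_apply {P P' : PM O} (g : P ⟶ P') (U : Opens X) (t : P.obj (op U)) :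
    ((shf O).map g).val.app (op U) ((shfUnit P).app (op U) t) =
      (shfUnit P').app (op U) (g.app (op U) t) := by
  have h := (PresheafOfModules.sheafificationAdjunction.{u} (𝟙 (RS O).obj)).unit.naturality g
  have h' : shfUnit P ≫ ((shf O).map g).val = g ≫ shfUnit P' := h.symm
  have h2 := congrArg (fun φ => (φ.app (op U)) t) h'
  exact h2

variable {N M}

/-- naturality of `Ψ` in the first variable. -/
lemma Psi_naturality_left {N' : ModSite.Mod O} (f : N ⟶ N')
    (t : St (valObj O N) x ⊗[Ox O x] St (valObj O M) x) :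
    Psi O x N' M ((smₗ (valHom O f) x).rTensor (St (valObj O M) x) t) =
      smₗ (valHom O (((ModSite.tensorBi O).map f).app M)) x (Psi O x N M t) := by
  induction t using TensorProduct.induction_on with
  | zero => simp only [map_zero]
  | tmul a b =>
    obtain ⟨U, hU, n, m, rfl, rfl⟩ := exists_rep₂ (valObj O N) (valObj O M) x a b
    rw [LinearMap.rTensor_tmul, smₗ_apply, sm_gm, Psi_gm, Psi_gm, smₗ_apply, sm_gm]
    congr 1
    exact (shfUnit_naturality_apply O (valHom O f ▷ valObj O M) U (n ⊗ₜ[O.obj.obj (op U)] m)).symm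
  | add t t' ht ht' => simp only [map_add, ht, ht']

/-- naturality of `Ψ` in the second variable. -/
lemma Psi_naturality_right {M' : ModSite.Mod O} (f : M ⟶ M')
    (t : St (valObj O N) x ⊗[Ox O x] St (valObj O M) x) :
    Psi O x N M' ((smₗ (valHom O f) x).lTensor (St (valObj O N) x) t) =
      smₗ (valHom O (((ModSite.tensorBi O).obj N).map f)) x (Psi O x N M t) := by
  induction t using TensorProduct.induction_on with
  | zero => simp only [map_zero]
  | tmul a b =>
    obtain ⟨U, hU, n, m, rfl, rfl⟩ := exists_rep₂ (valObj O N) (valObj O M) x a b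
    rw [LinearMap.lTensor_tmul, smₗ_apply, sm_gm, Psi_gm, Psi_gm, smₗ_apply, sm_gm]
    congr 1
    exact (shfUnit_naturality_apply O (valObj O N ◁ valHom O f) U (n ⊗ₜ[O.obj.obj (op U)] m)).symm
  | add t t' ht ht' => simp only [map_add, ht, ht']

end Sheafify

end Groth.Agent.H57.StalkTensorIso
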