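import Mathlib
import Groth.Prelude.Def_DCoh4
import Groth.Prelude.Def_DerSch
import Groth.Agent.H57.StalkTensorIso

/-!
# The stalk of a tensor product of O_X-modules on a scheme (helper57)
-/

set_option autoImplicit false

open CategoryTheory Limits TopologicalSpace Opposite MonoidalCategory TensorProduct AlgebraicGeometry

universe u

namespace Groth.Agent.H57.StalkTensorSch

open Groth.Agent.Lib.Helper5.StalkTensor Groth.Agent.Lib.Helper30.ModTensor
  Groth.Agent.Lib.Helper30.ModTensorAdj Groth.Agent.H57.StalkTensorIso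

variable {X : Scheme.{u}} (x : X)

/-- the inverse comparison map, as a morphism of `O_x`-modules. -/
noncomputable def eInv (N M : X.Modules) :
    (DerSch.stalkFunctor X x).obj N ⊗ (DerSch.stalkFunctor X x).obj M ⟶
      (DerSch.stalkFunctor X x).obj ((DCoh.tensorBi.obj N).obj M) :=
  ModuleCat.ofHom (Psi X.sheaf x N M)

lemma eInv_bijective (N M : X.Modules) : Function.Bijective (eInv x N M).hom :=
  Psi_bijective X.sheaf x N M

instance (N M : X.Modules) : IsIso (eInv x N M) :=
  (ConcreteCategory.isIso_iff_bijective _).2 (eInv_bijective x N M)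

lemma eInv_naturality_left {N N' : X.Modules} (f : N ⟶ N') (M : X.Modules) :
    ((DerSch.stalkFunctor X x).map f ▷ (DerSch.stalkFunctor X x).obj M) ≫ eInv x N' M =
      eInv x N M ≫ (DerSch.stalkFunctor X x).map ((DCoh.tensorBi.map f).app M) := by
  ext t
  exact Psi_naturality_left X.sheaf x f t

lemma eInv_naturality_right (N : X.Modules) {M M' : X.Modules} (f : M ⟶ M') :
    ((DerSch.stalkFunctor X x).obj N ◁ (DerSch.stalkFunctor X x).map f) ≫ eInv x N M' =
      eInv x N M ≫ (DerSch.stalkFunctor X x).map ((DCoh.tensorBi.obj N).map f) := by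
  ext t
  exact Psi_naturality_right X.sheaf x f t

/-- the stalk of a tensor product is the tensor product of the stalks. -/
noncomputable def e (N M : X.Modules) :
    (DerSch.stalkFunctor X x).obj ((DCoh.tensorBi.obj N).obj M) ≅
      (DerSch.stalkFunctor X x).obj N ⊗ (DerSch.stalkFunctor X x).obj M :=
  (asIso (eInv x N M)).symm

lemma e_naturality_left {N N' : X.Modules} (f : N ⟶ N') (M : X.Modules) :
    (DerSch.stalkFunctor X x).map ((DCoh.tensorBi.map f).app M) ≫ (e x N' M).hom =
      (e x N M).hom ≫ ((DerSch.stalkFunctor X x).map f ▷ (DerSch.stalkFunctor X x).obj M) := by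
  rw [← cancel_epi (eInv x N M), ← Category.assoc, ← eInv_naturality_left]
  simp [e]

lemma e_naturality_right (N : X.Modules) {M M' : X.Modules} (f : M ⟶ M') :
    (DerSch.stalkFunctor X x).map ((DCoh.tensorBi.obj N).map f) ≫ (e x N M').hom =
      (e x N M).hom ≫ ((DerSch.stalkFunctor X x).obj N ◁ (DerSch.stalkFunctor X x).map f) := by
  rw [← cancel_epi (eInv x N M), ← Category.assoc, ← eInv_naturality_right]
  simp [e]

end Groth.Agent.H57.StalkTensorSch
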