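import Mathlib

/-!
# A functor applied to a total complex, general form (helper57)

Generalisation of helper5's `TotMapFunctor.mapTotIso`: given bifunctors `G : C₁ ⥤ C₂ ⥤ D`,
`G' : C₁' ⥤ C₂' ⥤ D'`, an additive functor `Φ : D ⥤ D'` preserving the relevant coproducts, complexes
`L₁, L₂` (for `G`) and `M₁, M₂` (for `G'`) and isomorphisms
`e p q : Φ (G(L₁^p, L₂^q)) ≅ G'(M₁^p, M₂^q)` compatible with both differentials, we construct an
isomorphism of complexes `Φ (Tot_G(L₁, L₂)) ≅ Tot_{G'}(M₁, M₂)`.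
-/

set_option autoImplicit false
set_option linter.unusedSectionVars false
open CategoryTheory Limits HomologicalComplex

namespace Groth.Agent.H57.TotIso

variable {C₁ C₁' C₂ C₂' D D' : Type*} [Category C₁] [Category C₁'] [Category C₂] [Category C₂']
  [Category D] [Category D']
  [HasZeroMorphisms C₁] [HasZeroMorphisms C₁'] [HasZeroMorphisms C₂] [HasZeroMorphisms C₂']
  [Preadditive D] [Preadditive D']
  (G : C₁ ⥤ C₂ ⥤ D) [G.PreservesZeroMorphisms] [∀ X, (G.obj X).PreservesZeroMorphisms]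
  (G' : C₁' ⥤ C₂' ⥤ D') [G'.PreservesZeroMorphisms] [∀ X, (G'.obj X).PreservesZeroMorphisms]
  (Φ : D ⥤ D') [Φ.Additive]
  {I₁ I₂ I : Type*} {c₁ : ComplexShape I₁} {c₂ : ComplexShape I₂} (c : ComplexShape I)
  [TotalComplexShape c₁ c₂ c] [DecidableEq I]
  (L₁ : HomologicalComplex C₁ c₁) (L₂ : HomologicalComplex C₂ c₂)
  (M₁ : HomologicalComplex C₁' c₁) (M₂ : HomologicalComplex C₂' c₂)
  (e : ∀ (p : I₁) (q : I₂), Φ.obj ((G.obj (L₁.X p)).obj (L₂.X q)) ≅ (G'.obj (M₁.X p)).obj (M₂.X q))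
  (he₁ : ∀ (p p' : I₁) (q : I₂),
    Φ.map ((G.map (L₁.d p p')).app (L₂.X q)) ≫ (e p' q).hom =
      (e p q).hom ≫ (G'.map (M₁.d p p')).app (M₂.X q))
  (he₂ : ∀ (p : I₁) (q q' : I₂),
    Φ.map ((G.obj (L₁.X p)).map (L₂.d q q')) ≫ (e p q').hom =
      (e p q).hom ≫ (G'.obj (M₁.X p)).map (M₂.d q q'))
  [HasMapBifunctor L₁ L₂ G c] [HasMapBifunctor M₁ M₂ G' c]
  [∀ n : I, PreservesColimitsOfShape (Discrete (ComplexShape.π c₁ c₂ c ⁻¹' {n})) Φ]

/-- the graded object underlying the bicomplex `G(L₁, L₂)`. -/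
noncomputable abbrev gr : GradedObject (I₁ × I₂) D :=
  (((G.mapBifunctorHomologicalComplex c₁ c₂).obj L₁).obj L₂).toGradedObject

/-- the graded object underlying the bicomplex `G'(M₁, M₂)`. -/
noncomputable abbrev gr' : GradedObject (I₁ × I₂) D' :=
  (((G'.mapBifunctorHomologicalComplex c₁ c₂).obj M₁).obj M₂).toGradedObject

/-- the isomorphism `Φ (Tot_G(L₁, L₂)^n) ≅ Tot_{G'}(M₁, M₂)^n`. -/
noncomputable def xIso (n : I) :
    Φ.obj ((mapBifunctor L₁ L₂ G c).X n) ≅ (mapBifunctor M₁ M₂ G' c).X n :=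
  IsColimit.coconePointsIsoOfNatIso
    (isColimitOfPreserves Φ ((gr G L₁ L₂).isColimitCofanMapObj (ComplexShape.π c₁ c₂ c) n))
    ((gr' G' M₁ M₂).isColimitCofanMapObj (ComplexShape.π c₁ c₂ c) n)
    (Discrete.natIso (fun j => e j.as.1.1 j.as.1.2))

omit [Φ.Additive] in
lemma map_ι_xIso_hom (p : I₁) (q : I₂) (n : I) (h : ComplexShape.π c₁ c₂ c (p, q) = n) :
    Φ.map (ιMapBifunctor L₁ L₂ G c p q n h) ≫ (xIso G G' Φ c L₁ L₂ M₁ M₂ e n).hom =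
      (e p q).hom ≫ ιMapBifunctor M₁ M₂ G' c p q n h :=
  IsColimit.comp_coconePointsIsoOfNatIso_hom
    (isColimitOfPreserves Φ ((gr G L₁ L₂).isColimitCofanMapObj (ComplexShape.π c₁ c₂ c) n))
    ((gr' G' M₁ M₂).isColimitCofanMapObj (ComplexShape.π c₁ c₂ c) n)
    (Discrete.natIso (fun j => e j.as.1.1 j.as.1.2)) ⟨⟨(p, q), h⟩⟩

include he₁ in
lemma map_d₁_xIso_hom (p : I₁) (q : I₂) (n' : I) :
    Φ.map (mapBifunctor.d₁ L₁ L₂ G c p q n') ≫ (xIso G G' Φ c L₁ L₂ M₁ M₂ e n').hom =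
      (e p q).hom ≫ mapBifunctor.d₁ M₁ M₂ G' c p q n' := by
  by_cases h : c₁.Rel p (c₁.next p)
  · by_cases h' : ComplexShape.π c₁ c₂ c (c₁.next p, q) = n'
    · rw [mapBifunctor.d₁_eq _ _ _ _ h q n' h', mapBifunctor.d₁_eq _ _ _ _ h q n' h',
        Functor.map_units_smul, Functor.map_comp, Linear.units_smul_comp, Linear.comp_units_smul,
        Category.assoc, map_ι_xIso_hom, ← Category.assoc, he₁, Category.assoc]
    · rw [mapBifunctor.d₁_eq_zero' _ _ _ _ h q n' h', mapBifunctor.d₁_eq_zero' _ _ _ _ h q n' h',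
        Functor.map_zero, zero_comp, comp_zero]
  · rw [mapBifunctor.d₁_eq_zero _ _ _ _ _ _ _ h, mapBifunctor.d₁_eq_zero _ _ _ _ _ _ _ h,
      Functor.map_zero, zero_comp, comp_zero]

include he₂ in
lemma map_d₂_xIso_hom (p : I₁) (q : I₂) (n' : I) :
    Φ.map (mapBifunctor.d₂ L₁ L₂ G c p q n') ≫ (xIso G G' Φ c L₁ L₂ M₁ M₂ e n').hom =
      (e p q).hom ≫ mapBifunctor.d₂ M₁ M₂ G' c p q n' := by
  by_cases h : c₂.Rel q (c₂.next q)
  · by_cases h' : ComplexShape.π c₁ c₂ c (p, c₂.next q) = n'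
    · rw [mapBifunctor.d₂_eq _ _ _ _ p h n' h', mapBifunctor.d₂_eq _ _ _ _ p h n' h',
        Functor.map_units_smul, Functor.map_comp, Linear.units_smul_comp, Linear.comp_units_smul,
        Category.assoc, map_ι_xIso_hom, ← Category.assoc, he₂, Category.assoc]
    · rw [mapBifunctor.d₂_eq_zero' _ _ _ _ p h n' h', mapBifunctor.d₂_eq_zero' _ _ _ _ p h n' h',
        Functor.map_zero, zero_comp, comp_zero]
  · rw [mapBifunctor.d₂_eq_zero _ _ _ _ _ _ _ h, mapBifunctor.d₂_eq_zero _ _ _ _ _ _ _ h,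
      Functor.map_zero, zero_comp, comp_zero]

include he₁ he₂ in
lemma xIso_hom_d (n n' : I) :
    (xIso G G' Φ c L₁ L₂ M₁ M₂ e n).hom ≫ (mapBifunctor M₁ M₂ G' c).d n n' =
      Φ.map ((mapBifunctor L₁ L₂ G c).d n n') ≫ (xIso G G' Φ c L₁ L₂ M₁ M₂ e n').hom := by
  apply (isColimitOfPreserves Φ
    ((gr G L₁ L₂).isColimitCofanMapObj (ComplexShape.π c₁ c₂ c) n)).hom_ext
  rintro ⟨⟨⟨p, q⟩, h0⟩⟩
  have h : ComplexShape.π c₁ c₂ c (p, q) = n := h0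
  change Φ.map (ιMapBifunctor L₁ L₂ G c p q n h) ≫
      (xIso G G' Φ c L₁ L₂ M₁ M₂ e n).hom ≫ (mapBifunctor M₁ M₂ G' c).d n n' =
    Φ.map (ιMapBifunctor L₁ L₂ G c p q n h) ≫
      Φ.map ((mapBifunctor L₁ L₂ G c).d n n') ≫ (xIso G G' Φ c L₁ L₂ M₁ M₂ e n').hom
  have hL : ιMapBifunctor M₁ M₂ G' c p q n h ≫ (mapBifunctor M₁ M₂ G' c).d n n' =
      mapBifunctor.d₁ M₁ M₂ G' c p q n' + mapBifunctor.d₂ M₁ M₂ G' c p q n' := by
    rw [mapBifunctor.d_eq, Preadditive.comp_add, mapBifunctor.ι_D₁, mapBifunctor.ι_D₂]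
  have hR : ιMapBifunctor L₁ L₂ G c p q n h ≫ (mapBifunctor L₁ L₂ G c).d n n' =
      mapBifunctor.d₁ L₁ L₂ G c p q n' + mapBifunctor.d₂ L₁ L₂ G c p q n' := by
    rw [mapBifunctor.d_eq, Preadditive.comp_add, mapBifunctor.ι_D₁, mapBifunctor.ι_D₂]
  rw [← Category.assoc, map_ι_xIso_hom, Category.assoc, hL, ← Category.assoc (Φ.map _),
    ← Φ.map_comp, hR, Φ.map_add, Preadditive.add_comp,
    map_d₁_xIso_hom G G' Φ c L₁ L₂ M₁ M₂ e he₁, map_d₂_xIso_hom G G' Φ c L₁ L₂ M₁ M₂ e he₂,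
    Preadditive.comp_add]

/-- the isomorphism of complexes `Φ (Tot_G(L₁, L₂)) ≅ Tot_{G'}(M₁, M₂)`. -/
noncomputable def mapTotIso :
    (Φ.mapHomologicalComplex c).obj (mapBifunctor L₁ L₂ G c) ≅ mapBifunctor M₁ M₂ G' c :=
  HomologicalComplex.Hom.isoOfComponents (fun n => xIso G G' Φ c L₁ L₂ M₁ M₂ e n)
    (fun n n' _ => xIso_hom_d G G' Φ c L₁ L₂ M₁ M₂ e he₁ he₂ n n')

end Groth.Agent.H57.TotIso
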