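import Mathlib
import Groth.Prelude.Def_DCoh4
import Groth.Prelude.Def_DerSch
import Groth.Prelude.Def_KFlatSite
import Groth.Agent.H57.StalkTensorSch
import Groth.Agent.H57.TotIso
import Groth.Agent.Lib.Helper30.StalkExactF
import Groth.Agent.Lib.Helper28.SkyMod

/-!
# K-flat complexes of O_X-modules and their stalks (helper57)
-/

set_option autoImplicit false

open CategoryTheory Limits TopologicalSpace Opposite MonoidalCategory AlgebraicGeometry

universe u

namespace Groth.Agent.H57.StalkKFlat

section General

variable {C D : Type*} [Category C] [Category D] [Abelian C] [Abelian D]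
  {ι : Type*} {c : ComplexShape ι}

/-- homology of the image of a complex under an exact functor. -/
noncomputable def mapHomologyIso (F : C ⥤ D) [F.Additive] [F.PreservesHomology]
    (K : HomologicalComplex C c) (i : ι) :
    ((F.mapHomologicalComplex c).obj K).homology i ≅ F.obj (K.homology i) :=
  (K.sc i).mapHomologyIso F

lemma isZero_homology_map (F : C ⥤ D) [F.Additive] [F.PreservesHomology]
    (K : HomologicalComplex C c) (i : ι) (h : IsZero (K.homology i)) :
    IsZero (((F.mapHomologicalComplex c).obj K).homology i) :=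
  (F.map_isZero h).of_iso (mapHomologyIso F K i)

lemma isZero_homology_of_iso {K L : HomologicalComplex C c} (e : K ≅ L) (i : ι)
    (h : IsZero (K.homology i)) : IsZero (L.homology i) :=
  h.of_iso ((HomologicalComplex.homologyFunctor C c i).mapIso e).symm

end General

variable {X : Scheme.{u}}

open Groth.Agent.Lib.Helper30.StalkExactF

instance (x : X) : (DerSch.stalkFunctor X x).PreservesHomology := inferInstance

/-- an `O_X`-module all of whose stalks vanish is zero. -/
lemma isZero_of_stalks (M : X.Modules) (h : ∀ x : X, IsZero ((DerSch.stalkFunctor X x).obj M)) :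
    IsZero M := by
  rw [IsZero.iff_id_eq_zero]
  apply Scheme.Modules.hom_ext
  intro U
  ext s
  change s = 0
  refine TopCat.Presheaf.section_ext ⟨M.presheaf, M.isSheaf⟩ U s 0 (fun y hy => ?_)
  have hs : Subsingleton ((DerSch.stalkFunctor X y).obj M) :=
    (ModuleCat.isZero_iff_subsingleton).1 (h y)
  exact @Subsingleton.elim _ hs (M.presheaf.germ U y hy s) (M.presheaf.germ U y hy 0)

variable (x : X)

/-- the complex of stalks. -/
noncomputable abbrev stalkCx (L : CochainComplex X.Modules ℤ) :
    CochainComplex (ModuleCat.{u} (X.presheaf.stalk x)) ℤ :=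
  ((DerSch.stalkFunctor X x).mapHomologicalComplex (ComplexShape.up ℤ)).obj L

/-- the stalk of a total tensor complex is the total tensor complex of the stalks. -/
noncomputable def stalkTotIso (L F : CochainComplex X.Modules ℤ) :
    stalkCx x ((DCoh.tensorCx.obj L).obj F) ≅ stalkCx x L ⊗ stalkCx x F :=
  Groth.Agent.H57.TotIso.mapTotIso (DCoh.tensorBi (X := X))
    (curriedTensor (ModuleCat.{u} (X.presheaf.stalk x))) (DerSch.stalkFunctor X x)
    (ComplexShape.up ℤ) L F (stalkCx x L) (stalkCx x F)
    (fun p q => Groth.Agent.H57.StalkTensorSch.e x (L.X p) (F.X q))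
    (fun p p' q => Groth.Agent.H57.StalkTensorSch.e_naturality_left x (L.d p p') (F.X q))
    (fun p q q' => Groth.Agent.H57.StalkTensorSch.e_naturality_right x (L.X p) (F.d q q'))

/-- a complex with K-flat stalks is K-flat. -/
theorem isKFlat_of_stalks (F : CochainComplex X.Modules ℤ)
    (h : ∀ x : X, DRing.IsKFlat (X.presheaf.stalk x) (stalkCx x F)) : DCoh.IsKFlat F := by
  intro L hL i
  apply isZero_of_stalks
  intro x
  refine IsZero.of_iso ?_ (mapHomologyIso (DerSch.stalkFunctor X x) _ i).symm
  refine isZero_homology_of_iso (stalkTotIso x L F).symm i ?_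
  exact h x (stalkCx x L) (fun j => isZero_homology_map _ L j (hL j)) i

/-! ### The skyscraper functor -/

open Groth.Agent.Lib.Helper28.SkyMod

instance : (skyFunctor x).IsRightAdjoint := (stalkSkyAdj x).isRightAdjoint

instance : (skyFunctor x).Additive := (stalkSkyAdj x).right_adjoint_additive

/-- the skyscraper functor preserves epimorphisms. -/
instance : (skyFunctor x).PreservesEpimorphisms where
  preserves {N N'} g hg := by
    have hsurj : Function.Surjective g.hom := (ModuleCat.epi_iff_surjective g).1 hg
    apply Preadditive.epi_of_cancel_zero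
    intro Q h hh
    apply Scheme.Modules.hom_ext
    intro U
    ext s'
    change h.app U s' = 0
    by_cases hx : x ∈ U
    · obtain ⟨n, hn⟩ := hsurj (Sec.ev (x := x) (N := N') (U := U) s' hx)
      let s : Sec x N U := Sec.mk fun _ => n
      have hs : ((skyFunctor x).map g).app U s = s' := by
        apply Sec.ext (x := x) (N := N')
        intro hx'
        exact hn
      rw [← hs]
      have := congrArg (fun φ => φ.app U s) hh
      exact this
    · have hs : s' = 0 := by
        apply Sec.ext (x := x) (N := N')
        intro hx'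
        exact absurd hx' hx
      rw [hs]
      exact map_zero _

instance : (skyFunctor x).PreservesHomology :=
  Functor.preservesHomology_of_preservesEpis_and_kernels _

/-- the counit of the stalk-skyscraper adjunction on germs. -/
lemma counit_app_germ (N : ModuleCat.{u} (X.presheaf.stalk x)) (U : X.Opens) (hx : x ∈ U)
    (s : Sec x N U) :
    ((stalkSkyAdj x).counit.app N).hom ((sky x N).presheaf.germ U x hx s) =
      Sec.ev (x := x) (N := N) (U := U) s hx := by
  have h : (stalkSkyAdj x).counit.app N = fromSky (N := N) (𝟙 (sky x N)) := by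
    rw [← Adjunction.homEquiv_symm_id]
    unfold stalkSkyAdj
    rw [Adjunction.mkOfHomEquiv_homEquiv]
    rfl
  rw [h]
  exact fromSky_germ (N := N) (𝟙 (sky x N)) U hx s

lemma counit_app_bijective (N : ModuleCat.{u} (X.presheaf.stalk x)) :
    Function.Bijective ((stalkSkyAdj x).counit.app N).hom := by
  constructor
  · rw [injective_iff_map_eq_zero]
    intro a ha
    obtain ⟨U, hxU, s, rfl⟩ := TopCat.Presheaf.exists_germ_eq (sky x N).presheaf a
    have h1 := counit_app_germ x N U hxU s
    have h2 : Sec.ev (x := x) (N := N) (U := U) s hxU = 0 := h1.symm.trans ha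
    have hs : s = 0 := by
      apply Sec.ext (x := x) (N := N)
      intro hx'
      exact h2
    rw [hs]
    exact map_zero _
  · intro n
    refine ⟨(sky x N).presheaf.germ ⊤ x trivial (Sec.mk fun _ => n), ?_⟩
    exact counit_app_germ x N ⊤ trivial _

instance (N : ModuleCat.{u} (X.presheaf.stalk x)) : IsIso ((stalkSkyAdj x).counit.app N) :=
  (ConcreteCategory.isIso_iff_bijective _).2 (counit_app_bijective x N)

/-- the skyscraper complex. -/
noncomputable abbrev skyCx (M : CochainComplex (ModuleCat.{u} (X.presheaf.stalk x)) ℤ) :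
    CochainComplex X.Modules ℤ :=
  ((skyFunctor x).mapHomologicalComplex (ComplexShape.up ℤ)).obj M

/-- the counit isomorphism. -/
noncomputable abbrev εIso (N : ModuleCat.{u} (X.presheaf.stalk x)) :
    (DerSch.stalkFunctor X x).obj ((skyFunctor x).obj N) ≅ N :=
  asIso ((stalkSkyAdj x).counit.app N)

lemma εIso_naturality {N N' : ModuleCat.{u} (X.presheaf.stalk x)} (g : N ⟶ N') :
    (DerSch.stalkFunctor X x).map ((skyFunctor x).map g) ≫ (εIso x N').hom =
      (εIso x N).hom ≫ g :=
  (stalkSkyAdj x).counit.naturality g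

/-- the termwise isomorphism `(sky(M^p) ⊗ F^q)_x ≅ M^p ⊗ F^q_x`. -/
noncomputable def e' (N : ModuleCat.{u} (X.presheaf.stalk x)) (G : X.Modules) :
    (DerSch.stalkFunctor X x).obj ((DCoh.tensorBi.obj ((skyFunctor x).obj N)).obj G) ≅
      N ⊗ (DerSch.stalkFunctor X x).obj G :=
  Groth.Agent.H57.StalkTensorSch.e x ((skyFunctor x).obj N) G ≪≫
    whiskerRightIso (εIso x N) ((DerSch.stalkFunctor X x).obj G)

lemma e'_hom (N : ModuleCat.{u} (X.presheaf.stalk x)) (G : X.Modules) :
    (e' x N G).hom = (Groth.Agent.H57.StalkTensorSch.e x ((skyFunctor x).obj N) G).hom ≫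
      ((εIso x N).hom ▷ (DerSch.stalkFunctor X x).obj G) := rfl

lemma e'_naturality_left {N N' : ModuleCat.{u} (X.presheaf.stalk x)} (g : N ⟶ N')
    (G : X.Modules) :
    (DerSch.stalkFunctor X x).map ((DCoh.tensorBi.map ((skyFunctor x).map g)).app G) ≫
        (e' x N' G).hom =
      (e' x N G).hom ≫ (g ▷ (DerSch.stalkFunctor X x).obj G) := by
  rw [e'_hom, e'_hom, ← Category.assoc, Groth.Agent.H57.StalkTensorSch.e_naturality_left,
    Category.assoc, Category.assoc, ← comp_whiskerRight, ← comp_whiskerRight, εIso_naturality]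

lemma e'_naturality_right (N : ModuleCat.{u} (X.presheaf.stalk x)) {G G' : X.Modules}
    (f : G ⟶ G') :
    (DerSch.stalkFunctor X x).map ((DCoh.tensorBi.obj ((skyFunctor x).obj N)).map f) ≫
        (e' x N G').hom =
      (e' x N G).hom ≫ (N ◁ (DerSch.stalkFunctor X x).map f) := by
  rw [e'_hom, e'_hom, ← Category.assoc, Groth.Agent.H57.StalkTensorSch.e_naturality_right,
    Category.assoc, Category.assoc, whisker_exchange]

/-- the stalk of `sky(M) ⊗ F` is `M ⊗ F_x`. -/
noncomputable def stalkSkyTotIso (M : CochainComplex (ModuleCat.{u} (X.presheaf.stalk x)) ℤ)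
    (F : CochainComplex X.Modules ℤ) :
    stalkCx x ((DCoh.tensorCx.obj (skyCx x M)).obj F) ≅ M ⊗ stalkCx x F :=
  Groth.Agent.H57.TotIso.mapTotIso (DCoh.tensorBi (X := X))
    (curriedTensor (ModuleCat.{u} (X.presheaf.stalk x))) (DerSch.stalkFunctor X x)
    (ComplexShape.up ℤ) (skyCx x M) F M (stalkCx x F)
    (fun p q => e' x (M.X p) (F.X q))
    (fun p p' q => e'_naturality_left x (M.d p p') (F.X q))
    (fun p q q' => e'_naturality_right x (M.X p) (F.d q q'))

/-- the stalks of a K-flat complex are K-flat. -/
theorem isKFlat_stalk (F : CochainComplex X.Modules ℤ) (hF : DCoh.IsKFlat F) :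
    DRing.IsKFlat (X.presheaf.stalk x) (stalkCx x F) := by
  intro M hM i
  have h1 : ∀ j, IsZero ((skyCx x M).homology j) :=
    fun j => isZero_homology_map (skyFunctor x) M j (hM j)
  have h2 := hF (skyCx x M) h1
  have h3 := isZero_homology_map (DerSch.stalkFunctor X x) _ i (h2 i)
  exact isZero_homology_of_iso (stalkSkyTotIso x M F) i h3

end Groth.Agent.H57.StalkKFlat
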