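import Mathlib
import Groth.Prelude.Def_DerSch
import Groth.Agent.Lib.Helper28.SkyMod

/-!
# The stalk of `M~` as an extension of scalars (helper57)

`tilde.functor R ⋙ stalkFunctor (Spec R) x ≅ extendScalars (R → O_{Spec R, x})`, by uniqueness of
left adjoints.
-/

set_option autoImplicit false

open CategoryTheory Limits TopologicalSpace Opposite AlgebraicGeometry

universe u

namespace Groth.Agent.H57.TildeStalkIso

open Groth.Agent.Lib.Helper28.SkyMod

variable (R : CommRingCat.{u}) (x : Spec R)

/-- the ring map `R → O_{Spec R, x}`. -/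
noncomputable def φ : R ⟶ (Spec R).presheaf.stalk x :=
  (Scheme.ΓSpecIso R).inv ≫ (Spec R).presheaf.germ ⊤ x trivial

variable {R x} in
lemma smul_ev (N : ModuleCat.{u} ((Spec R).presheaf.stalk x)) (r : R)
    (s : (moduleSpecΓFunctor.obj ((skyFunctor x).obj N) : Type u)) :
    Sec.ev (x := x) (N := N) (U := ⊤) (r • s : (moduleSpecΓFunctor.obj ((skyFunctor x).obj N) : Type u)) trivial =
      (φ R x).hom r • Sec.ev (x := x) (N := N) (U := ⊤) s trivial := by
  let s' : Sec x N ⊤ := s
  have h1 : (r • s : (moduleSpecΓFunctor.obj ((skyFunctor x).obj N) : Type u)) =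
      (((Spec R).presheaf.map (⊤ : (Spec R).Opens).leTop.op) ((Scheme.ΓSpecIso R).inv r) •
        s' : Sec x N ⊤) := rfl
  rw [h1, Sec.smul_ev]
  rfl

/-- global sections of a skyscraper module. -/
noncomputable def ρEquiv (N : ModuleCat.{u} ((Spec R).presheaf.stalk x)) :
    ((moduleSpecΓFunctor.obj ((skyFunctor x).obj N) : ModuleCat.{u} R) : Type u) ≃ₗ[R]
      (((ModuleCat.restrictScalars (φ R x).hom).obj N : ModuleCat.{u} R) : Type u) :=
    { toFun := fun s => Sec.ev (x := x) (N := N) (U := ⊤) s trivial
      map_add' := fun s t => rfl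
      map_smul' := fun r s => smul_ev N r s
      invFun := fun n => (Sec.mk (x := x) (N := N) (U := ⊤) fun _ => n)
      left_inv := fun s => by
        apply Sec.ext (x := x) (N := N)
        intro hx
        rfl
      right_inv := fun n => rfl }

/-- global sections of a skyscraper module, as an isomorphism. -/
noncomputable def ρ (N : ModuleCat.{u} ((Spec R).presheaf.stalk x)) :
    (skyFunctor x ⋙ moduleSpecΓFunctor).obj N ≅ (ModuleCat.restrictScalars (φ R x).hom).obj N :=
  (ρEquiv R x N).toModuleIso

/-- `Γ ∘ sky_x` is the restriction of scalars along `R → O_x`. -/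
noncomputable def ρIso :
    skyFunctor x ⋙ moduleSpecΓFunctor ≅ ModuleCat.restrictScalars (φ R x).hom :=
  NatIso.ofComponents (fun N => ρ R x N) (fun {N N'} g => by
    ext s
    rfl)

/-- the stalk of `M~` at `x` is the extension of scalars of `M` along `R → O_x`. -/
noncomputable def tildeStalkIso :
    tilde.functor R ⋙ DerSch.stalkFunctor (Spec R) x ≅ ModuleCat.extendScalars (φ R x).hom :=
  Adjunction.leftAdjointUniq
    ((tilde.adjunction.comp (stalkSkyAdj x)).ofNatIsoRight (ρIso R x))
    (ModuleCat.extendRestrictScalarsAdj (φ R x).hom)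

end Groth.Agent.H57.TildeStalkIso
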