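import Mathlib
import Groth.Agent.H57.StalkKFlat
import Groth.Agent.H57.TildeStalkIso
import Groth.Agent.S6906

/-!
# `K~` is K-flat when `K` is (helper57)
-/

set_option autoImplicit false

open CategoryTheory Limits TopologicalSpace Opposite MonoidalCategory AlgebraicGeometry

universe u

namespace Groth.Agent.H57.TildeKFlat

open Groth.Agent.H57.StalkKFlat Groth.Agent.H57.TildeStalkIso

/-- K-flatness is invariant under isomorphisms of complexes. -/
lemma isKFlat_of_iso {A : Type u} [CommRing A] {K₁ K₂ : DRing.Cx A} (e : K₁ ≅ K₂)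
    (h : DRing.IsKFlat A K₂) : DRing.IsKFlat A K₁ := fun M hM i =>
  isZero_homology_of_iso (whiskerLeftIso M e).symm i (h M hM i)

theorem tilde_isKFlat (R : CommRingCat.{u}) (K : DRing.Cx R) (hK : DRing.IsKFlat R K) :
    DCoh.IsKFlat (((tilde.functor R).mapHomologicalComplex (ComplexShape.up ℤ)).obj K) := by
  apply isKFlat_of_stalks
  intro x
  let e : stalkCx x (((tilde.functor R).mapHomologicalComplex (ComplexShape.up ℤ)).obj K) ≅
      ((ModuleCat.extendScalars (φ R x).hom).mapHomologicalComplex (ComplexShape.up ℤ)).obj K :=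
    (NatIso.mapHomologicalComplex (tildeStalkIso R x) (ComplexShape.up ℤ)).app K
  refine isKFlat_of_iso e ?_
  exact Groth.Agent.S6906.result R ((Spec R).presheaf.stalk x) (φ R x).hom K hK

end Groth.Agent.H57.TildeKFlat
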