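import Mathlib
import Groth.Prelude.Def_DCoh4
import Groth.Agent.H57.PerfTensor
import Groth.Agent.H57.TildeKFlat
import Groth.Agent.H57.DerCoprodSch
import Groth.Agent.H57.StalkKFlat
import Groth.Agent.Lib.Helper28.KFlatRes
import Groth.Agent.Lib.Helper30.TildeTAmp
import Groth.Agent.Lib.Helper49.QCohLocal
import Groth.Agent.Lib.Helper11.TensorQCoh

/-!
# Quasi-coherence of derived tensor products (helper57)

Everything is proved under the hypothesis `ES`: on an affine scheme, every object of `D(O_X)` with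
quasi-coherent cohomology sheaves is in the essential image of `tildeD` (third part of S0997).
-/

set_option autoImplicit false
universe u
open CategoryTheory CategoryTheory.Limits AlgebraicGeometry HomologicalComplex
attribute [local instance] HasDerivedCategory.standard

namespace Groth.Agent.H57.QCohTensor

open Groth.Agent.Lib.Helper30.PerfRestrict Groth.Agent.Lib.Helper28 Groth.Agent.Lib.Helper49
  Groth.Agent.H57.PerfTensor

/-- the essential surjectivity hypothesis (part of S0997). -/
def ES : Prop :=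
  ∀ (R : CommRingCat.{u}) [PreservesFiniteLimits (tilde.functor R)]
    (K : DCoh.D (Spec (CommRingCat.of R))), DCoh.IsQCohD K →
      ∃ M, Nonempty ((DCoh.tildeD R).obj M ≅ K)

section General

variable {X : Scheme.{u}}

/-- the homology of a complex with quasi-coherent terms is quasi-coherent. -/
theorem isQCoh_homology_of_terms (C : CochainComplex X.Modules ℤ)
    (hC : ∀ n : ℤ, (C.X n).IsQuasicoherent) (i : ℤ) : (C.homology i).IsQuasicoherent := by
  have h1 : (kernel (C.sc i).g).IsQuasicoherent := isQuasicoherent_kernel _ (hC _) (hC _)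
  have h2 : (cokernel (kernel.lift (C.sc i).g (C.sc i).f (C.sc i).zero)).IsQuasicoherent :=
    isQuasicoherent_cokernel _ (hC _) h1
  exact isQuasicoherent_of_iso (C.sc i).homologyIsoCokernelLift.symm h2

/-- isomorphic objects of the derived category have isomorphic homology. -/
noncomputable def homologyIsoOfQIso {A B : CochainComplex X.Modules ℤ}
    (e : DerivedCategory.Q.obj A ≅ DerivedCategory.Q.obj B) (i : ℤ) :
    A.homology i ≅ B.homology i :=
  ((DerivedCategory.homologyFunctorFactors X.Modules i).app A).symm ≪≫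
    (DerivedCategory.homologyFunctor X.Modules i).mapIso e ≪≫
    (DerivedCategory.homologyFunctorFactors X.Modules i).app B

/-- the point of a colimit cofan (indexed by a type in `Type`) of quasi-coherent modules is
quasi-coherent. -/
theorem isQCoh_of_isColimit_cofan {J : Type} (D : J → X.Modules) (c : Cofan D) (hc : IsColimit c)
    (hD : ∀ j, (D j).IsQuasicoherent) : c.pt.IsQuasicoherent := by
  let e : Discrete (ULift.{u} J) ≌ Discrete J := Discrete.equivalence Equiv.ulift
  have hc' := hc.whiskerEquivalence e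
  have h := isQuasicoherent_colimit (X := X) (J := Discrete (ULift.{u} J))
    (e.functor ⋙ Discrete.functor D) (fun j => hD _)
  exact isQuasicoherent_of_iso
    ((colimit.isColimit (e.functor ⋙ Discrete.functor D)).coconePointUniqueUpToIso hc') h

/-- the terms of the tensor product of two complexes with quasi-coherent terms are
quasi-coherent. -/
theorem isQCoh_tensorCx_X (T₁ T₂ : CochainComplex X.Modules ℤ)
    (h₁ : ∀ n, (T₁.X n).IsQuasicoherent) (h₂ : ∀ n, (T₂.X n).IsQuasicoherent) (n : ℤ) :
    (((DCoh.tensorCx.obj T₁).obj T₂).X n).IsQuasicoherent := by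
  let gr : GradedObject (ℤ × ℤ) X.Modules :=
    (((DCoh.tensorBi.mapBifunctorHomologicalComplex (ComplexShape.up ℤ) (ComplexShape.up ℤ)).obj
      T₁).obj T₂).toGradedObject
  have hcol := gr.isColimitCofanMapObj
    (ComplexShape.π (ComplexShape.up ℤ) (ComplexShape.up ℤ) (ComplexShape.up ℤ)) n
  refine isQCoh_of_isColimit_cofan _ _ hcol ?_
  rintro ⟨⟨p, q⟩, hpq⟩
  haveI := h₁ p
  haveI := h₂ q
  exact (Groth.Agent.Lib.Helper11.TildeTensor.isQuasicoherent_tensorMod (T₁.X p) (T₂.X q)).1

/-- quasi-coherence of the cohomology sheaves in terms of a representing complex. -/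
lemma isQCohD_Q_iff (P : CochainComplex X.Modules ℤ) :
    DCoh.IsQCohD (DerivedCategory.Q.obj P) ↔ ∀ i : ℤ, (P.homology i).IsQuasicoherent :=
  forall_congr' fun i =>
    ⟨fun h => isQuasicoherent_of_iso ((DerivedCategory.homologyFunctorFactors X.Modules i).app P) h,
      fun h => isQuasicoherent_of_iso
        ((DerivedCategory.homologyFunctorFactors X.Modules i).app P).symm h⟩

/-- restriction to an open subscheme preserves quasi-coherence of the cohomology sheaves. -/
lemma isQCohD_Q_pullCx {U : Scheme.{u}} (j : U ⟶ X) [IsOpenImmersion j]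
    (P : CochainComplex X.Modules ℤ) (h : DCoh.IsQCohD (DerivedCategory.Q.obj P)) :
    DCoh.IsQCohD (DerivedCategory.Q.obj
      ((Groth.Agent.Lib.Helper5.PullTensorIso.pullCx j).obj P)) := by
  rw [isQCohD_Q_iff] at h ⊢
  intro i
  haveI := h i
  have h1 : ((Scheme.Modules.restrictFunctor j).obj (P.homology i)).IsQuasicoherent :=
    Scheme.Modules.isQuasicoherent_restrictFunctor _ _
  have e1 := Groth.Agent.H57.StalkKFlat.mapHomologyIso (Scheme.Modules.restrictFunctor j) P i
  have e2 := (HomologicalComplex.homologyFunctor _ _ i).mapIso ((rCIsoPullCx j).app P)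
  exact isQuasicoherent_of_iso (e1.symm ≪≫ e2) h1

end General

section Main

/-- under `ES`: an object of `D_QCoh` of an affine scheme is represented by a K-flat complex with
quasi-coherent terms. -/
theorem exists_kflat_qcoh_model (hES : ES.{u}) (R : CommRingCat.{u})
    (K : DCoh.D (Spec (CommRingCat.of R))) (hK : DCoh.IsQCohD K) :
    ∃ T : CochainComplex (Spec (CommRingCat.of R)).Modules ℤ, DCoh.IsKFlat T ∧
      (∀ n, (T.X n).IsQuasicoherent) ∧ Nonempty (DerivedCategory.Q.obj T ≅ K) := by
  haveI := preservesFiniteLimits_tilde R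
  obtain ⟨M, ⟨e⟩⟩ := hES R K hK
  let M₀ := DerivedCategory.Q.objPreimage M
  let eM : DerivedCategory.Q.obj M₀ ≅ M := DerivedCategory.Q.objObjPreimageIso M
  obtain ⟨M', f, hM', -, hf, -⟩ := KFlatRes.exists_kflat_resolution M₀
  haveI : IsIso (DerivedCategory.Q.map f) :=
    (DerivedCategory.isIso_Q_map_iff_quasiIso (C := ModuleCat.{u} R) f).2 hf
  refine ⟨(Groth.Agent.Lib.Helper30.TildeTAmp.tildeCx R).obj M',
    Groth.Agent.H57.TildeKFlat.tilde_isKFlat R M' hM', fun n => ?_, ⟨?_⟩⟩
  · exact inferInstanceAs ((tilde.functor R).obj (M'.X n)).IsQuasicoherent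
  · exact (Groth.Agent.Lib.Helper30.TildeTAmp.tildeDQIso R M').symm ≪≫
      (DCoh.tildeD R).mapIso (asIso (DerivedCategory.Q.map f) ≪≫ eM) ≪≫ e

/-- **under `ES`: the derived tensor product preserves quasi-coherence of cohomology sheaves.** -/
theorem isQCohD_LTensorCx (hES : ES.{u}) (X : Scheme.{u}) (F : CochainComplex X.Modules ℤ)
    (hF : DCoh.IsQCohD (DCoh.toD X F)) [DCoh.HasLTensorCx F] (E : DCoh.D X)
    (hE : DCoh.IsQCohD E) : DCoh.IsQCohD ((DCoh.LTensorCx F).obj E) := by
  intro i
  obtain ⟨P, ⟨hP, -⟩, ⟨eP⟩⟩ := Groth.Agent.H57.DerCoprodSch.exists_kflat_rep X E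
  have hPq : DCoh.IsQCohD (DerivedCategory.Q.obj P) := fun i =>
    isQuasicoherent_of_iso ((DerivedCategory.homologyFunctor X.Modules i).mapIso eP.symm) (hE i)
  let C := (DCoh.tensorCx.obj P).obj F
  have e1 : (DCoh.LTensorCx F).obj E ≅ DerivedCategory.Q.obj C :=
    (DCoh.LTensorCx F).mapIso eP.symm ≪≫
      Groth.Agent.Lib.Helper5.LTensorCxCompute.ltensorCxIso F P hP
  have e2 : DCoh.HD ((DCoh.LTensorCx F).obj E) i ≅ C.homology i :=
    (DerivedCategory.homologyFunctor X.Modules i).mapIso e1 ≪≫
      (DerivedCategory.homologyFunctorFactors X.Modules i).app C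
  suffices h : (C.homology i).IsQuasicoherent from isQuasicoherent_of_iso e2.symm h
  refine isQuasicoherent_of_forall_fromSpec _ fun U => ?_
  have e3 := Groth.Agent.H57.StalkKFlat.mapHomologyIso
    (Scheme.Modules.restrictFunctor U.2.fromSpec) C i
  suffices h : (((rC U.2.fromSpec).obj C).homology i).IsQuasicoherent from
    isQuasicoherent_of_iso e3 h
  let pP := (Groth.Agent.Lib.Helper5.PullTensorIso.pullCx U.2.fromSpec).obj P
  let pF := (Groth.Agent.Lib.Helper5.PullTensorIso.pullCx U.2.fromSpec).obj F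
  have hpP : DCoh.IsKFlat pP := Groth.Agent.S0952.result U.2.fromSpec P hP
  obtain ⟨T₁, hT₁, hq₁, ⟨g₁⟩⟩ := exists_kflat_qcoh_model hES Γ(X, U.1)
    (DerivedCategory.Q.obj pP) (isQCohD_Q_pullCx U.2.fromSpec P hPq)
  obtain ⟨T₂, hT₂, hq₂, ⟨g₂⟩⟩ := exists_kflat_qcoh_model hES Γ(X, U.1)
    (DerivedCategory.Q.obj pF) (isQCohD_Q_pullCx U.2.fromSpec F hF)
  obtain ⟨k₂⟩ := nonempty_tensor_iso_right pP hpP g₂.symm
  obtain ⟨k₁⟩ := nonempty_tensor_iso_left T₂ hT₂ g₁.symm
  have e4 : (rC U.2.fromSpec).obj C ≅ (DCoh.tensorCx.obj pP).obj pF :=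
    (rCIsoPullCx U.2.fromSpec).app C ≪≫
      Groth.Agent.Lib.Helper5.PullTensorIso.pullTotIso U.2.fromSpec P F
  have e5 : ((rC U.2.fromSpec).obj C).homology i ≅
      ((DCoh.tensorCx.obj T₁).obj T₂).homology i :=
    (HomologicalComplex.homologyFunctor _ _ i).mapIso e4 ≪≫ homologyIsoOfQIso (k₂ ≪≫ k₁) i
  exact isQuasicoherent_of_iso e5.symm
    (isQCoh_homology_of_terms _ (isQCoh_tensorCx_X T₁ T₂ hq₁ hq₂) i)

end Main

end Groth.Agent.H57.QCohTensor
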