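import Mathlib
import Groth.Prelude.Def_DCoh4
import Groth.Agent.H57.QCohTensor
import Groth.Agent.Lib.Helper28.LpullRestrict
import Groth.Agent.Lib.Helper28.LpullComp
import Groth.Agent.Lib.Helper28.LpullTilde
import Groth.Agent.Lib.Helper35.NilTA
import Groth.Agent.Lib.Helper6.ExactDC

/-!
# Quasi-coherence of derived pullbacks (helper57)

Proved under the hypothesis `ES` of `QCohTensor` (third part of S0997).
-/

set_option autoImplicit false
universe u
open CategoryTheory CategoryTheory.Limits AlgebraicGeometry HomologicalComplex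
attribute [local instance] HasDerivedCategory.standard

namespace Groth.Agent.H57.QCohLpull

open Groth.Agent.Lib.Helper30.PerfRestrict Groth.Agent.Lib.Helper28 Groth.Agent.Lib.Helper49
  Groth.Agent.H57.QCohTensor Groth.Agent.Lib.Helper6
  Groth.Agent.Lib.Helper28.LpullCompute Groth.Agent.Lib.Helper28.LpullRestrict
  Groth.Agent.Lib.Helper28.LpullComp

/-- `tildeD M` has quasi-coherent cohomology sheaves. -/
theorem isQCohD_tildeD (R : CommRingCat.{u}) [PreservesFiniteLimits (tilde.functor R)]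
    (M : DerivedCategory (ModuleCat.{u} R)) : DCoh.IsQCohD ((DCoh.tildeD R).obj M) := by
  let M₀ := DerivedCategory.Q.objPreimage M
  let eM : DerivedCategory.Q.obj M₀ ≅ M := DerivedCategory.Q.objObjPreimageIso M
  have e : (DCoh.tildeD R).obj M ≅
      DerivedCategory.Q.obj ((Groth.Agent.Lib.Helper30.TildeTAmp.tildeCx R).obj M₀) :=
    (DCoh.tildeD R).mapIso eM.symm ≪≫ Groth.Agent.Lib.Helper30.TildeTAmp.tildeDQIso R M₀
  intro i
  refine isQuasicoherent_of_iso
    ((DerivedCategory.homologyFunctor _ i).mapIso e.symm) ?_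
  exact (isQCohD_Q_iff _).2 (fun i => isQCoh_homology_of_terms _
    (fun n => inferInstanceAs ((tilde.functor R).obj (M₀.X n)).IsQuasicoherent) i) i

/-- restriction along an open immersion preserves `D_QCoh`. -/
theorem isQCohD_restrictD {U X : Scheme.{u}} (j : U ⟶ X) [IsOpenImmersion j] (K : DCoh.D X)
    (hK : DCoh.IsQCohD K) : DCoh.IsQCohD ((DCoh.restrictD j).obj K) := by
  intro i
  haveI := hK i
  have h1 : ((Scheme.Modules.restrictFunctor j).obj (DCoh.HD K i)).IsQuasicoherent :=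
    Scheme.Modules.isQuasicoherent_restrictFunctor _ _
  exact isQuasicoherent_of_iso
    ((ExactDC.homologyIso (Scheme.Modules.restrictFunctor j) i).app K).symm h1

/-- **under `ES`: `Lf^*` preserves quasi-coherence of cohomology sheaves.** -/
theorem isQCohD_Lpull (hES : ES.{u}) {Y X : Scheme.{u}} (f : Y ⟶ X) [DCoh.HasLpull f]
    (K : DCoh.D X) (hK : DCoh.IsQCohD K) : DCoh.IsQCohD ((DCoh.Lpull f).obj K) := by
  intro i
  have key : ∀ y : Y, ∃ (U : X.Opens) (V : Y.Opens), IsAffineOpen U ∧ IsAffineOpen V ∧ y ∈ V ∧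
      V ≤ f ⁻¹ᵁ U := by
    intro y
    obtain ⟨_, ⟨U, hU, rfl⟩, hfyU, -⟩ :=
      X.isBasis_affineOpens.exists_subset_of_mem_open (Set.mem_univ (f.base y)) isOpen_univ
    obtain ⟨_, ⟨V, hV, rfl⟩, hyV, hVU⟩ :=
      Y.isBasis_affineOpens.exists_subset_of_mem_open (show y ∈ (f ⁻¹ᵁ U : Set Y) from hfyU)
        (f ⁻¹ᵁ U).2
    exact ⟨U, V, hU, hV, hyV, hVU⟩
  choose U V hU hV hyV hVU using key
  refine isQuasicoherent_of_forall_restrict _ (fun y => Spec Γ(Y, V y))
    (fun y => (hV y).fromSpec)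
    (fun y => ⟨y, by rw [(hV y).range_fromSpec]; exact hyV y⟩) (fun y => ?_)
  -- notation
  let φ : Γ(X, U y) ⟶ Γ(Y, V y) := f.appLE (U y) (V y) (hVU y)
  let g := LpullTilde.specMap φ
  let jU := (hU y).fromSpec
  let jV := (hV y).fromSpec
  have comm : g ≫ jU = jV ≫ f := IsAffineOpen.SpecMap_appLE_fromSpec f (hU y) (hV y) (hVU y)
  haveI := hasLpull jV
  haveI := hasLpull jU
  haveI := hasLpull g
  haveI := hasLpull (jV ≫ f)
  haveI := hasLpull (g ≫ jU)
  haveI := preservesFiniteLimits_tilde Γ(X, U y)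
  haveI := preservesFiniteLimits_tilde Γ(Y, V y)
  haveI := Groth.Agent.Lib.Helper35.TA.hasLBaseChange φ.hom
  obtain ⟨M, ⟨eM⟩⟩ := hES Γ(X, U y) ((DCoh.restrictD jU).obj K) (isQCohD_restrictD jU K hK)
  obtain ⟨τ⟩ := LpullTilde.nonempty_iso φ
  have e : (DCoh.restrictD jV).obj ((DCoh.Lpull f).obj K) ≅
      (DCoh.tildeD Γ(Y, V y)).obj ((DRing.LBaseChange φ.hom).obj M) :=
    (lpullRestrictIso jV).symm.app _ ≪≫ (compIso jV f).app K ≪≫
      (lpullCongr comm.symm).app K ≪≫ (compIso g jU).symm.app K ≪≫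
      (DCoh.Lpull g).mapIso ((lpullRestrictIso jU).app K ≪≫ eM.symm) ≪≫ (τ.app M).symm
  have h1 : (DCoh.HD ((DCoh.restrictD jV).obj ((DCoh.Lpull f).obj K)) i).IsQuasicoherent :=
    isQuasicoherent_of_iso ((DerivedCategory.homologyFunctor _ i).mapIso e.symm)
      (isQCohD_tildeD Γ(Y, V y) _ i)
  exact isQuasicoherent_of_iso
    ((ExactDC.homologyIso (Scheme.Modules.restrictFunctor jV) i).app _) h1

end Groth.Agent.H57.QCohLpull
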