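import Mathlib
import Groth.Prelude.Def_DCoh3
import Groth.Agent.H57.QCohSerre
import Groth.Agent.H57.QCohLpull
import Groth.Agent.Lib.Helper32.MVTriangle
import Groth.Agent.Lib.Helper83.DerivedPush

/-!
# Mayer–Vietoris step for "`Rg_*` preserves `D_QCoh`" (helper57)
-/

set_option autoImplicit false
universe u
open CategoryTheory CategoryTheory.Limits AlgebraicGeometry
attribute [local instance] HasDerivedCategory.standard

namespace Groth.Agent.H57.RpushMV

open Groth.Agent.Lib.Helper32.KInjDerived Groth.Agent.Lib.Helper32.OpenKInj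
  Groth.Agent.Lib.Helper32.MVOpens Groth.Agent.Lib.Helper32.MVTriangle
  Groth.Agent.H57.QCohSerre Scheme.Modules

instance hasRpush {Y S : Scheme.{u}} (g : Y ⟶ S) : DCoh.HasRpush g :=
  Groth.Agent.Lib.Helper83.DerivedPush.hasRightDerivedFunctor (Scheme.Modules.pushforward g)
    (hasKInjRes Y)

/-- `Rg_*` preserves `D_QCoh`. -/
def Good {Y S : Scheme.{u}} (g : Y ⟶ S) : Prop :=
  ∀ K : DCoh.D Y, DCoh.IsQCohD K → DCoh.IsQCohD ((DCoh.Rpush g).obj K)

variable {Y S : Scheme.{u}} (g : Y ⟶ S)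

/-- the Mayer–Vietoris step. -/
theorem good_of_mv (U V : Y.Opens) (hUV : U ⊔ V = ⊤) (hU : Good (U.ι ≫ g)) (hV : Good (V.ι ≫ g))
    (hW : Good ((U ⊓ V).ι ≫ g)) : Good g := by
  intro K hK
  obtain ⟨I, hI, hinj, ⟨eK⟩⟩ := exists_kInj_model K
  obtain ⟨a, b, c, hT⟩ := exists_mv_triangle U V (pushforward g) I hUV hinj
  -- identification of the vertices
  have key : ∀ W : Y.Opens, Good (W.ι ≫ g) →
      DCoh.IsQCohD (DerivedCategory.Q.obj (cx (pushforward g) I (T W))) := by
    intro W hW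
    let e : T W ⋙ pushforward g ≅ restrictFunctor W.ι ⋙ pushforward (W.ι ≫ g) :=
      Functor.associator _ _ _ ≪≫ Functor.isoWhiskerLeft _ (pushforwardComp W.ι g)
    obtain ⟨e'⟩ := nonempty_ident W (pushforward (W.ι ≫ g)) (T W ⋙ pushforward g) e I hI K eK
    refine isQCohD_of_iso e'.symm (hW _ ?_)
    exact Groth.Agent.H57.QCohLpull.isQCohD_restrictD W.ι K hK
  have h1 : DCoh.IsQCohD (DerivedCategory.Q.obj (cx (pushforward g) I (𝟭 _))) :=
    isQCohD_obj₁ _ hT (isQCohD_biprod (key U hU) (key V hV)) (key _ hW)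
  obtain ⟨e0⟩ := nonempty_rd_iso (pushforward g) (hasKInjRes Y) I hI
  let e1 : DerivedCategory.Q.obj (cx (pushforward g) I (𝟭 _)) ≅
      DerivedCategory.Q.obj (((pushforward g).mapHomologicalComplex (ComplexShape.up ℤ)).obj I) :=
    DerivedCategory.Q.mapIso ((NatIso.mapHomologicalComplex
      (Functor.leftUnitor (pushforward g)) (ComplexShape.up ℤ)).app I)
  exact isQCohD_of_iso (e1 ≪≫ e0 ≪≫ (DCoh.Rpush g).mapIso eK.symm) h1

end Groth.Agent.H57.RpushMV
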