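import Mathlib
import Groth.Prelude.Def_DCoh3
import Groth.Agent.H57.RpushAffineA
import Groth.Agent.H57.RpushAffineB
import Groth.Agent.H57.RpushMV
import Groth.Agent.Lib.Helper5.LpullRpushAdj
import Groth.Agent.Lib.Helper58.WayOut
import Groth.Agent.Lib.Helper32.WayOut2
import Groth.Agent.S2249

/-!
# `Rg_*` preserves `D_QCoh` for affine `g` (helper57)
-/

set_option autoImplicit false
universe u
open CategoryTheory CategoryTheory.Limits AlgebraicGeometry
attribute [local instance] HasDerivedCategory.standard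

namespace Groth.Agent.H57.RpushAffineC

open Groth.Agent.H57.QCohSerre Groth.Agent.H57.RpushMV Groth.Agent.H57.RpushAffineA
  Groth.Agent.H57.RpushAffineB Groth.Agent.Lib.Helper32 Groth.Agent.Lib.Helper32.OpenKInj
  Groth.Agent.Lib.Helper5.LpullRpushAdj DerivedCategory DerivedCategory.TStructure Scheme.Modules

variable {Y S : Scheme.{u}} (g : Y ⟶ S)

/-- `H^j(Rg_* L) = 0` for `L ∈ D_QCoh^{≤ m}`, `j > m`, `g` affine. -/
theorem isZero_homology_Rpush [IsAffineHom g] (L : DCoh.D Y) (hL : DCoh.IsQCohD L) (m : ℤ)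
    (hm : L.IsLE m) (j : ℤ) (hj : m < j) :
    IsZero ((homologyFunctor S.Modules j).obj ((DCoh.Rpush g).obj L)) := by
  obtain ⟨I, hI, ⟨e0⟩⟩ := TriRF.exists_kInj_rep (hasKInjRes Y) L
  have e : L ≅ Q.obj I := e0.symm
  apply isZero_homology_of_exactAt (pushforward g) (DCoh.Rpush g) (β g) (hasKInjRes Y) I e j
  let e' : L⟦j⟧ ≅ Q.obj (I⟦j⟧) :=
    (shiftFunctor (DerivedCategory Y.Modules) j).mapIso e ≪≫ ((Q.commShiftIso j).app I).symm
  have hL' : DCoh.IsQCohD (L⟦j⟧) := WayOut2.cohIn_shift (qcP Y) j hL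
  have hm' : (L⟦j⟧).IsLE (m - j) := t.isLE_shift L m j (m - j) (by omega)
  have h0 := exactAt_zero_push g (L⟦j⟧) hL' (m - j) hm' (by omega) (I⟦j⟧) e'
  have h1 : ((((pushforward g).mapHomologicalComplex (ComplexShape.up ℤ)).obj I)⟦j⟧).ExactAt
      0 := by
    rw [HomologicalComplex.exactAt_iff_isZero_homology] at h0 ⊢
    exact IsZero.of_iso h0 ((HomologicalComplex.homologyFunctor _ _ 0).mapIso
      ((((pushforward g).mapHomologicalComplex (ComplexShape.up ℤ)).commShiftIso j).app I)).symm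
  have e2 := (CochainComplex.shiftShortComplexFunctorIso S.Modules j 0 j (add_zero j)).app
    (((pushforward g).mapHomologicalComplex (ComplexShape.up ℤ)).obj I)
  exact (ShortComplex.exact_iff_of_iso e2).1 h1

/-- `H^j(Rg_* K) → H^j(Rg_* τ_{≥ m} K)` is an isomorphism for `j ≥ m` (`g` affine, `K ∈ D_QCoh`). -/
theorem isIso_homology_Rpush_truncGEπ [IsAffineHom g] (K : DCoh.D Y) (hK : DCoh.IsQCohD K)
    (m j : ℤ) (hj : m ≤ j) :
    IsIso ((homologyFunctor S.Modules j).map ((DCoh.Rpush g).map ((t.truncGEπ m).app K))) := by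
  have hP0 : ∀ Z : Y.Modules, IsZero Z → qcP Y Z := fun Z hZ => (qcP Y).prop_of_isZero hZ
  have hT := t.triangleLEGE_distinguished (m - 1) m (by omega) K
  obtain ⟨h, hh⟩ := TriRF.exists_distinguished (pushforward g) (DCoh.Rpush g) (β g)
    (hasKInjRes Y) _ hT
  have hL : DCoh.IsQCohD ((t.truncLE (m - 1)).obj K) :=
    Groth.Agent.Lib.Helper58.prop_homology_truncLE (qcP Y) hP0 K _ hK
  have hLE : ((t.truncLE (m - 1)).obj K).IsLE (m - 1) :=
    inferInstanceAs (t.IsLE ((t.truncLE (m - 1)).obj K) _)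
  have z1 := isZero_homology_Rpush g _ hL (m - 1) hLE j (by omega)
  have z2 := isZero_homology_Rpush g _ hL (m - 1) hLE (j + 1) (by omega)
  have hmono : Mono ((homologyFunctor S.Modules j).map
      ((DCoh.Rpush g).map ((t.truncGEπ m).app K))) :=
    (HomologySequence.mono_homologyMap_mor₂_iff _ hh j).2 (z1.eq_of_src _ _)
  have hepi : Epi ((homologyFunctor S.Modules j).map
      ((DCoh.Rpush g).map ((t.truncGEπ m).app K))) :=
    (HomologySequence.epi_homologyMap_mor₂_iff _ hh j (j + 1) rfl).2 (z2.eq_of_tgt _ _)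
  exact isIso_of_mono_of_epi _

/-- **`Rg_*` preserves `D_QCoh` for affine `g`.** -/
theorem good_of_isAffineHom [IsAffineHom g] : Good g := by
  intro K hK j
  haveI := isIso_homology_Rpush_truncGEπ g K hK j j le_rfl
  let e1 := asIso ((homologyFunctor S.Modules j).map ((DCoh.Rpush g).map ((t.truncGEπ j).app K)))
  haveI : ((t.truncGE j).obj K).IsGE j := inferInstanceAs (t.IsGE ((t.truncGE j).obj K) _)
  haveI : PreservesFiniteLimits (pushforward g) := by
    have := (pullbackPushforwardAdjunction g).rightAdjoint_preservesLimits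
    infer_instance
  obtain ⟨e2⟩ := nonempty_iso_lowest (pushforward g) (DCoh.Rpush g) (β g) (hasKInjRes Y)
    ((t.truncGE j).obj K) j
  haveI := Groth.Agent.Lib.Helper58.isIso_homology_truncGEπ K j j le_rfl
  let e3 := asIso ((homologyFunctor Y.Modules j).map ((t.truncGEπ j).app K))
  have hq : ((homologyFunctor Y.Modules j).obj ((t.truncGE j).obj K)).IsQuasicoherent :=
    Groth.Agent.Lib.Helper49.isQuasicoherent_of_iso e3 (hK j)
  haveI : Coh.IsQCoh ((homologyFunctor Y.Modules j).obj ((t.truncGE j).obj K)) := hq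
  have hq2 : ((pushforward g).obj
      ((homologyFunctor Y.Modules j).obj ((t.truncGE j).obj K))).IsQuasicoherent :=
    Groth.Agent.S2249.result g _
  exact Groth.Agent.Lib.Helper49.isQuasicoherent_of_iso (e1 ≪≫ e2).symm hq2

end Groth.Agent.H57.RpushAffineC
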