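import Mathlib
import Groth.Prelude.Def_DCoh3
import Groth.Agent.H57.RpushAffineC
import Groth.Agent.H57.QcqsInduction
import Groth.Agent.Lib.Helper28.LocFreeLocus
import Groth.Agent.S6508

/-!
# A uniform vanishing bound for `Rf_*` on `D_QCoh^{≤ 0}` (helper57)
-/

set_option autoImplicit false
universe u
open CategoryTheory CategoryTheory.Limits AlgebraicGeometry
attribute [local instance] HasDerivedCategory.standard

namespace Groth.Agent.H57.RpushBound

open Groth.Agent.Lib.Helper32.KInjDerived Groth.Agent.Lib.Helper32.OpenKInj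
  Groth.Agent.Lib.Helper32.MVOpens Groth.Agent.Lib.Helper32.MVTriangle
  Groth.Agent.H57.QCohSerre Groth.Agent.H57.RpushMV Groth.Agent.H57.RpushAffineC
  Groth.Agent.H57.QcqsInduction Groth.Agent.Lib.Helper6 Scheme.Modules
  DerivedCategory DerivedCategory.TStructure Pretriangulated

/-- `H^m(Rg_* E) = 0` for `m ≥ N` and `E ∈ D_QCoh^{≤ 0}`. -/
def Bound {Y S : Scheme.{u}} (g : Y ⟶ S) (N : ℤ) : Prop :=
  ∀ E : DCoh.D Y, DCoh.IsQCohD E → E.IsLE 0 → ∀ m : ℤ, N ≤ m →
    IsZero (DCoh.HD ((DCoh.Rpush g).obj E) m)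

variable {Y S : Scheme.{u}} (g : Y ⟶ S)

theorem bound_of_isAffineHom [IsAffineHom g] : Bound g 1 :=
  fun E hE hLE m hm => isZero_homology_Rpush g E hE 0 hLE m (by omega)

theorem Bound.mono {N N' : ℤ} (h : Bound g N) (hN : N ≤ N') : Bound g N' :=
  fun E hE hLE m hm => h E hE hLE m (hN.trans hm)

/-- restriction to an open preserves `D^{≤ 0}`. -/
theorem isLE_restrictD {U X : Scheme.{u}} (j : U ⟶ X) [IsOpenImmersion j] (K : DCoh.D X) (n : ℤ)
    (hK : K.IsLE n) : ((DCoh.restrictD j).obj K).IsLE n := by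
  rw [DerivedCategory.isLE_iff]
  intro i hi
  refine IsZero.of_iso ?_ ((ExactDC.homologyIso (Scheme.Modules.restrictFunctor j) i).app K)
  exact (Scheme.Modules.restrictFunctor j).map_isZero (K.isZero_of_isLE n i hi)

lemma isZero_biprod' {C : Type*} [Category C] [Preadditive C] {A B : C} [HasBinaryBiproduct A B]
    (hA : IsZero A) (hB : IsZero B) : IsZero (A ⊞ B) := by
  rw [IsZero.iff_id_eq_zero]
  apply biprod.hom_ext' <;> [exact hA.eq_of_src _ _; exact hB.eq_of_src _ _]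

/-- the Mayer–Vietoris step. -/
theorem bound_of_mv (U V : Y.Opens) (hUV : U ⊔ V = ⊤) {N₁ N₂ N₃ : ℤ}
    (hU : Bound (U.ι ≫ g) N₁) (hV : Bound (V.ι ≫ g) N₂) (hW : Bound ((U ⊓ V).ι ≫ g) N₃) :
    Bound g (max (max N₁ N₂) (N₃ + 1)) := by
  intro K hK hLE m hm
  obtain ⟨I, hI, hinj, ⟨eK⟩⟩ := exists_kInj_model K
  obtain ⟨a, b, c, hT⟩ := exists_mv_triangle U V (pushforward g) I hUV hinj
  have key : ∀ (W : Y.Opens) (N : ℤ), Bound (W.ι ≫ g) N → ∀ n : ℤ, N ≤ n →
      IsZero ((homologyFunctor S.Modules n).obj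
        (DerivedCategory.Q.obj (cx (pushforward g) I (T W)))) := by
    intro W N hW n hn
    let e : T W ⋙ pushforward g ≅ restrictFunctor W.ι ⋙ pushforward (W.ι ≫ g) :=
      Functor.associator _ _ _ ≪≫ Functor.isoWhiskerLeft _ (pushforwardComp W.ι g)
    obtain ⟨e'⟩ := nonempty_ident W (pushforward (W.ι ≫ g)) (T W ⋙ pushforward g) e I hI K eK
    exact IsZero.of_iso (hW _ (Groth.Agent.H57.QCohLpull.isQCohD_restrictD W.ι K hK)
      (isLE_restrictD W.ι K 0 hLE) n hn) ((homologyFunctor S.Modules n).mapIso e')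
  have h1 : IsZero ((homologyFunctor S.Modules m).obj
      (DerivedCategory.Q.obj (cx (pushforward g) I (𝟭 _)))) := by
    have ex := HomologySequence.exact₁ _ hT (m - 1) m (by omega)
    refine ex.isZero_of_both_zeros (IsZero.eq_of_src ?_ _ _) (IsZero.eq_of_tgt ?_ _ _)
    · exact key _ N₃ hW (m - 1) (by omega)
    · haveI : PreservesBinaryBiproducts (homologyFunctor S.Modules m) :=
        preservesBinaryBiproducts_of_preservesBiproducts _
      exact IsZero.of_iso (isZero_biprod' (key U N₁ hU m (by omega)) (key V N₂ hV m (by omega)))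
        ((homologyFunctor S.Modules m).mapBiprod _ _)
  obtain ⟨e0⟩ := nonempty_rd_iso (pushforward g) (hasKInjRes Y) I hI
  let e1 : DerivedCategory.Q.obj (cx (pushforward g) I (𝟭 _)) ≅
      DerivedCategory.Q.obj (((pushforward g).mapHomologicalComplex (ComplexShape.up ℤ)).obj I) :=
    DerivedCategory.Q.mapIso ((NatIso.mapHomologicalComplex
      (Functor.leftUnitor (pushforward g)) (ComplexShape.up ℤ)).app I)
  exact IsZero.of_iso h1 ((homologyFunctor S.Modules m).mapIso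
    (e1 ≪≫ e0 ≪≫ (DCoh.Rpush g).mapIso eK.symm)).symm

/-- the case of an affine base. -/
theorem exists_bound_of_affine_base {X S : Scheme.{u}} [IsAffine S] (f : X ⟶ S) [QuasiCompact f]
    [QuasiSeparated f] : ∃ N : ℤ, Bound f N := by
  haveI : CompactSpace X := QuasiCompact.compactSpace_of_compactSpace f
  haveI : QuasiSeparatedSpace X := quasiSeparatedSpace_of_quasiSeparated f
  refine qcqs_induction (fun Y => ∀ g : Y ⟶ S, ∃ N : ℤ, Bound g N)
    (fun Y hY g => by haveI := hY; exact ⟨1, bound_of_isAffineHom g⟩)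
    (fun Y U V hUV hU hV hW g => ?_) X f
  obtain ⟨N₁, h₁⟩ := hU (U.ι ≫ g)
  obtain ⟨N₂, h₂⟩ := hV (V.ι ≫ g)
  obtain ⟨N₃, h₃⟩ := hW ((U ⊓ V).ι ≫ g)
  exact ⟨_, bound_of_mv g U V hUV h₁ h₂ h₃⟩

/-- **the uniform bound** for a quasi-compact base. -/
theorem exists_bound {X S : Scheme.{u}} (f : X ⟶ S) [QuasiCompact f] [QuasiSeparated f]
    [CompactSpace S] : ∃ N : ℤ, Bound f N := by
  classical
  obtain ⟨t, htaff, htcov⟩ := exists_finset_affine_cover S
  have hb : ∀ V : S.Opens, IsAffineOpen V → ∃ N : ℤ, Bound (f ∣_ V) N := by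
    intro V hV
    haveI : IsAffine (V : Scheme.{u}) := hV
    haveI : QuasiCompact (f ∣_ V) := IsZariskiLocalAtTarget.restrict ‹_› V
    haveI : QuasiSeparated (f ∣_ V) := IsZariskiLocalAtTarget.restrict ‹_› V
    exact exists_bound_of_affine_base (f ∣_ V)
  choose! Nf hNf using hb
  obtain ⟨N, hN⟩ := (t.image Nf).exists_le
  refine ⟨N, fun E hE hLE m hm => ?_⟩
  apply Groth.Agent.Lib.Helper28.LocFreeLocus.isZero_of_forall_restrict
  intro y
  have hy : y ∈ (⨆ V ∈ t, V : S.Opens) := by rw [htcov]; trivial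
  simp only [TopologicalSpace.Opens.mem_iSup] at hy
  obtain ⟨V, hVt, hyV⟩ := hy
  refine ⟨V, hyV, ?_⟩
  obtain ⟨e⟩ := Groth.Agent.S6508.result f V
  have hV := htaff V hVt
  have h1 := (hNf V hV).mono _ (hN _ (Finset.mem_image_of_mem Nf hVt)) _
    (Groth.Agent.H57.QCohLpull.isQCohD_restrictD (f ⁻¹ᵁ V).ι E hE)
    (isLE_restrictD (f ⁻¹ᵁ V).ι E 0 hLE) m hm
  have e2 : DCoh.HD ((DCoh.restrictD V.ι).obj ((DCoh.Rpush f).obj E)) m ≅
      DCoh.HD ((DCoh.Rpush (f ∣_ V)).obj ((DCoh.restrictD (f ⁻¹ᵁ V).ι).obj E)) m :=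
    (DerivedCategory.homologyFunctor _ m).mapIso (e.app E)
  exact IsZero.of_iso h1
    (((ExactDC.homologyIso (Scheme.Modules.restrictFunctor V.ι) m).app _).symm ≪≫ e2)

end Groth.Agent.H57.RpushBound
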