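import Mathlib
import Groth.Prelude.Def_DCoh3
import Groth.Agent.H57.RpushBound
import Groth.Agent.Lib.Helper32.TriRF
import Groth.Agent.Lib.Helper30.PCNoeth
import Groth.Agent.Lib.Helper30.PCTriangle
import Groth.Agent.Lib.Helper30.PCQCoh

/-!
# `Rf_*` and shifts; the uniform bound in every degree; pseudo-coherence of `Rf_*` (helper57)
-/

set_option autoImplicit false
universe w w' v v' u u'
open CategoryTheory CategoryTheory.Limits AlgebraicGeometry
attribute [local instance] HasDerivedCategory.standard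

namespace Groth.Agent.H57.RpushBound2

open Groth.Agent.Lib.Helper32.KInjDerived Groth.Agent.Lib.Helper32.OpenKInj
  Groth.Agent.Lib.Helper32 Groth.Agent.H57.QCohSerre Groth.Agent.H57.RpushMV
  Groth.Agent.H57.RpushBound Groth.Agent.Lib.Helper5.LpullRpushAdj
  DerivedCategory DerivedCategory.TStructure Pretriangulated Scheme.Modules

section Generic

variable {A : Type u} [Category.{v} A] [Abelian A] [HasDerivedCategory.{w} A]
  {B : Type u'} [Category.{v'} B] [Abelian B] [HasDerivedCategory.{w'} B]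
  (F : A ⥤ B) [F.Additive]
  (RF : DerivedCategory A ⥤ DerivedCategory B)
  (α : F.mapHomotopyCategory (ComplexShape.up ℤ) ⋙ DerivedCategory.Qh ⟶ DerivedCategory.Qh ⋙ RF)
  [RF.IsRightDerivedFunctor α (HomotopyCategory.quasiIso A (ComplexShape.up ℤ))]

include α in
/-- a total right derived functor commutes with shifts (objectwise, non-naturally). -/
theorem nonempty_shift_iso (hA : HasKInjRes A) (K : DerivedCategory A) (c : ℤ) :
    Nonempty (RF.obj (K⟦c⟧) ≅ (RF.obj K)⟦c⟧) := by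
  obtain ⟨I, hI, ⟨e⟩⟩ := TriRF.exists_kInj_rep hA K
  haveI := hI
  haveI := TriRF.isIso_β F RF α hA I
  haveI := TriRF.isIso_β F RF α hA (I⟦c⟧)
  let b := asIso (TriRF.β F RF α I)
  let bc := asIso (TriRF.β F RF α (I⟦c⟧))
  let e1 : RF.obj (K⟦c⟧) ≅ RF.obj (Q.obj (I⟦c⟧)) :=
    RF.mapIso ((shiftFunctor (DerivedCategory A) c).mapIso e.symm ≪≫
      ((Q.commShiftIso c).app I).symm)
  let e2 : Q.obj ((F.mapHomologicalComplex (ComplexShape.up ℤ)).obj (I⟦c⟧)) ≅
      (Q.obj ((F.mapHomologicalComplex (ComplexShape.up ℤ)).obj I))⟦c⟧ :=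
    Q.mapIso (((F.mapHomologicalComplex (ComplexShape.up ℤ)).commShiftIso c).app I) ≪≫
      (Q.commShiftIso c).app _
  exact ⟨e1 ≪≫ bc.symm ≪≫ e2 ≪≫
    (shiftFunctor (DerivedCategory B) c).mapIso (b ≪≫ RF.mapIso e)⟩

end Generic

variable {Y S : Scheme.{u}} (g : Y ⟶ S)

/-- `Rg_*` commutes with shifts. -/
theorem nonempty_Rpush_shift_iso (K : DCoh.D Y) (c : ℤ) :
    Nonempty ((DCoh.Rpush g).obj (K⟦c⟧) ≅ ((DCoh.Rpush g).obj K)⟦c⟧) :=
  nonempty_shift_iso (pushforward g) (DCoh.Rpush g) (β g) (hasKInjRes Y) K c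

/-- the uniform bound in every degree. -/
theorem isZero_homology_of_isLE {N : ℤ} (hN : Bound g N) (E : DCoh.D Y) (hE : DCoh.IsQCohD E)
    (c : ℤ) (hc : E.IsLE c) (m : ℤ) (hm : c + N ≤ m) :
    IsZero ((homologyFunctor S.Modules m).obj ((DCoh.Rpush g).obj E)) := by
  have hE' : DCoh.IsQCohD (E⟦c⟧) := WayOut2.cohIn_shift (qcP Y) c hE
  have hc' : (E⟦c⟧).IsLE 0 := t.isLE_shift E c c 0 (by omega)
  have h0 := hN (E⟦c⟧) hE' hc' (m - c) (by omega)
  obtain ⟨e⟩ := nonempty_Rpush_shift_iso g E c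
  have h1 : IsZero ((homologyFunctor S.Modules (m - c)).obj (((DCoh.Rpush g).obj E)⟦c⟧)) :=
    IsZero.of_iso h0 ((homologyFunctor S.Modules (m - c)).mapIso e.symm)
  exact IsZero.of_iso h1
    (((homologyFunctor S.Modules 0).shiftIso c (m - c) m (by omega)).app _).symm

theorem isLE_Rpush {N : ℤ} (hN : Bound g N) (E : DCoh.D Y) (hE : DCoh.IsQCohD E)
    (c : ℤ) (hc : E.IsLE c) (d : ℤ) (hd : c + N ≤ d + 1) : ((DCoh.Rpush g).obj E).IsLE d := by
  rw [DerivedCategory.isLE_iff]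
  intro i hi
  exact isZero_homology_of_isLE g hN E hE c hc i (by omega)

end Groth.Agent.H57.RpushBound2
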