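import Mathlib
import Groth.Prelude.Def_DCoh3
import Groth.Agent.H57.RpushBound2
import Groth.Agent.Lib.Helper32.RGammaColoc

/-!
# Mayer–Vietoris for `Hom` in `D(O_X)` (helper57)

* `hom_eq_zero_of_triangle`: generic vanishing from the long exact `Hom` sequence.
* `hom_eq_zero_of_mv`: if `Y = U ∪ V` and all maps `A|_W ⟶ L|_W⟦k⟧` vanish for
  `(W, k) = (U, n), (V, n), (U ∩ V, n - 1)`, then all maps `A ⟶ L⟦n⟧` vanish.
-/

set_option autoImplicit false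
universe u
open CategoryTheory CategoryTheory.Limits AlgebraicGeometry
attribute [local instance] HasDerivedCategory.standard

namespace Groth.Agent.H57.HomMV

open Groth.Agent.Lib.Helper32.KInjDerived Groth.Agent.Lib.Helper32.OpenKInj
  Groth.Agent.Lib.Helper32.MVOpens Groth.Agent.Lib.Helper32.MVTriangle
  Groth.Agent.Lib.Helper32.RGammaColoc
  Groth.Agent.H57.RpushMV Groth.Agent.H57.RpushBound2 Scheme.Modules
  DerivedCategory Pretriangulated Opposite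

section Generic

variable {C : Type*} [Category C] [Preadditive C] [HasShift C ℤ] [HasZeroObject C]
  [∀ (n : ℤ), (shiftFunctor C n).Additive] [Pretriangulated C]

lemma hom_eq_zero_of_triangle (T : Triangle C) (hT : T ∈ distTriang C) (A : C) (n₀ n₁ : ℤ)
    (h : n₀ + 1 = n₁)
    (h₂ : ∀ ψ : A ⟶ T.obj₂⟦n₁⟧, ψ = 0) (h₃ : ∀ ψ : A ⟶ T.obj₃⟦n₀⟧, ψ = 0)
    (φ : A ⟶ T.obj₁⟦n₁⟧) : φ = 0 := by
  have ex := (preadditiveCoyoneda.obj (op A)).homologySequence_exact₁ T hT n₀ n₁ h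
  rw [ShortComplex.ab_exact_iff] at ex
  obtain ⟨x, hx⟩ := ex φ (h₂ _)
  have hx0 : x = 0 := h₃ x
  rw [← hx, hx0]
  exact map_zero _

/-- the middle term version -/
lemma hom_eq_zero_of_triangle₂ (T : Triangle C) (hT : T ∈ distTriang C) (A : C) (n : ℤ)
    (h₁ : ∀ ψ : A ⟶ T.obj₁⟦n⟧, ψ = 0) (h₃ : ∀ ψ : A ⟶ T.obj₃⟦n⟧, ψ = 0)
    (φ : A ⟶ T.obj₂⟦n⟧) : φ = 0 := by
  have ex := (preadditiveCoyoneda.obj (op A)).homologySequence_exact₂ T hT n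
  rw [ShortComplex.ab_exact_iff] at ex
  obtain ⟨x, hx⟩ := ex φ (h₃ _)
  have hx0 : x = 0 := h₁ x
  rw [← hx, hx0]
  exact map_zero _

end Generic

variable {Y : Scheme.{u}}

/-- maps into (a shift of) `Rj_*` of the restriction, from maps on the open. -/
lemma hom_vertex_eq_zero (W : Y.Opens) (A L : DCoh.D Y) (k : ℤ)
    (I : CochainComplex Y.Modules ℤ) (hI : I.IsKInjective) (eL : L ≅ Q.obj I)
    (hW : ∀ φ : (DCoh.restrictD W.ι).obj A ⟶ ((DCoh.restrictD W.ι).obj L)⟦k⟧, φ = 0)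
    (ψ : A ⟶ (Q.obj (cx (𝟭 Y.Modules) I (T W)))⟦k⟧) : ψ = 0 := by
  let e : T W ⋙ 𝟭 Y.Modules ≅ restrictFunctor W.ι ⋙ pushforward W.ι := Functor.rightUnitor _
  obtain ⟨e'⟩ := nonempty_ident W (pushforward W.ι) (T W ⋙ 𝟭 Y.Modules) e I hI L eL
  obtain ⟨s⟩ := nonempty_Rpush_shift_iso W.ι ((DCoh.restrictD W.ι).obj L) k
  have hsub : Subsingleton ((DCoh.restrictD W.ι).obj A ⟶ ((DCoh.restrictD W.ι).obj L)⟦k⟧) :=
    ⟨fun a b => by rw [hW a, hW b]⟩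
  have hsub' : Subsingleton (A ⟶ (DCoh.Rpush W.ι).obj (((DCoh.restrictD W.ι).obj L)⟦k⟧)) :=
    ((adjR W.ι).homEquiv A _).symm.injective.subsingleton
  let θ : (Q.obj (cx (𝟭 Y.Modules) I (T W)))⟦k⟧ ≅
      (DCoh.Rpush W.ι).obj (((DCoh.restrictD W.ι).obj L)⟦k⟧) :=
    (shiftFunctor (DCoh.D Y) k).mapIso e' ≪≫ s.symm
  rw [← cancel_mono θ.hom, zero_comp]
  exact Subsingleton.elim _ _

/-- **Mayer–Vietoris for `Hom`.** -/
theorem hom_eq_zero_of_mv (U V : Y.Opens) (hUV : U ⊔ V = ⊤) (A L : DCoh.D Y) (n : ℤ)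
    (hU : ∀ φ : (DCoh.restrictD U.ι).obj A ⟶ ((DCoh.restrictD U.ι).obj L)⟦n⟧, φ = 0)
    (hV : ∀ φ : (DCoh.restrictD V.ι).obj A ⟶ ((DCoh.restrictD V.ι).obj L)⟦n⟧, φ = 0)
    (hW : ∀ φ : (DCoh.restrictD (U ⊓ V).ι).obj A ⟶
      ((DCoh.restrictD (U ⊓ V).ι).obj L)⟦n - 1⟧, φ = 0)
    (φ : A ⟶ L⟦n⟧) : φ = 0 := by
  obtain ⟨I, hI, hinj, ⟨eL⟩⟩ := exists_kInj_model L
  obtain ⟨a, b, c, hT⟩ := exists_mv_triangle U V (𝟭 Y.Modules) I hUV hinj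
  have hX2 : ∀ ψ : A ⟶
      (Q.obj (cx (𝟭 Y.Modules) I (T U)) ⊞ Q.obj (cx (𝟭 Y.Modules) I (T V)))⟦n⟧, ψ = 0 := by
    intro ψ
    haveI : PreservesBinaryBiproducts (shiftFunctor (DCoh.D Y) n) :=
      preservesBinaryBiproducts_of_preservesBiproducts _
    have h1 : ψ ≫ (biprod.fst)⟦n⟧' = 0 := hom_vertex_eq_zero U A L n I hI eL hU _
    have h2 : ψ ≫ (biprod.snd)⟦n⟧' = 0 := hom_vertex_eq_zero V A L n I hI eL hV _
    let m := (shiftFunctor (DCoh.D Y) n).mapBiprod (Q.obj (cx (𝟭 Y.Modules) I (T U)))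
      (Q.obj (cx (𝟭 Y.Modules) I (T V)))
    rw [← cancel_mono m.hom, zero_comp]
    apply biprod.hom_ext
    · rw [Category.assoc, zero_comp]
      have : m.hom ≫ biprod.fst = (biprod.fst)⟦n⟧' := Functor.biprodComparison_fst _ _ _
      rw [this, h1]
    · rw [Category.assoc, zero_comp]
      have : m.hom ≫ biprod.snd = (biprod.snd)⟦n⟧' := Functor.biprodComparison_snd _ _ _
      rw [this, h2]
  have hQ : ∀ ψ : A ⟶ (Q.obj (cx (𝟭 Y.Modules) I (𝟭 _)))⟦n⟧, ψ = 0 :=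
    hom_eq_zero_of_triangle _ hT A (n - 1) n (by omega) hX2
      (fun ψ => hom_vertex_eq_zero (U ⊓ V) A L (n - 1) I hI eL hW ψ)
  let e1 : Q.obj (cx (𝟭 Y.Modules) I (𝟭 _)) ≅ Q.obj I :=
    Q.mapIso ((NatIso.mapHomologicalComplex (Functor.leftUnitor (𝟭 Y.Modules))
      (ComplexShape.up ℤ)).app I ≪≫ (Functor.mapHomologicalComplexIdIso _ _).app I)
  let θ : L⟦n⟧ ≅ (Q.obj (cx (𝟭 Y.Modules) I (𝟭 _)))⟦n⟧ :=
    (shiftFunctor (DCoh.D Y) n).mapIso (eL ≪≫ e1.symm)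
  rw [← cancel_mono θ.hom, zero_comp]
  exact hQ _

end Groth.Agent.H57.HomMV
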