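import Groth.Agent.Lib.Helper36.PushTrunc.Unbounded

/-!
# Vanishing of maps `P[0] ⟶ Z` for `Z ∈ D_A^{≤ m}`, `m + d < 0`, when `Ext^k(P, -)` vanishes on `A`
for `k > d` (helper57; generalises helper36's `hom_freeOn_eq_zero` from `freeOn O Y` to any `P`)
-/

set_option autoImplicit false
universe u

namespace Groth.Agent.H57.HomVanishA

open CategoryTheory CategoryTheory.Limits Opposite DerivedCategory DerivedCategory.TStructure
open Groth.Agent.Lib.Helper74.ModTrunc Groth.Agent.Lib.Helper83.TruncTower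

attribute [local instance] HasDerivedCategory.standard

variable {C : Type u} [SmallCategory C] {J : GrothendieckTopology C}
  {O : Sheaf J CommRingCat.{u}}

theorem hom_single_eq_zero
    (A : ObjectProperty (ModSite.Mod O)) [WSerre.IsWeakSerre A] (B : Set C)
    (hB : ∀ U : C, ∃ (ι : Type u) (Y : ι → C) (g : ∀ i, Y i ⟶ U),
      Sieve.ofArrows Y g ∈ J U ∧ ∀ i, Y i ∈ B)
    (hA : ∀ V ∈ B, ∃ d : ℕ, ∀ T ∈ J V, ∃ (ι : Type u) (Y : ι → C) (g : ∀ i, Y i ⟶ V),
      (∀ i, T.arrows (g i)) ∧ Sieve.ofArrows Y g ∈ J V ∧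
      ∀ (i : ι) (F : ModSite.Mod O), A F → ∀ k : ℕ, d < k →
        Subsingleton (ModSite.HU O F k (Y i)))
    [HasExt.{u} (ModSite.Mod O)]
    (P : ModSite.Mod O) (d : ℕ)
    (hS : ∀ F : ModSite.Mod O, A F → ∀ k : ℕ, d < k → Subsingleton (Abelian.Ext.{u} P F k))
    (Z : DerivedCategory (ModSite.Mod O)) (hZ : WSerre.cohIn A Z) (m : ℤ) (hm : Z.IsLE m)
    (hmd : m + d < 0)
    (φ : (DerivedCategory.singleFunctor (ModSite.Mod O) 0).obj P ⟶ Z) :
    φ = 0 := by
  classical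
  have : HasProduct (CohCx.truncTower Z) := Groth.Agent.S9070.Aux.hasProduct_nat O _
  have hXlim : CohCx.IsRlimVia (CohCx.truncTower Z) (CohCx.truncTowerMap Z) Z
      (CohCx.toTruncTower Z) := by
    apply isRlimVia_truncTower_modSite Z B hB
    intro V hV m'
    obtain ⟨d', hd'⟩ := hA V hV
    refine ⟨(max ((d' : ℤ) - m') (-m')).toNat, by omega, ?_⟩
    intro T hT
    obtain ⟨ι, Y', g, hgT, hcov, hvan⟩ := hd' T hT
    refine ⟨ι, Y', g, hgT, hcov, fun i n hn k hk => ?_⟩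
    exact hvan i _ (hZ (m' - k)) k (by omega)
  have hK' : ∀ n, WSerre.cohIn A (CohCx.truncTower Z n) ∧ ∃ c : ℤ, (CohCx.truncTower Z n).IsGE c :=
    fun n => ⟨(Groth.Agent.S9070.Aux.cohInPlus_truncTower A Z hZ n).1,
      (Groth.Agent.S9070.Aux.cohInPlus_truncTower A Z hZ n).2⟩
  let N : ℕ := d + 2
  have hN : ∀ n, N ≤ n → ∀ q : ℤ, (0 : ℤ) - 2 - (d : ℤ) ≤ q → q ≤ 0 + 1 →
      IsIso ((DerivedCategory.homologyFunctor (ModSite.Mod O) q).map (CohCx.truncTowerMap Z n)) := by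
    intro n hn q h1 h2
    apply Groth.Agent.S9070.Aux.isIso_homology_truncTowerMap
    have : (N : ℤ) ≤ n := by exact_mod_cast hn
    simp only [N] at this
    push_cast at this
    omega
  let y : (DerivedCategory.singleFunctor (ModSite.Mod O) 0).obj P ⟶ Z⟦(0 : ℤ)⟧ :=
    φ ≫ (shiftFunctorZero (DerivedCategory (ModSite.Mod O)) ℤ).inv.app Z
  have hy : y ≫ (CohCx.toTruncTower Z N)⟦(0 : ℤ)⟧' = 0 := by
    obtain ⟨c, hc⟩ := (hK' N).2
    refine Dev.hom_single_eq_zero_of_vanishing P A d hS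
      (CohCx.truncTower Z N) c hc (hK' N).1 0 ?_ _
    intro q h1 h2
    have hq : -((N : ℕ) : ℤ) ≤ q := by
      simp only [N]
      push_cast
      omega
    have := isIso_homology_toTruncTower Z N q hq
    refine IsZero.of_iso ?_
      (asIso ((homologyFunctor (ModSite.Mod O) q).map (CohCx.toTruncTower Z N))).symm
    exact Z.isZero_of_isLE m q (by omega)
  have h0 : y = 0 :=
    Dev.tower_inj P A d hS (CohCx.truncTower Z) (CohCx.truncTowerMap Z) hK'
      Z (CohCx.toTruncTower Z) hXlim 0 N hN N le_rfl y hy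
  have h1 : φ = y ≫ (shiftFunctorZero (DerivedCategory (ModSite.Mod O)) ℤ).hom.app Z := by
    simp only [y, Category.assoc, Iso.inv_hom_id_app]
    exact (Category.comp_id φ).symm
  rw [h1, h0, zero_comp]

end Groth.Agent.H57.HomVanishA
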