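import Mathlib
import Groth.Prelude.Def_DCoh3
import Groth.Agent.H57.HomVanishA
import Groth.Agent.H57.RpushAffineA
import Groth.Agent.Lib.Helper11.ExtFinLocFree
import Groth.Agent.S0007

/-!
# `Hom(F[0], L) = 0` for `F` finite locally free on an affine scheme, `L ∈ D_QCoh^{< 0}` (helper57)
-/

set_option autoImplicit false
universe u
open CategoryTheory CategoryTheory.Limits AlgebraicGeometry TopologicalSpace Opposite
attribute [local instance] HasDerivedCategory.standard

namespace Groth.Agent.H57.HomVanishB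

open Groth.Agent.H57.QCohSerre Groth.Agent.H57.RpushAffineA Groth.Agent.H57.HomVanishA
  Groth.Agent.Lib.Helper11.ExtFinLocFree Groth.Agent.Lib.Helper11.FinFreeAdj
  Groth.Agent.Lib.Helper11.TensorFormulas Groth.Agent.Lib.Helper11.ProjFormulaRq
  Groth.Agent.Lib.Helper11.GenLocus Groth.Agent.Lib.Helper11.TensorMap
  Groth.Agent.Lib.Helper11.FinFreeBasis
  Groth.Agent.Lib.Helper45 Groth.Agent.Lib.Helper49 Abelian

variable {X : Scheme.{u}}

/-- `Ext^p(A, B) = 0` for `p > 0`, `A` finite locally free and `B` quasi-coherent on an affine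
scheme. -/
theorem subsingleton_ext_of_affine [IsAffine X] [HasExt.{u} X.Modules] (A B : X.Modules)
    (hA : FlatMod.IsFinLocFree A) (hB : B.IsQuasicoherent) (p : ℕ) (hp : 0 < p) :
    Subsingleton (Abelian.Ext.{u} A B p) := by
  let D := dualPairOfFinLocFree hA
  haveI := preservesLimits_tensR D
  haveI := preservesColimits_tensR D
  haveI := additive_tensR D
  haveI := preservesLimits_tensR D.symm
  haveI := preservesColimits_tensR D.symm
  haveI := additive_tensR D.symm
  let e1 : Ext A B p ≃+ Ext ((tensR A).obj (Coh.structureModule X)) B p :=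
    Groth.Agent.Lib.Helper83.ModCoh.extAddEquivOfIsoLeft (unitTensorIso A).symm B p
  let e2 : Ext ((tensR A).obj (Coh.structureModule X)) B p ≃+
      Ext (Coh.structureModule X) ((tensR (RefHull.dual A)).obj B) p :=
    Groth.Agent.Lib.Helper5.extAdjAddEquiv D.symm.adj (Coh.structureModule X) B p
  haveI hext : HasExt.{u} (SheafOfModules.{u} X.ringCatSheaf) := ‹HasExt.{u} X.Modules›
  obtain ⟨e4⟩ := Groth.Agent.Lib.Helper83.ModCoh.nonempty_ext_unit_addEquiv_H X.ringCatSheaf
    ((tensR (RefHull.dual A)).obj B) p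
  haveI : B.IsQuasicoherent := hB
  haveI : (RefHull.dual A).IsQuasicoherent :=
    isQuasicoherent_of_isFinLocFree _ (Groth.Agent.Lib.Helper11.FinFreeDual.isFinLocFree_dual hA)
  haveI hq : Coh.IsQCoh ((tensR (RefHull.dual A)).obj B) :=
    (Groth.Agent.Lib.Helper11.TildeTensor.isQuasicoherent_tensorMod B (RefHull.dual A)).1
  have h0 : Subsingleton (Coh.HH X ((tensR (RefHull.dual A)).obj B) p) :=
    Groth.Agent.S0007.result X _ p hp
  exact @Equiv.subsingleton _ _ (e1.trans (e2.trans e4)).toEquiv h0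

/-- the base case: on an affine scheme, maps from a finite locally free module placed in degree
`0` to an object of `D_QCoh^{< 0}` vanish. -/
theorem hom_inD_eq_zero_of_affine [IsAffine X] (F : X.Modules) (hF : FlatMod.IsFinLocFree F)
    (L : DCoh.D X) (hL : DCoh.IsQCohD L) (m : ℤ) (hm : L.IsLE m) (hm0 : m < 0)
    (φ : DCoh.inD X F ⟶ L) : φ = 0 := by
  haveI hExt : HasExt.{u} X.Modules := hasExt_of_enoughInjectives _
  have hWS : WSerre.IsWeakSerre (qcP X) := inferInstance
  refine @hom_single_eq_zero _ _ _ X.sheaf (qcP X) hWS {W : X.Opens | IsAffineOpen W}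
    (cover_affine X) ?_ hExt F 0 ?_ L hL m hm (by simpa using hm0) φ
  · intro V _
    refine ⟨0, fun T hT => ?_⟩
    obtain ⟨ι, Y₀, g₀, h1, h2, h3⟩ := refine_affine X V T hT
    refine ⟨ι, Y₀, g₀, h1, h2, fun i G hG k hk => ?_⟩
    obtain ⟨q, rfl⟩ : ∃ q : ℕ, k = q + 1 := ⟨k - 1, by omega⟩
    exact @Groth.Agent.Lib.Helper1.subsingleton_HU_of_isAffineOpen X G hG (Y₀ i) (h3 i) q
  · intro G hG k hk
    exact subsingleton_ext_of_affine F G hF hG k hk

end Groth.Agent.H57.HomVanishB
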