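import Mathlib
import Groth.Prelude.Def_DCoh3
import Groth.Agent.H57.HomMV
import Groth.Agent.H57.HomVanishB
import Groth.Agent.H57.QcqsInduction
import Groth.Agent.Lib.Helper30.PerfRestrict

/-!
# Uniform vanishing of `Hom(F[0], E⟦n⟧)` for `F` finite locally free, `E ∈ D_QCoh^{≤ b}` on a
quasi-compact quasi-separated scheme (helper57)
-/

set_option autoImplicit false
universe u
open CategoryTheory CategoryTheory.Limits AlgebraicGeometry
attribute [local instance] HasDerivedCategory.standard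

namespace Groth.Agent.H57.HomFLF

open Groth.Agent.H57.QCohSerre Groth.Agent.H57.RpushBound Groth.Agent.H57.HomMV
  Groth.Agent.H57.HomVanishB Groth.Agent.H57.QcqsInduction
  DerivedCategory DerivedCategory.TStructure Scheme.Modules

/-- maps `F[0] ⟶ E⟦n⟧` vanish for `F` finite locally free, `E ∈ D_QCoh^{≤ b}`, `n ≥ b + N`. -/
def HBound (Y : Scheme.{u}) (N : ℤ) : Prop :=
  ∀ (E : DCoh.D Y), DCoh.IsQCohD E → ∀ b : ℤ, E.IsLE b → ∀ F : Y.Modules,
    FlatMod.IsFinLocFree F → ∀ n : ℤ, b + N ≤ n → ∀ φ : DCoh.inD Y F ⟶ E⟦n⟧, φ = 0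

theorem HBound.mono {Y : Scheme.{u}} {N N' : ℤ} (h : HBound Y N) (hN : N ≤ N') : HBound Y N' :=
  fun E hE b hb F hF n hn φ => h E hE b hb F hF n (by omega) φ

theorem hBound_of_affine (Y : Scheme.{u}) [IsAffine Y] : HBound Y 1 := by
  intro E hE b hb F hF n hn φ
  have hE' : DCoh.IsQCohD (E⟦n⟧) := Groth.Agent.Lib.Helper32.WayOut2.cohIn_shift (qcP Y) n hE
  have hb' : (E⟦n⟧).IsLE (b - n) := t.isLE_shift E b n (b - n) (by omega)
  exact hom_inD_eq_zero_of_affine F hF (E⟦n⟧) hE' (b - n) hb' (by omega) φ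

/-- restriction of `F[0]`. -/
noncomputable def restrictInD {Y : Scheme.{u}} (W : Y.Opens) (F : Y.Modules) :
    (DCoh.restrictD W.ι).obj (DCoh.inD Y F) ≅ DCoh.inD W ((restrictFunctor W.ι).obj F) :=
  ((restrictFunctor W.ι).mapDerivedCategorySingleFunctor 0).app F

theorem hBound_of_mv (Y : Scheme.{u}) (U V : Y.Opens) (hUV : U ⊔ V = ⊤) {N₁ N₂ N₃ : ℤ}
    (hU : HBound U N₁) (hV : HBound V N₂) (hW : HBound ((U ⊓ V : Y.Opens) : Scheme.{u}) N₃) :
    HBound Y (max (max N₁ N₂) (N₃ + 1)) := by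
  intro E hE b hb F hF n hn φ
  have key : ∀ (W : Y.Opens) (N : ℤ), HBound W N → ∀ k : ℤ, b + N ≤ k →
      ∀ ψ : (DCoh.restrictD W.ι).obj (DCoh.inD Y F) ⟶ ((DCoh.restrictD W.ι).obj E)⟦k⟧,
        ψ = 0 := by
    intro W N hWN k hk ψ
    have h0 := hWN ((DCoh.restrictD W.ι).obj E)
      (Groth.Agent.H57.QCohLpull.isQCohD_restrictD W.ι E hE) b (isLE_restrictD W.ι E b hb)
      ((restrictFunctor W.ι).obj F)
      (Groth.Agent.Lib.Helper30.PerfRestrict.isFinLocFree_restrict W.ι F hF) k hk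
      ((restrictInD W F).inv ≫ ψ)
    rw [← cancel_epi (restrictInD W F).inv, h0, comp_zero]
  exact hom_eq_zero_of_mv U V hUV (DCoh.inD Y F) E n
    (key U N₁ hU n (by omega)) (key V N₂ hV n (by omega)) (key (U ⊓ V) N₃ hW (n - 1) (by omega)) φ

/-- **the uniform bound.** -/
theorem exists_hBound (X : Scheme.{u}) [CompactSpace X] [QuasiSeparatedSpace X] :
    ∃ N : ℤ, HBound X N := by
  refine qcqs_induction (fun Y => ∃ N : ℤ, HBound Y N)
    (fun Y hY => by haveI := hY; exact ⟨1, hBound_of_affine Y⟩)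
    (fun Y U V hUV hU hV hW => ?_) X
  obtain ⟨N₁, h₁⟩ := hU
  obtain ⟨N₂, h₂⟩ := hV
  obtain ⟨N₃, h₃⟩ := hW
  exact ⟨_, hBound_of_mv Y U V hUV h₁ h₂ h₃⟩

/-- S1010. -/
theorem exists_n₀ (X : Scheme.{u}) [CompactSpace X] [QuasiSeparatedSpace X]
    (E : DCoh.D X) (hE : DCoh.IsQCohD E) (b : ℤ) (hb : E.IsLE b) :
    ∃ n₀ : ℤ, 0 < n₀ ∧ ∀ (F : X.Modules), FlatMod.IsFinLocFree F → ∀ n : ℤ, n₀ ≤ n →
      ∀ φ : DCoh.inD X F ⟶ E⟦n⟧, φ = 0 := by
  obtain ⟨N, hN⟩ := exists_hBound X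
  refine ⟨max 1 (b + N), by omega, fun F hF n hn φ => ?_⟩
  exact hN E hE b hb F hF n (by omega) φ

end Groth.Agent.H57.HomFLF
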