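import Mathlib
import Groth.Agent.H57.HomMV

/-!
# `Hom(P[-i], E)` versus `Hom(P[-i], τ E)` (helper57)
-/

set_option autoImplicit false
universe w v u
open CategoryTheory CategoryTheory.Limits

namespace Groth.Agent.H57.HomTrunc

open Groth.Agent.H57.HomMV DerivedCategory DerivedCategory.TStructure Pretriangulated

section Shift

variable {C : Type*} [Category C] [Preadditive C] [HasShift C ℤ]
  [∀ (n : ℤ), (shiftFunctor C n).Additive]

lemma forall_hom_shift_neg_iff (P E : C) (i : ℤ) :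
    (∀ φ : P⟦-i⟧ ⟶ E, φ = 0) ↔ (∀ ψ : P ⟶ E⟦i⟧, ψ = 0) := by
  constructor
  · intro h ψ
    have h0 := h (ψ⟦-i⟧' ≫ (shiftShiftNeg E i).hom)
    have h1 : ψ⟦-i⟧' = 0 := by
      rw [← cancel_mono (shiftShiftNeg E i).hom, h0, zero_comp]
    apply (shiftFunctor C (-i)).map_injective
    rw [h1, Functor.map_zero]
  · intro h φ
    have h0 := h ((shiftNegShift P i).inv ≫ φ⟦i⟧')
    have h1 : φ⟦i⟧' = 0 := by
      rw [← cancel_epi (shiftNegShift P i).inv, h0, comp_zero]
    apply (shiftFunctor C i).map_injective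
    rw [h1, Functor.map_zero]

end Shift

variable {A : Type u} [Category.{v} A] [Abelian A] [HasDerivedCategory.{w} A]

/-- maps from `D^{≤ c}` to a shift of `τ_{≥ d} E` vanish in the appropriate range. -/
lemma hom_truncGE_shift_eq_zero (P E : DerivedCategory A) (c : ℤ) (hP : P.IsLE c) (d j : ℤ)
    (h : c + j < d) (ψ : P ⟶ ((t.truncGE d).obj E)⟦j⟧) : ψ = 0 := by
  haveI : t.IsLE P c := hP
  haveI : t.IsGE ((t.truncGE d).obj E) d := inferInstance
  haveI : t.IsGE (((t.truncGE d).obj E)⟦j⟧) (d - j) := t.isGE_shift _ d j (d - j) (by omega)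
  exact t.zero ψ c (d - j) (by omega)

/-- **`Hom(P[-i], E)` vanishes for `i ≪ 0` iff `Hom(P[-i], τ_{≤ a} E)` does** (`P` bounded
above). -/
theorem hom_truncLE_iff (P E : DerivedCategory A) (c : ℤ) (hP : P.IsLE c) (a : ℤ) :
    (∃ N : ℤ, ∀ i : ℤ, i ≤ N → ∀ φ : P⟦-i⟧ ⟶ E, φ = 0) ↔
    (∃ N : ℤ, ∀ i : ℤ, i ≤ N → ∀ φ : P⟦-i⟧ ⟶ (t.truncLE a).obj E, φ = 0) := by
  have hT := t.triangleLEGE_distinguished a (a + 1) rfl E
  constructor
  · rintro ⟨N, hN⟩
    refine ⟨min N (a - c), fun i hi => ?_⟩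
    rw [forall_hom_shift_neg_iff]
    have h2 := (forall_hom_shift_neg_iff P E i).1 (hN i (hi.trans (min_le_left _ _)))
    have hi2 : i ≤ a - c := hi.trans (min_le_right _ _)
    exact hom_eq_zero_of_triangle _ hT P (i - 1) i (by omega) h2
      (fun ψ => hom_truncGE_shift_eq_zero P E c hP (a + 1) (i - 1) (by omega) ψ)
  · rintro ⟨N, hN⟩
    refine ⟨min N (a - c), fun i hi => ?_⟩
    rw [forall_hom_shift_neg_iff]
    have h1 := (forall_hom_shift_neg_iff P ((t.truncLE a).obj E) i).1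
      (hN i (hi.trans (min_le_left _ _)))
    have hi2 : i ≤ a - c := hi.trans (min_le_right _ _)
    exact hom_eq_zero_of_triangle₂ _ hT P i h1
      (fun ψ => hom_truncGE_shift_eq_zero P E c hP (a + 1) i (by omega) ψ)

end Groth.Agent.H57.HomTrunc
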