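import Mathlib
import Groth.Prelude.Def_DCoh3
import Groth.Agent.H57.HomFLF
import Groth.Agent.H57.HomTrunc
import Groth.Agent.Lib.Helper30.SigmaGE
import Groth.Agent.Lib.Helper30.PCTriangle
import Groth.Agent.Lib.Helper14.ParaFFree

/-!
# Maps out of a strictly perfect complex on an affine scheme into `D_QCoh` (helper57)
-/

set_option autoImplicit false
universe u
open CategoryTheory CategoryTheory.Limits AlgebraicGeometry
attribute [local instance] HasDerivedCategory.standard

namespace Groth.Agent.H57.HomPerfBase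

open Groth.Agent.H57.QCohSerre Groth.Agent.H57.HomFLF Groth.Agent.H57.HomTrunc
  Groth.Agent.Lib.Helper30.SigmaGE Groth.Agent.Lib.Helper30.PCTriangle
  DerivedCategory DerivedCategory.TStructure Pretriangulated

variable {Z : Scheme.{u}}

/-- a finite locally free module placed in degree `a`. -/
theorem hom_single_eq_zero [IsAffine Z] (M : Z.Modules) (hM : FlatMod.IsFinLocFree M)
    (L : DCoh.D Z) (hL : DCoh.IsQCohD L) (b : ℤ) (hb : L.IsLE b) (a n : ℤ) (h : b + 1 ≤ n + a)
    (φ : (DerivedCategory.singleFunctor Z.Modules a).obj M ⟶ L⟦n⟧) : φ = 0 := by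
  let e : ((DerivedCategory.singleFunctor Z.Modules 0).obj M)⟦-a⟧ ≅
      (DerivedCategory.singleFunctor Z.Modules a).obj M :=
    ((DerivedCategory.singleFunctors Z.Modules).shiftIso (-a) a 0 (by omega)).app M
  have key : ∀ ψ : (DCoh.inD Z M)⟦-a⟧ ⟶ L⟦n⟧, ψ = 0 := by
    rw [forall_hom_shift_neg_iff]
    intro ψ
    let s : (L⟦n⟧)⟦a⟧ ≅ L⟦n + a⟧ := ((shiftFunctorAdd' (DCoh.D Z) n a (n + a) rfl).app L).symm
    have h0 := hBound_of_affine Z L hL b hb M hM (n + a) h (ψ ≫ s.hom)
    rw [← cancel_mono s.hom, h0, zero_comp]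
  rw [← cancel_epi e.hom, key (e.hom ≫ φ), comp_zero]

lemma isZero_of_forall_isZero_X {A : Type*} [Category A] [Abelian A] (S : CochainComplex A ℤ)
    (h : ∀ i, IsZero (S.X i)) : IsZero S := by
  rw [IsZero.iff_id_eq_zero]
  ext i
  exact (h i).eq_of_src _ _

/-- dévissage along the stupid filtration. -/
theorem hom_Q_eq_zero [IsAffine Z] : ∀ (r : ℕ) (S : CochainComplex Z.Modules ℤ) (a : ℤ),
    (∀ i, FlatMod.IsFinLocFree (S.X i)) → (∀ i, i < a → IsZero (S.X i)) →
    (∀ i, a + r ≤ i → IsZero (S.X i)) → ∀ (L : DCoh.D Z), DCoh.IsQCohD L → ∀ b : ℤ, L.IsLE b →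
    ∀ n : ℤ, b + 1 ≤ n + a → ∀ φ : Q.obj S ⟶ L⟦n⟧, φ = 0 := by
  intro r
  induction r with
  | zero =>
    intro S a _ h1 h2 L _ b _ n _ φ
    have hS : IsZero S := isZero_of_forall_isZero_X S (fun i => by
      by_cases hi : i < a
      · exact h1 i hi
      · exact h2 i (by simp; omega))
    exact (Q.map_isZero hS).eq_of_src _ _
  | succ r ih =>
    intro S a hfl h1 h2 L hL b hb n hn φ
    have hSES := sc_shortExact S (a + 1)
    have hT := triangleOfSES_distinguished hSES
    -- the subcomplex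
    have hfl₁ : ∀ i, FlatMod.IsFinLocFree ((sigmaGE S (a + 1)).X i) := by
      intro i
      by_cases hi : i < a + 1
      · exact isFinLocFree_of_isZero (isZero_sigmaGE_X S (a + 1) i hi)
      · have := isIso_ιGE_f S (a + 1) i (by omega)
        exact Groth.Agent.Lib.Helper14.isFinLocFree_of_iso (asIso ((ιGE S (a + 1)).f i)).symm
          (hfl i)
    have h₁ : Q.map (ιGE S (a + 1)) ≫ φ = 0 := by
      refine ih (sigmaGE S (a + 1)) (a + 1) hfl₁ (fun i hi => isZero_sigmaGE_X S (a + 1) i hi)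
        (fun i hi => ?_) L hL b hb n (by omega) _
      have := isIso_ιGE_f S (a + 1) i (by omega)
      exact (h2 i (by push_cast; omega)).of_iso (asIso ((ιGE S (a + 1)).f i))
    obtain ⟨g, hg⟩ := Triangle.yoneda_exact₂ _ hT φ h₁
    -- the quotient complex is concentrated in degree `a`
    have hGE : (sigmaLT S (a + 1)).IsStrictlyGE a := by
      rw [CochainComplex.isStrictlyGE_iff]
      intro i hi
      have := isIso_πLT_f S (a + 1) i (by omega)
      exact (h1 i hi).of_iso (asIso ((πLT S (a + 1)).f i)).symm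
    have hLE : (sigmaLT S (a + 1)).IsStrictlyLE a := by
      rw [CochainComplex.isStrictlyLE_iff]
      intro i hi
      exact isZero_sigmaLT_X S (a + 1) i (by omega)
    obtain ⟨M, ⟨e⟩⟩ := (sigmaLT S (a + 1)).exists_iso_single a
    have hM : FlatMod.IsFinLocFree M := by
      have := isIso_πLT_f S (a + 1) a (by omega)
      let e1 : S.X a ≅ (sigmaLT S (a + 1)).X a := asIso ((πLT S (a + 1)).f a)
      let e2 : (sigmaLT S (a + 1)).X a ≅ M :=
        (HomologicalComplex.eval _ _ a).mapIso e ≪≫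
          HomologicalComplex.singleObjXSelf (ComplexShape.up ℤ) a M
      exact Groth.Agent.Lib.Helper14.isFinLocFree_of_iso (e1 ≪≫ e2) (hfl a)
    have hg0 : ∀ g' : Q.obj (sigmaLT S (a + 1)) ⟶ L⟦n⟧, g' = 0 := by
      intro g'
      let e3 : Q.obj (sigmaLT S (a + 1)) ≅ (DerivedCategory.singleFunctor Z.Modules a).obj M :=
        Q.mapIso e ≪≫ ((DerivedCategory.singleFunctorIsoCompQ Z.Modules a).app M).symm
      have h0 := hom_single_eq_zero M hM L hL b hb a n hn (e3.inv ≫ g')
      rw [← cancel_epi e3.inv, h0, comp_zero]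
    rw [hg, hg0 g]
    exact comp_zero

end Groth.Agent.H57.HomPerfBase
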