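import Mathlib
import Groth.Agent.H57.QcqsInduction

/-!
# Relative Mayer–Vietoris induction (helper57)

Fix a scheme `X` and a set `𝓖` of "good" opens of `X`.  A property `P Z j` of open immersions
`j : Z ⟶ X` which holds for affine `Z` mapping into a good open (and for empty `Z`) and satisfies
Mayer–Vietoris holds for every quasi-compact quasi-separated `Z` whose image is covered by good
opens.
-/

set_option autoImplicit false
universe u
open CategoryTheory CategoryTheory.Limits AlgebraicGeometry TopologicalSpace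

namespace Groth.Agent.H57.QcqsInductionRel

open Groth.Agent.H57.QcqsInduction

variable {X : Scheme.{u}} (P : ∀ (Z : Scheme.{u}) (_ : Z ⟶ X), Prop) (𝓖 : Set X.Opens)
  (h_empty : ∀ (Z : Scheme.{u}) (j : Z ⟶ X) [IsOpenImmersion j], IsEmpty Z → P Z j)
  (h_base : ∀ (Z : Scheme.{u}) (j : Z ⟶ X) [IsOpenImmersion j], IsAffine Z →
    (∃ G ∈ 𝓖, j.opensRange ≤ G) → P Z j)
  (h_MV : ∀ (Z : Scheme.{u}) (j : Z ⟶ X) [IsOpenImmersion j] (U V : Z.Opens), U ⊔ V = ⊤ →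
    P U (U.ι ≫ j) → P V (V.ι ≫ j) → P ((U ⊓ V : Z.Opens) : Scheme.{u}) ((U ⊓ V).ι ≫ j) → P Z j)

lemma opensRange_comp_le {Z : Scheme.{u}} (j : Z ⟶ X) [IsOpenImmersion j] (U : Z.Opens) :
    (U.ι ≫ j).opensRange ≤ j.opensRange := by
  rintro _ ⟨y, rfl⟩
  exact ⟨U.ι y, by simp⟩

lemma opensRange_comp_le_of_le {Z : Scheme.{u}} (j : Z ⟶ X) [IsOpenImmersion j] {U V : Z.Opens}
    (h : U ≤ V) : (U.ι ≫ j).opensRange ≤ (V.ι ≫ j).opensRange := by
  rintro _ ⟨y, rfl⟩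
  exact ⟨⟨U.ι y, h y.2⟩, by simp⟩

include h_base h_MV in
/-- Claim 1: everything quasi-compact quasi-separated inside a single good open. -/
theorem claim1 (Z : Scheme.{u}) [CompactSpace Z] [QuasiSeparatedSpace Z] (j : Z ⟶ X)
    [IsOpenImmersion j] (hG : ∃ G ∈ 𝓖, j.opensRange ≤ G) : P Z j := by
  have key := qcqs_induction
    (fun Z => ∀ (j : Z ⟶ X) [IsOpenImmersion j], (∃ G ∈ 𝓖, j.opensRange ≤ G) → P Z j)
    (fun Y hY j _ hG => h_base Y j hY hG)
    (fun Y U V hUV hU hV hW j _ hG => by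
      obtain ⟨G, hG1, hG2⟩ := hG
      exact h_MV Y j U V hUV
        (hU (U.ι ≫ j) ⟨G, hG1, (opensRange_comp_le j U).trans hG2⟩)
        (hV (V.ι ≫ j) ⟨G, hG1, (opensRange_comp_le j V).trans hG2⟩)
        (hW ((U ⊓ V).ι ≫ j) ⟨G, hG1, (opensRange_comp_le j (U ⊓ V)).trans hG2⟩)) Z
  exact key j hG

/-- preimages in an open subscheme of a finite family of opens. -/
lemma preimage_cover' {Y : Scheme.{u}} (W : Y.Opens) (s : Finset Y.Opens)
    (hs : ∀ U ∈ s, IsAffineOpen U) (hsW : ∀ U ∈ s, U ≤ W) (hW : W ≤ ⨆ U ∈ s, U) :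
    ∃ t : Finset (W : Scheme.{u}).Opens, t.card ≤ s.card ∧
      (∀ V ∈ t, IsAffineOpen V ∧ ∃ U ∈ s, V = W.ι ⁻¹ᵁ U) ∧ (⨆ V ∈ t, V) = ⊤ := by
  classical
  refine ⟨s.image (fun U => W.ι ⁻¹ᵁ U), Finset.card_image_le, ?_, ?_⟩
  · intro V hV
    obtain ⟨U, hU, rfl⟩ := Finset.mem_image.mp hV
    exact ⟨(hs U hU).preimage_of_isOpenImmersion W.ι
      (by rw [Scheme.Opens.opensRange_ι]; exact hsW U hU), U, hU, rfl⟩
  · rw [Finset.iSup_finset_image]
    have h1 : (⨆ U ∈ s, W.ι ⁻¹ᵁ U) = W.ι ⁻¹ᵁ (⨆ U ∈ s, U) := by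
      simp only [Scheme.Hom.preimage_iSup]
    rw [h1, eq_top_iff]
    intro x _
    exact hW x.2

include h_empty h_base h_MV in
/-- Claim 2: induction on the number of affine opens, each mapping into a good open. -/
theorem claim2 : ∀ (n : ℕ) (Z : Scheme.{u}) [QuasiSeparatedSpace Z] (j : Z ⟶ X)
    [IsOpenImmersion j] (s : Finset Z.Opens), s.card ≤ n →
    (∀ U ∈ s, IsAffineOpen U ∧ ∃ G ∈ 𝓖, (U.ι ≫ j).opensRange ≤ G) → (⨆ U ∈ s, U) = ⊤ →
    P Z j := by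
  classical
  intro n
  induction n with
  | zero =>
    intro Z _ j _ s hs _ hcov
    have : s = ∅ := Finset.card_eq_zero.mp (Nat.le_zero.mp hs)
    subst this
    have hbt : (⊥ : Z.Opens) = ⊤ := by simpa using hcov
    have : IsEmpty Z := by
      refine ⟨fun y => ?_⟩
      have hy : y ∈ (⊤ : Z.Opens) := trivial
      rw [← hbt] at hy
      exact hy
    exact h_empty Z j this
  | succ n ih =>
    intro Z _ j _ s hs haff hcov
    rcases s.eq_empty_or_nonempty with rfl | ⟨U₀, hU₀⟩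
    · have hbt : (⊥ : Z.Opens) = ⊤ := by simpa using hcov
      have : IsEmpty Z := by
        refine ⟨fun y => ?_⟩
        have hy : y ∈ (⊤ : Z.Opens) := trivial
        rw [← hbt] at hy
        exact hy
      exact h_empty Z j this
    set s' := s.erase U₀ with hs'
    have hcard : s'.card ≤ n := by
      rw [hs', Finset.card_erase_of_mem hU₀]; omega
    have haff' : ∀ U ∈ s', IsAffineOpen U ∧ ∃ G ∈ 𝓖, (U.ι ≫ j).opensRange ≤ G :=
      fun U hU => haff U (Finset.mem_of_mem_erase hU)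
    have hcov' : (⨆ U ∈ s', U) ⊔ U₀ = ⊤ := by
      rw [← hcov, ← Finset.insert_erase hU₀, Finset.iSup_insert, sup_comm]
    set W' : Z.Opens := ⨆ U ∈ s', U with hW'
    obtain ⟨hU₀aff, G₀, hG₀, hG₀le⟩ := haff U₀ hU₀
    refine h_MV Z j W' U₀ hcov' ?_ ?_ ?_
    · have : QuasiSeparatedSpace (W' : Scheme.{u}) := quasiSeparatedSpace_opens W'
      obtain ⟨t, ht, htaff, htcov⟩ := preimage_cover' W' s' (fun U hU => (haff' U hU).1)
        (fun U hU => le_biSup (fun U => U) hU) le_rfl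
      refine ih W' (W'.ι ≫ j) t (ht.trans hcard) (fun V hV => ?_) htcov
      obtain ⟨hVaff, U, hU, rfl⟩ := htaff V hV
      obtain ⟨-, G, hG, hGle⟩ := haff' U hU
      refine ⟨hVaff, G, hG, le_trans ?_ hGle⟩
      rintro _ ⟨y, rfl⟩
      refine ⟨⟨W'.ι ((W'.ι ⁻¹ᵁ U).ι y), y.2⟩, ?_⟩
      simp
    · haveI : IsAffine (U₀ : Scheme.{u}) := hU₀aff
      exact h_base U₀ (U₀.ι ≫ j) hU₀aff ⟨G₀, hG₀, hG₀le⟩
    · have : QuasiSeparatedSpace ((W' ⊓ U₀ : Z.Opens) : Scheme.{u}) :=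
        quasiSeparatedSpace_opens _
      have hc : IsCompact ((W' ⊓ U₀ : Z.Opens) : Set Z) :=
        QuasiSeparatedSpace.inter_isCompact _ _ W'.2
          (isCompact_biSup s' (fun U hU => (haff' U hU).1)) U₀.2 hU₀aff.isCompact
      have : CompactSpace ((W' ⊓ U₀ : Z.Opens) : Scheme.{u}) := compactSpace_opens _ hc
      exact claim1 P 𝓖 h_base h_MV _ ((W' ⊓ U₀).ι ≫ j)
        ⟨G₀, hG₀, (opensRange_comp_le_of_le j inf_le_right).trans hG₀le⟩

include h_empty h_base h_MV in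
/-- **Relative Mayer–Vietoris induction.** -/
theorem qcqs_induction_rel (Z : Scheme.{u}) [CompactSpace Z] [QuasiSeparatedSpace Z] (j : Z ⟶ X)
    [IsOpenImmersion j] (hcov : ∀ z : Z, ∃ G ∈ 𝓖, j z ∈ G) : P Z j := by
  classical
  choose G hG hzG using hcov
  have hA : ∀ z : Z, ∃ W : Z.Opens, IsAffineOpen W ∧ z ∈ W ∧ W ≤ j ⁻¹ᵁ (G z) := fun z => by
    obtain ⟨_, ⟨V, hV, rfl⟩, hxV, hVU⟩ :=
      Z.isBasis_affineOpens.exists_subset_of_mem_open
        (show z ∈ ((j ⁻¹ᵁ (G z) : Z.Opens) : Set Z) from hzG z) (j ⁻¹ᵁ (G z)).2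
    exact ⟨V, hV, hxV, hVU⟩
  choose W hWaff hzW hWle using hA
  obtain ⟨t, ht⟩ := isCompact_univ.elim_finite_subcover (fun z : Z => ((W z : Z.Opens) : Set Z))
    (fun z => (W z).isOpen) (fun z _ => Set.mem_iUnion.mpr ⟨z, hzW z⟩)
  refine claim2 P 𝓖 h_empty h_base h_MV (t.image W).card Z j (t.image W) le_rfl ?_ ?_
  · intro U hU
    obtain ⟨z, -, rfl⟩ := Finset.mem_image.mp hU
    refine ⟨hWaff z, G z, hG z, ?_⟩
    rintro _ ⟨y, rfl⟩
    have := hWle z y.2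
    simpa using this
  · rw [Finset.iSup_finset_image, eq_top_iff]
    intro y _
    obtain ⟨z, hz⟩ := Set.mem_iUnion.mp (ht (Set.mem_univ y))
    obtain ⟨hzt, hyz⟩ := Set.mem_iUnion.mp hz
    simp only [Opens.mem_iSup]
    exact ⟨z, hzt, hyz⟩

end Groth.Agent.H57.QcqsInductionRel
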