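import Mathlib
import Groth.Prelude.Def_DCoh3
import Groth.Agent.H57.HomPerfBase
import Groth.Agent.H57.QcqsInductionRel
import Groth.Agent.Lib.Helper30.PerfRestrict
import Groth.Agent.Lib.Helper28.LocFreeLocus

/-!
# A perfect object on a quasi-compact quasi-separated scheme has bounded `Hom`-amplitude into
`D_QCoh` (helper57)

`exists_homBoundK`: for `K` perfect on qcqs `X` there is `N` with `Hom(K, L⟦n⟧) = 0` for all
`L ∈ D_QCoh^{≤ b}` and all `n ≥ b + N`.
-/

set_option autoImplicit false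
universe u
open CategoryTheory CategoryTheory.Limits AlgebraicGeometry
attribute [local instance] HasDerivedCategory.standard

namespace Groth.Agent.H57.HomPerf

open Groth.Agent.H57.QCohSerre Groth.Agent.H57.RpushBound Groth.Agent.H57.HomMV
  Groth.Agent.H57.HomPerfBase Groth.Agent.H57.QcqsInductionRel
  Groth.Agent.Lib.Helper30.PerfRestrict
  DerivedCategory DerivedCategory.TStructure Scheme.Modules

/-- maps `K ⟶ L⟦n⟧` vanish for `L ∈ D_QCoh^{≤ b}`, `n ≥ b + N`. -/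
def HomBoundK {Z : Scheme.{u}} (K : DCoh.D Z) (N : ℤ) : Prop :=
  ∀ (L : DCoh.D Z), DCoh.IsQCohD L → ∀ b : ℤ, L.IsLE b → ∀ n : ℤ, b + N ≤ n →
    ∀ φ : K ⟶ L⟦n⟧, φ = 0

lemma HomBoundK.of_iso {Z : Scheme.{u}} {K K' : DCoh.D Z} (e : K ≅ K') {N : ℤ}
    (h : HomBoundK K N) : HomBoundK K' N := by
  intro L hL b hb n hn φ
  rw [← cancel_epi e.hom, h L hL b hb n hn (e.hom ≫ φ), comp_zero]

lemma HomBoundK.mono {Z : Scheme.{u}} {K : DCoh.D Z} {N N' : ℤ} (h : HomBoundK K N)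
    (hN : N ≤ N') : HomBoundK K N' :=
  fun L hL b hb n hn φ => h L hL b hb n (by omega) φ

/-- on the empty scheme every object of the derived category vanishes. -/
lemma isZero_of_isEmpty {Z : Scheme.{u}} [IsEmpty Z] (K : DCoh.D Z) : IsZero K := by
  have hz : ∀ i : ℤ, IsZero ((homologyFunctor Z.Modules i).obj K) := fun i =>
    Groth.Agent.Lib.Helper28.LocFreeLocus.isZero_of_forall_restrict _
      (fun y => (IsEmpty.false y).elim)
  haveI : K.IsLE 0 := by
    rw [DerivedCategory.isLE_iff]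
    exact fun i _ => hz i
  haveI : K.IsGE 1 := by
    rw [DerivedCategory.isGE_iff]
    exact fun i _ => hz i
  rw [IsZero.iff_id_eq_zero]
  exact t.zero (𝟙 K) 0 1 (by omega)

/-- the base case: an object isomorphic to a strictly perfect complex on an affine scheme. -/
theorem exists_homBoundK_of_perfObj {Z : Scheme.{u}} [IsAffine Z] (K : DCoh.D Z)
    (hK : PerfObj K) : ∃ N : ℤ, HomBoundK K N := by
  obtain ⟨S, ⟨⟨a, b', hab⟩, hfl⟩, ⟨e⟩⟩ := hK
  refine ⟨1 - a, HomBoundK.of_iso e.symm ?_⟩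
  intro L hL b hb n hn φ
  exact hom_Q_eq_zero (b' - a + 1).toNat S a hfl (fun i hi => hab i (Or.inl hi))
    (fun i hi => hab i (Or.inr (by
      have := Int.self_le_toNat (b' - a + 1)
      omega))) L hL b hb n (by omega) φ

/-- the Mayer–Vietoris step. -/
theorem homBoundK_of_mv {Z : Scheme.{u}} (K : DCoh.D Z) (U V : Z.Opens) (hUV : U ⊔ V = ⊤)
    {N₁ N₂ N₃ : ℤ} (hU : HomBoundK ((rD U.ι).obj K) N₁) (hV : HomBoundK ((rD V.ι).obj K) N₂)
    (hW : HomBoundK ((rD (U ⊓ V).ι).obj K) N₃) :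
    HomBoundK K (max (max N₁ N₂) (N₃ + 1)) := by
  intro L hL b hb n hn φ
  have key : ∀ (W : Z.Opens) (N : ℤ), HomBoundK ((rD W.ι).obj K) N → ∀ k : ℤ, b + N ≤ k →
      ∀ ψ : (DCoh.restrictD W.ι).obj K ⟶ ((DCoh.restrictD W.ι).obj L)⟦k⟧, ψ = 0 :=
    fun W N hWN k hk ψ => hWN ((DCoh.restrictD W.ι).obj L)
      (Groth.Agent.H57.QCohLpull.isQCohD_restrictD W.ι L hL) b (isLE_restrictD W.ι L b hb) k hk ψ
  exact hom_eq_zero_of_mv U V hUV K L n (key U N₁ hU n (by omega)) (key V N₂ hV n (by omega))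
    (key (U ⊓ V) N₃ hW (n - 1) (by omega)) φ

/-- restriction along the identity. -/
noncomputable def rDIdIso {X : Scheme.{u}} (K : DCoh.D X) : (rD (𝟙 X)).obj K ≅ K :=
  (rD (𝟙 X)).mapIso (Q.objObjPreimageIso K).symm ≪≫ (rDQ (𝟙 X)).app (Q.objPreimage K) ≪≫
    Q.mapIso ((NatIso.mapHomologicalComplex Scheme.Modules.restrictFunctorId
      (ComplexShape.up ℤ)).app (Q.objPreimage K) ≪≫
      (Functor.mapHomologicalComplexIdIso _ _).app (Q.objPreimage K)) ≪≫
    Q.objObjPreimageIso K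

/-- **perfect objects have bounded `Hom`-amplitude into `D_QCoh`.** -/
theorem exists_homBoundK (X : Scheme.{u}) [CompactSpace X] [QuasiSeparatedSpace X]
    (K : DCoh.D X) (hK : DCoh.IsPerfect K) : ∃ N : ℤ, HomBoundK K N := by
  let P : ∀ (Z : Scheme.{u}) (_ : Z ⟶ X), Prop := fun Z j =>
    ∀ (hj : IsOpenImmersion j), ∃ N : ℤ, HomBoundK ((@rD X Z j hj).obj K) N
  let 𝓖 : Set X.Opens := {G | PerfObj ((rD G.ι).obj K)}
  have h := qcqs_induction_rel P 𝓖
    (fun Z j _ hZ hj => by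
      haveI := hZ
      exact ⟨0, fun L _ b _ n _ φ => (isZero_of_isEmpty _).eq_of_src _ _⟩)
    (fun Z j _ hZ hG hj => by
      haveI := hZ
      obtain ⟨G, hG1, hG2⟩ := hG
      have hrange : Set.range j ⊆ Set.range G.ι := by
        rintro _ ⟨z, rfl⟩
        rw [Scheme.Opens.range_ι]
        exact hG2 ⟨z, rfl⟩
      let k : Z ⟶ (G : Scheme.{u}) := IsOpenImmersion.lift G.ι j hrange
      have hk : k ≫ G.ι = j := IsOpenImmersion.lift_fac _ _ _
      haveI : IsOpenImmersion k := by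
        haveI : IsOpenImmersion (k ≫ G.ι) := by rw [hk]; infer_instance
        exact IsOpenImmersion.of_comp k G.ι
      exact exists_homBoundK_of_perfObj _ (PerfObj.of_fac k G.ι j hk hG1))
    (fun Z j _ U V hUV hU hV hW hj => by
      obtain ⟨N₁, h₁⟩ := hU inferInstance
      obtain ⟨N₂, h₂⟩ := hV inferInstance
      obtain ⟨N₃, h₃⟩ := hW inferInstance
      exact ⟨_, homBoundK_of_mv ((rD j).obj K) U V hUV
        (h₁.of_iso ((rDComp U.ι j).app K)) (h₂.of_iso ((rDComp V.ι j).app K))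
        (h₃.of_iso ((rDComp (U ⊓ V).ι j).app K))⟩)
    X (𝟙 X) (fun z => by
      obtain ⟨V, hzV, hV⟩ := (isPerfect_iff K).1 hK z
      exact ⟨V, hV, by simpa using hzV⟩)
  obtain ⟨N, hN⟩ := h inferInstance
  exact ⟨N, hN.of_iso (rDIdIso K)⟩

end Groth.Agent.H57.HomPerf
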