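import Mathlib
import Groth.Prelude.Def_DCoh3
import Groth.Agent.H57.HomPerf
import Groth.Agent.H57.HomTrunc
import Groth.Agent.Lib.Helper58.WayOut
import Groth.Agent.Lib.Helper30.PerfRegular

/-!
# Consequences of the bounded `Hom`-amplitude of perfect objects (helper57)

* `hom_truncGE_iff` (S1022);
* `exists_vanishing_interval`, `finite_nonzero_hom` (S1011).
-/

set_option autoImplicit false
universe u
open CategoryTheory CategoryTheory.Limits AlgebraicGeometry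
attribute [local instance] HasDerivedCategory.standard

namespace Groth.Agent.H57.HomTrunc2

open Groth.Agent.H57.QCohSerre Groth.Agent.H57.HomMV Groth.Agent.H57.HomTrunc
  Groth.Agent.H57.HomPerf DerivedCategory DerivedCategory.TStructure Pretriangulated Opposite

section Generic

variable {C : Type*} [Category C] [Preadditive C] [HasShift C ℤ] [HasZeroObject C]
  [∀ (n : ℤ), (shiftFunctor C n).Additive] [Pretriangulated C]

/-- the third term version -/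
lemma hom_eq_zero_of_triangle₃ (T : Triangle C) (hT : T ∈ distTriang C) (A : C) (n₀ n₁ : ℤ)
    (h : n₀ + 1 = n₁)
    (h₂ : ∀ ψ : A ⟶ T.obj₂⟦n₀⟧, ψ = 0) (h₁ : ∀ ψ : A ⟶ T.obj₁⟦n₁⟧, ψ = 0)
    (φ : A ⟶ T.obj₃⟦n₀⟧) : φ = 0 := by
  have ex := (preadditiveCoyoneda.obj (op A)).homologySequence_exact₃ T hT n₀ n₁ h
  rw [ShortComplex.ab_exact_iff] at ex
  obtain ⟨x, hx⟩ := ex φ (h₁ _)
  have hx0 : x = 0 := h₂ x
  rw [← hx, hx0]
  exact map_zero _

end Generic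

variable {X : Scheme.{u}}

lemma isQCohD_truncLE (E : DCoh.D X) (hE : DCoh.IsQCohD E) (a : ℤ) :
    DCoh.IsQCohD ((t.truncLE a).obj E) :=
  Groth.Agent.Lib.Helper58.prop_homology_truncLE (qcP X)
    (fun Z hZ => (qcP X).prop_of_isZero hZ) E _ hE

lemma isLE_truncLE (E : DCoh.D X) (a : ℤ) : ((t.truncLE a).obj E).IsLE a :=
  inferInstanceAs (t.IsLE ((t.truncLE a).obj E) _)

/-- **S1022.** -/
theorem hom_truncGE_iff (P : DCoh.D X) {N₀ : ℤ} (hP : HomBoundK P N₀) (E : DCoh.D X)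
    (hE : DCoh.IsQCohD E) (a : ℤ) :
    (∃ N : ℤ, ∀ i : ℤ, N ≤ i → ∀ φ : P⟦-i⟧ ⟶ E, φ = 0) ↔
    (∃ N : ℤ, ∀ i : ℤ, N ≤ i → ∀ φ : P⟦-i⟧ ⟶ (t.truncGE a).obj E, φ = 0) := by
  have hT := t.triangleLEGE_distinguished (a - 1) a (by omega) E
  have hL := isQCohD_truncLE E hE (a - 1)
  have hLE := isLE_truncLE E (a - 1)
  constructor
  · rintro ⟨N, hN⟩
    refine ⟨max N (a - 1 + N₀), fun i hi => ?_⟩
    rw [forall_hom_shift_neg_iff]
    have h2 := (forall_hom_shift_neg_iff P E i).1 (hN i ((le_max_left _ _).trans hi))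
    have hi2 : a - 1 + N₀ ≤ i := (le_max_right _ _).trans hi
    exact hom_eq_zero_of_triangle₃ _ hT P i (i + 1) rfl h2
      (fun ψ => hP _ hL (a - 1) hLE (i + 1) (by omega) ψ)
  · rintro ⟨N, hN⟩
    refine ⟨max N (a - 1 + N₀), fun i hi => ?_⟩
    rw [forall_hom_shift_neg_iff]
    have h3 := (forall_hom_shift_neg_iff P ((t.truncGE a).obj E) i).1
      (hN i ((le_max_left _ _).trans hi))
    have hi2 : a - 1 + N₀ ≤ i := (le_max_right _ _).trans hi
    exact hom_eq_zero_of_triangle₂ _ hT P i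
      (fun ψ => hP _ hL (a - 1) hLE i (by omega) ψ) h3

/-- `τ_{≥ a} L ∈ D^{≥ b + 1}` when `H^i(L) = 0` for `a ≤ i ≤ b`. -/
lemma isGE_truncGE_of_isZero (L : DCoh.D X) (a b : ℤ)
    (h : ∀ i : ℤ, a ≤ i → i ≤ b → IsZero (DCoh.HD L i)) :
    ((t.truncGE a).obj L).IsGE (b + 1) := by
  rw [DerivedCategory.isGE_iff]
  intro i hi
  by_cases hia : i < a
  · haveI : ((t.truncGE a).obj L).IsGE a := inferInstanceAs (t.IsGE ((t.truncGE a).obj L) _)
    exact ((t.truncGE a).obj L).isZero_of_isGE a i hia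
  · have := Groth.Agent.Lib.Helper58.isIso_homology_truncGEπ L a i (by omega)
    exact (h i (by omega) (by omega)).of_iso
      (asIso ((homologyFunctor X.Modules i).map ((t.truncGEπ a).app L))).symm

/-- **S1011 (1).** -/
theorem exists_vanishing_interval (K : DCoh.D X) {N₀ : ℤ} (hK : HomBoundK K N₀) (c : ℤ)
    (hc : K.IsLE c) :
    ∃ a b : ℤ, a ≤ b ∧ ∀ L : DCoh.D X, DCoh.IsQCohD L →
      (∀ i : ℤ, a ≤ i → i ≤ b → IsZero (DCoh.HD L i)) → ∀ φ : K ⟶ L, φ = 0 := by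
  refine ⟨min (1 - N₀) c, c, min_le_right _ _, fun L hL hz φ => ?_⟩
  set a := min (1 - N₀) c with ha
  have ha1 : a ≤ 1 - N₀ := min_le_left _ _
  have hT := t.triangleLEGE_distinguished (a - 1) a (by omega) L
  have h3 : ∀ ψ : K ⟶ ((t.truncGE a).obj L)⟦(0 : ℤ)⟧, ψ = 0 := by
    intro ψ
    haveI : t.IsLE K c := hc
    haveI : t.IsGE ((t.truncGE a).obj L) (c + 1) := isGE_truncGE_of_isZero L a c hz
    haveI : t.IsGE (((t.truncGE a).obj L)⟦(0 : ℤ)⟧) (c + 1) :=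
      t.isGE_shift _ (c + 1) 0 (c + 1) (by omega)
    exact t.zero ψ c (c + 1) (by omega)
  have key : ∀ ψ : K ⟶ L⟦(0 : ℤ)⟧, ψ = 0 :=
    hom_eq_zero_of_triangle₂ _ hT K 0
      (fun ψ => hK _ (isQCohD_truncLE L hL (a - 1)) (a - 1) (isLE_truncLE L (a - 1)) 0
        (by omega) ψ) h3
  have h0 := key (φ ≫ (shiftFunctorZero (DCoh.D X) ℤ).inv.app L)
  rw [← cancel_mono ((shiftFunctorZero (DCoh.D X) ℤ).inv.app L), h0, zero_comp]

/-- **S1011 (2).** -/
theorem finite_nonzero_hom (K : DCoh.D X) {N₀ : ℤ} (hK : HomBoundK K N₀) (c : ℤ)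
    (hc : K.IsLE c) (L : DCoh.D X) (a' b' : ℤ) (hL : DCoh.IsQCohD L) (hLa : L.IsGE a')
    (hLb : L.IsLE b') : {n : ℤ | ∃ φ : K ⟶ L⟦n⟧, φ ≠ 0}.Finite := by
  refine (Set.finite_Icc (a' - c) (b' + N₀)).subset ?_
  rintro n ⟨φ, hφ⟩
  by_contra hn
  apply hφ
  rw [Set.mem_Icc, not_and_or, not_le, not_le] at hn
  rcases hn with hn | hn
  · haveI : t.IsLE K c := hc
    haveI : t.IsGE L a' := hLa
    haveI : t.IsGE (L⟦n⟧) (a' - n) := t.isGE_shift _ a' n (a' - n) (by omega)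
    exact t.zero φ c (a' - n) (by omega)
  · exact hK L hL b' hLb n (by omega) φ

end Groth.Agent.H57.HomTrunc2
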