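import Mathlib
import Groth.Prelude.Def_DCoh3
import Groth.Agent.H57.CoprodFin
import Groth.Agent.H57.HomFLF
import Groth.Agent.H57.HomTrunc2
import Groth.Agent.S1040

/-!
# `O_X[m]` is compact relative to `D_QCoh` and to uniformly bounded below families (helper57)

`X` quasi-compact quasi-separated.  Every morphism `O_X[m] ⟶ ∐ K i` with all `K i ∈ D_QCoh(O_X)`
(or all `K i ∈ D^{≥ a}`) is a finite sum of morphisms through the summands.
-/

set_option autoImplicit false
universe u
open CategoryTheory CategoryTheory.Limits AlgebraicGeometry TopologicalSpace Opposite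
attribute [local instance] HasDerivedCategory.standard

namespace Groth.Agent.H57.CoprodFinQ

open Groth.Agent.H57.CoprodFin Groth.Agent.H57.HomFLF Groth.Agent.H57.HomTrunc2
  DerivedCategory DerivedCategory.TStructure Pretriangulated

section General

variable {D D' : Type*} [Category D] [Category D'] [Preadditive D] [Preadditive D']

/-- the image of a cofan under a functor -/
abbrev mapCofan (F : D ⥤ D') {ι : Type*} {K : ι → D} (c : Cofan K) :
    Cofan (fun i => F.obj (K i)) :=
  Cofan.mk (F.obj c.pt) (fun i => F.map (c.inj i))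

/-- the image of a colimit cofan under a functor preserving the colimit is a colimit cofan -/
noncomputable def isColimitMapCofan (F : D ⥤ D') {ι : Type*} {K : ι → D} (c : Cofan K)
    (hc : IsColimit c) [PreservesColimit (Discrete.functor K) F] : IsColimit (mapCofan F c) := by
  have hc' : IsColimit (Cofan.mk c.pt c.inj) :=
    IsColimit.ofIsoColimit hc (Cofan.ext (Iso.refl _) (fun i => by simp))
  exact isColimitCofanMkObjOfIsColimit F K c.inj hc'

lemma FinFac.of_map (F : D ⥤ D') [F.Additive] [F.Full] [F.Faithful] {G : D} {ι : Type*}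
    {K : ι → D} {c : Cofan K} (h : FinFac (F.obj G) (mapCofan F c)) : FinFac G c := by
  intro φ
  obtain ⟨T, ψ, hψ⟩ := h (F.map φ)
  refine ⟨T, fun i => F.preimage (ψ i), ?_⟩
  apply F.map_injective
  rw [hψ, Functor.map_sum]
  refine Finset.sum_congr rfl (fun i _ => ?_)
  rw [Functor.map_comp, Functor.map_preimage]
  rfl

end General

section Shift

variable {D : Type*} [Category D] [Preadditive D] [HasShift D ℤ]
  [∀ n : ℤ, (shiftFunctor D n).Additive]

/-- to show that `G⟦m⟧` has the finite factorization property for `c`, it suffices to show that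
`G` has it for the shifted cofan. -/
lemma FinFac.shift {G : D} {ι : Type*} {K : ι → D} {c : Cofan K} (m : ℤ)
    (h : FinFac G (mapCofan (shiftFunctor D (-m)) c)) : FinFac (G⟦m⟧) c := by
  apply FinFac.of_map (shiftFunctor D (-m))
  exact FinFac.of_iso_left ((shiftEquiv D m).unitIso.app G) h

end Shift

variable (X : Scheme.{u}) [CompactSpace X] [QuasiSeparatedSpace X]

/-- **`O_X[m]` is compact with respect to uniformly bounded below families.** -/
theorem finFac_shift_of_isGE {I : Type u} (M : I → DCoh.D X) (a : ℤ) (hM : ∀ i, (M i).IsGE a)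
    (c : Cofan M) (hc : IsColimit c) (m : ℤ) :
    FinFac ((DCoh.inD X (Coh.structureModule X))⟦m⟧) c := by
  apply FinFac.shift
  refine finFac_unit_of_isGE X (fun i => (M i)⟦-m⟧) (a + m) (fun i => ?_) _
    (isColimitMapCofan (shiftFunctor (DCoh.D X) (-m)) c hc)
  have := hM i
  exact t.isGE_shift (M i) a (-m) (a + m) (by omega)

lemma isFinLocFree_unit (Z : Scheme.{u}) : FlatMod.IsFinLocFree (Coh.structureModule Z) := fun _ =>
  ⟨⊤, 1, trivial, ⟨Scheme.Modules.restrictUnitIso (⊤ : Z.Opens).ι ≪≫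
    (Limits.coproductUniqueIso (fun _ : Fin 1 => Coh.structureModule _)).symm⟩⟩

omit [CompactSpace X] [QuasiSeparatedSpace X] in
lemma isQCohD_of_iso' {K K' : DCoh.D X} (e : K ≅ K') (h : DCoh.IsQCohD K) :
    DCoh.IsQCohD K' := fun i =>
  Groth.Agent.Lib.Helper49.isQuasicoherent_of_iso
    ((DerivedCategory.homologyFunctor X.Modules i).mapIso e) (h i)

omit [CompactSpace X] [QuasiSeparatedSpace X] in
lemma isQCohD_pt {I : Type u} (K : I → DCoh.D X) (hK : ∀ i, DCoh.IsQCohD (K i))
    (c : Cofan K) (hc : IsColimit c) : DCoh.IsQCohD c.pt := by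
  haveI : HasCoproduct K := ⟨⟨c, hc⟩⟩
  exact isQCohD_of_iso' X ((coproductIsCoproduct K).coconePointUniqueUpToIso hc)
    (Groth.Agent.S1040.result X K hK)

omit [CompactSpace X] [QuasiSeparatedSpace X] in
/-- coproducts of small families exist in `D(O_X)` -/
lemma hasCoproduct_D {I : Type u} (K : I → DCoh.D X) : HasCoproduct K := by
  haveI hGA : IsGrothendieckAbelian.{u} X.Modules :=
    Groth.Agent.Lib.Helper32.OpenKInj.isGrothendieckAbelian_modules X
  haveI hfb : HasFiniteBiproducts X.Modules := HasFiniteBiproducts.of_hasFiniteProducts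
  haveI hex : HasExactColimitsOfShape (Discrete I) X.Modules :=
    hasExactColimitsOfShape_discrete_of_hasExactColimitsOfShape_finset_discrete X.Modules I
  exact Groth.Agent.Lib.Helper32.DCoprod.hasCoproduct_derivedCategory K

/-- **`O_X[0]` is compact relative to `D_QCoh(O_X)`** on a quasi-compact quasi-separated
scheme. -/
theorem finFac_unit_of_isQCohD {I : Type u} (K : I → DCoh.D X) (hK : ∀ i, DCoh.IsQCohD (K i))
    (c : Cofan K) (hc : IsColimit c) : FinFac (DCoh.inD X (Coh.structureModule X)) c := by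
  classical
  obtain ⟨N, hN⟩ := exists_hBound X
  have hF := isFinLocFree_unit X
  -- vanishing of maps into `D_QCoh^{≤ -N}`
  have van1 : ∀ E : DCoh.D X, DCoh.IsQCohD E → E.IsLE (-N) →
      ∀ φ : DCoh.inD X (Coh.structureModule X) ⟶ E⟦(1 : ℤ)⟧, φ = 0 :=
    fun E hE hb φ => hN E hE (-N) hb _ hF 1 (by omega) φ
  have van0 : ∀ E : DCoh.D X, DCoh.IsQCohD E → E.IsLE (-N) →
      ∀ φ : DCoh.inD X (Coh.structureModule X) ⟶ E, φ = 0 := by
    intro E hE hb φ
    have h := hN E hE (-N) hb _ hF 0 (by omega)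
      (φ ≫ (shiftFunctorZero (DCoh.D X) ℤ).inv.app E)
    have h2 : φ = (φ ≫ (shiftFunctorZero (DCoh.D X) ℤ).inv.app E) ≫
        (shiftFunctorZero (DCoh.D X) ℤ).hom.app E := by
      rw [Category.assoc, Iso.inv_hom_id_app]
      exact (Category.comp_id φ).symm
    rw [h2, h, zero_comp]
  -- the truncated family
  let K' : I → DCoh.D X := fun i => (t.truncGE (-N + 1)).obj (K i)
  have hK' : ∀ i, (K' i).IsGE (-N + 1) := fun i =>
    inferInstanceAs (t.IsGE ((t.truncGE (-N + 1)).obj (K i)) _)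
  haveI : HasCoproduct K' := hasCoproduct_D X K'
  let π : ∀ i, K i ⟶ K' i := fun i => (t.truncGEπ (-N + 1)).app (K i)
  let σ : c.pt ⟶ ∐ K' := Cofan.IsColimit.desc hc (fun i => π i ≫ Sigma.ι K' i)
  let ρ : ∐ K' ⟶ (t.truncGE (-N + 1)).obj c.pt :=
    Sigma.desc (fun i => (t.truncGE (-N + 1)).map (c.inj i))
  have hσ : ∀ i, c.inj i ≫ σ = π i ≫ Sigma.ι K' i := fun i => Cofan.IsColimit.fac hc _ i
  have hσρ : σ ≫ ρ = (t.truncGEπ (-N + 1)).app c.pt := by
    apply Cofan.IsColimit.hom_ext hc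
    intro i
    rw [reassoc_of% (hσ i), Sigma.ι_desc]
    exact ((t.truncGEπ (-N + 1)).naturality (c.inj i)).symm
  have hcq : DCoh.IsQCohD c.pt := isQCohD_pt X K hK c hc
  intro φ
  obtain ⟨T, ψ', hψ'⟩ := finFac_unit_of_isGE X K' (-N + 1) hK' (Cofan.mk (∐ K') (Sigma.ι K'))
    (coproductIsCoproduct K') (φ ≫ σ)
  -- lift the components
  have hlift : ∀ i, ∃ ψ : DCoh.inD X (Coh.structureModule X) ⟶ K i, ψ ≫ π i = ψ' i := by
    intro i
    have hT := t.triangleLEGE_distinguished (-N) (-N + 1) rfl (K i)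
    have h0 : ψ' i ≫ ((t.triangleLEGE (-N) (-N + 1) rfl).obj (K i)).mor₃ = 0 :=
      van1 _ (isQCohD_truncLE (K i) (hK i) (-N)) (isLE_truncLE (K i) (-N)) _
    obtain ⟨g, hg⟩ := Triangle.coyoneda_exact₃ _ hT (ψ' i) h0
    exact ⟨g, hg.symm⟩
  choose ψ hψ using hlift
  refine ⟨T, ψ, ?_⟩
  have hφ' : (φ - ∑ i ∈ T, ψ i ≫ c.inj i) ≫ σ = 0 := by
    rw [Preadditive.sub_comp, Preadditive.sum_comp, hψ', sub_eq_zero]
    refine Finset.sum_congr rfl (fun i _ => ?_)
    rw [Category.assoc, hσ i, ← Category.assoc, hψ i]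
    rfl
  have h1 : (φ - ∑ i ∈ T, ψ i ≫ c.inj i) ≫ (t.truncGEπ (-N + 1)).app c.pt = 0 := by
    rw [← hσρ, ← Category.assoc, hφ', zero_comp]
  have hTK := t.triangleLEGE_distinguished (-N) (-N + 1) rfl c.pt
  obtain ⟨g, hg⟩ := Triangle.coyoneda_exact₂ _ hTK _ h1
  have hg0 : g = 0 := van0 _ (isQCohD_truncLE c.pt hcq (-N)) (isLE_truncLE c.pt (-N)) g
  rw [hg0, zero_comp] at hg
  exact sub_eq_zero.1 hg

/-- **`O_X[m]` is compact relative to `D_QCoh(O_X)`.** -/
theorem finFac_shift_of_isQCohD {I : Type u} (K : I → DCoh.D X) (hK : ∀ i, DCoh.IsQCohD (K i))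
    (c : Cofan K) (hc : IsColimit c) (m : ℤ) :
    FinFac ((DCoh.inD X (Coh.structureModule X))⟦m⟧) c := by
  apply FinFac.shift
  refine finFac_unit_of_isQCohD X (fun i => (K i)⟦-m⟧) (fun i => ?_) _
    (isColimitMapCofan (shiftFunctor (DCoh.D X) (-m)) c hc)
  exact Groth.Agent.Lib.Helper32.WayOut2.cohIn_shift (Groth.Agent.H57.QCohSerre.qcP X) (-m) (hK i)

end Groth.Agent.H57.CoprodFinQ
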