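import Groth.Agent.H57.Conductor

/-!
# Euler's formula for the trace dual of `O_P[y]`, with the algebra structure as a parameter
-/

set_option autoImplicit false

namespace Groth.Agent.H57.Euler

open FunFld Groth.Agent.FF Groth.Agent.FF.Ext WithZero

universe u v

variable {k : Type u} {K₀ K : Type v} [Field k] [Field K₀] [Field K] [Algebra k K₀]
  [Algebra K₀ K] [FiniteDimensional K₀ K] [Algebra.IsSeparable K₀ K]

open Polynomial in
/-- Euler's formula for the trace dual of `O[y]`, elementwise. -/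
theorem mul_delta_mem_adjoin_iff (P₀ : Place k K₀) [Algebra P₀.O K] [IsScalarTower P₀.O K₀ K]
    (y : K) (hy : IsIntegral P₀.O y)
    (hgen : Algebra.adjoin K₀ {y} = ⊤) (w : K) :
    w * aeval y (derivative (minpoly K₀ y)) ∈ Algebra.adjoin P₀.O {y} ↔
      ∀ r ∈ Algebra.adjoin P₀.O {y}, P₀.1 (Algebra.trace K₀ K (w * r)) ≤ 1 := by
  have hE := traceForm_dualSubmodule_adjoin P₀.O K₀ hgen hy
  have hδ := Cond.delta_ne_zero (K₀ := K₀) y
  set δ := aeval y (derivative (minpoly K₀ y)) with hδdef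
  have h1 : w ∈ (Algebra.traceForm K₀ K).dualSubmodule
      (Subalgebra.toSubmodule (Algebra.adjoin P₀.O {y})) ↔
      ∀ r ∈ Algebra.adjoin P₀.O {y}, P₀.1 (Algebra.trace K₀ K (w * r)) ≤ 1 := by
    rw [LinearMap.BilinForm.mem_dualSubmodule]
    refine forall₂_congr fun r _ => ?_
    rw [Algebra.traceForm_apply, Submodule.mem_one]
    constructor
    · rintro ⟨a, ha⟩
      rw [← ha]
      exact a.2
    · intro h
      exact ⟨⟨_, h⟩, rfl⟩
  rw [← h1, hE, Submodule.mem_smul_pointwise_iff_exists]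
  constructor
  · intro h
    refine ⟨w * δ, h, ?_⟩
    rw [smul_eq_mul, mul_comm w, inv_mul_cancel_left₀ hδ]
  · rintro ⟨b, hb, rfl⟩
    rw [smul_eq_mul, mul_comm, mul_inv_cancel_left₀ hδ]
    exact hb

end Groth.Agent.H57.Euler
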