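import Mathlib
import Groth.Agent.H57.CoprodFinQ

/-!
# Transfer of the finite factorization property, and an isomorphism criterion (helper57)

* `FinFac.of_adj`, `FinFac.of_adj'`: transfer of `FinFac` across an additive adjunction.
* `FinFac.of_natIso`: transfer along a natural isomorphism of functors.
* `isIso_desc_of_finFac`: the comparison map `∐ F (K i) ⟶ F (∐ K i)` is an isomorphism as soon as a
  class of objects detecting zero objects has the finite factorization property with respect to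
  `F (∐ K)` and `(∐ F K)[1]`.
-/

set_option autoImplicit false
open CategoryTheory CategoryTheory.Limits

namespace Groth.Agent.H57.FinFacAdj

open Groth.Agent.H57.CoprodFin Groth.Agent.H57.CoprodFinQ Pretriangulated

section General

variable {D D' : Type*} [Category D] [Category D'] [Preadditive D] [Preadditive D']

lemma FinFac.of_adj {L : D' ⥤ D} {R : D ⥤ D'} (adj : L ⊣ R) [L.Additive] {G : D'} {ι : Type*}
    {K : ι → D} {c : Cofan K} (h : FinFac G (mapCofan R c)) : FinFac (L.obj G) c := by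
  intro φ
  obtain ⟨T, ψ, hψ⟩ := h (adj.homEquiv _ _ φ)
  refine ⟨T, fun i => (adj.homEquiv _ _).symm (ψ i), ?_⟩
  apply (adj.homEquiv _ _).injective
  rw [hψ]
  have h1 : (adj.homEquiv G c.pt) (∑ i ∈ T, (adj.homEquiv G (K i)).symm (ψ i) ≫ c.inj i) =
      ∑ i ∈ T, (adj.homEquiv G c.pt) ((adj.homEquiv G (K i)).symm (ψ i) ≫ c.inj i) :=
    map_sum (adj.homAddEquiv G c.pt) _ T
  rw [h1]
  refine Finset.sum_congr rfl (fun i _ => ?_)
  rw [Adjunction.homEquiv_naturality_right, Equiv.apply_symm_apply]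
  rfl

lemma FinFac.of_adj' {L : D' ⥤ D} {R : D ⥤ D'} (adj : L ⊣ R) [L.Additive] {G : D'} {ι : Type*}
    {K : ι → D} {c : Cofan K} (h : FinFac (L.obj G) c) : FinFac G (mapCofan R c) := by
  intro φ
  obtain ⟨T, ψ, hψ⟩ := h ((adj.homEquiv _ _).symm φ)
  refine ⟨T, fun i => adj.homEquiv _ _ (ψ i), ?_⟩
  have h0 : φ = adj.homEquiv _ _ ((adj.homEquiv _ _).symm φ) := (Equiv.apply_symm_apply _ _).symm
  rw [h0, hψ]
  have h1 : (adj.homEquiv G c.pt) (∑ i ∈ T, ψ i ≫ c.inj i) =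
      ∑ i ∈ T, (adj.homEquiv G c.pt) (ψ i ≫ c.inj i) :=
    map_sum (adj.homAddEquiv G c.pt) _ T
  rw [h1]
  refine Finset.sum_congr rfl (fun i _ => ?_)
  rw [Adjunction.homEquiv_naturality_right]
  rfl

lemma FinFac.of_natIso {F F' : D ⥤ D'} (e : F ≅ F') {G : D'} {ι : Type*}
    {K : ι → D} {c : Cofan K} (h : FinFac G (mapCofan F c)) : FinFac G (mapCofan F' c) := by
  intro φ
  obtain ⟨T, ψ, hψ⟩ := h (φ ≫ e.inv.app c.pt)
  refine ⟨T, fun i => ψ i ≫ e.hom.app (K i), ?_⟩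
  have h0 : φ = (φ ≫ e.inv.app c.pt) ≫ e.hom.app c.pt := by
    rw [Category.assoc, Iso.inv_hom_id_app]
    exact (Category.comp_id φ).symm
  rw [h0, hψ, Preadditive.sum_comp]
  refine Finset.sum_congr rfl (fun i _ => ?_)
  rw [Category.assoc, Category.assoc]
  congr 1
  exact e.hom.naturality (c.inj i)

end General

section Criterion

variable {D D' : Type*} [Category D] [Category D'] [Preadditive D] [Preadditive D']
  [HasZeroObject D'] [HasShift D' ℤ] [∀ n : ℤ, (shiftFunctor D' n).Additive] [Pretriangulated D']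

/-- **Isomorphism criterion** for the comparison map `∐ F (K i) ⟶ F (∐ K i)`. -/
theorem isIso_desc_of_finFac (F : D ⥤ D') [F.Additive] {ι : Type*} {K : ι → D} (cK : Cofan K)
    (hcK : IsColimit cK) (cFK : Cofan (fun i => F.obj (K i))) (hcFK : IsColimit cFK)
    (𝒢 : D' → Prop)
    (det : ∀ (C : D') (g : F.obj cK.pt ⟶ C) (h : C ⟶ cFK.pt⟦(1 : ℤ)⟧),
      Triangle.mk (Cofan.IsColimit.desc hcFK (fun i => F.map (cK.inj i))) g h ∈ distTriang D' →
      (∀ G, 𝒢 G → ∀ φ : G ⟶ C, φ = 0) → IsZero C)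
    (hII : ∀ G, 𝒢 G → FinFac G (mapCofan F cK))
    (hIII : ∀ G, 𝒢 G → FinFac G (mapCofan (shiftFunctor D' (1 : ℤ)) cFK)) :
    IsIso (Cofan.IsColimit.desc hcFK (fun i => F.map (cK.inj i))) := by
  classical
  set c := Cofan.IsColimit.desc hcFK (fun i => F.map (cK.inj i)) with hc
  have hci : ∀ i, cFK.inj i ≫ c = F.map (cK.inj i) := fun i => Cofan.IsColimit.fac hcFK _ i
  obtain ⟨C, g, h, hT⟩ := distinguished_cocone_triangle c
  refine (Triangle.isZero₃_iff_isIso₁ _ hT).1 ?_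
  refine det C g h hT (fun G hG φ => ?_)
  -- projections
  let π : ∀ k, cK.pt ⟶ K k := fun k =>
    Cofan.IsColimit.desc hcK (fun i => if hik : i = k then eqToHom (by rw [hik]) else 0)
  have hπ : ∀ i k, cK.inj i ≫ π k = if hik : i = k then eqToHom (by rw [hik]) else 0 :=
    fun i k => Cofan.IsColimit.fac hcK _ i
  -- `φ ≫ h = 0`
  have hx : φ ≫ h = 0 := by
    obtain ⟨T, ψ, hψ⟩ := hIII G hG (φ ≫ h)
    have h0 : (φ ≫ h) ≫ c⟦(1 : ℤ)⟧' = 0 := by
      rw [Category.assoc]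
      have h00 : h ≫ c⟦(1 : ℤ)⟧' = 0 := comp_distTriang_mor_zero₃₁ _ hT
      rw [h00, comp_zero]
    have hk : ∀ k ∈ T, ψ k = 0 := by
      intro k hkT
      have h1 : (φ ≫ h) ≫ c⟦(1 : ℤ)⟧' ≫ (F.map (π k))⟦(1 : ℤ)⟧' = 0 := by
        rw [← Category.assoc, h0, zero_comp]
      rw [hψ, Preadditive.sum_comp] at h1
      have h2 : ∀ i ∈ T, (ψ i ≫ (mapCofan (shiftFunctor D' (1 : ℤ)) cFK).inj i) ≫
          c⟦(1 : ℤ)⟧' ≫ (F.map (π k))⟦(1 : ℤ)⟧' = if i = k then ψ k else 0 := by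
        intro i _
        have h3 : (mapCofan (shiftFunctor D' (1 : ℤ)) cFK).inj i ≫
            c⟦(1 : ℤ)⟧' ≫ (F.map (π k))⟦(1 : ℤ)⟧' = (F.map (cK.inj i ≫ π k))⟦(1 : ℤ)⟧' := by
          show (cFK.inj i)⟦(1 : ℤ)⟧' ≫ _ = _
          rw [← Functor.map_comp, ← Functor.map_comp, ← Category.assoc, hci i, ← F.map_comp]
        rw [Category.assoc, h3, hπ i k]
        by_cases hik : i = k
        · subst hik
          simp
        · simp [hik]
      rw [Finset.sum_congr rfl h2, Finset.sum_ite_eq' T k, if_pos hkT] at h1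
      exact h1
    rw [hψ]
    exact Finset.sum_eq_zero (fun i hi => by rw [hk i hi, zero_comp])
  obtain ⟨y, hy⟩ := Triangle.coyoneda_exact₃ _ hT φ hx
  change G ⟶ F.obj cK.pt at y
  change φ = y ≫ g at hy
  obtain ⟨T, ψ, hψ⟩ := hII G hG y
  have hy2 : y = (∑ i ∈ T, ψ i ≫ cFK.inj i) ≫ c := by
    rw [hψ, Preadditive.sum_comp]
    refine Finset.sum_congr rfl (fun i _ => ?_)
    rw [Category.assoc, hci i]
    rfl
  have h12 : c ≫ g = 0 := comp_distTriang_mor_zero₁₂ _ hT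
  rw [hy, hy2, Category.assoc, h12, comp_zero]

end Criterion

end Groth.Agent.H57.FinFacAdj
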