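import Mathlib.Data.Finset.Card
import Mathlib.Order.Interval.Finset.Nat
import Mathlib.Data.Nat.Find
import Mathlib.Tactic

set_option autoImplicit false

namespace Groth.Agent.H57

/-- number of "gaps" in `[1, N]` -/
noncomputable def gapCount (G : ℕ → Prop) (N : ℕ) : ℕ := by
  classical exact ((Finset.Icc 1 N).filter G).card

theorem gapCount_mono (G : ℕ → Prop) {N M : ℕ} (h : N ≤ M) : gapCount G N ≤ gapCount G M := by
  classical
  unfold gapCount
  apply Finset.card_le_card
  intro m hm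
  simp only [Finset.mem_filter, Finset.mem_Icc] at hm ⊢
  exact ⟨⟨hm.1.1, hm.1.2.trans h⟩, hm.2⟩

theorem gapCount_eq_of_no_gap (G : ℕ → Prop) {N M : ℕ} (h : N ≤ M)
    (hno : ∀ m, N < m → m ≤ M → ¬ G m) : gapCount G M = gapCount G N := by
  classical
  unfold gapCount
  congr 1
  ext m
  simp only [Finset.mem_filter, Finset.mem_Icc]
  constructor
  · rintro ⟨⟨h1, h2⟩, hG⟩
    refine ⟨⟨h1, ?_⟩, hG⟩
    by_contra hlt
    push Not at hlt
    exact hno m hlt h2 hG
  · rintro ⟨⟨h1, h2⟩, hG⟩
    exact ⟨⟨h1, h2.trans h⟩, hG⟩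

theorem gapCount_succ_of_gap (G : ℕ → Prop) {N : ℕ} (h : G (N + 1)) :
    gapCount G (N + 1) = gapCount G N + 1 := by
  classical
  unfold gapCount
  have : (Finset.Icc 1 (N + 1)).filter G = insert (N + 1) ((Finset.Icc 1 N).filter G) := by
    ext m
    simp only [Finset.mem_filter, Finset.mem_Icc, Finset.mem_insert]
    constructor
    · rintro ⟨⟨h1, h2⟩, hG⟩
      rcases Nat.lt_or_ge m (N + 1) with hlt | hge
      · exact Or.inr ⟨⟨h1, by omega⟩, hG⟩
      · exact Or.inl (by omega)
    · rintro (rfl | ⟨⟨h1, h2⟩, hG⟩)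
      · exact ⟨⟨by omega, le_rfl⟩, h⟩
      · exact ⟨⟨h1, by omega⟩, hG⟩
  rw [this, Finset.card_insert_of_notMem]
  simp

theorem gapCount_succ_of_not_gap (G : ℕ → Prop) {N : ℕ} (h : ¬ G (N + 1)) :
    gapCount G (N + 1) = gapCount G N :=
  gapCount_eq_of_no_gap G (Nat.le_succ N) (fun m h1 h2 => by
    have : m = N + 1 := by omega
    rw [this]; exact h)

/-- If `n` is a gap and non-gaps are closed under addition, the gaps are at least half of
`[1, n-1]`. -/
theorem sub_one_le_two_mul_gapCount (G : ℕ → Prop)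
    (hsemi : ∀ m m', 1 ≤ m → 1 ≤ m' → ¬ G m → ¬ G m' → ¬ G (m + m'))
    {n : ℕ} (hn : 1 ≤ n) (hG : G n) : n - 1 ≤ 2 * gapCount G (n - 1) := by
  classical
  unfold gapCount
  set gaps := (Finset.Icc 1 (n - 1)).filter G with hgaps
  set nongaps := (Finset.Icc 1 (n - 1)).filter (fun m => ¬ G m) with hnongaps
  have hsum : gaps.card + nongaps.card = n - 1 := by
    rw [hgaps, hnongaps, Finset.card_filter_add_card_filter_not]
    simp
  have hinj : nongaps.card ≤ gaps.card := by
    apply Finset.card_le_card_of_injOn (fun m => n - m)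
    · intro m hm
      simp only [hnongaps, Finset.coe_filter, Finset.mem_Icc, Set.mem_ofPred_eq] at hm
      simp only [hgaps, Finset.coe_filter, Finset.mem_Icc, Set.mem_ofPred_eq]
      refine ⟨⟨by omega, by omega⟩, ?_⟩
      by_contra hng
      have := hsemi m (n - m) hm.1.1 (by omega) hm.2 hng
      rw [show m + (n - m) = n by omega] at this
      exact this hG
    · intro a ha b hb hab
      simp only [hnongaps, Finset.coe_filter, Finset.mem_Icc, Set.mem_ofPred_eq] at ha hb
      simp only at hab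
      omega
  omega

/-- If there are exactly `g` gaps in total, the `l`-th gap is at most `2l - 1`. -/
theorem le_gapCount_two_mul_sub_one (G : ℕ → Prop)
    (hsemi : ∀ m m', 1 ≤ m → 1 ≤ m' → ¬ G m → ¬ G m' → ¬ G (m + m'))
    (g : ℕ) (hcount : ∀ N, 2 * g - 1 ≤ N → gapCount G N = g)
    {l : ℕ} (hl : 1 ≤ l) (hlg : l ≤ g) : l ≤ gapCount G (2 * l - 1) := by
  classical
  by_contra hlt
  push Not at hlt
  -- there is a gap beyond 2l - 1
  have hex : ∃ n, 2 * l - 1 < n ∧ G n := by
    by_contra hno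
    push Not at hno
    have h1 := gapCount_eq_of_no_gap G (N := 2 * l - 1) (M := max (2 * g - 1) (2 * l - 1))
      (le_max_right _ _) (fun m h1 _ => hno m h1)
    rw [hcount _ (le_max_left _ _)] at h1
    omega
  set n := Nat.find hex with hndef
  obtain ⟨hn1, hn2⟩ := Nat.find_spec hex
  have hmin : ∀ m, 2 * l - 1 < m → m < n → ¬ G m := by
    intro m h1 h2 hGm
    exact Nat.find_min hex h2 ⟨h1, hGm⟩
  have h2 := gapCount_eq_of_no_gap G (N := 2 * l - 1) (M := n - 1) (by omega)
    (fun m h1 h2 => hmin m h1 (by omega))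
  have h3 := sub_one_le_two_mul_gapCount G hsemi (n := n) (by omega) hn2
  rw [h2] at h3
  omega

/-- Clifford-type bound for the number of gaps below `n ≤ 2g - 2`. -/
theorem le_two_mul_gapCount (G : ℕ → Prop)
    (hsemi : ∀ m m', 1 ≤ m → 1 ≤ m' → ¬ G m → ¬ G m' → ¬ G (m + m'))
    (g : ℕ) (hcount : ∀ N, 2 * g - 1 ≤ N → gapCount G N = g)
    {n : ℕ} (hn : n + 2 ≤ 2 * g) : n ≤ 2 * gapCount G n := by
  classical
  by_cases hfull : gapCount G n = g
  · omega
  · have hle : gapCount G n ≤ g := by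
      have := gapCount_mono G (N := n) (M := max (2 * g - 1) n) (le_max_right _ _)
      rwa [hcount _ (le_max_left _ _)] at this
    have hex : ∃ n', n < n' ∧ G n' := by
      by_contra hno
      push Not at hno
      have h1 := gapCount_eq_of_no_gap G (N := n) (M := max (2 * g - 1) n)
        (le_max_right _ _) (fun m h1 _ => hno m h1)
      rw [hcount _ (le_max_left _ _)] at h1
      exact hfull h1.symm
    set n' := Nat.find hex with hndef
    obtain ⟨hn1, hn2⟩ := Nat.find_spec hex
    have hmin : ∀ m, n < m → m < n' → ¬ G m := by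
      intro m h1 h2 hGm
      exact Nat.find_min hex h2 ⟨h1, hGm⟩
    have h2 := gapCount_eq_of_no_gap G (N := n) (M := n' - 1) (by omega)
      (fun m h1 h2 => hmin m h1 (by omega))
    have h3 := sub_one_le_two_mul_gapCount G hsemi (n := n') (by omega) hn2
    rw [h2] at h3
    omega

theorem ncard_setOf_le (G : ℕ → Prop) (N : ℕ) :
    Set.ncard {m : ℕ | 1 ≤ m ∧ m ≤ N ∧ G m} = gapCount G N := by
  classical
  unfold gapCount
  rw [← Set.ncard_coe_finset]
  congr 1
  ext m
  simp [and_assoc]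

theorem ncard_setOf_lt (G : ℕ → Prop) (n : ℕ) :
    Set.ncard {m : ℕ | 1 ≤ m ∧ m < n ∧ G m} = gapCount G (n - 1) := by
  rw [← ncard_setOf_le]
  congr 1
  ext m
  simp only [Set.mem_ofPred_eq]
  constructor
  · rintro ⟨h1, h2, h3⟩
    exact ⟨h1, by omega, h3⟩
  · rintro ⟨h1, h2, h3⟩
    exact ⟨h1, by omega, h3⟩

end Groth.Agent.H57
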