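import Groth.Agent.H57.DiffFinite
import Groth.Agent.H57.ExpandAt
import Groth.Agent.H57.HasseExist
import Groth.Agent.H57.Conductor
import Groth.Agent.FunFld.CharPFF3
import Groth.Agent.FunFld.Transc

/-!
# A generator `y` with `K = k(x, y)` such that `⟨1, x, y⟩` contains a local parameter at every place
-/

set_option autoImplicit false

namespace Groth.Agent.H57.GenUnif

open FunFld Groth.Agent.FF Groth.Agent.H57 WithZero IntermediateField

universe u v
variable {k : Type u} {K : Type v} [Field k] [Field K] [Algebra k K]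

/-- A Laurent series with no terms below degree one and a nonzero linear term has value `exp (-1)`. -/
theorem val_eq_exp_neg_one {F : Type*} [Field F] (f : LaurentSeries F)
    (h0 : ∀ n : ℤ, n < 1 → f.coeff n = 0) (h1 : f.coeff 1 ≠ 0) :
    Valued.v f = exp (-1 : ℤ) := by
  have hle : Valued.v f ≤ exp (-(1 : ℤ)) :=
    (LaurentSeries.valuation_le_iff_coeff_lt_eq_zero F).2 h0
  have hnle : ¬ Valued.v f ≤ exp (-(2 : ℤ)) := by
    rw [LaurentSeries.valuation_le_iff_coeff_lt_eq_zero F]
    intro h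
    exact h1 (h 1 (by norm_num))
  have hne : Valued.v f ≠ 0 := by
    intro h
    apply hnle
    rw [h]
    exact zero_le'
  obtain ⟨n, hn⟩ : ∃ n : ℤ, Valued.v f = exp n := ⟨log (Valued.v f), (exp_log hne).symm⟩
  rw [hn] at hle hnle ⊢
  rw [exp_le_exp] at hle hnle
  congr 1
  omega

/-- At a place where `x` is regular and `dx` has order zero, `x - x(P)` is a local parameter. -/
theorem exists_sub_uniformizer [IsAlgClosed k] (hK : IsFunctionField k K) (x : K)
    (Hs : K →ₐ[k] PowerSeries K) (hHs : LocRes.IsHasseFamily x Hs) (P : Place k K)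
    (φ : K →ₐ[k] LaurentSeries k) (hφ : LocRes.IsExpansionAt P.1 φ) (hx : P.1 x ≤ 1)
    (h0 : LocRes.ordDiff φ 1 x = 0) :
    ∃ a : k, P.1 (x - algebraMap k K a) = exp (-1 : ℤ) := by
  obtain ⟨t, ht⟩ := hφ.2.2
  have hDt := vDiff_one_uniformizer P.1 φ hφ t ht
  have hchain := D_expansion_eq' hK φ x Hs hHs t
  have hDx : LocRes.D k (φ x) ≠ 0 := by
    intro h
    rw [hchain, h, mul_zero, map_zero] at hDt
    exact zero_ne_one hDt
  have hv : Valued.v (LocRes.D k (φ x)) = 1 := by
    unfold LocRes.ordDiff LocRes.vDiff at h0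
    rw [map_one, one_mul, neg_eq_zero] at h0
    have hne : Valued.v (LocRes.D k (φ x)) ≠ 0 := (Valuation.ne_zero_iff _).2 hDx
    rw [← exp_log hne, h0, exp_zero]
  have hx' : Valued.v (φ x) ≤ exp (-(0 : ℤ)) := by
    rw [hφ.1, neg_zero, exp_zero]
    exact hx
  have hcoef : ∀ n : ℤ, n < 0 → (φ x).coeff n = 0 :=
    (LaurentSeries.valuation_le_iff_coeff_lt_eq_zero k).1 hx'
  have h1 : (φ x).coeff 1 ≠ 0 := by
    intro h
    have hle : Valued.v (LocRes.D k (φ x)) ≤ exp (-(1 : ℤ)) := by
      rw [LaurentSeries.valuation_le_iff_coeff_lt_eq_zero k]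
      intro n hn
      rw [LocRes.D_coeff]
      rcases lt_trichotomy (n + 1) 0 with h' | h' | h'
      · rw [hcoef (n + 1) h', smul_zero]
      · rw [h', zero_smul]
      · have : n + 1 = 1 := by omega
        rw [this, h, smul_zero]
    rw [hv] at hle
    have : (1 : ℤᵐ⁰) = exp (0 : ℤ) := exp_zero.symm
    rw [this, exp_le_exp] at hle
    omega
  refine ⟨(φ x).coeff 0, ?_⟩
  rw [← hφ.1, map_sub, LocRes.map_algebraMap, Algebra.algebraMap_self, RingHom.id_apply]
  apply val_eq_exp_neg_one
  · intro n hn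
    rw [HahnSeries.coeff_sub, HahnSeries.C_apply, HahnSeries.coeff_single]
    rcases lt_or_eq_of_le (show n ≤ 0 by omega) with h' | h'
    · rw [hcoef n h', if_neg (by omega), sub_zero]
    · rw [h', if_pos rfl, sub_self]
  · rw [HahnSeries.coeff_sub, HahnSeries.C_apply, HahnSeries.coeff_single, if_neg one_ne_zero,
      sub_zero]
    exact h1

/-- Over an infinite constant field, some `k`-combination `u + c w` generates, together with `x`,
a field containing both `u` and `w`. -/
theorem exists_smul_generator [Infinite k] (x : K) [FiniteDimensional k⟮x⟯ K]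
    [Algebra.IsSeparable k⟮x⟯ K] (u w : K) :
    ∃ c : k, u ∈ IntermediateField.adjoin k ({x, u + c • w} : Set K) ∧
      w ∈ IntermediateField.adjoin k ({x, u + c • w} : Set K) := by
  haveI : Finite (IntermediateField k⟮x⟯ K) :=
    Field.finite_intermediateField_of_exists_primitive_element k⟮x⟯ K
      (Field.exists_primitive_element k⟮x⟯ K)
  obtain ⟨c, c', hne, heq⟩ :=
    Finite.exists_ne_map_eq_of_infinite (fun c : k => (k⟮x⟯)⟮u + c • w⟯)
  refine ⟨c, ?_⟩
  have hmem : ∀ z : K, z ∈ (k⟮x⟯)⟮u + c • w⟯ →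
      z ∈ IntermediateField.adjoin k ({x, u + c • w} : Set K) := by
    intro z hz
    have h := IntermediateField.adjoin_adjoin_left k ({x} : Set K) ({u + c • w} : Set K)
    have hz' : z ∈ ((k⟮x⟯)⟮u + c • w⟯).restrictScalars k := hz
    rw [h, Set.singleton_union] at hz'
    exact hz'
  have h1 : u + c • w ∈ (k⟮x⟯)⟮u + c • w⟯ := IntermediateField.mem_adjoin_simple_self _ _
  have h2 : u + c' • w ∈ (k⟮x⟯)⟮u + c • w⟯ := by
    have heq' : (k⟮x⟯)⟮u + c • w⟯ = (k⟮x⟯)⟮u + c' • w⟯ := heq
    rw [heq']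
    exact IntermediateField.mem_adjoin_simple_self _ _
  have hk : ∀ a : k, algebraMap k K a ∈ (k⟮x⟯)⟮u + c • w⟯ := by
    intro a
    rw [IsScalarTower.algebraMap_apply k k⟮x⟯ K]
    exact IntermediateField.algebraMap_mem _ _
  have hw : w ∈ (k⟮x⟯)⟮u + c • w⟯ := by
    have h3 := sub_mem h1 h2
    have h4 : (u + c • w) - (u + c' • w) = algebraMap k K (c - c') * w := by
      rw [Algebra.smul_def, Algebra.smul_def, map_sub]
      ring
    rw [h4] at h3
    have hcc : algebraMap k K (c - c') ≠ 0 := by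
      rw [Ne, map_eq_zero, sub_eq_zero]
      exact hne
    have := mul_mem (inv_mem (hk (c - c'))) h3
    rwa [inv_mul_cancel_left₀ hcc] at this
  have hu : u ∈ (k⟮x⟯)⟮u + c • w⟯ := by
    have h3 : c • w ∈ (k⟮x⟯)⟮u + c • w⟯ := by
      have := mul_mem (hk c) hw
      rwa [← Algebra.smul_def] at this
    have := sub_mem h1 h3
    rwa [add_sub_cancel_right] at this
  exact ⟨hmem u hu, hmem w hw⟩

/-- **A generator whose span with `1, x` contains local parameters everywhere.** -/
theorem main [IsAlgClosed k] (hK : IsFunctionField k K) (x : K)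
    (hsep : Algebra.IsSeparable (IntermediateField.adjoin k ({x} : Set K)) K) :
    ∃ y : K, IntermediateField.adjoin k ({x, y} : Set K) = ⊤ ∧
      ∀ P : Place k K, ∃ f ∈ Submodule.span k ({1, x, y} : Set K),
        P.1 f = exp (-1 : ℤ) := by
  classical
  have hx : Transcendental k x := transcendental_of_isSeparable hK
  have : FiniteDimensional k⟮x⟯ K := finite_adjoin_of_transcendental hK hx
  have : Infinite k := IsAlgClosed.instInfinite
  obtain ⟨Hs, hHs⟩ := exists_isHasseFamily_of_isSeparable x hx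
  obtain ⟨Φ, hΦ⟩ := exists_expansion_family hK
  have hfin := finite_support_ordDiff hK x Hs hHs Φ hΦ
  have hx0 : x ≠ 0 := by
    rintro rfl
    exact hx isAlgebraic_zero
  have hpoles := finite_one_lt_val hK hx0
  set S : Set (Place k K) :=
    {P | 1 < P.1 x} ∪ Function.support (fun P : Place k K => LocRes.ordDiff (Φ P) 1 x) with hS
  have hSfin : S.Finite := hpoles.union hfin
  have : Finite S := hSfin
  obtain ⟨u₀, hu₀⟩ := Cond.exists_val_eq (fun i : S => i.1) Subtype.val_injective (fun _ => -1)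
  obtain ⟨u, hu0, hu⟩ : ∃ u : K, u ≠ 0 ∧ ∀ P ∈ S, P.1 u = exp (-1 : ℤ) := by
    by_cases hne : S.Nonempty
    · obtain ⟨P, hP⟩ := hne
      refine ⟨u₀, ?_, fun Q hQ => hu₀ ⟨Q, hQ⟩⟩
      rintro rfl
      have := hu₀ ⟨P, hP⟩
      rw [map_zero] at this
      exact exp_ne_zero this.symm
    · rw [Set.not_nonempty_iff_eq_empty] at hne
      refine ⟨1, one_ne_zero, fun P hP => ?_⟩
      rw [hne] at hP
      exact absurd hP (Set.notMem_empty _)
  obtain ⟨θ, hθ⟩ := Field.exists_primitive_element k⟮x⟯ K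
  -- a uniform bound for `θ` on `S`
  obtain ⟨M, hM⟩ : ∃ M : ℤ, ∀ P ∈ S, P.1 θ ≤ exp M := by
    obtain ⟨b, hb⟩ := (hSfin.image (fun P : Place k K => P.1 θ)).bddAbove
    refine ⟨log b, fun P hP => ?_⟩
    exact le_trans (hb ⟨P, hP, rfl⟩) le_exp_log
  set N : ℕ := (M + 2).toNat with hN
  set w : K := u ^ N * θ with hw
  have hwS : ∀ P ∈ S, P.1 w ≤ exp (-2 : ℤ) := by
    intro P hP
    rw [hw, map_mul, map_pow, hu P hP, ← exp_nsmul]
    calc exp (N • (-1 : ℤ)) * P.1 θ ≤ exp (N • (-1 : ℤ)) * exp M :=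
          mul_le_mul_right (hM P hP) _
      _ = exp (N • (-1 : ℤ) + M) := (exp_add _ _).symm
      _ ≤ exp (-2 : ℤ) := by
          rw [exp_le_exp]
          have : (M + 2) ≤ ((M + 2).toNat : ℤ) := Int.self_le_toNat _
          rw [hN, nsmul_eq_mul]
          linarith
  obtain ⟨c, hcu, hcw⟩ := exists_smul_generator (k := k) x u w
  refine ⟨u + c • w, ?_, ?_⟩
  · set A := IntermediateField.adjoin k ({x, u + c • w} : Set K) with hA
    have hxA : x ∈ A := IntermediateField.subset_adjoin k _ (by simp)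
    have hθA : θ ∈ A := by
      have huN : u ^ N ≠ 0 := pow_ne_zero _ hu0
      have := mul_mem (inv_mem (pow_mem hcu N)) hcw
      rwa [hw, inv_mul_cancel_left₀ huN] at this
    rw [eq_top_iff]
    intro z _
    have hz : z ∈ ((k⟮x⟯)⟮θ⟯).restrictScalars k := by
      change z ∈ (k⟮x⟯)⟮θ⟯
      rw [hθ]
      trivial
    rw [IntermediateField.adjoin_adjoin_left] at hz
    have hle : IntermediateField.adjoin k (({x} : Set K) ∪ {θ}) ≤ A := by
      rw [IntermediateField.adjoin_le_iff]
      rintro z (hz | hz)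
      · rw [Set.mem_singleton_iff] at hz
        rw [hz]
        exact hxA
      · rw [Set.mem_singleton_iff] at hz
        rw [hz]
        exact hθA
    exact hle hz
  · intro P
    by_cases hP : P ∈ S
    · refine ⟨u + c • w, Submodule.subset_span (by simp), ?_⟩
      have hlt : P.1 (c • w) < P.1 u := by
        rw [hu P hP, Algebra.smul_def, map_mul]
        calc P.1 (algebraMap k K c) * P.1 w ≤ 1 * exp (-2 : ℤ) :=
              mul_le_mul' (P.2.1 c) (hwS P hP)
          _ = exp (-2 : ℤ) := one_mul _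
          _ < exp (-1 : ℤ) := exp_lt_exp.2 (by norm_num)
      rw [Valuation.map_add_eq_of_lt_left _ hlt, hu P hP]
    · rw [hS, Set.mem_union, not_or] at hP
      obtain ⟨hP1, hP2⟩ := hP
      have hx1 : P.1 x ≤ 1 := not_lt.1 hP1
      have h0 : LocRes.ordDiff (Φ P) 1 x = 0 := by
        by_contra h
        exact hP2 h
      obtain ⟨a, ha⟩ := exists_sub_uniformizer hK x Hs hHs P (Φ P) (hΦ P) hx1 h0
      refine ⟨x - algebraMap k K a, ?_, ha⟩
      have h1 : (1 : K) ∈ Submodule.span k ({1, x, u + c • w} : Set K) :=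
        Submodule.subset_span (by simp)
      have h2 : x ∈ Submodule.span k ({1, x, u + c • w} : Set K) :=
        Submodule.subset_span (by simp)
      have h3 : algebraMap k K a = a • (1 : K) := by rw [Algebra.smul_def, mul_one]
      rw [h3]
      exact sub_mem h2 (Submodule.smul_mem _ _ h1)

end Groth.Agent.H57.GenUnif
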