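import Groth.Agent.S12534
import Groth.Agent.FunFld.ConormDeg
import Groth.Agent.FunFld.SplitPlaces
import Groth.Agent.FunFld.ScalarExt

/-!
# Conorm of a divisor to a scalar extension, as a divisor over the new constant field
-/

set_option autoImplicit false

namespace Groth.Agent.H57.GenusExt

open FunFld WithZero Groth.Agent.FF Groth.Agent.FF.Ext TensorProduct
open Groth.Agent.S12534 (up down)

universe u v

variable {k k₁ : Type u} {K K₁ : Type v} [Field k] [Field k₁] [Field K] [Field K₁]
  [Algebra k k₁] [Algebra k K] [Algebra K K₁] [Algebra k₁ K₁] [Algebra k K₁]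
  [IsScalarTower k k₁ K₁] [IsScalarTower k K K₁]

omit [Algebra K K₁] [IsScalarTower k K K₁] [Algebra k K] [Field K] in
theorem up_down [Algebra.IsAlgebraic k k₁] (Q : Place k₁ K₁) :
    up (F := k) (F' := k₁) (down (F := k) Q) = Q := rfl

omit [Algebra K K₁] [IsScalarTower k K K₁] [Algebra k K] [Field K] in
theorem down_up [Algebra.IsAlgebraic k k₁] (Q : Place k K₁) :
    down (F := k) (up (F := k) (F' := k₁) Q) = Q := rfl

omit [Algebra K K₁] [IsScalarTower k K K₁] [Algebra k K] [Field K] in
theorem up_injective [Algebra.IsAlgebraic k k₁] :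
    Function.Injective (up (F := k) (F' := k₁) (L := K₁)) := by
  intro Q Q' h
  have := congrArg (down (F := k)) h
  rwa [down_up, down_up] at this

omit [Algebra K K₁] [IsScalarTower k K K₁] [Algebra k K] [Field K] in
/-- degrees over `k` and over `k₁` -/
theorem deg_eq_mul_deg_up [Algebra.IsAlgebraic k k₁] (Q : Place k K₁) :
    Q.deg = Module.finrank k k₁ * (up (F := k) (F' := k₁) Q).deg := by
  letI : Algebra k₁ (IsLocalRing.ResidueField Q.O) :=
    (Place.algRes (up (F := k) (F' := k₁) Q) :
      Algebra k₁ (IsLocalRing.ResidueField (up (F := k) (F' := k₁) Q).O))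
  have htower : IsScalarTower k k₁ (IsLocalRing.ResidueField Q.O) := by
    apply IsScalarTower.of_algebraMap_eq
    intro c
    change IsLocalRing.residue Q.O (algebraMap k Q.O c) =
      IsLocalRing.residue Q.O (algebraMap k₁ (up (F := k) (F' := k₁) Q).O (algebraMap k k₁ c))
    congr 1
    apply Subtype.ext
    exact IsScalarTower.algebraMap_apply k k₁ K₁ c
  exact (@Module.finrank_mul_finrank k k₁ (IsLocalRing.ResidueField Q.O)
    _ _ _ _ _ _ htower _ _ _ _).symm

/-- The conorm of a divisor of `K/k` to `K₁/k₁`. -/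
noncomputable def con [Algebra.IsAlgebraic k k₁] (D : Divisor k K) : Divisor k₁ K₁ :=
  Finsupp.mapDomain (up (F := k) (F' := k₁)) (conorm K₁ D)

theorem con_apply [Algebra.IsAlgebraic k k₁] [FiniteDimensional K K₁] (D : Divisor k K)
    (Q : Place k₁ K₁) {P : Place k K} {e : ℕ} (he : IsOverWith (down (F := k) Q) P e) :
    con (k₁ := k₁) (K₁ := K₁) D Q = e * D P := by
  unfold con
  rw [← up_down (k := k) Q, Finsupp.mapDomain_apply up_injective, conorm_apply he]

theorem deg_con [FiniteDimensional k k₁]
    (h : Function.Bijective (Algebra.TensorProduct.productMap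
      (IsScalarTower.toAlgHom k k₁ K₁) (IsScalarTower.toAlgHom k K K₁)))
    (hK : IsFunctionField k K) (D : Divisor k K) :
    (con (k₁ := k₁) (K₁ := K₁) D).deg = D.deg := by
  haveI : FiniteDimensional K K₁ := finiteDimensional_of_productMap_surjective h.2
  have h1 := deg_conorm (K' := K₁) hK D
  rw [Split.finrank_eq_of_productMap_bijective h] at h1
  have h2 : (conorm K₁ D).deg =
      (Module.finrank k k₁ : ℤ) * (con (k₁ := k₁) (K₁ := K₁) D).deg := by
    unfold con Divisor.deg
    rw [Finsupp.sum_mapDomain_index (by intro; simp) (by intro _ _ _; ring), Finsupp.sum,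
      Finsupp.sum, Finset.mul_sum]
    refine Finset.sum_congr rfl fun Q _ => ?_
    rw [deg_eq_mul_deg_up (k₁ := k₁) Q]
    push_cast
    ring
  have hpos : (Module.finrank k k₁ : ℤ) ≠ 0 := by
    have : 0 < Module.finrank k k₁ := Module.finrank_pos
    omega
  rw [h2] at h1
  exact mul_left_cancel₀ hpos h1

end Groth.Agent.H57.GenusExt
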