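import Mathlib
import Groth.Prelude.Def_W4bk4goldsch23FF

/-!
# Linear independence over the constants survives algebraic extension of the constants
(for geometric extensions)
-/

set_option autoImplicit false

namespace Groth.Agent.H57.Split

open FunFld TensorProduct

universe u v w

/-- If `L/F` is geometric, `Fbar/F` is algebraic, and `E` is a field containing both, then
`F`-linearly independent elements of `L` remain `Fbar`-linearly independent in `E`. -/
theorem linearIndependent_of_isGeometric {F Fbar : Type u} {L : Type v} {E : Type w}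
    [Field F] [Field Fbar] [Field L] [Field E] [Algebra F Fbar] [Algebra.IsAlgebraic F Fbar]
    [Algebra F L] [Algebra L E] [Algebra Fbar E] [Algebra F E] [IsScalarTower F Fbar E]
    [IsScalarTower F L E]
    (hg : IsGeometric F L) {m : ℕ} (v : Fin m → L) (hv : LinearIndependent F v) :
    LinearIndependent Fbar (fun i => algebraMap L E (v i)) := by
  classical
  rw [Fintype.linearIndependent_iff]
  intro c hc j
  -- the finite extension generated by the coefficients
  let F'' : IntermediateField F Fbar := IntermediateField.adjoin F (Set.range c)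
  haveI : FiniteDimensional F F'' :=
    IntermediateField.finiteDimensional_adjoin (fun x _ => Algebra.IsIntegral.isIntegral x)
  have hT : IsField (F'' ⊗[F] L) := hg F'' inferInstance
  let ψ : F'' ⊗[F] L →ₐ[F] E := Algebra.TensorProduct.productMap
    ((IsScalarTower.toAlgHom F Fbar E).comp F''.val) (IsScalarTower.toAlgHom F L E)
  have hinj : ∀ x, ψ x = 0 → x = 0 := by
    intro x hx
    by_contra hne
    obtain ⟨y, hy⟩ := hT.mul_inv_cancel hne
    have h3 := congrArg ψ hy
    have h5 : ψ 1 = 1 := ψ.map_one
    have h6 : ψ (x * y) = ψ x * ψ y := ψ.map_mul x y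
    have h4 : ψ x * ψ y = 1 := h6.symm.trans (h3.trans h5)
    rw [hx, zero_mul] at h4
    exact zero_ne_one h4
  let c' : Fin m → F'' := fun i => ⟨c i, IntermediateField.subset_adjoin F _ ⟨i, rfl⟩⟩
  have hx : ψ (∑ i, c' i ⊗ₜ[F] v i) = 0 := by
    rw [map_sum, ← hc]
    refine Finset.sum_congr rfl fun i _ => ?_
    rw [Algebra.TensorProduct.productMap_apply_tmul, Algebra.smul_def]
    rfl
  have h0 := hinj _ hx
  let g : (Fin m →₀ F) →ₗ[F] L := Finsupp.linearCombination F v
  have hg_inj : Function.Injective g := hv
  have hl := Module.Flat.lTensor_preserves_injective_linearMap (M := F'') g hg_inj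
  have h1 : ∑ i, c' i ⊗ₜ[F] (Finsupp.single i (1 : F)) = 0 := by
    apply hl
    rw [map_zero, map_sum, ← h0]
    refine Finset.sum_congr rfl fun i _ => ?_
    rw [LinearMap.lTensor_tmul, Finsupp.linearCombination_single, one_smul]
  have h2 := congrArg (fun t => TensorProduct.finsuppScalarRight F F F'' (Fin m) t j) h1
  simp only [map_sum, map_zero, Finsupp.coe_finsetSum, Finset.sum_apply,
    TensorProduct.finsuppScalarRight_apply_tmul_apply, Finsupp.coe_zero, Pi.zero_apply] at h2
  rw [Finset.sum_eq_single j] at h2
  · rw [Finsupp.single_eq_same, one_smul] at h2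
    exact congrArg Subtype.val h2
  · intro i _ hij
    rw [Finsupp.single_apply, if_neg hij, zero_smul]
  · intro hj
    exact absurd (Finset.mem_univ j) hj

end Groth.Agent.H57.Split
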