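import Groth.Agent.H57.GenusExt1
import Groth.Agent.H57.SplitLI
import Groth.Agent.FunFld.RR
import Groth.Agent.FunFld.Adele

/-!
# The genus does not increase under finite extension of the constants
-/

set_option autoImplicit false

namespace Groth.Agent.H57.GenusExt

open FunFld WithZero Groth.Agent.FF Groth.Agent.FF.Ext TensorProduct Groth.Agent.H57.Split
open Groth.Agent.S12534 (up down)

universe u v

variable {k k₁ : Type u} {K K₁ : Type v} [Field k] [Field k₁] [Field K] [Field K₁]
  [Algebra k k₁] [Algebra k K] [Algebra K K₁] [Algebra k₁ K₁] [Algebra k K₁]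
  [IsScalarTower k k₁ K₁] [IsScalarTower k K K₁]

/-- `L(D)` maps into `L(con D)`. -/
theorem algebraMap_mem_L_con [Algebra.IsAlgebraic k k₁] [FiniteDimensional K K₁]
    (D : Divisor k K) {z : K} (hz : z ∈ L D) :
    algebraMap K K₁ z ∈ L (con (k₁ := k₁) (K₁ := K₁) D) := by
  intro Q
  obtain ⟨P, e, he⟩ := exists_isOverWith_below (K := K) (down (F := k) Q)
  rw [con_apply D Q he]
  have h1 : Q.1 (algebraMap K K₁ z) = P.1 z ^ e := he z
  rw [h1]
  calc P.1 z ^ e ≤ exp (D P) ^ e := pow_le_pow_left₀ zero_le (hz P) e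
    _ = exp ((e : ℤ) * D P) := by rw [← exp_nsmul, nsmul_eq_mul]

/-- The `k₁`-span of the image of `L(D)`. -/
noncomputable def spanL (k₁ : Type u) {K₁ : Type v} [Field k₁] [Field K₁] [Algebra K K₁]
    [Algebra k₁ K₁] (D : Divisor k K) : Submodule k₁ K₁ :=
  Submodule.span k₁ ((fun z : K => algebraMap K K₁ z) '' (L D : Set K))

theorem spanL_le [Algebra.IsAlgebraic k k₁] [FiniteDimensional K K₁] (D : Divisor k K) :
    spanL k₁ D ≤ L (con (k₁ := k₁) (K₁ := K₁) D) := by
  unfold spanL
  rw [Submodule.span_le]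
  rintro _ ⟨z, hz, rfl⟩
  exact algebraMap_mem_L_con D hz

theorem finrank_spanL [FiniteDimensional k k₁] [FiniteDimensional K K₁]
    (hK : IsFunctionField k K) (hg : IsGeometric k K) (hK₁ : IsFunctionField k₁ K₁)
    (D : Divisor k K) :
    Module.finrank k₁ (spanL k₁ (K₁ := K₁) D) = ell D := by
  classical
  haveI := finite_L hK D
  haveI := finite_L hK₁ (con (k₁ := k₁) (K₁ := K₁) D)
  haveI : FiniteDimensional k₁ (spanL k₁ (K₁ := K₁) D) :=
    Submodule.finiteDimensional_of_le (spanL_le D)
  let b := Module.finBasis k (L D)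
  let v : Fin (Module.finrank k (L D)) → K := fun i => ((b i : L D) : K)
  have hv : LinearIndependent k v :=
    b.linearIndependent.map' (L D).subtype (Submodule.ker_subtype _)
  have hli := linearIndependent_of_isGeometric (Fbar := k₁) (E := K₁) hg v hv
  have hmem : ∀ i, algebraMap K K₁ (v i) ∈ spanL k₁ (K₁ := K₁) D :=
    fun i => Submodule.subset_span ⟨v i, (b i).2, rfl⟩
  let w : Fin (Module.finrank k (L D)) → spanL k₁ (K₁ := K₁) D :=
    fun i => ⟨algebraMap K K₁ (v i), hmem i⟩
  have hw : LinearIndependent k₁ w := by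
    apply LinearIndependent.of_comp (spanL k₁ (K₁ := K₁) D).subtype
    exact hli
  have h1 := hw.fintype_card_le_finrank
  rw [Fintype.card_fin] at h1
  -- spanning
  have hspan : spanL k₁ (K₁ := K₁) D ≤ Submodule.span k₁ (Set.range fun i => algebraMap K K₁ (v i)) := by
    unfold spanL
    rw [Submodule.span_le]
    rintro _ ⟨z, hz, rfl⟩
    have hz' : z = ∑ i, (b.repr ⟨z, hz⟩ i) • v i := by
      have := congrArg (L D).subtype (b.sum_repr ⟨z, hz⟩)
      rw [map_sum] at this
      simp only [map_smul, Submodule.subtype_apply] at this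
      exact this.symm
    change algebraMap K K₁ z ∈ _
    rw [hz', map_sum]
    apply Submodule.sum_mem
    intro i _
    rw [Algebra.smul_def, map_mul, ← IsScalarTower.algebraMap_apply k K K₁,
      IsScalarTower.algebraMap_apply k k₁ K₁, ← Algebra.smul_def]
    exact Submodule.smul_mem _ _ (Submodule.subset_span ⟨i, rfl⟩)
  have h2 : Module.finrank k₁ (spanL k₁ (K₁ := K₁) D) ≤ Module.finrank k (L D) := by
    haveI : FiniteDimensional k₁
        (Submodule.span k₁ (Set.range fun i => algebraMap K K₁ (v i))) :=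
      FiniteDimensional.span_of_finite k₁ (Set.finite_range _)
    have h3 := Submodule.finrank_mono hspan
    have h4 := finrank_range_le_card (R := k₁) (fun i => algebraMap K K₁ (v i))
    rw [Fintype.card_fin] at h4
    have h5 : Module.finrank k₁ (Submodule.span k₁ (Set.range fun i => algebraMap K K₁ (v i))) =
        (Set.range fun i => algebraMap K K₁ (v i)).finrank k₁ := rfl
    omega
  exact le_antisymm h2 h1

theorem ell_le_ell_con [FiniteDimensional k k₁] [FiniteDimensional K K₁]
    (hK : IsFunctionField k K) (hg : IsGeometric k K) (hK₁ : IsFunctionField k₁ K₁)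
    (D : Divisor k K) : ell D ≤ ell (con (k₁ := k₁) (K₁ := K₁) D) := by
  haveI := finite_L hK₁ (con (k₁ := k₁) (K₁ := K₁) D)
  rw [← finrank_spanL hK hg hK₁ D]
  exact Submodule.finrank_mono (spanL_le D)

/-- a divisor of large degree -/
theorem exists_large_divisor (hK : IsFunctionField k K) (N : ℤ) :
    ∃ D : Divisor k K, N ≤ D.deg := by
  obtain ⟨P₀⟩ := Groth.Agent.FF.exists_place hK
  refine ⟨Finsupp.single P₀ (N.toNat : ℤ), ?_⟩
  rw [deg_single]
  have h1 : (1 : ℤ) ≤ P₀.deg := by exact_mod_cast deg_pos hK P₀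
  have h2 : N ≤ (N.toNat : ℤ) := Int.self_le_toNat N
  have h3 : (0 : ℤ) ≤ (N.toNat : ℤ) := Int.natCast_nonneg _
  nlinarith

theorem genus_le [FiniteDimensional k k₁]
    (h : Function.Bijective (Algebra.TensorProduct.productMap
      (IsScalarTower.toAlgHom k k₁ K₁) (IsScalarTower.toAlgHom k K K₁)))
    (hK : IsFunctionField k K) (hg : IsGeometric k K) :
    genus k₁ K₁ ≤ genus k K := by
  haveI : FiniteDimensional K K₁ := finiteDimensional_of_productMap_surjective h.2
  obtain ⟨hK₁, -⟩ := scalar_extension h hK hg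
  obtain ⟨D, hD⟩ := exists_large_divisor hK
    (max (2 * (genus k K : ℤ) - 1) (2 * (genus k₁ K₁ : ℤ) - 1))
  have h1 := ell_eq_of_deg_ge hK D ((le_max_left _ _).trans hD)
  have h2 := ell_eq_of_deg_ge hK₁ (con (k₁ := k₁) (K₁ := K₁) D)
    (by rw [deg_con h hK]; exact (le_max_right _ _).trans hD)
  rw [deg_con h hK] at h2
  have h3 : (ell D : ℤ) ≤ ell (con (k₁ := k₁) (K₁ := K₁) D) := by
    exact_mod_cast ell_le_ell_con hK hg hK₁ D
  have : (genus k₁ K₁ : ℤ) ≤ genus k K := by linarith
  exact_mod_cast this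

end Groth.Agent.H57.GenusExt
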