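import Groth.Agent.H57.GenusExt2
import Groth.Agent.H57.FFBasic
import Groth.Agent.FunFld.Transc

/-!
# Equality of genus under extension of constants is equivalent to nonsingularity of all places
-/

set_option autoImplicit false

namespace Groth.Agent.H57.GenusExt

open FunFld WithZero Groth.Agent.FF Groth.Agent.FF.Ext TensorProduct Groth.Agent.H57.Split
open Groth.Agent.S12534 (up down)

universe u v

variable {k k₁ : Type u} {K K₁ : Type v} [Field k] [Field k₁] [Field K] [Field K₁]
  [Algebra k k₁] [Algebra k K] [Algebra K K₁] [Algebra k₁ K₁] [Algebra k K₁]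
  [IsScalarTower k k₁ K₁] [IsScalarTower k K K₁]

/-- there is a place different from a given one -/
theorem exists_place_ne (hK : IsFunctionField k K) (P : Place k K) : ∃ R : Place k K, R ≠ P := by
  obtain ⟨t, ht⟩ := exists_uniformizer P
  have ht0 : t ≠ 0 := by
    rintro rfl
    rw [map_zero] at ht
    exact exp_ne_zero ht.symm
  have hord : P.ord t = 1 := by rw [Place.ord, ht, log_exp]; ring
  have htr : Transcendental k t := by
    apply transcendental_of_not_mem_range hK
    rintro ⟨c, rfl⟩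
    rw [ord_algebraMap] at hord
    exact zero_ne_one hord
  obtain ⟨R, hR⟩ := exists_pole_of_transcendental hK htr
  refine ⟨R, ?_⟩
  rintro rfl
  omega

/-- If the genus does not drop, every place is nonsingular for the extension. -/
theorem nonsingular_of_genus_eq [FiniteDimensional k k₁]
    (h : Function.Bijective (Algebra.TensorProduct.productMap
      (IsScalarTower.toAlgHom k k₁ K₁) (IsScalarTower.toAlgHom k K K₁)))
    (hK : IsFunctionField k K) (hg : IsGeometric k K) (heq : genus k₁ K₁ = genus k K)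
    (P : Place k K) :
    integralClosure (P.O.toSubring.map (algebraMap K K₁)) K₁ =
      Algebra.adjoin (P.O.toSubring.map (algebraMap K K₁)) (Set.range (algebraMap k₁ K₁)) := by
  classical
  haveI : FiniteDimensional K K₁ := finiteDimensional_of_productMap_surjective h.2
  obtain ⟨hK₁, -⟩ := scalar_extension h hK hg
  have hint : ∀ (c : k₁) (Q : Place k K₁), IsOver Q P → Q.1 (algebraMap k₁ K₁ c) ≤ 1 :=
    fun c Q _ => (up (F := k) (F' := k₁) Q).2.1 c
  rw [Groth.Agent.S12534.integralClosure_eq_adjoin_iff hK P hint]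
  intro w hw
  by_cases hw0 : w = 0
  · rw [hw0]; exact Subalgebra.zero_mem _
  have hT₁ : {Q : Place k₁ K₁ | 1 < Q.1 w}.Finite := finite_one_lt_val hK₁ hw0
  choose below eb hbelow using
    fun Q : Place k₁ K₁ => exists_isOverWith_below (K := K) (down (F := k) Q)
  obtain ⟨R₀, hR₀⟩ := exists_place_ne hK P
  set S : Finset (Place k K) := insert R₀ (hT₁.toFinset.image below) with hS
  have hPS : P ∉ S := by
    rw [hS, Finset.mem_insert, not_or]
    refine ⟨fun h => hR₀ h.symm, ?_⟩
    rw [Finset.mem_image]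
    rintro ⟨Q, hQ, hQP⟩
    rw [Set.Finite.mem_toFinset] at hQ
    have h1 : IsOver (down (F := k) Q) P := ⟨eb Q, hQP ▸ hbelow Q⟩
    have h2 := hw (down (F := k) Q) h1
    exact absurd hQ (not_lt.2 h2)
  set N : ℕ := 2 * genus k K + ∑ Q ∈ hT₁.toFinset, (-(Q.ord w)).toNat with hN
  have hN1 : 2 * (genus k K : ℤ) - 1 ≤ N := by
    rw [hN]; push_cast
    have : (0 : ℤ) ≤ ∑ Q ∈ hT₁.toFinset, ((-(Q.ord w)).toNat : ℤ) :=
      Finset.sum_nonneg fun Q _ => Int.natCast_nonneg _
    linarith
  have hN2 : ∀ Q ∈ hT₁.toFinset, Q.1 w ≤ exp (N : ℤ) := by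
    intro Q hQ
    rw [val_eq_exp_neg_ord Q hw0, exp_le_exp]
    have h1 : (-(Q.ord w)).toNat ≤ ∑ Q ∈ hT₁.toFinset, (-(Q.ord w)).toNat :=
      Finset.single_le_sum (f := fun Q : Place k₁ K₁ => (-(Q.ord w)).toNat)
        (fun _ _ => Nat.zero_le _) hQ
    have h2 : -(Q.ord w) ≤ ((-(Q.ord w)).toNat : ℤ) := Int.self_le_toNat _
    have h3 : ((-(Q.ord w)).toNat : ℤ) ≤ N := by
      rw [hN]; push_cast
      have : ((-(Q.ord w)).toNat : ℤ) ≤ ∑ Q ∈ hT₁.toFinset, ((-(Q.ord w)).toNat : ℤ) := by
        exact_mod_cast h1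
      linarith
    linarith
  set D : Divisor k K := ∑ R ∈ S, Finsupp.single R (N : ℤ) with hD
  have hDapp : ∀ R, D R = if R ∈ S then (N : ℤ) else 0 := by
    intro R
    rw [hD, Finsupp.finset_sum_apply]
    simp only [Finsupp.single_apply]
    rw [Finset.sum_ite_eq']
  have hdeg : (N : ℤ) ≤ D.deg := by
    rw [hD, deg_sum]
    have hR₀S : R₀ ∈ S := by rw [hS]; exact Finset.mem_insert_self _ _
    have h1 : Divisor.deg (Finsupp.single R₀ (N : ℤ) : Divisor k K) ≤
        ∑ R ∈ S, Divisor.deg (Finsupp.single R (N : ℤ) : Divisor k K) := by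
      apply Finset.single_le_sum (f := fun R => Divisor.deg (Finsupp.single R (N : ℤ) : Divisor k K))
        _ hR₀S
      intro R _
      rw [deg_single]
      exact mul_nonneg (Int.natCast_nonneg _) (Int.natCast_nonneg _)
    rw [deg_single] at h1
    have h2 : (1 : ℤ) ≤ R₀.deg := by exact_mod_cast deg_pos hK R₀
    have h3 : (0 : ℤ) ≤ N := Int.natCast_nonneg _
    nlinarith
  have hDnonneg : ∀ R, 0 ≤ D R := by
    intro R
    rw [hDapp]
    split_ifs
    · exact Int.natCast_nonneg _
    · exact le_rfl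
  have hwL : w ∈ L (con (k₁ := k₁) (K₁ := K₁) D) := by
    intro Q
    rw [con_apply D Q (hbelow Q)]
    have hepos : 0 < eb Q := e_pos (hbelow Q)
    by_cases hQ : 1 < Q.1 w
    · have hQT : Q ∈ hT₁.toFinset := by rw [Set.Finite.mem_toFinset]; exact hQ
      have hmem : below Q ∈ S := by
        rw [hS]
        exact Finset.mem_insert_of_mem (Finset.mem_image_of_mem _ hQT)
      rw [hDapp, if_pos hmem]
      refine (hN2 Q hQT).trans ?_
      rw [exp_le_exp]
      have h1 : (1 : ℤ) ≤ eb Q := by exact_mod_cast hepos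
      have h3 : (0 : ℤ) ≤ N := Int.natCast_nonneg _
      nlinarith
    · push Not at hQ
      refine hQ.trans ?_
      rw [← exp_zero, exp_le_exp]
      exact mul_nonneg (Int.natCast_nonneg _) (hDnonneg _)
  have hdim : spanL k₁ (K₁ := K₁) D = L (con (k₁ := k₁) (K₁ := K₁) D) := by
    haveI := finite_L hK₁ (con (k₁ := k₁) (K₁ := K₁) D)
    apply Submodule.eq_of_le_of_finrank_eq (spanL_le D)
    rw [finrank_spanL hK hg hK₁ D]
    have h1 := ell_eq_of_deg_ge hK D (hN1.trans hdeg)
    have h2 := ell_eq_of_deg_ge hK₁ (con (k₁ := k₁) (K₁ := K₁) D)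
      (by rw [deg_con h hK, heq]; exact hN1.trans hdeg)
    rw [deg_con h hK, heq] at h2
    have h3 : (ell D : ℤ) = ell (con (k₁ := k₁) (K₁ := K₁) D) := by rw [h1, h2]
    exact_mod_cast h3
  rw [← hdim] at hwL
  have hall : ∀ x ∈ Submodule.span k₁ ((fun z : K => algebraMap K K₁ z) '' (L D : Set K)),
      x ∈ Algebra.adjoin (P.O.toSubring.map (algebraMap K K₁))
        (Set.range (algebraMap k₁ K₁)) := by
    intro x hx
    refine Submodule.span_induction
      (p := fun x _ => x ∈ Algebra.adjoin (P.O.toSubring.map (algebraMap K K₁))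
        (Set.range (algebraMap k₁ K₁))) ?_ ?_ ?_ ?_ hx
    · rintro _ ⟨z, hz, rfl⟩
      have hz1 : P.1 z ≤ 1 := by
        have := hz P
        rwa [hDapp, if_neg hPS, exp_zero] at this
      exact Subalgebra.algebraMap_mem _
        (⟨algebraMap K K₁ z, ⟨z, hz1, rfl⟩⟩ : P.O.toSubring.map (algebraMap K K₁))
    · exact Subalgebra.zero_mem _
    · intro x y _ _ hx hy
      exact Subalgebra.add_mem _ hx hy
    · intro c x _ hx
      rw [Algebra.smul_def]
      exact Subalgebra.mul_mem _ (Algebra.subset_adjoin ⟨c, rfl⟩) hx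
  exact hall w hwL

end Groth.Agent.H57.GenusExt
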