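import Groth.Agent.H57.GenusExt3

/-!
# If every place is nonsingular for an extension of constants then the genus is unchanged
-/

set_option autoImplicit false

namespace Groth.Agent.H57.GenusExt

open FunFld WithZero Groth.Agent.FF Groth.Agent.FF.Ext TensorProduct Groth.Agent.H57.Split
open Groth.Agent.S12534 (up down constBasis constBasis_apply constBasis_repr_algebraMap
  mem_adjoin_iff_coord mem_integralClosure_map_iff)

universe u v

variable {k k₁ : Type u} {K K₁ : Type v} [Field k] [Field k₁] [Field K] [Field K₁]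
  [Algebra k k₁] [Algebra k K] [Algebra K K₁] [Algebra k₁ K₁] [Algebra k K₁]
  [IsScalarTower k k₁ K₁] [IsScalarTower k K K₁]

theorem L_con_le_spanL [FiniteDimensional k k₁]
    (h : Function.Bijective (Algebra.TensorProduct.productMap
      (IsScalarTower.toAlgHom k k₁ K₁) (IsScalarTower.toAlgHom k K K₁)))
    (hK : IsFunctionField k K)
    (hNS : ∀ P : Place k K, integralClosure (P.O.toSubring.map (algebraMap K K₁)) K₁ =
      Algebra.adjoin (P.O.toSubring.map (algebraMap K K₁)) (Set.range (algebraMap k₁ K₁)))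
    (D : Divisor k K) :
    L (con (k₁ := k₁) (K₁ := K₁) D) ≤ spanL k₁ (K₁ := K₁) D := by
  classical
  haveI : FiniteDimensional K K₁ := finiteDimensional_of_productMap_surjective h.2
  let b := Module.finBasis k k₁
  let B := constBasis h b
  have hB : ∀ i, B i ∈ Set.range (algebraMap k₁ K₁) := fun i => ⟨b i, (constBasis_apply h b i).symm⟩
  intro w hw
  have hcoord : ∀ i, B.repr w i ∈ L D := by
    intro i P
    have hrepr : ∀ (c : k₁) (i : _), P.1 (B.repr (algebraMap k₁ K₁ c) i) ≤ 1 := by
      intro c i
      rw [constBasis_repr_algebraMap h b c i]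
      exact P.2.1 _
    obtain ⟨t, ht⟩ := exists_uniformizer P
    have ht0 : t ≠ 0 := by
      rintro rfl
      rw [map_zero] at ht
      exact exp_ne_zero ht.symm
    have hordt : P.ord t = 1 := by rw [Place.ord, ht, log_exp]; ring
    set m := D P with hm
    set u : K := t ^ m with hu
    have hu0 : u ≠ 0 := zpow_ne_zero _ ht0
    have hPu : P.1 u = exp (-m) := by
      rw [val_eq_exp_neg_ord P hu0, hu, ord_zpow, hordt, mul_one]
    have hmem : algebraMap K K₁ u * w ∈
        integralClosure (P.O.toSubring.map (algebraMap K K₁)) K₁ := by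
      rw [mem_integralClosure_map_iff hK P]
      rintro Q ⟨e, he⟩
      have h1 := hw (up (F := k) (F' := k₁) Q)
      rw [con_apply D (up (F := k) (F' := k₁) Q) (P := P) (e := e) he] at h1
      have h2 : Q.1 (algebraMap K K₁ u) = exp (-m) ^ e := by rw [he u, hPu]
      rw [map_mul, h2, ← exp_nsmul, nsmul_eq_mul]
      calc exp ((e : ℤ) * -m) * Q.1 w ≤ exp ((e : ℤ) * -m) * exp ((e : ℤ) * m) :=
            mul_le_mul' le_rfl h1
        _ = 1 := by rw [← exp_add, ← exp_zero]; congr 1; ring
    rw [hNS P, mem_adjoin_iff_coord P B hB hrepr] at hmem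
    have h3 := hmem i
    have h4 : algebraMap K K₁ u * w = u • w := (Algebra.smul_def u w).symm
    rw [h4, map_smul, Finsupp.smul_apply, smul_eq_mul, map_mul, hPu] at h3
    have h5 : P.1 (B.repr w i) = exp m * (exp (-m) * P.1 (B.repr w i)) := by
      rw [← mul_assoc, ← exp_add, add_neg_cancel, exp_zero, one_mul]
    rw [h5]
    calc exp m * (exp (-m) * P.1 (B.repr w i)) ≤ exp m * 1 := mul_le_mul' le_rfl h3
      _ = exp (D P) := by rw [mul_one]
  rw [← B.sum_repr w]
  apply Submodule.sum_mem
  intro i _
  have h6 : B.repr w i • B i = (b i) • algebraMap K K₁ (B.repr w i) := by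
    rw [Algebra.smul_def, Algebra.smul_def, constBasis_apply, mul_comm]
  rw [h6]
  exact Submodule.smul_mem _ _ (Submodule.subset_span ⟨B.repr w i, hcoord i, rfl⟩)

/-- If every place is nonsingular with respect to `k₁`, the genus does not drop. -/
theorem genus_eq_of_nonsingular [FiniteDimensional k k₁]
    (h : Function.Bijective (Algebra.TensorProduct.productMap
      (IsScalarTower.toAlgHom k k₁ K₁) (IsScalarTower.toAlgHom k K K₁)))
    (hK : IsFunctionField k K) (hg : IsGeometric k K)
    (hNS : ∀ P : Place k K, integralClosure (P.O.toSubring.map (algebraMap K K₁)) K₁ =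
      Algebra.adjoin (P.O.toSubring.map (algebraMap K K₁)) (Set.range (algebraMap k₁ K₁))) :
    genus k₁ K₁ = genus k K := by
  haveI : FiniteDimensional K K₁ := finiteDimensional_of_productMap_surjective h.2
  obtain ⟨hK₁, -⟩ := scalar_extension h hK hg
  apply le_antisymm (genus_le h hK hg)
  obtain ⟨D, hD⟩ := exists_large_divisor hK
    (max (2 * (genus k K : ℤ) - 1) (2 * (genus k₁ K₁ : ℤ) - 1))
  have h1 := ell_eq_of_deg_ge hK D ((le_max_left _ _).trans hD)
  have h2 := ell_eq_of_deg_ge hK₁ (con (k₁ := k₁) (K₁ := K₁) D)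
    (by rw [deg_con h hK]; exact (le_max_right _ _).trans hD)
  rw [deg_con h hK] at h2
  have h3 : ell (con (k₁ := k₁) (K₁ := K₁) D) ≤ ell D := by
    haveI : FiniteDimensional k₁ (spanL k₁ (K₁ := K₁) D) := by
      haveI := finite_L hK₁ (con (k₁ := k₁) (K₁ := K₁) D)
      exact Submodule.finiteDimensional_of_le (spanL_le D)
    rw [← finrank_spanL hK hg hK₁ D]
    exact Submodule.finrank_mono (L_con_le_spanL h hK hNS D)
  have h3' : (ell (con (k₁ := k₁) (K₁ := K₁) D) : ℤ) ≤ ell D := by exact_mod_cast h3
  have : (genus k K : ℤ) ≤ genus k₁ K₁ := by linarith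
  exact_mod_cast this

end Groth.Agent.H57.GenusExt
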