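import Groth.Agent.H57.GenusExt4

/-!
# Models of scalar extensions: existence in the universe of `K`, transitivity, comparison
-/

set_option autoImplicit false

namespace Groth.Agent.H57.GenusExt

open FunFld TensorProduct Groth.Agent.FF

universe u v

/-- A ring homomorphism out of a ring that is a field is injective. -/
theorem injective_of_isField {A B : Type*} [CommRing A] [CommRing B] [Nontrivial B]
    (hA : IsField A) (f : A →+* B) : Function.Injective f := by
  rw [injective_iff_map_eq_zero]
  intro x hx
  by_contra hne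
  obtain ⟨y, hy⟩ := hA.mul_inv_cancel hne
  have := congrArg f hy
  rw [map_mul, hx, zero_mul, map_one] at this
  exact zero_ne_one this

/-- A model of `k₁ ⊗ K` in the universe of `K`. -/
theorem exists_model {k : Type u} {K : Type v} [Field k] [Field K] [Algebra k K]
    (hg : IsGeometric k K) (k₁ : Type u) [Field k₁] [Algebra k k₁] [FiniteDimensional k k₁] :
    ∃ (K₁ : Type v) (_ : Field K₁) (_ : Algebra K K₁) (_ : Algebra k₁ K₁) (_ : Algebra k K₁)
      (_ : IsScalarTower k k₁ K₁) (_ : IsScalarTower k K K₁),
      Function.Bijective (Algebra.TensorProduct.productMap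
        (IsScalarTower.toAlgHom k k₁ K₁) (IsScalarTower.toAlgHom k K K₁)) := by
  have hT : IsField (k₁ ⊗[k] K) := hg k₁ inferInstance
  let φ : k₁ →ₐ[k] AlgebraicClosure K := IsAlgClosed.lift
  let ψ : k₁ ⊗[k] K →ₐ[k] AlgebraicClosure K :=
    Algebra.TensorProduct.productMap φ (IsScalarTower.toAlgHom k K (AlgebraicClosure K))
  have hψinj : Function.Injective ψ := injective_of_isField hT ψ.toRingHom
  have hinv : ∀ x ∈ ψ.range, x⁻¹ ∈ ψ.range := by
    rintro _ ⟨t, rfl⟩
    by_cases ht : t = 0
    · rw [ht, map_zero, inv_zero]; exact Subalgebra.zero_mem _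
    · obtain ⟨s, hs⟩ := hT.mul_inv_cancel ht
      refine ⟨s, ?_⟩
      have h1 : ψ t * ψ s = 1 := by
        have := congrArg ψ hs
        rwa [map_mul, map_one] at this
      exact (eq_inv_of_mul_eq_one_right h1)
  let K₁ : IntermediateField k (AlgebraicClosure K) := ψ.range.toIntermediateField hinv
  have hmemK : ∀ w : K, algebraMap K (AlgebraicClosure K) w ∈ K₁ := by
    intro w
    refine ⟨(1 : k₁) ⊗ₜ[k] w, ?_⟩
    change ψ ((1 : k₁) ⊗ₜ[k] w) = _
    rw [Algebra.TensorProduct.productMap_apply_tmul, map_one, one_mul]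
    rfl
  have hmemk : ∀ c : k₁, φ c ∈ K₁ := by
    intro c
    refine ⟨c ⊗ₜ[k] (1 : K), ?_⟩
    change ψ (c ⊗ₜ[k] (1 : K)) = _
    rw [Algebra.TensorProduct.productMap_apply_tmul, map_one, mul_one]
  let fK : K →+* K₁ := (algebraMap K (AlgebraicClosure K)).codRestrict K₁.toSubring hmemK
  let fk : k₁ →+* K₁ := (φ : k₁ →+* AlgebraicClosure K).codRestrict K₁.toSubring hmemk
  letI : Algebra K K₁ := fK.toAlgebra
  letI : Algebra k₁ K₁ := fk.toAlgebra
  have t1 : IsScalarTower k k₁ K₁ := by
    apply IsScalarTower.of_algebraMap_eq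
    intro c
    apply Subtype.ext
    change algebraMap k (AlgebraicClosure K) c = φ (algebraMap k k₁ c)
    rw [φ.commutes]
  have t2 : IsScalarTower k K K₁ := by
    apply IsScalarTower.of_algebraMap_eq
    intro c
    apply Subtype.ext
    change algebraMap k (AlgebraicClosure K) c = algebraMap K (AlgebraicClosure K) (algebraMap k K c)
    rw [← IsScalarTower.algebraMap_apply]
  refine ⟨K₁, inferInstance, inferInstance, inferInstance, inferInstance, t1, t2, ?_⟩
  have hval : ∀ t : k₁ ⊗[k] K, ((Algebra.TensorProduct.productMap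
      (IsScalarTower.toAlgHom k k₁ K₁) (IsScalarTower.toAlgHom k K K₁) t : K₁) :
        AlgebraicClosure K) = ψ t := by
    intro t
    induction t using TensorProduct.induction_on with
    | zero => rw [map_zero, map_zero]; rfl
    | tmul a c =>
      rw [Algebra.TensorProduct.productMap_apply_tmul, Algebra.TensorProduct.productMap_apply_tmul]
      rfl
    | add s t hs ht => rw [map_add, map_add, ← hs, ← ht]; rfl
  constructor
  · intro s t hst
    apply hψinj
    rw [← hval, ← hval, hst]
  · rintro ⟨x, t, rfl⟩
    exact ⟨t, Subtype.ext (hval t)⟩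

end Groth.Agent.H57.GenusExt
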