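import Groth.Agent.H57.GenusExt5

/-!
# Transitivity of scalar extensions and comparison of two scalar extensions
-/

set_option autoImplicit false
set_option linter.unusedSectionVars false

namespace Groth.Agent.H57.GenusExt

open FunFld TensorProduct Groth.Agent.FF

universe u v

section Trans

variable {k k₁ k₂ : Type u} {K K₁ K₂ : Type v} [Field k] [Field k₁] [Field k₂] [Field K]
  [Field K₁] [Field K₂]
  [Algebra k k₁] [Algebra k K] [Algebra K K₁] [Algebra k₁ K₁]
  [Algebra k K₁] [IsScalarTower k k₁ K₁] [IsScalarTower k K K₁]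
  [Algebra k₁ k₂] [Algebra K₁ K₂] [Algebra k₂ K₂] [Algebra k₁ K₂]
  [IsScalarTower k₁ k₂ K₂] [IsScalarTower k₁ K₁ K₂]
  [Algebra k k₂] [IsScalarTower k k₁ k₂] [Algebra K K₂] [IsScalarTower K K₁ K₂]
  [Algebra k K₂] [IsScalarTower k k₁ K₂]

theorem trans_tower₁ (k k₁ k₂ : Type u) (K₂ : Type v) [Field k] [Field k₁] [Field k₂] [Field K₂]
    [Algebra k k₁] [Algebra k₁ k₂] [Algebra k₂ K₂] [Algebra k₁ K₂] [IsScalarTower k₁ k₂ K₂]
    [Algebra k k₂] [IsScalarTower k k₁ k₂] [Algebra k K₂] [IsScalarTower k k₁ K₂] :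
    IsScalarTower k k₂ K₂ := by
  apply IsScalarTower.of_algebraMap_eq
  intro c
  rw [IsScalarTower.algebraMap_apply k k₁ K₂, IsScalarTower.algebraMap_apply k₁ k₂ K₂,
    ← IsScalarTower.algebraMap_apply k k₁ k₂]

theorem trans_tower₂ (k k₁ : Type u) (K K₁ K₂ : Type v) [Field k] [Field k₁] [Field K]
    [Field K₁] [Field K₂]
    [Algebra k k₁] [Algebra k K] [Algebra K K₁] [Algebra k₁ K₁]
    [Algebra k K₁] [IsScalarTower k k₁ K₁] [IsScalarTower k K K₁]
    [Algebra K₁ K₂] [Algebra k₁ K₂] [IsScalarTower k₁ K₁ K₂]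
    [Algebra K K₂] [IsScalarTower K K₁ K₂] [Algebra k K₂] [IsScalarTower k k₁ K₂] :
    IsScalarTower k K K₂ := by
  apply IsScalarTower.of_algebraMap_eq
  intro c
  rw [IsScalarTower.algebraMap_apply k k₁ K₂, IsScalarTower.algebraMap_apply k₁ K₁ K₂,
    ← IsScalarTower.algebraMap_apply k k₁ K₁, IsScalarTower.algebraMap_apply k K K₁,
    ← IsScalarTower.algebraMap_apply K K₁ K₂]

theorem trans_bijective [FiniteDimensional k k₁] [FiniteDimensional k₁ k₂]
    [IsScalarTower k k₂ K₂] [IsScalarTower k K K₂]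
    (h₁ : Function.Bijective (Algebra.TensorProduct.productMap
      (IsScalarTower.toAlgHom k k₁ K₁) (IsScalarTower.toAlgHom k K K₁)))
    (h₂ : Function.Bijective (Algebra.TensorProduct.productMap
      (IsScalarTower.toAlgHom k₁ k₂ K₂) (IsScalarTower.toAlgHom k₁ K₁ K₂)))
    (hg : IsGeometric k K) :
    FiniteDimensional k k₂ ∧
      Function.Bijective (Algebra.TensorProduct.productMap
        (IsScalarTower.toAlgHom k k₂ K₂) (IsScalarTower.toAlgHom k K K₂)) := by
  have hfin : FiniteDimensional k k₂ := Module.Finite.trans k₁ k₂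
  refine ⟨hfin, ?_⟩
  have hT : IsField (k₂ ⊗[k] K) := hg k₂ hfin
  refine ⟨injective_of_isField hT (Algebra.TensorProduct.productMap
      (IsScalarTower.toAlgHom k k₂ K₂) (IsScalarTower.toAlgHom k K K₂)).toRingHom, ?_⟩
  intro z
  obtain ⟨t, rfl⟩ := h₂.2 z
  induction t using TensorProduct.induction_on with
  | zero => exact ⟨0, by rw [map_zero, map_zero]⟩
  | tmul a y =>
    obtain ⟨s, rfl⟩ := h₁.2 y
    induction s using TensorProduct.induction_on with
    | zero =>
      refine ⟨0, ?_⟩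
      rw [map_zero, map_zero, TensorProduct.tmul_zero, map_zero]
    | tmul c w =>
      refine ⟨(a * algebraMap k₁ k₂ c) ⊗ₜ[k] w, ?_⟩
      rw [Algebra.TensorProduct.productMap_apply_tmul, Algebra.TensorProduct.productMap_apply_tmul,
        Algebra.TensorProduct.productMap_apply_tmul]
      change algebraMap k₂ K₂ (a * algebraMap k₁ k₂ c) * algebraMap K K₂ w =
        algebraMap k₂ K₂ a * algebraMap K₁ K₂ (algebraMap k₁ K₁ c * algebraMap K K₁ w)
      rw [map_mul, map_mul, ← IsScalarTower.algebraMap_apply k₁ k₂ K₂,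
        ← IsScalarTower.algebraMap_apply k₁ K₁ K₂, ← IsScalarTower.algebraMap_apply K K₁ K₂,
        mul_assoc]
    | add s₁ s₂ hs₁ hs₂ =>
      obtain ⟨r₁, hr₁⟩ := hs₁
      obtain ⟨r₂, hr₂⟩ := hs₂
      refine ⟨r₁ + r₂, ?_⟩
      rw [map_add, hr₁, hr₂, map_add, TensorProduct.tmul_add, map_add]
  | add s t hs ht =>
    obtain ⟨r₁, hr₁⟩ := hs
    obtain ⟨r₂, hr₂⟩ := ht
    exact ⟨r₁ + r₂, by rw [map_add, hr₁, hr₂, map_add]⟩

end Trans

section Rel

variable {k k₁ k₂ : Type u} {K K₁ K₂ : Type v} [Field k] [Field k₁] [Field k₂] [Field K]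
  [Field K₁] [Field K₂]
  [Algebra k k₁] [FiniteDimensional k k₁] [Algebra k K] [Algebra K K₁] [Algebra k₁ K₁]
  [Algebra k K₁] [IsScalarTower k k₁ K₁] [IsScalarTower k K K₁]
  [Algebra k k₂] [FiniteDimensional k k₂] [Algebra K K₂] [Algebra k₂ K₂] [Algebra k K₂]
  [IsScalarTower k k₂ K₂] [IsScalarTower k K K₂]
  [Algebra k₁ k₂] [IsScalarTower k k₁ k₂]

theorem exists_rel_model
    (h₁ : Function.Bijective (Algebra.TensorProduct.productMap
      (IsScalarTower.toAlgHom k k₁ K₁) (IsScalarTower.toAlgHom k K K₁)))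
    (h₂ : Function.Bijective (Algebra.TensorProduct.productMap
      (IsScalarTower.toAlgHom k k₂ K₂) (IsScalarTower.toAlgHom k K K₂)))
    (hK : IsFunctionField k K) (hg : IsGeometric k K) :
    ∃ (_ : Algebra K₁ K₂) (_ : Algebra k₁ K₂) (_ : IsScalarTower k₁ k₂ K₂)
      (_ : IsScalarTower k₁ K₁ K₂), FiniteDimensional k₁ k₂ ∧
      Function.Bijective (Algebra.TensorProduct.productMap
        (IsScalarTower.toAlgHom k₁ k₂ K₂) (IsScalarTower.toAlgHom k₁ K₁ K₂)) := by
  have hfin : FiniteDimensional k₁ k₂ := Module.Finite.of_restrictScalars_finite k k₁ k₂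
  obtain ⟨-, hg₁⟩ := scalar_extension h₁ hK hg
  let ι : K₁ →ₐ[k] K₂ :=
    (Algebra.TensorProduct.productMap
      ((IsScalarTower.toAlgHom k k₂ K₂).comp (IsScalarTower.toAlgHom k k₁ k₂))
      (IsScalarTower.toAlgHom k K K₂)).comp (AlgEquiv.ofBijective _ h₁).symm.toAlgHom
  have hιK : ∀ w : K, ι (algebraMap K K₁ w) = algebraMap K K₂ w := by
    intro w
    have h1 : (AlgEquiv.ofBijective _ h₁).symm (algebraMap K K₁ w) = (1 : k₁) ⊗ₜ[k] w := by
      rw [AlgEquiv.symm_apply_eq, AlgEquiv.coe_ofBijective,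
        Algebra.TensorProduct.productMap_apply_tmul, map_one, one_mul]
      rfl
    change Algebra.TensorProduct.productMap
      ((IsScalarTower.toAlgHom k k₂ K₂).comp (IsScalarTower.toAlgHom k k₁ k₂))
      (IsScalarTower.toAlgHom k K K₂)
        ((AlgEquiv.ofBijective _ h₁).symm (algebraMap K K₁ w)) = _
    rw [h1, Algebra.TensorProduct.productMap_apply_tmul, map_one, one_mul]
    rfl
  have hιk : ∀ c : k₁, ι (algebraMap k₁ K₁ c) = algebraMap k₂ K₂ (algebraMap k₁ k₂ c) := by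
    intro c
    have h1 : (AlgEquiv.ofBijective _ h₁).symm (algebraMap k₁ K₁ c) = c ⊗ₜ[k] (1 : K) := by
      rw [AlgEquiv.symm_apply_eq, AlgEquiv.coe_ofBijective,
        Algebra.TensorProduct.productMap_apply_tmul, map_one, mul_one]
      rfl
    change Algebra.TensorProduct.productMap
      ((IsScalarTower.toAlgHom k k₂ K₂).comp (IsScalarTower.toAlgHom k k₁ k₂))
      (IsScalarTower.toAlgHom k K K₂)
        ((AlgEquiv.ofBijective _ h₁).symm (algebraMap k₁ K₁ c)) = _
    rw [h1, Algebra.TensorProduct.productMap_apply_tmul, map_one, mul_one]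
    rfl
  letI : Algebra K₁ K₂ := ι.toRingHom.toAlgebra
  letI : Algebra k₁ K₂ := ((algebraMap k₂ K₂).comp (algebraMap k₁ k₂)).toAlgebra
  have t1 : IsScalarTower k₁ k₂ K₂ := IsScalarTower.of_algebraMap_eq (fun _ => rfl)
  have t2 : IsScalarTower k₁ K₁ K₂ :=
    IsScalarTower.of_algebraMap_eq (fun c => (hιk c).symm)
  refine ⟨inferInstance, inferInstance, t1, t2, hfin, ?_⟩
  have hT : IsField (k₂ ⊗[k₁] K₁) := hg₁ k₂ hfin
  refine ⟨injective_of_isField hT (Algebra.TensorProduct.productMap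
      (IsScalarTower.toAlgHom k₁ k₂ K₂) (IsScalarTower.toAlgHom k₁ K₁ K₂)).toRingHom, ?_⟩
  intro z
  obtain ⟨t, rfl⟩ := h₂.2 z
  induction t using TensorProduct.induction_on with
  | zero => exact ⟨0, by rw [map_zero, map_zero]⟩
  | tmul a w =>
    refine ⟨a ⊗ₜ[k₁] (algebraMap K K₁ w), ?_⟩
    rw [Algebra.TensorProduct.productMap_apply_tmul, Algebra.TensorProduct.productMap_apply_tmul]
    change algebraMap k₂ K₂ a * ι (algebraMap K K₁ w) = algebraMap k₂ K₂ a * algebraMap K K₂ w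
    rw [hιK]
  | add s t hs ht =>
    obtain ⟨r₁, hr₁⟩ := hs
    obtain ⟨r₂, hr₂⟩ := ht
    exact ⟨r₁ + r₂, by rw [map_add, hr₁, hr₂, map_add]⟩

end Rel

end Groth.Agent.H57.GenusExt
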