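import Mathlib

/-!
# A finite normal extension is separable over its maximal purely inseparable subextension
-/

set_option autoImplicit false

namespace Groth.Agent.H57.GenusExt

open Polynomial IntermediateField

theorem mem_perfectClosure_of_fixed {k E : Type*} [Field k] [Field E] [Algebra k E]
    [FiniteDimensional k E] [hn : Normal k E] (x : E) (hx : ∀ σ : E ≃ₐ[k] E, σ x = x) :
    x ∈ perfectClosure k E := by
  classical
  rw [mem_perfectClosure_iff_natSepDegree_eq_one]
  have hsplit := Normal.splits hn x
  rw [Polynomial.natSepDegree_eq_of_splits _ hsplit]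
  have hint : IsIntegral k x := Algebra.IsIntegral.isIntegral x
  have : ((minpoly k x).aroots E).toFinset = {x} := by
    ext y
    simp only [Multiset.mem_toFinset, Finset.mem_singleton]
    constructor
    · intro hy
      rw [Polynomial.mem_aroots] at hy
      obtain ⟨σ, hσ⟩ := minpoly.exists_algEquiv_of_root' hint.isAlgebraic hy.2
      rw [← hσ, hx σ]
    · rintro rfl
      rw [Polynomial.mem_aroots]
      exact ⟨minpoly.ne_zero hint, minpoly.aeval k y⟩
  rw [this, Finset.card_singleton]

theorem isSeparable_over_perfectClosure {k E : Type*} [Field k] [Field E] [Algebra k E]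
    [FiniteDimensional k E] [Normal k E] :
    Algebra.IsSeparable (perfectClosure k E) E := by
  classical
  haveI : Algebra.IsSeparable (FixedPoints.subfield (E ≃ₐ[k] E) E) E := inferInstance
  refine ⟨fun y => ?_⟩
  let j : FixedPoints.subfield (E ≃ₐ[k] E) E →+* perfectClosure k E :=
    { toFun := fun x => ⟨x.1, mem_perfectClosure_of_fixed x.1 (fun σ => x.2 σ)⟩
      map_one' := rfl
      map_mul' := fun _ _ => rfl
      map_zero' := rfl
      map_add' := fun _ _ => rfl }
  have hsep : (minpoly (FixedPoints.subfield (E ≃ₐ[k] E) E) y).Separable :=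
    Algebra.IsSeparable.isSeparable _ y
  have hdvd : minpoly (perfectClosure k E) y ∣
      (minpoly (FixedPoints.subfield (E ≃ₐ[k] E) E) y).map j := by
    apply minpoly.dvd
    rw [Polynomial.aeval_def, Polynomial.eval₂_map]
    have hcomp : (algebraMap (perfectClosure k E) E).comp j =
        algebraMap (FixedPoints.subfield (E ≃ₐ[k] E) E) E := rfl
    rw [hcomp, ← Polynomial.aeval_def, minpoly.aeval]
  exact (hsep.map).of_dvd hdvd

end Groth.Agent.H57.GenusExt
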