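import Groth.Agent.H57.GenusExt6
import Groth.Agent.H57.GenusExt4
import Groth.Agent.H57.NormalSep
import Groth.Agent.FunFld.ConstSepExt
import Groth.Agent.FunFld.SingFinite

/-!
# A finite purely inseparable extension of constants after which the function field is nonsingular

The genus can only drop under extension of constants; choose a finite extension `k₁` with minimal
genus, pass to its normal closure `k₂` and then to the maximal purely inseparable subextension `k'`
of `k₂`.  As `k₂/k'` is separable the genus over `k'` is the minimal one, hence does not drop under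
any further extension, which forces every place to be nonsingular.
-/

set_option autoImplicit false
set_option linter.unusedSectionVars false

namespace Groth.Agent.H57.GenusExt

open FunFld TensorProduct Groth.Agent.FF

universe u v

section Sep

variable {k k₁ : Type u} {K K₁ : Type v} [Field k] [Field k₁] [Field K] [Field K₁]
  [Algebra k k₁] [Algebra k K] [Algebra K K₁] [Algebra k₁ K₁] [Algebra k K₁]
  [IsScalarTower k k₁ K₁] [IsScalarTower k K K₁]

/-- Under a finite separable extension of constants every place is nonsingular. -/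
theorem nonsingular_of_separable [FiniteDimensional k k₁] [Algebra.IsSeparable k k₁]
    (h : Function.Bijective (Algebra.TensorProduct.productMap
      (IsScalarTower.toAlgHom k k₁ K₁) (IsScalarTower.toAlgHom k K K₁)))
    (hK : IsFunctionField k K) (P : Place k K) :
    integralClosure (P.O.toSubring.map (algebraMap K K₁)) K₁ =
      Algebra.adjoin (P.O.toSubring.map (algebraMap K K₁)) (Set.range (algebraMap k₁ K₁)) := by
  letI : Algebra P.O K₁ := ((algebraMap K K₁).comp P.O.subtype).toAlgebra
  haveI : IsScalarTower P.O K K₁ := IsScalarTower.of_algebraMap_eq (fun _ => rfl)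
  exact Groth.Agent.FF.SingFinite.integralClosure_map_eq (algebraMap K K₁) P.O.toSubring rfl _
    (Groth.Agent.FF.Ext.constSep_integralClosure h.2 hK P)

end Sep

/-- the set of genera of all models of finite extensions of constants -/
def genusSet (k : Type u) (K : Type v) [Field k] [Field K] [Algebra k K] : Set ℕ :=
  {n | ∃ (k₁ : Type u) (_ : Field k₁) (_ : Algebra k k₁) (_ : FiniteDimensional k k₁)
      (K₁ : Type v) (_ : Field K₁) (_ : Algebra K K₁) (_ : Algebra k₁ K₁) (_ : Algebra k K₁)
      (_ : IsScalarTower k k₁ K₁) (_ : IsScalarTower k K K₁),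
      Function.Bijective (Algebra.TensorProduct.productMap
        (IsScalarTower.toAlgHom k k₁ K₁) (IsScalarTower.toAlgHom k K K₁)) ∧ genus k₁ K₁ = n}

theorem genusSet_nonempty {k : Type u} {K : Type v} [Field k] [Field K] [Algebra k K]
    (hg : IsGeometric k K) : (genusSet k K).Nonempty := by
  obtain ⟨K₁, i1, i2, i3, i4, i5, i6, h⟩ := exists_model hg k
  exact ⟨_, k, inferInstance, inferInstance, inferInstance, K₁, i1, i2, i3, i4, i5, i6,
    h, rfl⟩

section Aux

variable {k k₁ k' : Type u} {K K₁ : Type v} [Field k] [Field k₁] [Field k']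
  [Field K] [Field K₁]
  [Algebra k k₁] [FiniteDimensional k k₁] [Algebra k K] [Algebra K K₁] [Algebra k₁ K₁]
  [Algebra k K₁] [IsScalarTower k k₁ K₁] [IsScalarTower k K K₁]
  [Algebra k k'] [FiniteDimensional k k']

theorem nonsingular_aux (k₂ : Type u) [Field k₂]
    [Algebra k k₂] [Algebra k₁ k₂] [IsScalarTower k k₁ k₂]
    [Algebra k' k₂] [IsScalarTower k k' k₂] [FiniteDimensional k' k₂] [Algebra.IsSeparable k' k₂]
    (h₁ : Function.Bijective (Algebra.TensorProduct.productMap
      (IsScalarTower.toAlgHom k k₁ K₁) (IsScalarTower.toAlgHom k K K₁)))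
    (hK : IsFunctionField k K) (hg : IsGeometric k K)
    (hmin : ∀ n ∈ genusSet k K, genus k₁ K₁ ≤ n)
    (K' : Type v) [Field K'] [Algebra K K'] [Algebra k' K'] [Algebra k K']
    [IsScalarTower k k' K'] [IsScalarTower k K K']
    (h' : Function.Bijective (Algebra.TensorProduct.productMap
      (IsScalarTower.toAlgHom k k' K') (IsScalarTower.toAlgHom k K K')))
    (Q : Place k' K') (k'' : Type u) [Field k''] [Algebra k' k''] [FiniteDimensional k' k'']
    (K'' : Type v) [Field K''] [Algebra K' K''] [Algebra k'' K''] [Algebra k' K'']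
    [IsScalarTower k' k'' K''] [IsScalarTower k' K' K'']
    (h'' : Function.Bijective (Algebra.TensorProduct.productMap
      (IsScalarTower.toAlgHom k' k'' K'') (IsScalarTower.toAlgHom k' K' K''))) :
    integralClosure (Q.O.toSubring.map (algebraMap K' K'')) K'' =
      Algebra.adjoin (Q.O.toSubring.map (algebraMap K' K'')) (Set.range (algebraMap k'' K'')) := by
  obtain ⟨hK', hg'⟩ := scalar_extension h' hK hg
  obtain ⟨hK₁, hg₁⟩ := scalar_extension h₁ hK hg
  -- the genus over `k'` is the minimal one
  have hgen' : genus k' K' = genus k₁ K₁ := by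
    apply le_antisymm _ (hmin _ ⟨k', inferInstance, inferInstance, inferInstance, K', inferInstance,
      inferInstance, inferInstance, inferInstance, inferInstance, inferInstance, h', rfl⟩)
    obtain ⟨K₂, i1, i2, i3, i4, i5, i6, h₂'⟩ := exists_model hg' k₂
    have e1 : genus k₂ K₂ = genus k' K' :=
      genus_eq_of_nonsingular h₂' hK' hg' (fun P => nonsingular_of_separable h₂' hK' P)
    rw [← e1]
    letI aK : Algebra K K₂ := ((algebraMap K' K₂).comp (algebraMap K K')).toAlgebra
    haveI tK : IsScalarTower K K' K₂ := IsScalarTower.of_algebraMap_eq (fun _ => rfl)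
    letI ak : Algebra k K₂ := ((algebraMap k' K₂).comp (algebraMap k k')).toAlgebra
    haveI tk : IsScalarTower k k' K₂ := IsScalarTower.of_algebraMap_eq (fun _ => rfl)
    haveI t1 : IsScalarTower k k₂ K₂ := trans_tower₁ k k' k₂ K₂
    haveI t2 : IsScalarTower k K K₂ := trans_tower₂ k k' K K' K₂
    obtain ⟨hfd₂, hb₂⟩ := trans_bijective h' h₂' hg
    obtain ⟨j1, j2, j3, j4, hfd₁₂, hrel⟩ := exists_rel_model h₁ hb₂ hK hg
    exact genus_le hrel hK₁ hg₁
  -- the genus over `k''` is at least the minimal one
  letI aK : Algebra K K'' := ((algebraMap K' K'').comp (algebraMap K K')).toAlgebra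
  haveI tK : IsScalarTower K K' K'' := IsScalarTower.of_algebraMap_eq (fun _ => rfl)
  letI ak : Algebra k K'' := ((algebraMap k' K'').comp (algebraMap k k')).toAlgebra
  haveI tk : IsScalarTower k k' K'' := IsScalarTower.of_algebraMap_eq (fun _ => rfl)
  letI akk : Algebra k k'' := ((algebraMap k' k'').comp (algebraMap k k')).toAlgebra
  haveI tkk : IsScalarTower k k' k'' := IsScalarTower.of_algebraMap_eq (fun _ => rfl)
  haveI t1 : IsScalarTower k k'' K'' := trans_tower₁ k k' k'' K''
  haveI t2 : IsScalarTower k K K'' := trans_tower₂ k k' K K' K''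
  obtain ⟨hfd'', hb''⟩ := trans_bijective h' h'' hg
  have hge : genus k₁ K₁ ≤ genus k'' K'' :=
    hmin _ ⟨k'', inferInstance, inferInstance, hfd'', K'', inferInstance,
      inferInstance, inferInstance, inferInstance, inferInstance, inferInstance, hb'', rfl⟩
  have hle : genus k'' K'' ≤ genus k' K' := genus_le h'' hK' hg'
  have heq : genus k'' K'' = genus k' K' := le_antisymm hle (hgen' ▸ hge)
  exact nonsingular_of_genus_eq h'' hK' hg' heq Q

end Aux

/-- **Nonsingular model after a finite purely inseparable extension of constants.** -/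
theorem exists_pi_nonsingular (k : Type u) (K : Type v) [Field k] [Field K] [Algebra k K]
    (hK : FunFld.IsFunctionField k K) (hg : FunFld.IsGeometric k K) :
    ∃ (k' : Type u) (_ : Field k') (_ : Algebra k k'), FiniteDimensional k k' ∧
      IsPurelyInseparable k k' ∧
      ∀ (K' : Type v) [Field K'] [Algebra K K'] [Algebra k' K'] [Algebra k K']
        [IsScalarTower k k' K'] [IsScalarTower k K K'],
        Function.Bijective (Algebra.TensorProduct.productMap
          (IsScalarTower.toAlgHom k k' K') (IsScalarTower.toAlgHom k K K')) →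
        ∀ (Q : FunFld.Place k' K') (k'' : Type u) [Field k''] [Algebra k' k'']
          [FiniteDimensional k' k'']
          (K'' : Type v) [Field K''] [Algebra K' K''] [Algebra k'' K''] [Algebra k' K'']
          [IsScalarTower k' k'' K''] [IsScalarTower k' K' K''],
          Function.Bijective (Algebra.TensorProduct.productMap
            (IsScalarTower.toAlgHom k' k'' K'') (IsScalarTower.toAlgHom k' K' K'')) →
          integralClosure (Q.O.toSubring.map (algebraMap K' K'')) K'' =
            Algebra.adjoin (Q.O.toSubring.map (algebraMap K' K''))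
              (Set.range (algebraMap k'' K'')) := by
  classical
  have hne := genusSet_nonempty hg
  obtain ⟨k₁, i1, i2, i3, K₁, i4, i5, i6, i7, i8, i9, h₁, hm⟩ := Nat.sInf_mem hne
  have hmin : ∀ n ∈ genusSet k K, genus k₁ K₁ ≤ n := fun n hn => hm ▸ Nat.sInf_le hn
  let k₂ : IntermediateField k (AlgebraicClosure k₁) :=
    IntermediateField.normalClosure k k₁ (AlgebraicClosure k₁)
  let k' : IntermediateField k k₂ := perfectClosure k k₂
  haveI : Algebra.IsSeparable k' k₂ := isSeparable_over_perfectClosure
  refine ⟨k', inferInstance, inferInstance, inferInstance, inferInstance, ?_⟩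
  intro K' _ _ _ _ _ _ h' Q k'' _ _ _ K'' _ _ _ _ _ _ h''
  exact nonsingular_aux (k₁ := k₁) (K₁ := K₁) k₂ h₁ hK hg hmin K' h' Q k'' K'' h''

end Groth.Agent.H57.GenusExt
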