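import Mathlib

set_option autoImplicit false

namespace Groth.Agent.H57

open PowerSeries Finset

variable {A : Type*} [CommRing A]

/-- The `j`-th Hasse derivative of a power series. -/
noncomputable def psHasse (j : ℕ) (f : A⟦X⟧) : A⟦X⟧ :=
  PowerSeries.mk fun i => ((i + j).choose j : A) * coeff (i + j) f

theorem coeff_psHasse (j i : ℕ) (f : A⟦X⟧) :
    coeff i (psHasse j f) = ((i + j).choose j : A) * coeff (i + j) f := by
  unfold psHasse
  rw [coeff_mk]

theorem psHasse_zero (f : A⟦X⟧) : psHasse 0 f = f := by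
  ext i
  rw [coeff_psHasse]
  simp

theorem psHasse_add (j : ℕ) (f g : A⟦X⟧) : psHasse j (f + g) = psHasse j f + psHasse j g := by
  ext i
  simp only [coeff_psHasse, map_add]
  ring

theorem psHasse_C (j : ℕ) (hj : 0 < j) (a : A) : psHasse j (C a) = 0 := by
  ext i
  rw [coeff_psHasse, coeff_C, if_neg (by omega)]
  simp

theorem psHasse_coe (j : ℕ) (p : Polynomial A) :
    psHasse j (p : A⟦X⟧) = ((Polynomial.hasseDeriv j p : Polynomial A) : A⟦X⟧) := by
  ext i
  rw [coeff_psHasse, Polynomial.coeff_coe, Polynomial.coeff_coe, Polynomial.hasseDeriv_coeff]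

theorem coeff_psHasse_trunc (j i N : ℕ) (h : i + j < N) (f : A⟦X⟧) :
    coeff i (psHasse j ((trunc N f : Polynomial A) : A⟦X⟧)) = coeff i (psHasse j f) := by
  rw [coeff_psHasse, coeff_psHasse, coeff_coe_trunc_of_lt h]

/-- Leibniz rule for Hasse derivatives of power series. -/
theorem psHasse_mul (j : ℕ) (f g : A⟦X⟧) :
    psHasse j (f * g) = ∑ p ∈ antidiagonal j, psHasse p.1 f * psHasse p.2 g := by
  ext i
  set N := i + j + 1 with hN
  set F := trunc N f with hF
  set G := trunc N g with hG
  have hlhs : coeff i (psHasse j (f * g)) =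
      coeff i (psHasse j (((F * G : Polynomial A)) : A⟦X⟧)) := by
    rw [coeff_psHasse, coeff_psHasse, Polynomial.coe_mul,
      coeff_mul_eq_coeff_trunc_mul_trunc f g (show i + j < N by omega)]
  rw [hlhs, psHasse_coe, Polynomial.hasseDeriv_mul, Polynomial.coeff_coe, Polynomial.finsetSum_coeff,
    map_sum]
  refine Finset.sum_congr rfl fun p hp => ?_
  rw [Finset.HasAntidiagonal.mem_antidiagonal] at hp
  rw [← Polynomial.coeff_coe, Polynomial.coe_mul, ← psHasse_coe, ← psHasse_coe, coeff_mul, coeff_mul]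
  refine Finset.sum_congr rfl fun q hq => ?_
  rw [Finset.HasAntidiagonal.mem_antidiagonal] at hq
  rw [coeff_psHasse_trunc _ _ _ (by omega), coeff_psHasse_trunc _ _ _ (by omega)]

/-- The Taylor expansion map `f(X) ↦ f(X + Y) = ∑ⱼ (Dʲ f)(X) Yʲ` as a ring homomorphism. -/
noncomputable def taylorPS : A⟦X⟧ →+* (A⟦X⟧)⟦X⟧ where
  toFun f := PowerSeries.mk fun j => psHasse j f
  map_one' := by
    refine PowerSeries.ext fun j => ?_
    rw [coeff_mk, coeff_one]
    split_ifs with h
    · subst h; exact psHasse_zero 1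
    · have : (1 : A⟦X⟧) = C (1 : A) := (map_one C).symm
      rw [this, psHasse_C j (Nat.pos_of_ne_zero h)]
  map_mul' f g := by
    refine PowerSeries.ext fun j => ?_
    rw [coeff_mk, coeff_mul, psHasse_mul]
    refine Finset.sum_congr rfl fun p _ => ?_
    rw [coeff_mk, coeff_mk]
  map_zero' := by
    refine PowerSeries.ext fun j => ?_
    rw [coeff_mk, map_zero]
    refine PowerSeries.ext fun i => ?_
    rw [coeff_psHasse]
    simp
  map_add' f g := by
    refine PowerSeries.ext fun j => ?_
    rw [coeff_mk, map_add, coeff_mk, coeff_mk, psHasse_add]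

theorem coeff_taylorPS (j : ℕ) (f : A⟦X⟧) : coeff j (taylorPS f) = psHasse j f := by
  unfold taylorPS
  simp [coeff_mk]

theorem coeff_coeff_taylorPS (i j : ℕ) (f : A⟦X⟧) :
    coeff i (coeff j (taylorPS f)) = ((i + j).choose j : A) * coeff (i + j) f := by
  rw [coeff_taylorPS, coeff_psHasse]

end Groth.Agent.H57
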