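import Groth.Agent.H57.HasseUniq
import Groth.Agent.H57.PSHasse
import Groth.Agent.FunFld.Transc
import Groth.Prelude.Def_LocRes

set_option autoImplicit false

namespace Groth.Agent.H57

open FunFld Groth.Agent.FF PowerSeries

universe u v
variable {k : Type u} {K : Type v} [Field k] [Field K] [Algebra k K]

theorem hasseD_zero_apply (s : K) (H : K →ₐ[k] PowerSeries K) (hH : LocRes.IsHasseFamily s H)
    (y : K) : LocRes.hasseD H 0 y = y := by
  rw [LocRes.hasseD_apply, PowerSeries.coeff_zero_eq_constantCoeff_apply]
  exact hH.2 y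

/-- The variable of a Hasse family is transcendental over the constants. -/
theorem transcendental_of_isHasseFamily (hK : IsFunctionField k K) (s : K)
    (H : K →ₐ[k] PowerSeries K) (hH : LocRes.IsHasseFamily s H) : Transcendental k s := by
  apply transcendental_of_not_mem_range hK
  rintro ⟨c, rfl⟩
  have h1 := hH.1
  rw [AlgHom.commutes, PowerSeries.algebraMap_apply] at h1
  have h2 := congrArg (PowerSeries.coeff 1) h1
  rw [map_add, PowerSeries.coeff_C, PowerSeries.coeff_one_X] at h2
  simp at h2

theorem isAlgebraic_adjoin_of_transcendental (hK : IsFunctionField k K) {x : K}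
    (hx : Transcendental k x) : Algebra.IsAlgebraic (IntermediateField.adjoin k ({x} : Set K)) K := by
  have := finite_adjoin_of_transcendental hK hx
  infer_instance

/-- Two `k`-algebra maps from a function field to a domain that agree on a transcendental element
and are congruent modulo the kernel of a ring map are equal. -/
theorem algHom_eq_of_transcendental (hK : IsFunctionField k K) {R L : Type*}
    [CommRing R] [IsDomain R] [Algebra k R] [CommRing L] [Nontrivial L]
    (Φ₁ Φ₂ : K →ₐ[k] R) (ε : R →+* L) (hε : ∀ y, ε (Φ₁ y) = ε (Φ₂ y))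
    {x : K} (hx : Transcendental k x) (hΦ : Φ₁ x = Φ₂ x) : Φ₁ = Φ₂ := by
  have halg := isAlgebraic_adjoin_of_transcendental hK hx
  refine algHom_eq_of_algebraic Φ₁ Φ₂ ε hε (IntermediateField.adjoin k ({x} : Set K)) ?_
  apply algHom_eq_on_adjoin
  intro y hy
  rw [Set.mem_singleton_iff] at hy
  rw [hy]
  exact hΦ

/-- Elements killed by all higher Hasse derivatives are constants. -/
theorem mem_range_of_hasseD_eq_zero (hK : IsFunctionField k K) (s : K)
    (H : K →ₐ[k] PowerSeries K) (hH : LocRes.IsHasseFamily s H) (y : K)
    (hy : ∀ j, 1 ≤ j → LocRes.hasseD H j y = 0) : y ∈ Set.range (algebraMap k K) := by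
  by_contra hny
  have htr := transcendental_of_not_mem_range hK hny
  let Φ₂ : K →ₐ[k] PowerSeries K := (Algebra.ofId K (PowerSeries K)).restrictScalars k
  have hΦ₂ : ∀ z, Φ₂ z = PowerSeries.C z := fun z => rfl
  have hHy : H y = Φ₂ y := by
    rw [hΦ₂]
    ext j
    rw [PowerSeries.coeff_C]
    split_ifs with hj
    · subst hj
      exact hasseD_zero_apply s H hH y
    · exact hy j (Nat.pos_of_ne_zero hj)
  have heq := algHom_eq_of_transcendental hK H Φ₂ (PowerSeries.constantCoeff (R := K))
    (fun z => by rw [hH.2, hΦ₂, PowerSeries.constantCoeff_C]) htr hHy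
  have h1 := hH.1
  rw [heq, hΦ₂] at h1
  have h2 := congrArg (PowerSeries.coeff 1) h1
  rw [map_add, PowerSeries.coeff_C, PowerSeries.coeff_one_X] at h2
  simp at h2

/-- Iterativity of Hasse derivatives. -/
theorem hasseD_hasseD (hK : IsFunctionField k K) (s : K)
    (H : K →ₐ[k] PowerSeries K) (hH : LocRes.IsHasseFamily s H) (i j : ℕ) (y : K) :
    LocRes.hasseD H i (LocRes.hasseD H j y) =
      ((i + j).choose j : K) * LocRes.hasseD H (i + j) y := by
  have hs := transcendental_of_isHasseFamily hK s H hH
  let Φ₁ : K →ₐ[k] PowerSeries (PowerSeries K) :=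
    { toRingHom := (PowerSeries.map (H : K →+* PowerSeries K)).comp (H : K →+* PowerSeries K)
      commutes' := fun c => by
        change PowerSeries.map (H : K →+* PowerSeries K) (H (algebraMap k K c)) = _
        rw [AlgHom.commutes, PowerSeries.algebraMap_apply, PowerSeries.map_C,
          PowerSeries.algebraMap_apply]
        congr 1
        exact AlgHom.commutes H c }
  let Φ₂ : K →ₐ[k] PowerSeries (PowerSeries K) :=
    { toRingHom := (taylorPS (A := K)).comp (H : K →+* PowerSeries K)
      commutes' := fun c => by
        change taylorPS (H (algebraMap k K c)) = _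
        rw [AlgHom.commutes, PowerSeries.algebraMap_apply, PowerSeries.algebraMap_apply]
        refine PowerSeries.ext fun j => ?_
        rw [coeff_taylorPS, PowerSeries.coeff_C]
        split_ifs with hj
        · subst hj; rw [psHasse_zero, PowerSeries.algebraMap_apply]
        · exact psHasse_C j (Nat.pos_of_ne_zero hj) _ }
  have hΦ₁ : ∀ z, Φ₁ z = PowerSeries.map (H : K →+* PowerSeries K) (H z) := fun z => rfl
  have hΦ₂ : ∀ z, Φ₂ z = taylorPS (H z) := fun z => rfl
  let ε : PowerSeries (PowerSeries K) →+* K :=
    (PowerSeries.constantCoeff (R := K)).comp (PowerSeries.constantCoeff (R := PowerSeries K))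
  have hε : ∀ z, ε (Φ₁ z) = ε (Φ₂ z) := by
    intro z
    change PowerSeries.constantCoeff (PowerSeries.constantCoeff (Φ₁ z)) =
      PowerSeries.constantCoeff (PowerSeries.constantCoeff (Φ₂ z))
    rw [hΦ₁, hΦ₂, ← PowerSeries.coeff_zero_eq_constantCoeff_apply (taylorPS (H z)),
      coeff_taylorPS, psHasse_zero, ← PowerSeries.coeff_zero_eq_constantCoeff_apply
        (PowerSeries.map (H : K →+* PowerSeries K) (H z)), PowerSeries.coeff_map,
      PowerSeries.coeff_zero_eq_constantCoeff_apply]
    change PowerSeries.constantCoeff (H (PowerSeries.constantCoeff (H z))) = _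
    rw [hH.2, hH.2]
  have hs12 : Φ₁ s = Φ₂ s := by
    rw [hΦ₁, hΦ₂, hH.1]
    refine PowerSeries.ext fun j => ?_
    rw [coeff_taylorPS, PowerSeries.coeff_map, map_add, PowerSeries.coeff_C]
    rcases j with _ | _ | j
    · rw [psHasse_zero, if_pos rfl]
      simp only [PowerSeries.coeff_zero_eq_constantCoeff, PowerSeries.constantCoeff_X, add_zero]
      change H s = _
      exact hH.1
    · rw [if_neg (by omega), PowerSeries.coeff_one_X, zero_add]
      change H 1 = _
      rw [map_one]
      refine PowerSeries.ext fun i => ?_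
      rw [coeff_psHasse, map_add, PowerSeries.coeff_C, PowerSeries.coeff_one]
      rcases i with _ | i
      · simp
      · rw [if_neg (by omega), if_neg (by omega), PowerSeries.coeff_X, if_neg (by omega),
          add_zero, mul_zero]
    · rw [if_neg (by omega), zero_add, PowerSeries.coeff_X, if_neg (by omega)]
      change H 0 = _
      rw [map_zero]
      refine PowerSeries.ext fun i => ?_
      rw [coeff_psHasse, map_add, PowerSeries.coeff_C, if_neg (by omega), zero_add,
        PowerSeries.coeff_X, if_neg (by omega), mul_zero, map_zero]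
  have heq := algHom_eq_of_transcendental hK Φ₁ Φ₂ ε hε hs hs12
  have h1 := congrArg (fun F => PowerSeries.coeff i (PowerSeries.coeff j F)) (DFunLike.congr_fun heq y)
  simp only [hΦ₁, hΦ₂, coeff_coeff_taylorPS, PowerSeries.coeff_map] at h1
  exact h1

end Groth.Agent.H57
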