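import Mathlib

set_option autoImplicit false

namespace Groth.Agent.H57

open Polynomial

/-- Two algebra homomorphisms from a field `K` to a domain `R`, congruent modulo the kernel of some
ring map `ε` out of `R`, and agreeing on a subfield `F₀` over which `K` is algebraic, are equal.
Separable step: roots of a separable polynomial. -/
theorem algHom_eq_of_separable_root {k K R L : Type*} [Field k] [Field K] [Algebra k K]
    [CommRing R] [IsDomain R] [Algebra k R] [CommRing L] [Nontrivial L]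
    (Φ₁ Φ₂ : K →ₐ[k] R) (ε : R →+* L) (hε : ∀ y, ε (Φ₁ y) = ε (Φ₂ y))
    (F₀ : IntermediateField k K) (hF₀ : ∀ x ∈ F₀, Φ₁ x = Φ₂ x)
    (z : K) (g : F₀[X]) (hg : g.Separable) (hz : aeval z g = 0) : Φ₁ z = Φ₂ z := by
  -- the polynomial over R
  set ψ₁ : F₀ →+* R := (Φ₁ : K →+* R).comp (algebraMap F₀ K) with hψ₁
  set ψ₂ : F₀ →+* R := (Φ₂ : K →+* R).comp (algebraMap F₀ K) with hψ₂
  have hψ : ψ₁ = ψ₂ := by
    ext x
    exact hF₀ x x.2
  set G : R[X] := g.map ψ₁ with hG
  have key : ∀ (Φ : K →ₐ[k] R) (p : F₀[X]),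
      (p.map ((Φ : K →+* R).comp (algebraMap F₀ K))).eval (Φ z) = Φ (aeval z p) := by
    intro Φ p
    rw [eval_map, aeval_def]
    exact (hom_eval₂ p (algebraMap F₀ K) (Φ : K →+* R) z).symm
  have hGa : G.eval (Φ₁ z) = 0 := by
    rw [hG, hψ₁, key, hz, map_zero]
  have hGb : G.eval (Φ₂ z) = 0 := by
    rw [hG, hψ, hψ₂, key, hz, map_zero]
  have hder : G.derivative.eval (Φ₁ z) = Φ₁ (aeval z (derivative g)) := by
    rw [hG, derivative_map, hψ₁, key]
  have hne : aeval z (derivative g) ≠ 0 := hg.aeval_derivative_ne_zero hz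
  obtain ⟨c, hc⟩ := binomExpansion G (Φ₁ z) (Φ₂ z - Φ₁ z)
  rw [add_sub_cancel, hGa, hGb] at hc
  have hfact : (Φ₂ z - Φ₁ z) * (G.derivative.eval (Φ₁ z) + c * (Φ₂ z - Φ₁ z)) = 0 := by
    linear_combination -hc
  rcases mul_eq_zero.1 hfact with h | h
  · exact (sub_eq_zero.1 h).symm
  · exfalso
    have h1 : ε (G.derivative.eval (Φ₁ z)) = 0 := by
      have h2 := congrArg ε h
      rw [map_add, map_mul, map_sub, hε z, sub_self, mul_zero, add_zero, map_zero] at h2
      exact h2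
    rw [hder] at h1
    have hinj : Function.Injective ((ε.comp (Φ₁ : K →+* R))) := RingHom.injective _
    apply hne
    apply hinj
    rw [map_zero]
    exact h1

/-- Uniqueness of algebra homomorphisms out of an algebraic extension into a domain. -/
theorem algHom_eq_of_algebraic {k K R L : Type*} [Field k] [Field K] [Algebra k K]
    [CommRing R] [IsDomain R] [Algebra k R] [CommRing L] [Nontrivial L]
    (Φ₁ Φ₂ : K →ₐ[k] R) (ε : R →+* L) (hε : ∀ y, ε (Φ₁ y) = ε (Φ₂ y))
    (F₀ : IntermediateField k K) (hF₀ : ∀ x ∈ F₀, Φ₁ x = Φ₂ x)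
    [Algebra.IsAlgebraic F₀ K] : Φ₁ = Φ₂ := by
  obtain ⟨q, hq⟩ := ExpChar.exists F₀
  have hqK : ExpChar K q := expChar_of_injective_ringHom (algebraMap F₀ K).injective q
  have hqR : ExpChar R q := expChar_of_injective_ringHom (Φ₁ : K →+* R).injective q
  ext y
  have halg : IsAlgebraic F₀ y := Algebra.IsAlgebraic.isAlgebraic y
  obtain ⟨g, hgsep, m, hexp⟩ := (minpoly.irreducible halg.isIntegral).hasSeparableContraction q
  have hz : aeval (y ^ q ^ m) g = 0 := by
    rw [← expand_aeval, hexp, minpoly.aeval]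
  have h1 := algHom_eq_of_separable_root Φ₁ Φ₂ ε hε F₀ hF₀ (y ^ q ^ m) g hgsep hz
  rw [map_pow, map_pow] at h1
  exact iterateFrobenius_inj R q m h1

/-- The equalizer of two algebra homomorphisms out of a field contains the subfield generated by
any set on which they agree. -/
theorem algHom_eq_on_adjoin {k K R : Type*} [Field k] [Field K] [Algebra k K]
    [CommRing R] [Nontrivial R] [Algebra k R] (Φ₁ Φ₂ : K →ₐ[k] R) (S : Set K)
    (hS : ∀ x ∈ S, Φ₁ x = Φ₂ x) : ∀ x ∈ IntermediateField.adjoin k S, Φ₁ x = Φ₂ x := by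
  let E : IntermediateField k K :=
    { toSubalgebra := AlgHom.equalizer Φ₁ Φ₂
      inv_mem' := fun x hx => by
        change Φ₁ x⁻¹ = Φ₂ x⁻¹
        have hx' : Φ₁ x = Φ₂ x := hx
        by_cases hx0 : x = 0
        · subst hx0; simp
        · have h1 : Φ₁ x * Φ₁ x⁻¹ = 1 := by rw [← map_mul, mul_inv_cancel₀ hx0, map_one]
          have h2 : Φ₂ x * Φ₂ x⁻¹ = 1 := by rw [← map_mul, mul_inv_cancel₀ hx0, map_one]
          calc Φ₁ x⁻¹ = Φ₁ x⁻¹ * (Φ₂ x * Φ₂ x⁻¹) := by rw [h2, mul_one]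
            _ = (Φ₁ x * Φ₁ x⁻¹) * Φ₂ x⁻¹ := by rw [← hx']; ring
            _ = Φ₂ x⁻¹ := by rw [h1, one_mul] }
  have hle : IntermediateField.adjoin k S ≤ E := by
    rw [IntermediateField.adjoin_le_iff]
    intro x hx
    exact hS x hx
  intro x hx
  exact hle hx

end Groth.Agent.H57
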