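import Groth.Agent.FunFld.RR
import Groth.Agent.FunFld.Rational
import Groth.Agent.FunFld.Ball
import Groth.Agent.H57.FFBasic

set_option autoImplicit false

namespace Groth.Agent.H57

open FunFld Groth.Agent.FF WithZero IntermediateField

universe u v
variable {k : Type u} {K : Type v} [Field k] [Field K] [Algebra k K]

/-- A generic element of a subspace has a pole at each of finitely many places where some element
of the subspace has a pole. -/
theorem exists_mem_forall_one_lt_val [Infinite k] (W : Submodule k K) (S : Set (Place k K))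
    (hS : S.Finite) (h : ∀ Q ∈ S, ∃ w ∈ W, 1 < Q.1 w) : ∃ x ∈ W, ∀ Q ∈ S, 1 < Q.1 x := by
  by_contra hcon
  push Not at hcon
  have := hS.to_subtype
  let p : S → Subspace k W := fun Q => Submodule.comap W.subtype (ball Q.1 0)
  have hcov : ⋃ Q, (p Q : Set W) = Set.univ := by
    rw [Set.eq_univ_iff_forall]
    intro w
    obtain ⟨Q, hQ, hle⟩ := hcon w.1 w.2
    rw [Set.mem_iUnion]
    refine ⟨⟨Q, hQ⟩, ?_⟩
    change (w : K) ∈ ball Q 0
    rw [mem_ball, exp_zero]
    exact hle
  obtain ⟨Q, hQ⟩ := Subspace.exists_eq_top_of_iUnion_eq_univ hcov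
  obtain ⟨w, hw, hlt⟩ := h Q.1 Q.2
  have : (⟨w, hw⟩ : W) ∈ p Q := by rw [hQ]; trivial
  change w ∈ ball Q.1 0 at this
  rw [mem_ball, exp_zero] at this
  exact absurd hlt (not_lt.2 this)

/-- `L(E₁) ⊓ L(E₂) = L(E)` when `E` is the pointwise minimum. -/
theorem L_inf_eq (E₁ E₂ E : Divisor k K) (h : ∀ Q, E Q = min (E₁ Q) (E₂ Q)) :
    L E₁ ⊓ L E₂ = L E := by
  ext f
  rw [Submodule.mem_inf, mem_L, mem_L, mem_L]
  constructor
  · rintro ⟨h1, h2⟩ Q
    rw [h Q]
    rcases le_total (E₁ Q) (E₂ Q) with hle | hle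
    · rw [min_eq_left hle]; exact h1 Q
    · rw [min_eq_right hle]; exact h2 Q
  · intro h3
    refine ⟨fun Q => (h3 Q).trans ?_, fun Q => (h3 Q).trans ?_⟩
    · rw [exp_le_exp, h Q]; exact min_le_left _ _
    · rw [exp_le_exp, h Q]; exact min_le_right _ _

/-- The ring of functions with poles only at the poles of `x` is generated over `k[x]` by a
finite-dimensional space: an induction principle. -/
theorem exists_L_smul_poleDiv_le (hK : IsFunctionField k K) {x : K} (hx : Transcendental k x) :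
    ∃ m₀ : ℕ, ∀ T : Submodule k K, (∀ f ∈ T, x * f ∈ T) → L (m₀ • poleDiv k x) ≤ T →
      ∀ m : ℕ, L (m • poleDiv k x) ≤ T := by
  have hx0 : x ≠ 0 := fun h => hx (h ▸ isAlgebraic_zero)
  set D := poleDiv k x with hD
  set Z := zeroDiv k x with hZ
  have hfin := finite_adjoin_of_transcendental hK hx
  have hdpos : 0 < Module.finrank (adjoin k ({x} : Set K)) K := Module.finrank_pos
  set d : ℤ := (Module.finrank (adjoin k ({x} : Set K)) K : ℤ) with hd
  have hd1 : 1 ≤ d := by rw [hd]; exact_mod_cast hdpos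
  have hdegD : D.deg = d := deg_poleDiv_eq hK hx
  have hdegZ : Z.deg = d := deg_zeroDiv_eq hK hx
  have hdegsmul : ∀ m : ℕ, (m • D).deg = m * d := by
    intro m
    rw [← degHom_apply, map_nsmul, degHom_apply, hdegD]; simp
  have hdiv : FunFld.div k x = Z - D := div_eq_zeroDiv_sub_poleDiv x
  set g := genus k K with hg
  refine ⟨2 * g + 1, fun T hT h₀ => ?_⟩
  have hD0 : (0 : Divisor k K) ≤ D := poleDiv_nonneg x
  have hZ0 : (0 : Divisor k K) ≤ Z := zeroDiv_nonneg x
  -- the decomposition
  have hdecomp : ∀ m : ℕ, 2 * g + 1 ≤ m →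
      L ((m + 1) • D) = L ((m + 1) • D - Z) ⊔ L ((2 * g + 1) • D) := by
    intro m hm
    have hmZ : (m : ℤ) ≥ 2 * g + 1 := by exact_mod_cast hm
    have hle : L ((m + 1) • D - Z) ⊔ L ((2 * g + 1) • D) ≤ L ((m + 1) • D) := by
      apply sup_le
      · exact L_mono (sub_le_self _ hZ0)
      · exact L_mono (nsmul_le_nsmul_left hD0 (by omega))
    have hinf : L ((m + 1) • D - Z) ⊓ L ((2 * g + 1) • D) = L ((2 * g + 1) • D - Z) := by
      apply L_inf_eq
      intro Q
      simp only [Finsupp.sub_apply, Finsupp.smul_apply, smul_eq_mul, nsmul_eq_mul]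
      rw [hD, hZ, poleDiv_apply hK, zeroDiv_apply hK]
      rcases le_total (Q.ord x) 0 with ha | ha
      · rw [max_eq_left (by omega : (0 : ℤ) ≤ -Q.ord x), max_eq_right ha, sub_zero, sub_zero]
        rw [min_eq_right]
        have : (0 : ℤ) ≤ -Q.ord x := by omega
        push_cast
        nlinarith
      · rw [max_eq_right (by omega : -Q.ord x ≤ 0), max_eq_left ha]
        simp only [mul_zero, zero_sub]
        rw [min_eq_left (by omega)]
    have hfd := finite_L hK ((m + 1) • D)
    have hfd1 : FiniteDimensional k (L ((m + 1) • D - Z)) := finite_L hK _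
    have hfd2 : FiniteDimensional k (L ((2 * g + 1) • D)) := finite_L hK _
    have hdim := Submodule.finrank_sup_add_finrank_inf_eq (L ((m + 1) • D - Z)) (L ((2 * g + 1) • D))
    rw [hinf] at hdim
    have e1 := ell_eq_of_deg_ge hK ((m + 1) • D - Z) (by
      rw [deg_sub, hdegsmul, hdegZ, ← hg]; push_cast; nlinarith)
    have e2 := ell_eq_of_deg_ge hK ((2 * g + 1) • D) (by
      rw [hdegsmul, ← hg]; push_cast; nlinarith)
    have e3 := ell_eq_of_deg_ge hK ((2 * g + 1) • D - Z) (by
      rw [deg_sub, hdegsmul, hdegZ, ← hg]; push_cast; nlinarith)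
    have e4 := ell_eq_of_deg_ge hK ((m + 1) • D) (by
      rw [hdegsmul, ← hg]; push_cast; nlinarith)
    rw [deg_sub, hdegsmul, hdegZ] at e1 e3
    rw [hdegsmul] at e2 e4
    unfold ell at e1 e2 e3 e4
    symm
    apply Submodule.eq_of_le_of_finrank_eq hle
    have : (Module.finrank k ↥(L ((m + 1) • D - Z) ⊔ L ((2 * g + 1) • D)) : ℤ) =
        Module.finrank k ↥(L ((m + 1) • D)) := by
      have hdimZ : (Module.finrank k ↥(L ((m + 1) • D - Z) ⊔ L ((2 * g + 1) • D)) : ℤ) +
          Module.finrank k ↥(L ((2 * g + 1) • D - Z)) =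
          Module.finrank k ↥(L ((m + 1) • D - Z)) + Module.finrank k ↥(L ((2 * g + 1) • D)) := by
        exact_mod_cast hdim
      rw [e1, e2, e3] at hdimZ
      rw [e4]
      push_cast at hdimZ ⊢
      linarith
    exact_mod_cast this
  -- x⁻¹ ∈ L(div x)
  have hxinv : x⁻¹ ∈ L (FunFld.div k x) := by
    intro Q
    rw [div_apply hK, val_le_exp_iff Q (inv_ne_zero hx0), ord_inv]
  intro m
  induction m with
  | zero => exact (L_mono (nsmul_le_nsmul_left hD0 (Nat.zero_le _))).trans h₀
  | succ m ih =>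
    by_cases hm : 2 * g + 1 ≤ m
    · rw [hdecomp m hm]
      apply sup_le _ h₀
      intro f hf
      have h1 := mul_mem_L hf hxinv
      have h2 : (m + 1) • D - Z + FunFld.div k x = m • D := by
        rw [hdiv, succ_nsmul]; abel
      rw [h2] at h1
      have h3 := hT _ (ih h1)
      have h4 : x * (f * x⁻¹) = f := by field_simp
      rwa [h4] at h3
    · exact (L_mono (nsmul_le_nsmul_left hD0 (by omega))).trans h₀

end Groth.Agent.H57
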