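import Groth.Agent.FunFld.RR
import Groth.Agent.FunFld.Rational

set_option autoImplicit false

namespace Groth.Agent.H57

open FunFld Groth.Agent.FF WithZero IntermediateField

universe u v
variable {k : Type u} {K : Type v} [Field k] [Field K] [Algebra k K]

/-- A divisor of degree `0` has `ℓ ≤ 1`. -/
theorem ell_le_one_of_deg_zero (hK : IsFunctionField k K) (D : Divisor k K) (hdeg : D.deg = 0) :
    ell D ≤ 1 := by
  by_cases hbot : L D = ⊥
  · unfold ell
    rw [hbot, finrank_bot]
    exact Nat.zero_le _
  · obtain ⟨x, hx, hx0⟩ := (Submodule.ne_bot_iff _).1 hbot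
    have hD := eq_neg_div_of_deg_zero hK hdeg hx0 hx
    have hle : L D ≤ Submodule.span k {x} := by
      intro y hy
      by_cases hy0 : y = 0
      · rw [hy0]; exact Submodule.zero_mem _
      have hyx : y / x ∈ L (0 : Divisor k K) := by
        have h1 : x⁻¹ ∈ L (FunFld.div k x) := by
          intro P
          rw [div_apply hK, val_le_exp_iff P (inv_ne_zero hx0), ord_inv]
        have h2 := mul_mem_L hy h1
        rw [hD] at h2
        rwa [div_eq_mul_inv]
      rw [L_zero_eq hK, Submodule.mem_one] at hyx
      obtain ⟨c, hc⟩ := hyx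
      rw [Submodule.mem_span_singleton]
      refine ⟨c, ?_⟩
      rw [Algebra.smul_def, hc]
      field_simp
    have := Submodule.finrank_mono hle
    unfold ell
    exact this.trans (finrank_span_singleton hx0).le

/-- An element of index `2` ... or any finite index: it is transcendental. -/
theorem transcendental_of_finrank_adjoin (hK : IsFunctionField k K) {x : K} {d : ℕ} (hd : 0 < d)
    (hx : Module.finrank (adjoin k ({x} : Set K)) K = d) : Transcendental k x := by
  intro halg
  obtain ⟨c, rfl⟩ := hK.2 x halg
  obtain ⟨⟨x₀, hx₀, -⟩, -⟩ := hK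
  have hbot : adjoin k ({algebraMap k K c} : Set K) = ⊥ := by
    rw [adjoin_simple_eq_bot_iff]
    exact ⟨c, rfl⟩
  have hfin : FiniteDimensional (adjoin k ({algebraMap k K c} : Set K)) K :=
    Module.finite_of_finrank_pos (by rw [hx]; exact hd)
  rw [hbot] at hfin
  have hfin' : FiniteDimensional k K := by
    have e : (⊥ : IntermediateField k K) ≃ₐ[k] k := IntermediateField.botEquiv k K
    have : FiniteDimensional k (⊥ : IntermediateField k K) :=
      Module.Finite.equiv e.symm.toLinearEquiv
    exact FiniteDimensional.trans k (⊥ : IntermediateField k K) K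
  exact hx₀ (Algebra.IsAlgebraic.isAlgebraic x₀)

/-- If `[K : k(x)] = 2` and the genus is positive, `(g - 1)` times the pole divisor of `x` is
canonical and its Riemann-Roch space lies in `k(x)`. -/
theorem isCanonical_smul_poleDiv (hK : IsFunctionField k K) (hg : 1 ≤ genus k K) {x : K}
    (hx : Module.finrank (adjoin k ({x} : Set K)) K = 2) :
    IsCanonical k K ((genus k K - 1) • poleDiv k x) ∧
      ∀ f ∈ L ((genus k K - 1) • poleDiv k x), f ∈ adjoin k ({x} : Set K) := by
  obtain ⟨l, hl⟩ : ∃ l, genus k K = l + 1 := ⟨genus k K - 1, by omega⟩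
  have hl' : genus k K - 1 = l := by omega
  rw [hl']
  have htr := transcendental_of_finrank_adjoin hK (by norm_num) hx
  set D := poleDiv k x with hD
  have hdegD : D.deg = 2 := by
    rw [hD, deg_poleDiv_eq hK htr, hx]; rfl
  have hdegE : (l • D).deg = 2 * l := by
    rw [← degHom_apply, map_nsmul, degHom_apply, hdegD]; simp; ring
  have hmem : ∀ j : Fin (l + 1), x ^ (j : ℕ) ∈ L (l • D) := by
    intro j
    have h1 : x ^ (j : ℕ) ∈ L ((j : ℕ) • D) := pow_mem_L (mem_L_poleDiv hK x) _
    exact L_mono (nsmul_le_nsmul_left (poleDiv_nonneg x) (Nat.lt_succ_iff.1 j.2)) h1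
  have hLI := linearIndependent_pow_of_transcendental htr l
  set S := Submodule.span k (Set.range fun j : Fin (l + 1) => x ^ (j : ℕ)) with hS
  have hSle : S ≤ L (l • D) := by
    rw [hS, Submodule.span_le]
    rintro _ ⟨j, rfl⟩
    exact hmem j
  have hSrank : Module.finrank k S = l + 1 := by
    rw [hS, finrank_span_eq_card hLI, Fintype.card_fin]
  have hfin := finite_L hK (l • D)
  have hge : l + 1 ≤ ell (l • D) := by
    rw [← hSrank]
    exact Submodule.finrank_mono hSle
  obtain ⟨C, hC⟩ := exists_isCanonical hK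
  have hrr := riemann_roch hK hC (l • D)
  have hdegC := deg_canonical hK hC
  have hle1 := ell_le_one_of_deg_zero hK (C - l • D) (by
    rw [deg_sub, hdegC, hdegE, hl]; push_cast; ring)
  rw [hdegE, hl] at hrr
  push_cast at hrr
  have hell : ell (l • D) = l + 1 := by omega
  refine ⟨(isCanonical_iff hK _).2 ⟨by rw [hell, hl], by rw [hdegE, hl]; push_cast; ring⟩, ?_⟩
  have hSeq : S = L (l • D) := Submodule.eq_of_le_of_finrank_eq hSle (by
    rw [hSrank]; exact hell.symm)
  intro f hf
  rw [← hSeq, hS] at hf
  induction hf using Submodule.span_induction with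
  | mem y hy =>
    obtain ⟨j, rfl⟩ := hy
    exact pow_mem (mem_adjoin_simple_self k x) _
  | zero => exact zero_mem _
  | add y y' _ _ hy hy' => exact add_mem hy hy'
  | smul c y _ hy =>
    rw [Algebra.smul_def]
    exact mul_mem (IntermediateField.algebraMap_mem _ c) hy

/-- In genus at least `2`, there is at most one rational subfield of index `2`. -/
theorem adjoin_eq_of_finrank_two (hK : IsFunctionField k K) (hg : 2 ≤ genus k K) (x x' : K)
    (hx : Module.finrank (adjoin k ({x} : Set K)) K = 2)
    (hx' : Module.finrank (adjoin k ({x'} : Set K)) K = 2) :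
    adjoin k ({x} : Set K) = adjoin k ({x'} : Set K) := by
  obtain ⟨hE, hLE⟩ := isCanonical_smul_poleDiv hK (by omega) hx
  obtain ⟨hE', -⟩ := isCanonical_smul_poleDiv hK (by omega) hx'
  obtain ⟨z, hz0, hz⟩ := canonical_linEquiv hK hE hE'
  set E := (genus k K - 1) • poleDiv k x with hEdef
  set E' := (genus k K - 1) • poleDiv k x' with hE'def
  -- multiplication by z maps L(E') into L(E)
  have hzmem : z ∈ L (-FunFld.div k z) := by
    intro P
    rw [Finsupp.neg_apply, div_apply hK, val_eq_exp_neg_ord P hz0]
  have hmul : ∀ f ∈ L E', z * f ∈ L E := by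
    intro f hf
    have := mul_mem_L hzmem hf
    rw [hz] at this
    have h2 : -FunFld.div k z + (E + FunFld.div k z) = E := by abel
    rwa [h2] at this
  have h1mem : (1 : K) ∈ L E' := by
    apply L_mono (show (0 : Divisor k K) ≤ E' from nsmul_nonneg (poleDiv_nonneg x') _)
    exact one_mem_L_zero
  have hx'mem : x' ∈ L E' := by
    have h1 : x' ∈ L (1 • poleDiv k x') := by
      rw [one_smul]; exact mem_L_poleDiv hK x'
    exact L_mono (nsmul_le_nsmul_left (poleDiv_nonneg x') (by omega)) h1
  have hz1 : z ∈ adjoin k ({x} : Set K) := by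
    have := hLE _ (hmul 1 h1mem)
    rwa [mul_one] at this
  have hz2 : z * x' ∈ adjoin k ({x} : Set K) := hLE _ (hmul x' hx'mem)
  have hx'in : x' ∈ adjoin k ({x} : Set K) := by
    have : x' = z⁻¹ * (z * x') := by field_simp
    rw [this]
    exact mul_mem (inv_mem hz1) hz2
  have hle : adjoin k ({x'} : Set K) ≤ adjoin k ({x} : Set K) := by
    rw [adjoin_le_iff, Set.singleton_subset_iff]
    exact hx'in
  have hfin : FiniteDimensional (adjoin k ({x'} : Set K)) K :=
    Module.finite_of_finrank_pos (by rw [hx']; norm_num)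
  exact (IntermediateField.eq_of_le_of_finrank_eq' hle (by rw [hx, hx'])).symm

end Groth.Agent.H57
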