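import Groth.Agent.H57.Conductor
import Groth.Agent.H57.Expansion
import Groth.Agent.FunFld.RelLen2

/-!
# Spaces of functions with prescribed orders along a finite set of places
-/

set_option autoImplicit false

namespace Groth.Agent.H57.IntMult

open FunFld WithZero Groth.Agent.FF Groth.Agent.H57

universe u v
variable {k : Type u} {K : Type v} [Field k] [Field K] [Algebra k K]

/-- Functions with order at least `n i` at the place `Q i`, for all `i`. -/
def ordSpace {ι : Type*} (Q : ι → Place k K) (n : ι → ℤ) : Submodule k K where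
  carrier := {z | ∀ i, (Q i).1 z ≤ exp (-(n i))}
  zero_mem' := by
    intro i
    change (Q i).1 0 ≤ _
    rw [map_zero]
    exact zero_le
  add_mem' := fun {a b} ha hb i => ((Q i).1.map_add a b).trans (max_le (ha i) (hb i))
  smul_mem' := fun c z hz i => by
    change (Q i).1 (c • z) ≤ _
    rw [Algebra.smul_def, map_mul]
    calc (Q i).1 (algebraMap k K c) * (Q i).1 z ≤ 1 * exp (-(n i)) :=
          mul_le_mul' (val_algebraMap_le (Q i) c) (hz i)
      _ = exp (-(n i)) := one_mul _

theorem mem_ordSpace {ι : Type*} (Q : ι → Place k K) (n : ι → ℤ) (z : K) :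
    z ∈ ordSpace Q n ↔ ∀ i, (Q i).1 z ≤ exp (-(n i)) := Iff.rfl

theorem ordSpace_anti {ι : Type*} (Q : ι → Place k K) {n n' : ι → ℤ} (h : n ≤ n') :
    ordSpace Q n' ≤ ordSpace Q n := by
  intro z hz i
  exact (hz i).trans (exp_le_exp.2 (neg_le_neg (h i)))

section Step

variable [IsAlgClosed k] (hK : IsFunctionField k K) {ι : Type*} [Finite ι] [DecidableEq ι]
  (Q : ι → Place k K) (hQ : Function.Injective Q)

include hK hQ in
/-- Raising one order by one cuts the dimension by one. -/
theorem relLen_ordSpace_single (n : ι → ℤ) (i₀ : ι) :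
    relLen (ordSpace Q (n + Pi.single i₀ 1)) (ordSpace Q n) = 1 := by
  classical
  obtain ⟨u, hu⟩ := (Q i₀).2.2 (exp (n i₀))
  have hzu : ∀ z : ordSpace Q n, (Q i₀).1 ((z : K) * u) ≤ 1 := by
    intro z
    rw [map_mul, hu]
    calc (Q i₀).1 (z : K) * exp (n i₀) ≤ exp (-(n i₀)) * exp (n i₀) :=
          mul_le_mul' (z.2 i₀) le_rfl
      _ = 1 := by rw [← exp_add, neg_add_cancel, exp_zero]
  let g : ordSpace Q n →ₗ[k] k :=
    { toFun := fun z => rho hK (Q i₀) ⟨(z : K) * u, hzu z⟩
      map_add' := fun z w => by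
        rw [← map_add]
        congr 1
        apply Subtype.ext
        change ((z + w : ordSpace Q n) : K) * u = (z : K) * u + (w : K) * u
        rw [Submodule.coe_add, add_mul]
      map_smul' := fun c z => by
        rw [RingHom.id_apply, smul_eq_mul, ← rho_algebraMap hK (Q i₀) c, ← map_mul,
          rho_algebraMap]
        congr 1
        apply Subtype.ext
        change ((c • z : ordSpace Q n) : K) * u = algebraMap k K c * ((z : K) * u)
        rw [Submodule.coe_smul, Algebra.smul_def, mul_assoc] }
  have hg : ∀ z : ordSpace Q n, g z = rho hK (Q i₀) ⟨(z : K) * u, hzu z⟩ := fun z => rfl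
  have hker : ∀ z : ordSpace Q n, g z = 0 ↔ (z : K) ∈ ordSpace Q (n + Pi.single i₀ 1) := by
    intro z
    rw [hg, rho_eq_zero_iff]
    change (Q i₀).1 ((z : K) * u) < 1 ↔ _
    rw [map_mul, hu]
    constructor
    · intro h i
      by_cases hi : i = i₀
      · subst hi
        rw [Pi.add_apply, Pi.single_eq_same]
        have h1 : (Q i).1 (z : K) < exp (-(n i)) := by
          by_contra hcon
          push Not at hcon
          have : (1 : ℤᵐ⁰) ≤ (Q i).1 (z : K) * exp (n i) := by
            calc (1 : ℤᵐ⁰) = exp (-(n i)) * exp (n i) := by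
                  rw [← exp_add, neg_add_cancel, exp_zero]
              _ ≤ (Q i).1 (z : K) * exp (n i) := mul_le_mul' hcon le_rfl
          exact absurd h (not_lt.2 this)
        by_cases h0 : (Q i).1 (z : K) = 0
        · rw [h0]; exact zero_le
        · rw [← exp_log h0] at h1 ⊢
          rw [exp_lt_exp] at h1
          rw [exp_le_exp]
          omega
      · rw [Pi.add_apply, Pi.single_eq_of_ne hi, add_zero]
        exact z.2 i
    · intro h
      have h1 := h i₀
      rw [Pi.add_apply, Pi.single_eq_same] at h1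
      calc (Q i₀).1 (z : K) * exp (n i₀) ≤ exp (-(n i₀ + 1)) * exp (n i₀) :=
            mul_le_mul' h1 le_rfl
        _ = exp (-1 : ℤ) := by rw [← exp_add]; congr 1; ring
        _ < 1 := by rw [← exp_zero, exp_lt_exp]; norm_num
  have hsurj : Function.Surjective g := by
    obtain ⟨z₀, hz₀⟩ := Cond.exists_val_eq Q hQ (fun i => -(n i))
    have hz₀mem : z₀ ∈ ordSpace Q n := fun i => (hz₀ i).le
    have hr : g ⟨z₀, hz₀mem⟩ ≠ 0 := by
      rw [Ne, hker]
      intro h
      have h1 := h i₀
      rw [Pi.add_apply, Pi.single_eq_same, hz₀ i₀, exp_le_exp] at h1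
      omega
    intro c
    refine ⟨(c / g ⟨z₀, hz₀mem⟩) • ⟨z₀, hz₀mem⟩, ?_⟩
    rw [map_smul, smul_eq_mul, div_mul_cancel₀ _ hr]
  rw [relLen_eq_of_ker_of_surjective g hker hsurj, Module.length_eq_finrank, Module.finrank_self]
  rfl

include hK hQ in
/-- The codimension of `ordSpace Q n'` in `ordSpace Q n` is the total order difference. -/
theorem relLen_ordSpace [Fintype ι] : ∀ (N : ℕ) (n n' : ι → ℤ), n ≤ n' →
    ∑ i, (n' i - n i).toNat = N → relLen (ordSpace Q n') (ordSpace Q n) = N := by
  intro N
  induction N with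
  | zero =>
    intro n n' hle hsum
    have heq : n' = n := by
      funext i
      have h1 : (n' i - n i).toNat = 0 := (Finset.sum_eq_zero_iff.1 hsum) i (Finset.mem_univ i)
      have h2 : n i ≤ n' i := hle i
      omega
    rw [heq, relLen_self]
    rfl
  | succ N ih =>
    intro n n' hle hsum
    have hex : ∃ i₀, n i₀ < n' i₀ := by
      by_contra hcon
      push Not at hcon
      have : ∑ i, (n' i - n i).toNat = 0 := by
        apply Finset.sum_eq_zero
        intro i _
        have h3 : n' i ≤ n i := hcon i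
        show (n' i - n i).toNat = 0
        omega
      omega
    obtain ⟨i₀, hi₀⟩ := hex
    have hle' : n + Pi.single i₀ 1 ≤ n' := by
      intro i
      by_cases hi : i = i₀
      · rw [hi, Pi.add_apply, Pi.single_eq_same]
        exact Int.add_one_le_iff.2 hi₀
      · rw [Pi.add_apply, Pi.single_eq_of_ne hi, add_zero]
        exact hle i
    have hsum' : ∑ i, (n' i - (n + Pi.single i₀ 1 : ι → ℤ) i).toNat = N := by
      have key : ∀ i, (n' i - n i).toNat =
          (n' i - (n + Pi.single i₀ 1 : ι → ℤ) i).toNat + (if i = i₀ then 1 else 0) := by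
        intro i
        by_cases hi : i = i₀
        · rw [hi]
          simp only [Pi.add_apply, Pi.single_eq_same, if_true]
          omega
        · simp only [Pi.add_apply, Pi.single_eq_of_ne hi, add_zero, if_neg hi]
      have h1 : ∑ i, (n' i - n i).toNat =
          ∑ i, ((n' i - (n + Pi.single i₀ 1 : ι → ℤ) i).toNat + (if i = i₀ then 1 else 0)) :=
        Finset.sum_congr rfl fun i _ => key i
      rw [h1, Finset.sum_add_distrib, Finset.sum_ite_eq' Finset.univ i₀,
        if_pos (Finset.mem_univ _)] at hsum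
      omega
    have h1 := ih (n + Pi.single i₀ 1) n' hle' hsum'
    have h2 := relLen_ordSpace_single hK Q hQ n i₀
    have hA : ordSpace Q n' ≤ ordSpace Q (n + Pi.single i₀ 1) := ordSpace_anti Q hle'
    have hB : ordSpace Q (n + Pi.single i₀ 1) ≤ ordSpace Q n := by
      apply ordSpace_anti Q
      intro i
      by_cases hi : i = i₀
      · rw [hi, Pi.add_apply, Pi.single_eq_same]
        exact (lt_add_one (n i₀)).le
      · rw [Pi.add_apply, Pi.single_eq_of_ne hi, add_zero]
    rw [relLen_add hA hB, h1, h2]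
    push_cast
    rfl

end Step

section Mul

variable {ι : Type*} (Q : ι → Place k K)

/-- Multiplication by `γ` carries the functions regular along `Q` onto those of order at least
`ord γ`. -/
theorem map_mulLeft_ordSpace {γ : K} (hγ : γ ≠ 0) :
    (ordSpace Q 0).map (LinearMap.mulLeft k γ) = ordSpace Q (fun i => (Q i).ord γ) := by
  have hexp : ∀ i, exp (-((Q i).ord γ)) = (Q i).1 γ := by
    intro i
    rw [Place.ord, neg_neg, exp_log]
    rw [Ne, (Q i).1.zero_iff]
    exact hγ
  ext z
  rw [Submodule.mem_map, mem_ordSpace]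
  constructor
  · rintro ⟨w, hw, rfl⟩ i
    rw [hexp, LinearMap.mulLeft_apply, map_mul]
    have h1 := hw i
    rw [Pi.zero_apply, neg_zero, exp_zero] at h1
    calc (Q i).1 γ * (Q i).1 w ≤ (Q i).1 γ * 1 := mul_le_mul' le_rfl h1
      _ = (Q i).1 γ := mul_one _
  · intro h
    refine ⟨z / γ, ?_, ?_⟩
    · intro i
      rw [Pi.zero_apply, neg_zero, exp_zero, map_div₀]
      have h1 := h i
      rw [hexp] at h1
      have hpos : 0 < (Q i).1 γ := zero_lt_iff.2 (by rw [Ne, (Q i).1.zero_iff]; exact hγ)
      exact (div_le_one₀ hpos).2 h1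
    · rw [LinearMap.mulLeft_apply, mul_div_cancel₀ _ hγ]

variable [IsAlgClosed k] (hK : IsFunctionField k K) [Fintype ι] [DecidableEq ι]
  (hQ : Function.Injective Q)

include hK hQ in
/-- The codimension of `γ Õ` in `Õ` is the number of zeros of `γ` along `Q`. -/
theorem relLen_mul_ordSpace {γ : K} (hγ : γ ≠ 0) (hreg : ∀ i, (Q i).1 γ ≤ 1) :
    relLen ((ordSpace Q 0).map (LinearMap.mulLeft k γ)) (ordSpace Q 0) =
      ((∑ i, ((Q i).ord γ).toNat : ℕ) : ℕ∞) := by
  rw [map_mulLeft_ordSpace Q hγ]
  have hord : ∀ i, 0 ≤ (Q i).ord γ := by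
    intro i
    rw [Place.ord, neg_nonneg, ← log_one]
    have h0 : (Q i).1 γ ≠ 0 := by rw [Ne, (Q i).1.zero_iff]; exact hγ
    exact (log_le_log h0 one_ne_zero).2 (hreg i)
  refine relLen_ordSpace hK Q hQ _ 0 (fun i => (Q i).ord γ) (fun i => hord i) ?_
  refine Finset.sum_congr rfl fun i _ => ?_
  rw [Pi.zero_apply, sub_zero]

end Mul

section Lin

variable {V : Type*} [AddCommGroup V] [Module k V]

/-- If `O ≤ Õ` has finite codimension and `μ` is an injective endomorphism preserving both, then
`μ O` has the same codimension in `O` as `μ Õ` in `Õ`. -/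
theorem relLen_map_eq_of_finite (μ : V →ₗ[k] V) (hμ : Function.Injective μ)
    {O O' : Submodule k V} (hOO' : O ≤ O') (hfin : relLen O O' ≠ ⊤)
    (hO : O.map μ ≤ O) (hO' : O'.map μ ≤ O') :
    relLen (O.map μ) O = relLen (O'.map μ) O' := by
  have h1 : relLen (O.map μ) O' = relLen (O.map μ) (O'.map μ) + relLen (O'.map μ) O' :=
    relLen_add (Submodule.map_mono hOO') hO'
  have h2 : relLen (O.map μ) O' = relLen (O.map μ) O + relLen O O' := relLen_add hO hOO'
  rw [relLen_map_of_injective μ hμ] at h1
  rw [h1, add_comm] at h2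
  exact ((ENat.add_left_injective_of_ne_top hfin) h2).symm

end Lin

end Groth.Agent.H57.IntMult
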