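import Groth.Agent.FunFld.RelLen2

/-!
# Finite-family criteria for relative length
-/

set_option autoImplicit false

namespace Groth.Agent.H57.IntMult

open Groth.Agent.FF

variable {k V : Type*} [Field k] [AddCommGroup V] [Module k V]

theorem quotient_sum_smul_eq_zero_iff {A B : Submodule k V} {n : ℕ} (c : Fin n → k)
    (v : Fin n → V) (hv : ∀ i, v i ∈ B) :
    ∑ i, c i • (Submodule.Quotient.mk (⟨v i, hv i⟩ : B) : B ⧸ A.submoduleOf B) = 0 ↔
      ∑ i, c i • v i ∈ A := by
  have h1 : ∑ i, c i • (Submodule.Quotient.mk (⟨v i, hv i⟩ : B) : B ⧸ A.submoduleOf B) =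
      Submodule.Quotient.mk (∑ i, c i • (⟨v i, hv i⟩ : B)) := by
    rw [← Submodule.mkQ_apply, map_sum]
    refine Finset.sum_congr rfl fun i _ => ?_
    rw [map_smul, Submodule.mkQ_apply]
  rw [h1, Submodule.Quotient.mk_eq_zero]
  have h2 : ((∑ i, c i • (⟨v i, hv i⟩ : B) : B) : V) = ∑ i, c i • v i := by
    rw [Submodule.coe_sum]
    refine Finset.sum_congr rfl fun i _ => ?_
    rw [Submodule.coe_smul]
  rw [← h2]
  rfl

/-- If the relative length is at most `C`, any `C + 1` vectors are dependent modulo `A`. -/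
theorem exists_dependent_of_relLen_le {A B : Submodule k V} {C : ℕ} (h : relLen A B ≤ C)
    (v : Fin (C + 1) → V) (hv : ∀ i, v i ∈ B) :
    ∃ c : Fin (C + 1) → k, (∃ i, c i ≠ 0) ∧ ∑ i, c i • v i ∈ A := by
  classical
  by_contra hcon
  push Not at hcon
  have hli : LinearIndependent k
      (fun i => (Submodule.Quotient.mk (⟨v i, hv i⟩ : B) : B ⧸ A.submoduleOf B)) := by
    rw [Fintype.linearIndependent_iff]
    intro g hg i
    by_contra hi
    exact hcon g ⟨i, hi⟩ ((quotient_sum_smul_eq_zero_iff g v hv).1 hg)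
  have hfin : FiniteDimensional k (B ⧸ A.submoduleOf B) := by
    rw [← length_ne_top_iff_finite]
    intro htop
    have : relLen A B = ⊤ := htop
    rw [this] at h
    exact absurd h (by simp)
  have h2 := hli.fintype_card_le_finrank
  rw [Fintype.card_fin] at h2
  have h3 : Module.length k (B ⧸ A.submoduleOf B) ≤ C := h
  rw [Module.length_eq_finrank] at h3
  have h5 : Module.finrank k (B ⧸ A.submoduleOf B) ≤ C := by exact_mod_cast h3
  omega

/-- If any `C + 1` vectors of `B` are dependent modulo `A`, the relative length is at most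
`C`. -/
theorem relLen_le_of_forall_dependent {A B : Submodule k V} {C : ℕ}
    (h : ∀ v : Fin (C + 1) → V, (∀ i, v i ∈ B) →
      ∃ c : Fin (C + 1) → k, (∃ i, c i ≠ 0) ∧ ∑ i, c i • v i ∈ A) :
    relLen A B ≤ C := by
  classical
  by_contra hcon
  push Not at hcon
  have h1 : ((C + 1 : ℕ) : ℕ∞) ≤ Module.length k (B ⧸ A.submoduleOf B) := by
    have : ((C : ℕ) : ℕ∞) + 1 ≤ relLen A B := Order.add_one_le_of_lt hcon
    exact_mod_cast this
  rw [Module.length_eq_rank, Cardinal.natCast_le_toENat,
    le_rank_iff_exists_linearIndependent_finset] at h1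
  obtain ⟨s, hs, hli⟩ := h1
  let e : Fin (C + 1) ≃ s := (Fintype.equivFinOfCardEq (by rw [Fintype.card_coe, hs])).symm
  have hli2 : LinearIndependent k (fun i : Fin (C + 1) => ((e i : s) : B ⧸ A.submoduleOf B)) :=
    hli.comp e e.injective
  have hlift : ∀ i : Fin (C + 1), ∃ b : B, Submodule.Quotient.mk b = ((e i : s) :
      B ⧸ A.submoduleOf B) := fun i => Submodule.Quotient.mk_surjective _ _
  choose b hb using hlift
  obtain ⟨c, ⟨i, hi⟩, hc⟩ := h (fun i => (b i : V)) (fun i => (b i).2)
  have h0 := (quotient_sum_smul_eq_zero_iff (A := A) c (fun i => (b i : V)) (fun i => (b i).2)).2 hc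
  have h0' : ∑ i, c i • ((e i : s) : B ⧸ A.submoduleOf B) = 0 := by
    rw [← h0]
    refine Finset.sum_congr rfl fun i _ => ?_
    rw [← hb i]
  exact hi (Fintype.linearIndependent_iff.1 hli2 c h0' i)

end Groth.Agent.H57.IntMult
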