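import Groth.Agent.H57.PlaneGenus
import Groth.Agent.H57.IntMultLin
import Groth.Agent.H57.FFBasic

/-!
# The polynomial ring of a plane model has finite codimension in its normalisation
-/

set_option autoImplicit false

namespace Groth.Agent.H57.IntMult

open FunFld Groth.Agent.FF WithZero IntermediateField Groth.Agent.H57

universe u v
variable {k : Type u} {K : Type v} [Field k] [Field K] [Algebra k K]

section
variable [IsAlgClosed k]

/-- A good pair of coordinates: `f` in the span of `1, x, y` with pole divisor the divisor of the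
map, and a second coordinate generating the field with it. -/
theorem exists_good_pair (hK : IsFunctionField k K) (x y : K)
    (hxy : IntermediateField.adjoin k ({x, y} : Set K) = ⊤) :
    ∃ f y' : K, f ∈ Submodule.span k (Set.range ![(1 : K), x, y]) ∧
      y' ∈ Submodule.span k (Set.range ![(1 : K), x, y]) ∧ Transcendental k f ∧
      IntermediateField.adjoin k ({f, y'} : Set K) = ⊤ ∧
      ((mapDiv k ![(1 : K), x, y]).deg : ℤ) =
        (Module.finrank (adjoin k ({f} : Set K)) K : ℕ) ∧
      0 ≤ mapDiv k ![(1 : K), x, y] := by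
  classical
  have : Infinite k := IsAlgClosed.instInfinite
  set φ : Fin 3 → K := ![(1 : K), x, y] with hφ
  set D := mapDiv k φ with hD
  set W := Submodule.span k (Set.range φ) with hW
  have hWL : W ≤ L D := span_le_L_mapDiv hK φ
  have hφ0 : φ 0 = 1 := rfl
  have hφ1 : φ 1 = x := rfl
  have hφ2 : φ 2 = y := rfl
  have hxW : x ∈ W := Submodule.subset_span ⟨1, rfl⟩
  have hyW : y ∈ W := Submodule.subset_span ⟨2, rfl⟩
  have hD0 : 0 ≤ D := by
    intro Q
    have : -(D Q) ≤ Q.ord (φ 0) := neg_mapDiv_le_ord hK φ Q 0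
    rw [hφ0, ord_one] at this
    rw [Finsupp.zero_apply]
    omega
  have hbpf : ∀ Q : Place k K, ∃ f ∈ W, f ∉ L (D - Finsupp.single Q 1) := by
    intro Q
    apply exists_mem_span_not_mem_L hK φ Q
    obtain ⟨i, hi⟩ := exists_ord_eq_neg_mapDiv hK φ Q
    by_cases h0 : φ i = 0
    · refine ⟨0, by rw [hφ0]; exact one_ne_zero, ?_⟩
      rw [h0, ord_zero] at hi
      rw [hφ0, ord_one]
      exact hi
    · exact ⟨i, h0, hi⟩
  have hDne : ∃ Q₁ : Place k K, D Q₁ ≠ 0 := by
    by_contra hcon
    push Not at hcon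
    have hDz : D = 0 := by
      ext Q; rw [hcon Q, Finsupp.zero_apply]
    obtain ⟨x₀, hx₀, -⟩ := hK.1
    have hmem : x₀ ∈ IntermediateField.adjoin k ({x, y} : Set K) := by rw [hxy]; trivial
    have hle : IntermediateField.adjoin k ({x, y} : Set K) ≤ ⊥ := by
      rw [IntermediateField.adjoin_le_iff]
      intro z hz
      have hzW : z ∈ W := by
        rcases hz with rfl | rfl
        · exact hxW
        · exact hyW
      have := hWL hzW
      rw [hDz, L_zero_eq hK, Submodule.mem_one] at this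
      obtain ⟨c, hc⟩ := this
      rw [SetLike.mem_coe, IntermediateField.mem_bot]
      exact ⟨c, hc⟩
    have := hle hmem
    rw [IntermediateField.mem_bot] at this
    obtain ⟨c, hc⟩ := this
    exact hx₀ (hc ▸ isAlgebraic_algebraMap c)
  obtain ⟨Q₁, hQ₁⟩ := hDne
  set S : Set (Place k K) := {Q | D Q ≠ 0} with hS
  have hSfin : S.Finite := by
    have : S = (D.support : Set (Place k K)) := by
      ext Q; simp [hS]
    rw [this]
    exact Finset.finite_toSet _
  obtain ⟨f, hfW, hfgen⟩ := exists_mem_forall_not_mem W S hSfin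
    (fun Q => L (D - Finsupp.single Q 1)) (fun Q _ => hbpf Q)
  have hf0 : f ≠ 0 := by
    rintro rfl
    exact hfgen Q₁ hQ₁ (Submodule.zero_mem _)
  have hpole : poleDiv k f = D := by
    have h := poleDiv_div_eq hK (D := D) (D' := D) (B := 0) le_rfl (by rw [sub_zero])
      (one_ne_zero) (by rw [div_one_eq_zero hK, zero_add]; exact hD0) (hWL hfW) hf0
      (fun Q hQ => hfgen Q (by rwa [div_one_eq_zero hK, zero_add] at hQ))
    rw [div_one, div_one_eq_zero hK, zero_add, sub_zero] at h
    exact h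
  have hftr : Transcendental k f := by
    intro halg
    obtain ⟨c, hc⟩ := hK.2 _ halg
    rw [← hc, poleDiv_algebraMap hK] at hpole
    apply hQ₁
    rw [← hpole, Finsupp.zero_apply]
  have hdeg : D.deg = (Module.finrank (adjoin k ({f} : Set K)) K : ℕ) := by
    rw [← hpole]; exact deg_poleDiv_eq hK hftr
  have hy' : ∃ y' ∈ W, IntermediateField.adjoin k ({f, y'} : Set K) = ⊤ := by
    obtain ⟨c, hc⟩ := (Submodule.mem_span_range_iff_exists_fun k).1 hfW
    rw [Fin.sum_univ_three, hφ0, hφ1, hφ2] at hc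
    by_cases h1 : c 1 = 0
    · by_cases h2 : c 2 = 0
      · exfalso
        rw [h1, h2, zero_smul, zero_smul, add_zero, add_zero, Algebra.smul_def, mul_one] at hc
        exact hftr (hc ▸ isAlgebraic_algebraMap (c 0))
      · refine ⟨x, hxW, ?_⟩
        rw [eq_top_iff, ← hxy, IntermediateField.adjoin_le_iff]
        have hfm : f ∈ IntermediateField.adjoin k ({f, x} : Set K) :=
          IntermediateField.subset_adjoin k _ (by simp)
        have hxm : x ∈ IntermediateField.adjoin k ({f, x} : Set K) :=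
          IntermediateField.subset_adjoin k _ (by simp)
        have hyeq : y = (c 2)⁻¹ • (f - c 0 • (1 : K)) := by
          rw [← hc, h1, zero_smul, add_zero, add_sub_cancel_left, smul_smul,
            inv_mul_cancel₀ h2, one_smul]
        intro z hz
        rcases hz with rfl | rfl
        · exact hxm
        · rw [SetLike.mem_coe, hyeq, Algebra.smul_def, Algebra.smul_def, mul_one]
          exact mul_mem (IntermediateField.algebraMap_mem _ _)
            (sub_mem hfm (IntermediateField.algebraMap_mem _ _))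
    · refine ⟨y, hyW, ?_⟩
      rw [eq_top_iff, ← hxy, IntermediateField.adjoin_le_iff]
      have hfm : f ∈ IntermediateField.adjoin k ({f, y} : Set K) :=
        IntermediateField.subset_adjoin k _ (by simp)
      have hym : y ∈ IntermediateField.adjoin k ({f, y} : Set K) :=
        IntermediateField.subset_adjoin k _ (by simp)
      have hxeq : x = (c 1)⁻¹ • (f - c 0 • (1 : K) - c 2 • y) := by
        rw [← hc]
        have : c 0 • (1 : K) + c 1 • x + c 2 • y - c 0 • (1 : K) - c 2 • y = c 1 • x := by abel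
        rw [this, smul_smul, inv_mul_cancel₀ h1, one_smul]
      intro z hz
      rcases hz with rfl | rfl
      · rw [SetLike.mem_coe, hxeq, Algebra.smul_def, Algebra.smul_def, Algebra.smul_def, mul_one]
        exact mul_mem (IntermediateField.algebraMap_mem _ _)
          (sub_mem (sub_mem hfm (IntermediateField.algebraMap_mem _ _))
            (mul_mem (IntermediateField.algebraMap_mem _ _) hym))
      · exact hym
  obtain ⟨y', hy'W, hfy'⟩ := hy'
  exact ⟨f, y', hfW, hy'W, hftr, hfy', hdeg, hD0⟩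

/-- The polynomial ring `k[x, y]` as a subspace of `K`. -/
noncomputable def Bsub (x y : K) : Submodule k K :=
  LinearMap.range (MvPolynomial.aeval ![x, y] : MvPolynomial (Fin 2) k →ₐ[k] K).toLinearMap

omit [IsAlgClosed k] in
theorem mem_Bsub {x y z : K} : z ∈ Bsub (k := k) x y ↔
    ∃ p : MvPolynomial (Fin 2) k, MvPolynomial.aeval ![x, y] p = z := Iff.rfl

omit [IsAlgClosed k] in
theorem mul_mem_Bsub {x y a b : K} (ha : a ∈ Bsub (k := k) x y) (hb : b ∈ Bsub (k := k) x y) :
    a * b ∈ Bsub (k := k) x y := by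
  obtain ⟨p, rfl⟩ := mem_Bsub.1 ha
  obtain ⟨q, rfl⟩ := mem_Bsub.1 hb
  exact mem_Bsub.2 ⟨p * q, map_mul _ _ _⟩

omit [IsAlgClosed k] in
theorem pow_mem_Bsub {x y a : K} (ha : a ∈ Bsub (k := k) x y) (n : ℕ) :
    a ^ n ∈ Bsub (k := k) x y := by
  obtain ⟨p, rfl⟩ := mem_Bsub.1 ha
  exact mem_Bsub.2 ⟨p ^ n, map_pow _ _ _⟩

omit [IsAlgClosed k] in
theorem span_le_Bsub (x y : K) :
    Submodule.span k (Set.range ![(1 : K), x, y]) ≤ Bsub (k := k) x y := by
  rw [Submodule.span_le]
  rintro _ ⟨i, rfl⟩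
  fin_cases i
  · exact mem_Bsub.2 ⟨1, map_one _⟩
  · exact mem_Bsub.2 ⟨MvPolynomial.X 0, by simp⟩
  · exact mem_Bsub.2 ⟨MvPolynomial.X 1, by simp⟩

/-- The polynomials of degree `≤ m` have bounded codimension in `L(mD)`. -/
theorem exists_relLen_inf_L_le (hK : IsFunctionField k K) (x y : K)
    (hxy : IntermediateField.adjoin k ({x, y} : Set K) = ⊤) :
    ∃ C d' : ℕ, ∀ m : ℕ, d' ≤ m →
      relLen (Bsub (k := k) x y ⊓ L (m • mapDiv k ![(1 : K), x, y]))
        (L (m • mapDiv k ![(1 : K), x, y])) ≤ C := by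
  classical
  obtain ⟨f, y', hfW, hy'W, hftr, hfy', hdeg, hD0⟩ := exists_good_pair hK x y hxy
  set D := mapDiv k ![(1 : K), x, y] with hD
  have hfin := finite_adjoin_of_transcendental hK hftr
  set d' : ℕ := Module.finrank (adjoin k ({f} : Set K)) K with hd'
  have hd'pos : 0 < d' := Module.finrank_pos
  have hWL : Submodule.span k (Set.range ![(1 : K), x, y]) ≤ L D := span_le_L_mapDiv hK _
  refine ⟨d' * d', d', fun m hm => ?_⟩
  set l : ℕ := m - d' with hl
  have hli := linearIndependent_monomials hK hftr hfy' l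
  have hmem : ∀ p : Fin (l + 1) × Fin d',
      f ^ (p.1 : ℕ) * y' ^ (p.2 : ℕ) ∈ Bsub (k := k) x y ⊓ L (m • D) := by
    intro p
    refine ⟨mul_mem_Bsub (pow_mem_Bsub (span_le_Bsub x y hfW) _)
      (pow_mem_Bsub (span_le_Bsub x y hy'W) _), ?_⟩
    have h1 := mul_mem_L (pow_mem_L (hWL hfW) (p.1 : ℕ)) (pow_mem_L (hWL hy'W) (p.2 : ℕ))
    rw [← add_nsmul] at h1
    refine L_mono ?_ h1
    have hle : (p.1 : ℕ) + (p.2 : ℕ) ≤ m := by
      have := p.1.2
      have := p.2.2
      omega
    intro Q
    rw [Finsupp.smul_apply, Finsupp.smul_apply]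
    have := hD0 Q
    rw [Finsupp.zero_apply] at this
    simp only [nsmul_eq_mul]
    have h3 : (((p.1 : ℕ) + (p.2 : ℕ) : ℕ) : ℤ) ≤ (m : ℤ) := by exact_mod_cast hle
    nlinarith
  have hfdL := finite_L hK (m • D)
  have hfdI : FiniteDimensional k ↥(Bsub (k := k) x y ⊓ L (m • D)) :=
    Submodule.finiteDimensional_inf_right _ _
  have hli3 : LinearIndependent k fun p : Fin (l + 1) × Fin d' =>
      (⟨f ^ (p.1 : ℕ) * y' ^ (p.2 : ℕ), hmem p⟩ : ↥(Bsub (k := k) x y ⊓ L (m • D))) := by
    apply LinearIndependent.of_comp (Bsub (k := k) x y ⊓ L (m • D)).subtype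
    exact hli
  have hcard := hli3.fintype_card_le_finrank
  rw [Fintype.card_prod, Fintype.card_fin, Fintype.card_fin] at hcard
  have hdegm : (m • D).deg = m * d' := by
    rw [← degHom_apply, map_nsmul, degHom_apply, hdeg]; simp
  have hm0 : (0 : Divisor k K) ≤ m • D := by
    intro Q
    rw [Finsupp.zero_apply, Finsupp.smul_apply]
    have := hD0 Q
    rw [Finsupp.zero_apply] at this
    simp only [nsmul_eq_mul]
    positivity
  have hell := ell_le_add hK hm0
  rw [ell_zero hK, hdegm, deg_zero, sub_zero] at hell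
  have hlen := length_eq_add_relLen (inf_le_right : Bsub (k := k) x y ⊓ L (m • D) ≤ L (m • D))
  rw [length_L_eq_ell hK, Module.length_eq_finrank] at hlen
  have hne : relLen (Bsub (k := k) x y ⊓ L (m • D)) (L (m • D)) ≠ ⊤ := by
    intro htop
    rw [htop, add_top] at hlen
    exact ENat.natCast_ne_top _ hlen
  obtain ⟨r, hr⟩ := ENat.ne_top_iff_exists.1 hne
  rw [← hr] at hlen ⊢
  have hlen' : ell (m • D) = Module.finrank k ↥(Bsub (k := k) x y ⊓ L (m • D)) + r := by
    exact_mod_cast hlen
  have hell' : ell (m • D) ≤ 1 + m * d' := by exact_mod_cast hell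
  have hl' : l + d' = m := by omega
  have : r ≤ d' * d' := by
    have h1 : (l + 1) * d' + r ≤ 1 + m * d' := by omega
    rw [← hl'] at h1
    nlinarith
  exact_mod_cast this

/-- The functions regular at all finite places of the plane model. -/
def Btil (x y : K) : Submodule k K where
  carrier := {z | ∀ Q : Place k K, mapDiv k ![(1 : K), x, y] Q = 0 → Q.1 z ≤ 1}
  zero_mem' := by
    intro Q _
    change Q.1 0 ≤ 1
    rw [map_zero]
    exact zero_le
  add_mem' := fun {a b} ha hb Q hQ => (Q.1.map_add a b).trans (max_le (ha Q hQ) (hb Q hQ))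
  smul_mem' := fun c z hz Q hQ => by
    change Q.1 (c • z) ≤ 1
    rw [Algebra.smul_def, map_mul]
    calc Q.1 (algebraMap k K c) * Q.1 z ≤ 1 * 1 := mul_le_mul' (val_algebraMap_le Q c) (hz Q hQ)
      _ = 1 := one_mul _

omit [IsAlgClosed k] in
theorem mem_Btil {x y z : K} : z ∈ Btil (k := k) x y ↔
    ∀ Q : Place k K, mapDiv k ![(1 : K), x, y] Q = 0 → Q.1 z ≤ 1 := Iff.rfl

omit [IsAlgClosed k] in
/-- Functions regular at the finite places lie in `L(mD)` for large `m`. -/
theorem exists_mem_L_of_mem_Btil (hK : IsFunctionField k K) {x y z : K}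
    (hD0 : 0 ≤ mapDiv k ![(1 : K), x, y]) (hz : z ∈ Btil (k := k) x y) :
    ∃ m₀ : ℕ, ∀ m : ℕ, m₀ ≤ m → z ∈ L (m • mapDiv k ![(1 : K), x, y]) := by
  classical
  set D := mapDiv k ![(1 : K), x, y] with hD
  by_cases hz0 : z = 0
  · exact ⟨0, fun m _ => by rw [hz0]; exact Submodule.zero_mem _⟩
  have hT := finite_one_lt_val hK hz0
  obtain ⟨N, hN⟩ := (hT.image (fun Q : Place k K => log (Q.1 z))).bddAbove
  refine ⟨N.toNat, fun m hm Q => ?_⟩
  rw [Finsupp.smul_apply]
  have hDQ := hD0 Q
  rw [Finsupp.zero_apply] at hDQ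
  simp only [nsmul_eq_mul]
  by_cases h1 : Q.1 z ≤ 1
  · refine h1.trans ?_
    rw [← exp_zero, exp_le_exp]
    positivity
  · push Not at h1
    have hDne : D Q ≠ 0 := fun h0 => absurd (hz Q h0) (not_le.2 h1)
    have hD1 : 1 ≤ D Q := by omega
    have hlog : log (Q.1 z) ≤ N := hN ⟨Q, h1, rfl⟩
    have h0 : Q.1 z ≠ 0 := by rw [Ne, Q.1.zero_iff]; exact hz0
    rw [← exp_log h0, exp_le_exp]
    have hmN : N ≤ (m : ℤ) := by
      have : (N.toNat : ℤ) ≤ m := by exact_mod_cast hm
      have := Int.self_le_toNat N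
      omega
    have hm0 : (0 : ℤ) ≤ m := by positivity
    nlinarith

/-- `k[x, y]` has finite codimension in the ring of functions regular at finite places. -/
theorem exists_relLen_Bsub_Btil_le (hK : IsFunctionField k K) (x y : K)
    (hxy : IntermediateField.adjoin k ({x, y} : Set K) = ⊤) :
    ∃ C : ℕ, relLen (Bsub (k := k) x y) (Btil (k := k) x y) ≤ C := by
  classical
  obtain ⟨C, d', hC⟩ := exists_relLen_inf_L_le hK x y hxy
  obtain ⟨f, y', hfW, hy'W, hftr, hfy', hdeg, hD0⟩ := exists_good_pair hK x y hxy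
  refine ⟨C, relLen_le_of_forall_dependent fun v hv => ?_⟩
  choose m₀ hm₀ using fun i => exists_mem_L_of_mem_Btil hK hD0 (hv i)
  set m : ℕ := d' + ∑ i, m₀ i with hm
  have hvL : ∀ i, v i ∈ L (m • mapDiv k ![(1 : K), x, y]) := by
    intro i
    apply hm₀ i
    have : m₀ i ≤ ∑ j, m₀ j := Finset.single_le_sum (fun _ _ => Nat.zero_le _) (Finset.mem_univ i)
    omega
  obtain ⟨c, hc, hmem⟩ := exists_dependent_of_relLen_le (hC m (by omega)) v hvL
  exact ⟨c, hc, hmem.1⟩

end

end Groth.Agent.H57.IntMult
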