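import Groth.Agent.H57.IntMultFin
import Groth.Agent.H57.NonsingCrit
import Groth.Agent.H57.PlaneSpan
import Groth.Agent.FunFld.RelFundIneq

/-!
# The local ring of a plane model at a point has finite codimension in its normalisation
-/

set_option autoImplicit false

namespace Groth.Agent.H57.IntMult

open FunFld Groth.Agent.FF WithZero IntermediateField Groth.Agent.H57 MvPolynomial

universe u v
variable {k : Type u} {K : Type v} [Field k] [Field K] [Algebra k K]

/-- The places centred at the point `c` of the plane model. -/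
def Sset (x y : K) (c : Fin 2 → k) : Set (Place k K) :=
  {Q | ∀ i, Q.1 (![x, y] i - algebraMap k K (c i)) < 1}

section Basic

variable (x y : K) (c : Fin 2 → k)

theorem val_coord_le_one {Q : Place k K} (hQ : Q ∈ Sset x y c) (i : Fin 2) :
    Q.1 (![x, y] i) ≤ 1 := by
  have h := hQ i
  have h1 : ![x, y] i = (![x, y] i - algebraMap k K (c i)) + algebraMap k K (c i) := by ring
  rw [h1]
  exact (Q.1.map_add _ _).trans (max_le h.le (val_algebraMap_le Q _))

/-- A polynomial in `x, y` is congruent to its value at `c` modulo every place centred at `c`. -/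
theorem val_aeval_sub_eval_lt_one {Q : Place k K} (hQ : Q ∈ Sset x y c)
    (p : MvPolynomial (Fin 2) k) :
    Q.1 (aeval ![x, y] p - algebraMap k K (eval c p)) < 1 := by
  induction p using MvPolynomial.induction_on with
  | C a =>
    rw [aeval_C, eval_C, sub_self, map_zero]
    exact zero_lt_one
  | add p q hp hq =>
    have : aeval ![x, y] (p + q) - algebraMap k K (eval c (p + q)) =
        (aeval ![x, y] p - algebraMap k K (eval c p)) +
        (aeval ![x, y] q - algebraMap k K (eval c q)) := by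
      rw [map_add, map_add, map_add]; ring
    rw [this]
    exact lt_of_le_of_lt (Q.1.map_add _ _) (max_lt hp hq)
  | mul_X p i hp =>
    have : aeval ![x, y] (p * X i) - algebraMap k K (eval c (p * X i)) =
        (aeval ![x, y] p - algebraMap k K (eval c p)) * ![x, y] i +
        algebraMap k K (eval c p) * (![x, y] i - algebraMap k K (c i)) := by
      rw [map_mul, map_mul, aeval_X, eval_X, map_mul]; ring
    rw [this]
    refine lt_of_le_of_lt (Q.1.map_add _ _) (max_lt ?_ ?_)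
    · rw [map_mul]
      calc Q.1 (aeval ![x, y] p - algebraMap k K (eval c p)) * Q.1 (![x, y] i)
          ≤ Q.1 (aeval ![x, y] p - algebraMap k K (eval c p)) * 1 :=
            mul_le_mul' le_rfl (val_coord_le_one x y c hQ i)
        _ < 1 := by rw [mul_one]; exact hp
    · rw [map_mul]
      calc Q.1 (algebraMap k K (eval c p)) * Q.1 (![x, y] i - algebraMap k K (c i))
          ≤ 1 * Q.1 (![x, y] i - algebraMap k K (c i)) :=
            mul_le_mul' (val_algebraMap_le Q _) le_rfl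
        _ < 1 := by rw [one_mul]; exact hQ i

theorem val_aeval_le_one {Q : Place k K} (hQ : Q ∈ Sset x y c) (p : MvPolynomial (Fin 2) k) :
    Q.1 (aeval ![x, y] p) ≤ 1 := by
  have h := val_aeval_sub_eval_lt_one x y c hQ p
  have h1 : aeval ![x, y] p = (aeval ![x, y] p - algebraMap k K (eval c p)) +
      algebraMap k K (eval c p) := by ring
  rw [h1]
  exact (Q.1.map_add _ _).trans (max_le h.le (val_algebraMap_le Q _))

theorem val_aeval_eq_one {Q : Place k K} (hQ : Q ∈ Sset x y c) {q : MvPolynomial (Fin 2) k}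
    (hq : eval c q ≠ 0) : Q.1 (aeval ![x, y] q) = 1 :=
  val_eq_one_of_sub_const Q hq (val_aeval_sub_eval_lt_one x y c hQ q)

/-- The functions regular at all places centred at `c`. -/
def Otil : Submodule k K where
  carrier := {z | ∀ Q ∈ Sset x y c, Q.1 z ≤ 1}
  zero_mem' := by
    intro Q _
    change Q.1 0 ≤ 1
    rw [map_zero]
    exact zero_le
  add_mem' := fun {a b} ha hb Q hQ => (Q.1.map_add a b).trans (max_le (ha Q hQ) (hb Q hQ))
  smul_mem' := fun a z hz Q hQ => by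
    change Q.1 (a • z) ≤ 1
    rw [Algebra.smul_def, map_mul]
    calc Q.1 (algebraMap k K a) * Q.1 z ≤ 1 * 1 := mul_le_mul' (val_algebraMap_le Q a) (hz Q hQ)
      _ = 1 := one_mul _

/-- The local ring of the plane model at `c`, as a subspace of `K`. -/
def Osub : Submodule k K where
  carrier := {z | ∃ p q : MvPolynomial (Fin 2) k, eval c q ≠ 0 ∧
    z * aeval ![x, y] q = aeval ![x, y] p}
  zero_mem' := ⟨0, 1, by rw [map_one]; exact one_ne_zero, by rw [zero_mul, map_zero]⟩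
  add_mem' := by
    rintro a b ⟨p₁, q₁, h₁, e₁⟩ ⟨p₂, q₂, h₂, e₂⟩
    refine ⟨p₁ * q₂ + p₂ * q₁, q₁ * q₂, ?_, ?_⟩
    · rw [map_mul]; exact mul_ne_zero h₁ h₂
    · rw [map_mul, map_add, map_mul, map_mul, ← e₁, ← e₂]; ring
  smul_mem' := by
    rintro a z ⟨p, q, h, e⟩
    refine ⟨a • p, q, h, ?_⟩
    rw [map_smul, ← e, smul_mul_assoc]

theorem mem_Osub {z : K} : z ∈ Osub x y c ↔ ∃ p q : MvPolynomial (Fin 2) k, eval c q ≠ 0 ∧
    z * aeval ![x, y] q = aeval ![x, y] p := Iff.rfl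

theorem mem_Otil {z : K} : z ∈ Otil x y c ↔ ∀ Q ∈ Sset x y c, Q.1 z ≤ 1 := Iff.rfl

theorem Osub_le_Otil : Osub x y c ≤ Otil x y c := by
  rintro z ⟨p, q, hq, e⟩ Q hQ
  have h1 := val_aeval_eq_one x y c hQ hq
  have h2 := val_aeval_le_one x y c hQ p
  rw [← e, map_mul, h1, mul_one] at h2
  exact h2

end Basic

section Fin

variable [IsAlgClosed k] (hK : IsFunctionField k K) (x y : K) (c : Fin 2 → k)

omit [IsAlgClosed k] in
include hK in
theorem val_coord_le_one_of_mapDiv_eq_zero {Q : Place k K}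
    (hQ : mapDiv k ![(1 : K), x, y] Q = 0) (i : Fin 2) : Q.1 (![x, y] i) ≤ 1 := by
  have h := val_le_exp_mapDiv hK ![(1 : K), x, y] Q i.succ
  rw [hQ, exp_zero] at h
  fin_cases i
  · exact h
  · exact h

omit [IsAlgClosed k] in
include hK in
theorem Bsub_le_Btil : Bsub (k := k) x y ≤ Btil (k := k) x y := by
  intro z hz Q hQ
  obtain ⟨p, rfl⟩ := mem_Bsub.1 hz
  induction p using MvPolynomial.induction_on with
  | C a =>
    rw [aeval_C]
    exact val_algebraMap_le Q a
  | add p q hp hq =>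
    rw [map_add]
    exact (Q.1.map_add _ _).trans (max_le (hp (mem_Bsub.2 ⟨p, rfl⟩)) (hq (mem_Bsub.2 ⟨q, rfl⟩)))
  | mul_X p i hp =>
    rw [map_mul, map_mul, aeval_X]
    calc Q.1 (aeval ![x, y] p) * Q.1 (![x, y] i) ≤ 1 * 1 :=
          mul_le_mul' (hp (mem_Bsub.2 ⟨p, rfl⟩)) (val_coord_le_one_of_mapDiv_eq_zero hK x y hQ i)
      _ = 1 := one_mul _

include hK in
/-- A function regular at the places over `c` becomes regular at all finite places after
multiplication by a polynomial not vanishing at `c`. -/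
theorem exists_mul_mem_Btil {z : K} (hz : z ∈ Otil x y c) :
    ∃ q : MvPolynomial (Fin 2) k, eval c q ≠ 0 ∧ z * aeval ![x, y] q ∈ Btil (k := k) x y := by
  classical
  set D := mapDiv k ![(1 : K), x, y] with hD
  by_cases hz0 : z = 0
  · refine ⟨1, by rw [map_one]; exact one_ne_zero, ?_⟩
    rw [hz0, zero_mul]
    exact Submodule.zero_mem _
  have hT : {Q : Place k K | 1 < Q.1 z}.Finite := finite_one_lt_val hK hz0
  set T : Finset (Place k K) := hT.toFinset.filter (fun Q => D Q = 0) with hTdef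
  have hTmem : ∀ Q, Q ∈ T ↔ 1 < Q.1 z ∧ D Q = 0 := by
    intro Q
    rw [hTdef, Finset.mem_filter, Set.Finite.mem_toFinset]
    rfl
  have hlin : ∀ Q ∈ T, ∃ ℓ : MvPolynomial (Fin 2) k, eval c ℓ ≠ 0 ∧
      Q.1 (aeval ![x, y] ℓ) < 1 := by
    intro Q hQT
    obtain ⟨h1, hDQ⟩ := (hTmem Q).1 hQT
    have hQS : Q ∉ Sset x y c := fun hQS => absurd (hz Q hQS) (not_le.2 h1)
    have hex : ∃ i, ¬ Q.1 (![x, y] i - algebraMap k K (c i)) < 1 := by
      by_contra hcon
      push Not at hcon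
      exact hQS hcon
    obtain ⟨i, hi⟩ := hex
    have ha := val_sub_rhoK_lt_one hK Q _ (val_coord_le_one_of_mapDiv_eq_zero hK x y hDQ i)
    have hac : rhoK hK Q (![x, y] i) ≠ c i := by
      intro hh
      rw [hh] at ha
      exact hi ha
    refine ⟨X i - C (rhoK hK Q (![x, y] i)), ?_, ?_⟩
    · rw [map_sub, eval_X, eval_C]
      exact sub_ne_zero.2 (Ne.symm hac)
    · rw [map_sub, aeval_X, aeval_C]
      exact ha
  choose! ℓ hℓ1 hℓ2 using hlin
  obtain ⟨N, hN⟩ : ∃ N : ℕ, ∀ Q ∈ T, Q.1 z ≤ exp (N : ℤ) := by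
    refine ⟨T.sup (fun Q => (log (Q.1 z)).toNat), fun Q hQ => ?_⟩
    have h0 : Q.1 z ≠ 0 := by rw [Ne, Q.1.zero_iff]; exact hz0
    rw [← exp_log h0, exp_le_exp]
    have h1 : (log (Q.1 z)).toNat ≤ T.sup (fun Q => (log (Q.1 z)).toNat) :=
      Finset.le_sup (f := fun Q => (log (Q.1 z)).toNat) hQ
    have h2 := Int.self_le_toNat (log (Q.1 z))
    have h3 : ((log (Q.1 z)).toNat : ℤ) ≤ (T.sup (fun Q => (log (Q.1 z)).toNat) : ℕ) := by
      exact_mod_cast h1
    exact h2.trans h3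
  refine ⟨∏ Q ∈ T, ℓ Q ^ N, ?_, ?_⟩
  · rw [map_prod]
    refine Finset.prod_ne_zero_iff.2 fun Q hQ => ?_
    rw [map_pow]
    exact pow_ne_zero _ (hℓ1 Q hQ)
  · intro Q' hQ'
    have hfac : ∀ Q ∈ T, Q'.1 (aeval ![x, y] (ℓ Q ^ N)) ≤ 1 := fun Q _ =>
      Bsub_le_Btil hK x y (mem_Bsub.2 ⟨ℓ Q ^ N, rfl⟩) Q' hQ'
    rw [map_mul, map_prod, map_prod]
    by_cases hQ'T : Q' ∈ T
    · rw [← Finset.mul_prod_erase T _ hQ'T]
      have h1 : ∏ Q ∈ T.erase Q', Q'.1 (aeval ![x, y] (ℓ Q ^ N)) ≤ 1 :=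
        Finset.prod_le_one' fun Q hQ => hfac Q (Finset.mem_of_mem_erase hQ)
      have h2 : Q'.1 (aeval ![x, y] (ℓ Q' ^ N)) ≤ exp (-(N : ℤ)) := by
        rw [map_pow, map_pow]
        have h3 := Groth.Agent.FF.Ext.le_exp_neg_one_of_lt_one (hℓ2 Q' hQ'T)
        calc Q'.1 (aeval ![x, y] (ℓ Q')) ^ N ≤ exp (-1 : ℤ) ^ N := pow_le_pow_left' h3 N
          _ = exp (-(N : ℤ)) := by rw [← exp_nsmul]; congr 1; simp
      calc Q'.1 z * (Q'.1 (aeval ![x, y] (ℓ Q' ^ N)) *
            ∏ Q ∈ T.erase Q', Q'.1 (aeval ![x, y] (ℓ Q ^ N)))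
          ≤ exp (N : ℤ) * (exp (-(N : ℤ)) * 1) :=
            mul_le_mul' (hN Q' hQ'T) (mul_le_mul' h2 h1)
        _ = 1 := by rw [mul_one, ← exp_add, add_neg_cancel, exp_zero]
    · have h1 : Q'.1 z ≤ 1 := by
        by_contra hcon
        push Not at hcon
        exact hQ'T ((hTmem Q').2 ⟨hcon, hQ'⟩)
      calc Q'.1 z * ∏ Q ∈ T, Q'.1 (aeval ![x, y] (ℓ Q ^ N)) ≤ 1 * 1 :=
            mul_le_mul' h1 (Finset.prod_le_one' fun Q hQ => hfac Q hQ)
        _ = 1 := one_mul _

include hK in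
/-- The local ring of the plane model at `c` has finite codimension in its normalisation. -/
theorem exists_relLen_Osub_Otil_le
    (hxy : IntermediateField.adjoin k ({x, y} : Set K) = ⊤) :
    ∃ C : ℕ, relLen (Osub x y c) (Otil x y c) ≤ C := by
  classical
  obtain ⟨C, hC⟩ := exists_relLen_Bsub_Btil_le hK x y hxy
  refine ⟨C, relLen_le_of_forall_dependent fun v hv => ?_⟩
  choose q hq1 hq2 using fun i => exists_mul_mem_Btil hK x y c (hv i)
  set s : MvPolynomial (Fin 2) k := ∏ i, q i with hs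
  have hs1 : eval c s ≠ 0 := by
    rw [hs, map_prod]
    exact Finset.prod_ne_zero_iff.2 fun i _ => hq1 i
  have hmul : ∀ a b : K, a ∈ Bsub (k := k) x y → b ∈ Btil (k := k) x y →
      a * b ∈ Btil (k := k) x y := by
    intro a b ha hb Q hQ
    rw [map_mul]
    calc Q.1 a * Q.1 b ≤ 1 * 1 := mul_le_mul' (Bsub_le_Btil hK x y ha Q hQ) (hb Q hQ)
      _ = 1 := one_mul _
  have hvs : ∀ i, v i * aeval ![x, y] s ∈ Btil (k := k) x y := by
    intro i
    have h1 : s = (∏ j ∈ Finset.univ.erase i, q j) * q i := by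
      rw [hs, mul_comm, Finset.mul_prod_erase _ _ (Finset.mem_univ i)]
    rw [h1, map_mul]
    have h2 : v i * (aeval ![x, y] (∏ j ∈ Finset.univ.erase i, q j) * aeval ![x, y] (q i)) =
        aeval ![x, y] (∏ j ∈ Finset.univ.erase i, q j) * (v i * aeval ![x, y] (q i)) := by ring
    rw [h2]
    exact hmul _ _ (mem_Bsub.2 ⟨_, rfl⟩) (hq2 i)
  obtain ⟨a, ha, hmem⟩ := exists_dependent_of_relLen_le hC (fun i => v i * aeval ![x, y] s) hvs
  refine ⟨a, ha, ?_⟩
  obtain ⟨p, hp⟩ := mem_Bsub.1 hmem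
  refine ⟨p, s, hs1, ?_⟩
  rw [hp, Finset.sum_mul]
  refine Finset.sum_congr rfl fun i _ => ?_
  rw [smul_mul_assoc]

end Fin

end Groth.Agent.H57.IntMult
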