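import Groth.Agent.H57.FFBasic
import Groth.Prelude.Def_W4bk4goldsch45

set_option autoImplicit false

namespace Groth.Agent.H57

open FunFld Groth.Agent.FF WithZero

universe u v
variable {k : Type u} {K : Type v} [Field k] [Field K] [Algebra k K]

theorem val_le_one_of_residue (P : Place k K) {u : K} {c : k}
    (h : P.1 (u - algebraMap k K c) < 1) : P.1 u ≤ 1 := by
  have h1 : u = (u - algebraMap k K c) + algebraMap k K c := by ring
  rw [h1]
  exact (P.1.map_add _ _).trans (max_le h.le (val_algebraMap_le P c))

theorem val_lt_one_iff_of_residue (P : Place k K) {u : K} {c : k}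
    (h : P.1 (u - algebraMap k K c) < 1) : P.1 u < 1 ↔ c = 0 := by
  constructor
  · intro hu
    by_contra hc
    have h1 : P.1 (algebraMap k K c) = 1 := val_algebraMap P hc
    have h2 : algebraMap k K c = u - (u - algebraMap k K c) := by ring
    rw [h2] at h1
    have h3 := P.1.map_sub u (u - algebraMap k K c)
    rw [h1] at h3
    exact absurd h3 (not_le.2 (max_lt hu h))
  · rintro rfl
    simpa using h

theorem val_eq_one_iff_of_residue (P : Place k K) {u : K} {c : k}
    (h : P.1 (u - algebraMap k K c) < 1) : P.1 u = 1 ↔ c ≠ 0 := by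
  have h1 := val_le_one_of_residue P h
  have h2 := val_lt_one_iff_of_residue P h
  constructor
  · intro hu hc
    have := h2.2 hc
    rw [hu] at this
    exact lt_irrefl _ this
  · intro hc
    rcases lt_or_eq_of_le h1 with hlt | heq
    · exact absurd (h2.1 hlt) hc
    · exact heq

/-- Common residues at two places propagate from generators to the generated algebra. -/
theorem common_residue_adjoin (P Q : Place k K) (S : Set K)
    (hS : ∀ s ∈ S, ∃ c : k, P.1 (s - algebraMap k K c) < 1 ∧ Q.1 (s - algebraMap k K c) < 1)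
    {u : K} (hu : u ∈ Algebra.adjoin k S) :
    ∃ c : k, P.1 (u - algebraMap k K c) < 1 ∧ Q.1 (u - algebraMap k K c) < 1 := by
  induction hu using Algebra.adjoin_induction with
  | mem s hs => exact hS s hs
  | algebraMap c => exact ⟨c, by simp, by simp⟩
  | add x y _ _ hx hy =>
    obtain ⟨c, hcP, hcQ⟩ := hx
    obtain ⟨c', hcP', hcQ'⟩ := hy
    refine ⟨c + c', ?_, ?_⟩
    · have : x + y - algebraMap k K (c + c') =
          (x - algebraMap k K c) + (y - algebraMap k K c') := by rw [map_add]; ring
      rw [this]
      exact (P.1.map_add _ _).trans_lt (max_lt hcP hcP')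
    · have : x + y - algebraMap k K (c + c') =
          (x - algebraMap k K c) + (y - algebraMap k K c') := by rw [map_add]; ring
      rw [this]
      exact (Q.1.map_add _ _).trans_lt (max_lt hcQ hcQ')
  | mul x y _ _ hx hy =>
    obtain ⟨c, hcP, hcQ⟩ := hx
    obtain ⟨c', hcP', hcQ'⟩ := hy
    refine ⟨c * c', ?_, ?_⟩
    · have : x * y - algebraMap k K (c * c') =
          (x - algebraMap k K c) * y + algebraMap k K c * (y - algebraMap k K c') := by
        rw [map_mul]; ring
      rw [this]
      refine (P.1.map_add _ _).trans_lt (max_lt ?_ ?_)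
      · rw [map_mul]
        calc P.1 (x - algebraMap k K c) * P.1 y ≤ P.1 (x - algebraMap k K c) * 1 :=
              mul_le_mul' le_rfl (val_le_one_of_residue P hcP')
          _ < 1 := by rwa [mul_one]
      · rw [map_mul]
        calc P.1 (algebraMap k K c) * P.1 (y - algebraMap k K c')
            ≤ 1 * P.1 (y - algebraMap k K c') := mul_le_mul' (val_algebraMap_le P c) le_rfl
          _ < 1 := by rwa [one_mul]
    · have : x * y - algebraMap k K (c * c') =
          (x - algebraMap k K c) * y + algebraMap k K c * (y - algebraMap k K c') := by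
        rw [map_mul]; ring
      rw [this]
      refine (Q.1.map_add _ _).trans_lt (max_lt ?_ ?_)
      · rw [map_mul]
        calc Q.1 (x - algebraMap k K c) * Q.1 y ≤ Q.1 (x - algebraMap k K c) * 1 :=
              mul_le_mul' le_rfl (val_le_one_of_residue Q hcQ')
          _ < 1 := by rwa [mul_one]
      · rw [map_mul]
        calc Q.1 (algebraMap k K c) * Q.1 (y - algebraMap k K c')
            ≤ 1 * Q.1 (y - algebraMap k K c') := mul_le_mul' (val_algebraMap_le Q c) le_rfl
          _ < 1 := by rwa [one_mul]

/-- Some entry of a tuple has least order at a given place. -/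
theorem exists_least_order {n : ℕ} (φ : Fin (n + 1) → K) (P : Place k K) :
    ∃ j, ∀ i, P.1 (φ i) ≤ P.1 (φ j) :=
  Finite.exists_max (fun i => P.1 (φ i))

/-- If two places have the same image with respect to the index `j`, and `j'` is another index of
least order at `P`, they have the same image with respect to `j'`. -/
theorem sameImage_change_index {n : ℕ} (φ : Fin (n + 1) → K) (P Q : Place k K) (j j' : Fin (n + 1))
    (hj : φ j ≠ 0) (hj' : φ j' ≠ 0) (hP' : ∀ i, P.1 (φ i) ≤ P.1 (φ j'))
    (hPj : ∀ i, P.1 (φ i) ≤ P.1 (φ j))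
    (hres : ∀ i, ∃ c : k, P.1 (φ i / φ j - algebraMap k K c) < 1 ∧
      Q.1 (φ i / φ j - algebraMap k K c) < 1) :
    (∀ i, Q.1 (φ i) ≤ Q.1 (φ j')) ∧ ∀ i, ∃ c : k, P.1 (φ i / φ j' - algebraMap k K c) < 1 ∧
      Q.1 (φ i / φ j' - algebraMap k K c) < 1 := by
  -- the ratio φ j' / φ j is a unit at P
  obtain ⟨c', hc'P, hc'Q⟩ := hres j'
  have hunitP : P.1 (φ j' / φ j) = 1 := by
    rw [map_div₀]
    have h1 := hP' j
    have h2 := hPj j'
    have h3 : P.1 (φ j') = P.1 (φ j) := le_antisymm h2 h1
    rw [h3, div_self]
    rw [P.1.ne_zero_iff]; exact hj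
  have hc'0 : c' ≠ 0 := (val_eq_one_iff_of_residue P hc'P).1 hunitP
  have hunitQ : Q.1 (φ j' / φ j) = 1 := (val_eq_one_iff_of_residue Q hc'Q).2 hc'0
  have hQj : ∀ i, Q.1 (φ i / φ j) ≤ 1 := fun i => by
    obtain ⟨c, _, hcQ⟩ := hres i
    exact val_le_one_of_residue Q hcQ
  have hQeq : Q.1 (φ j') = Q.1 (φ j) := by
    rw [map_div₀] at hunitQ
    have hne : Q.1 (φ j) ≠ 0 := by rw [Q.1.ne_zero_iff]; exact hj
    field_simp at hunitQ
    exact hunitQ
  refine ⟨?_, ?_⟩
  · intro i
    have := hQj i
    rw [map_div₀] at this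
    have hne : Q.1 (φ j) ≠ 0 := by rw [Q.1.ne_zero_iff]; exact hj
    rw [hQeq]
    rwa [div_le_one₀ (zero_lt_iff.2 hne)] at this
  · intro i
    obtain ⟨c, hcP, hcQ⟩ := hres i
    refine ⟨c / c', ?_, ?_⟩
    · have hid : φ i / φ j' - algebraMap k K (c / c') =
          ((φ i / φ j - algebraMap k K c) * algebraMap k K c' -
            algebraMap k K c * (φ j' / φ j - algebraMap k K c')) *
            ((φ j' / φ j)⁻¹ * (algebraMap k K c')⁻¹) := by
        have hc'K : algebraMap k K c' ≠ 0 := by
          rw [Ne, map_eq_zero_iff _ (algebraMap k K).injective]; exact hc'0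
        rw [map_div₀]
        field_simp
        ring
      rw [hid, map_mul, map_mul, map_inv₀, map_inv₀, hunitP, val_algebraMap P hc'0]
      simp only [inv_one, mul_one]
      refine (P.1.map_sub _ _).trans_lt (max_lt ?_ ?_)
      · rw [map_mul, val_algebraMap P hc'0, mul_one]; exact hcP
      · rw [map_mul]
        calc P.1 (algebraMap k K c) * P.1 (φ j' / φ j - algebraMap k K c')
            ≤ 1 * P.1 (φ j' / φ j - algebraMap k K c') := mul_le_mul' (val_algebraMap_le P c) le_rfl
          _ < 1 := by rwa [one_mul]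
    · have hid : φ i / φ j' - algebraMap k K (c / c') =
          ((φ i / φ j - algebraMap k K c) * algebraMap k K c' -
            algebraMap k K c * (φ j' / φ j - algebraMap k K c')) *
            ((φ j' / φ j)⁻¹ * (algebraMap k K c')⁻¹) := by
        have hc'K : algebraMap k K c' ≠ 0 := by
          rw [Ne, map_eq_zero_iff _ (algebraMap k K).injective]; exact hc'0
        rw [map_div₀]
        field_simp
        ring
      rw [hid, map_mul, map_mul, map_inv₀, map_inv₀, hunitQ, val_algebraMap Q hc'0]
      simp only [inv_one, mul_one]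
      refine (Q.1.map_sub _ _).trans_lt (max_lt ?_ ?_)
      · rw [map_mul, val_algebraMap Q hc'0, mul_one]; exact hcQ
      · rw [map_mul]
        calc Q.1 (algebraMap k K c) * Q.1 (φ j' / φ j - algebraMap k K c')
            ≤ 1 * Q.1 (φ j' / φ j - algebraMap k K c') := mul_le_mul' (val_algebraMap_le Q c) le_rfl
          _ < 1 := by rwa [one_mul]

end Groth.Agent.H57
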