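import Groth.Agent.H57.IntMultQuot
import Groth.Agent.H57.IntMultChain
import Groth.Agent.H57.LocRing

/-!
# Intersection multiplicity as a sum of orders equals the length of the local ring modulo `(f, g)`
-/

set_option autoImplicit false

namespace Groth.Agent.H57.IntMult

open FunFld Groth.Agent.FF WithZero IntermediateField Groth.Agent.H57 MvPolynomial

universe u v
variable {k : Type u} {K : Type v} [Field k] [Field K] [Algebra k K]

section

variable (hK : IsFunctionField k K) (x y : K)
  (hxy : IntermediateField.adjoin k ({x, y} : Set K) = ⊤) (c : Fin 2 → k)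

include hK hxy in
theorem not_both_const (a b : k) : ¬ (x = algebraMap k K a ∧ y = algebraMap k K b) := by
  rintro ⟨rfl, rfl⟩
  obtain ⟨x₀, hx₀, -⟩ := hK.1
  have hmem : x₀ ∈ IntermediateField.adjoin k
      ({algebraMap k K a, algebraMap k K b} : Set K) := by rw [hxy]; trivial
  have hle : IntermediateField.adjoin k ({algebraMap k K a, algebraMap k K b} : Set K) ≤ ⊥ := by
    rw [IntermediateField.adjoin_le_iff]
    intro z hz
    rw [SetLike.mem_coe, IntermediateField.mem_bot]
    rcases hz with rfl | rfl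
    · exact ⟨a, rfl⟩
    · exact ⟨b, rfl⟩
  have := hle hmem
  rw [IntermediateField.mem_bot] at this
  obtain ⟨c', hc'⟩ := this
  exact hx₀ (hc' ▸ isAlgebraic_algebraMap c')

include hK hxy in
theorem Sset_finite : (Sset x y c).Finite := by
  by_cases hx : x - algebraMap k K (c 0) = 0
  · by_cases hy : y - algebraMap k K (c 1) = 0
    · exact absurd ⟨sub_eq_zero.1 hx, sub_eq_zero.1 hy⟩ (not_both_const hK x y hxy (c 0) (c 1))
    · refine (finite_val_lt_one hK hy).subset ?_
      intro Q hQ
      exact hQ 1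
  · refine (finite_val_lt_one hK hx).subset ?_
    intro Q hQ
    exact hQ 0

omit hK hxy in
theorem sameImage_iff_mem_Sset {P : Place k K} (hP : P ∈ Sset x y c) (Q : Place k K) :
    SameImage ![(1 : K), x, y] P Q ↔ Q ∈ Sset x y c := by
  set φ : Fin 3 → K := ![(1 : K), x, y] with hφ
  have hφ0 : φ 0 = 1 := rfl
  have hφ1 : φ 1 = x := rfl
  have hφ2 : φ 2 = y := rfl
  have hle : ∀ {R : Place k K}, R ∈ Sset x y c → ∀ i, R.1 (φ i) ≤ R.1 (φ 0) := by
    intro R hR i
    rw [hφ0, map_one]
    fin_cases i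
    · change R.1 (φ 0) ≤ 1
      rw [hφ0, map_one]
    · exact val_coord_le_one x y c hR 0
    · exact val_coord_le_one x y c hR 1
  constructor
  · rintro ⟨j, hj, hPj, hQj, hres⟩
    obtain ⟨-, hres'⟩ := sameImage_change_index φ P Q j 0 hj (by rw [hφ0]; exact one_ne_zero)
      (hle hP) hPj hres
    intro i
    fin_cases i
    · obtain ⟨c', h1, h2⟩ := hres' 1
      rw [hφ0, hφ1, _root_.div_one] at h1 h2
      have := residue_const_unique P x h1 (hP 0)
      rw [this] at h2
      exact h2
    · obtain ⟨c', h1, h2⟩ := hres' 2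
      rw [hφ0, hφ2, _root_.div_one] at h1 h2
      have := residue_const_unique P y h1 (hP 1)
      rw [this] at h2
      exact h2
  · intro hQ
    refine ⟨0, by rw [hφ0]; exact one_ne_zero, hle hP, hle hQ, ?_⟩
    intro i
    fin_cases i
    · refine ⟨1, ?_, ?_⟩
      · change P.1 (φ 0 / φ 0 - algebraMap k K 1) < 1
        rw [hφ0, _root_.div_one, map_one, sub_self, map_zero]
        exact zero_lt_one
      · change Q.1 (φ 0 / φ 0 - algebraMap k K 1) < 1
        rw [hφ0, _root_.div_one, map_one, sub_self, map_zero]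
        exact zero_lt_one
    · refine ⟨c 0, ?_, ?_⟩
      · change P.1 (φ 1 / φ 0 - algebraMap k K (c 0)) < 1
        rw [hφ0, hφ1, _root_.div_one]
        exact hP 0
      · change Q.1 (φ 1 / φ 0 - algebraMap k K (c 0)) < 1
        rw [hφ0, hφ1, _root_.div_one]
        exact hQ 0
    · refine ⟨c 1, ?_, ?_⟩
      · change P.1 (φ 2 / φ 0 - algebraMap k K (c 1)) < 1
        rw [hφ0, hφ2, _root_.div_one]
        exact hP 1
      · change Q.1 (φ 2 / φ 0 - algebraMap k K (c 1)) < 1
        rw [hφ0, hφ2, _root_.div_one]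
        exact hQ 1

end

section Main

variable [IsAlgClosed k] (hK : IsFunctionField k K) (x y : K)
  (hxy : IntermediateField.adjoin k ({x, y} : Set K) = ⊤)
  (f g : MvPolynomial (Fin 2) k) (hf : Irreducible f) (hfxy : aeval ![x, y] f = 0)
  (hgxy : aeval ![x, y] g ≠ 0) (P : Place k K) (c : Fin 2 → k)
  (hc : ∀ i, P.1 (![x, y] i - algebraMap k K (c i)) < 1)
  (M : Ideal (MvPolynomial (Fin 2) k)) [M.IsMaximal]
  (hM : M = Ideal.span {X 0 - C (c 0), X 1 - C (c 1)})

omit [IsAlgClosed k] in
theorem map_mulLeft_Osub_le :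
    (Osub x y c).map (LinearMap.mulLeft k (aeval ![x, y] g)) ≤ Osub x y c := by
  rintro _ ⟨z, ⟨p, q, hq, e⟩, rfl⟩
  refine ⟨g * p, q, hq, ?_⟩
  rw [LinearMap.mulLeft_apply, map_mul, ← e, mul_assoc]

omit [IsAlgClosed k] in
theorem map_mulLeft_Otil_le :
    (Otil x y c).map (LinearMap.mulLeft k (aeval ![x, y] g)) ≤ Otil x y c := by
  rintro _ ⟨z, hz, rfl⟩ Q hQ
  rw [LinearMap.mulLeft_apply, map_mul]
  calc Q.1 (aeval ![x, y] g) * Q.1 z ≤ 1 * 1 :=
        mul_le_mul' (val_aeval_le_one x y c hQ g) (hz Q hQ)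
    _ = 1 := one_mul _

include hK hxy hf hfxy hgxy hc hM in
theorem intersectionMult_eq :
    ∑ᶠ Q ∈ {Q : Place k K | SameImage ![(1 : K), x, y] P Q}, Q.ord (aeval ![x, y] g) =
      (Module.finrank k (Localization.AtPrime M ⧸
        Ideal.map (algebraMap (MvPolynomial (Fin 2) k) (Localization.AtPrime M))
          (Ideal.span {f, g})) : ℤ) := by
  classical
  set γ : K := aeval ![x, y] g with hγ
  have hP : P ∈ Sset x y c := hc
  have hSeq : {Q : Place k K | SameImage ![(1 : K), x, y] P Q} = Sset x y c := by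
    ext Q
    exact sameImage_iff_mem_Sset x y c hP Q
  have hSfin : (Sset x y c).Finite := Sset_finite hK x y hxy c
  haveI : Fintype (Sset x y c) := hSfin.fintype
  set Qf : Sset x y c → Place k K := Subtype.val with hQf
  have hQinj : Function.Injective Qf := Subtype.val_injective
  have hOt : Otil x y c = ordSpace Qf 0 := by
    ext z
    rw [mem_Otil, mem_ordSpace]
    constructor
    · intro h i
      rw [Pi.zero_apply, neg_zero, exp_zero]
      exact h i.1 i.2
    · intro h Q hQ
      have := h ⟨Q, hQ⟩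
      rw [Pi.zero_apply, neg_zero, exp_zero] at this
      exact this
  have hreg : ∀ i, (Qf i).1 γ ≤ 1 := fun i => val_aeval_le_one x y c i.2 g
  have hord : ∀ i, 0 ≤ (Qf i).ord γ := by
    intro i
    rw [Place.ord, neg_nonneg, ← log_one]
    have h0 : (Qf i).1 γ ≠ 0 := by rw [Ne, (Qf i).1.zero_iff]; exact hgxy
    exact (log_le_log h0 one_ne_zero).2 (hreg i)
  have h1 := relLen_mul_ordSpace Qf hK hQinj hgxy hreg
  rw [← hOt] at h1
  obtain ⟨C, hC⟩ := exists_relLen_Osub_Otil_le hK x y c hxy
  have hfin : relLen (Osub x y c) (Otil x y c) ≠ ⊤ :=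
    ne_top_of_le_ne_top (ENat.natCast_ne_top C) hC
  have hμ : Function.Injective (LinearMap.mulLeft k γ) := by
    intro a b hab
    rw [LinearMap.mulLeft_apply, LinearMap.mulLeft_apply] at hab
    exact mul_left_cancel₀ hgxy hab
  have h2 := relLen_map_eq_of_finite (LinearMap.mulLeft k γ) hμ (Osub_le_Otil x y c) hfin
    (map_mulLeft_Osub_le x y g c) (map_mulLeft_Otil_le x y g c)
  have h3 := length_quot_eq_relLen hK x y hxy f g hf hfxy P c hc M hM
  rw [h2, h1] at h3
  obtain ⟨-, h4⟩ := (length_eq_natCast_iff _).1 h3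
  rw [h4, hSeq, ← finsum_set_coe_eq_finsum_mem, finsum_eq_sum_of_fintype, Nat.cast_sum]
  refine Finset.sum_congr rfl fun i _ => ?_
  rw [Int.toNat_of_nonneg (hord i)]

end Main

end Groth.Agent.H57.IntMult
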