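import Groth.Agent.H57.Expansion
import Mathlib.RingTheory.MvPolynomial.EulerIdentity

set_option autoImplicit false

namespace Groth.Agent.H57

open FunFld Groth.Agent.FF WithZero MvPolynomial

universe u v
variable {k : Type u} {K : Type v} [Field k] [Field K] [Algebra k K]

/-- Evaluating a homogeneous polynomial at a rescaled point. -/
theorem aeval_mul_of_isHomogeneous {σ : Type*} [Fintype σ] {R : Type*} [CommRing R] [Algebra k R]
    {p : MvPolynomial σ k} {n : ℕ} (hp : p.IsHomogeneous n) (c : R) (x : σ → R) :
    aeval (fun i => c * x i) p = c ^ n * aeval x p := by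
  rw [aeval_def, eval₂_eq', aeval_def, eval₂_eq', Finset.mul_sum]
  refine Finset.sum_congr rfl fun d hd => ?_
  have hdeg : n = ∑ i, d i := by
    rw [hp.degree_eq_sum_deg_support hd]
    exact Finset.sum_subset (Finset.subset_univ _) (fun i _ hi => by simpa using hi)
  simp_rw [mul_pow, Finset.prod_mul_distrib, Finset.prod_pow_eq_pow_sum, ← hdeg]
  ring

/-- First order Taylor expansion of a multivariate polynomial modulo the square of an ideal. -/
theorem taylor_one {σ : Type*} [Fintype σ] {R : Type*} [CommRing R] [Algebra k R]
    (I : Ideal R) (α : σ → k) (y : σ → R) (hy : ∀ i, y i ∈ I) (p : MvPolynomial σ k) :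
    aeval (fun i => algebraMap k R (α i) + y i) p - algebraMap k R (eval α p) -
      ∑ i, algebraMap k R (eval α (pderiv i p)) * y i ∈ I ^ 2 := by
  classical
  induction p using MvPolynomial.induction_on with
  | C a =>
    simp only [aeval_C, eval_C, pderiv_C, map_zero, zero_mul, Finset.sum_const_zero, sub_self]
    exact zero_mem _
  | add p q hp hq =>
    have : aeval (fun i => algebraMap k R (α i) + y i) (p + q) - algebraMap k R (eval α (p + q)) -
        ∑ i, algebraMap k R (eval α (pderiv i (p + q))) * y i =
        (aeval (fun i => algebraMap k R (α i) + y i) p - algebraMap k R (eval α p) -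
          ∑ i, algebraMap k R (eval α (pderiv i p)) * y i) +
        (aeval (fun i => algebraMap k R (α i) + y i) q - algebraMap k R (eval α q) -
          ∑ i, algebraMap k R (eval α (pderiv i q)) * y i) := by
      simp only [map_add, add_mul, Finset.sum_add_distrib]
      ring
    rw [this]
    exact add_mem hp hq
  | mul_X p n hp =>
    set T := aeval (fun i => algebraMap k R (α i) + y i) p - algebraMap k R (eval α p) -
        ∑ i, algebraMap k R (eval α (pderiv i p)) * y i with hT
    set S := ∑ i, algebraMap k R (eval α (pderiv i p)) * y i with hS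
    have hSI : S ∈ I := Ideal.sum_mem _ fun i _ => Ideal.mul_mem_left _ _ (hy i)
    have hsum : ∑ i, algebraMap k R (eval α (pderiv i (p * X n))) * y i =
        S * algebraMap k R (α n) + algebraMap k R (eval α p) * y n := by
      have h1 : ∀ i, algebraMap k R (eval α (pderiv i (p * X n))) * y i =
          algebraMap k R (eval α (pderiv i p)) * y i * algebraMap k R (α n) +
          (if i = n then algebraMap k R (eval α p) * y n else 0) := by
        intro i
        rw [pderiv_mul, pderiv_X]
        by_cases hin : i = n
        · subst hin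
          simp only [Pi.single_eq_same, mul_one, map_add, map_mul, eval_X, if_true]
          ring
        · rw [Pi.single_eq_of_ne (Ne.symm hin), if_neg hin]
          simp only [mul_zero, add_zero, map_mul, eval_X]
          ring
      rw [Finset.sum_congr rfl fun i _ => h1 i, Finset.sum_add_distrib, ← Finset.sum_mul,
        Finset.sum_ite_eq' Finset.univ n, if_pos (Finset.mem_univ n)]
    have key : aeval (fun i => algebraMap k R (α i) + y i) (p * X n) -
        algebraMap k R (eval α (p * X n)) -
        ∑ i, algebraMap k R (eval α (pderiv i (p * X n))) * y i =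
        S * y n + T * (algebraMap k R (α n) + y n) := by
      rw [hsum, hT]
      simp only [map_mul, aeval_X, eval_X]
      ring
    rw [key, pow_two]
    exact add_mem (Ideal.mul_mem_mul hSI (hy n)) (Ideal.mul_mem_right _ _ (by rwa [pow_two] at hp))

/-- Elements of the square of the maximal ideal have order at least two. -/
theorem val_le_of_mem_maximalIdeal_sq (P : Place k K) {z : P.O}
    (hz : z ∈ IsLocalRing.maximalIdeal P.O ^ 2) : P.1 (z : K) ≤ exp (-2 : ℤ) := by
  rw [pow_two] at hz
  refine Submodule.mul_induction_on hz (fun a ha b hb => ?_) (fun a b ha hb => ?_)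
  · have ha' : P.1 (a : K) < 1 := (res_eq_zero_iff P a).1
      ((IsLocalRing.residue_eq_zero_iff a).2 ha)
    have hb' : P.1 (b : K) < 1 := (res_eq_zero_iff P b).1
      ((IsLocalRing.residue_eq_zero_iff b).2 hb)
    rw [val_lt_one_iff_le_exp_neg_one] at ha' hb'
    have : ((a * b : P.O) : K) = (a : K) * (b : K) := rfl
    rw [this, map_mul]
    calc P.1 (a : K) * P.1 (b : K) ≤ exp (-1 : ℤ) * exp (-1 : ℤ) := mul_le_mul' ha' hb'
      _ = exp (-2 : ℤ) := by rw [← exp_add]; rfl
  · have : ((a + b : P.O) : K) = (a : K) + (b : K) := rfl
    rw [this]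
    exact (P.1.map_add _ _).trans (max_le ha hb)


section
variable [IsAlgClosed k]

/-- The line with coefficients the partial derivatives at the image point of `P` is tangent at
`P`: its pullback vanishes to order at least two. -/
theorem tangent_line (hK : IsFunctionField k K) {σ : Type*} [Fintype σ] (φ : σ → K)
    (f : MvPolynomial σ k) (hhom : f.IsHomogeneous f.totalDegree)
    (hfφ : aeval φ f = 0) (P : Place k K) (j : σ) (a : σ → P.O)
    (ha : ∀ i, ((a i : P.O) : K) = φ i / φ j) (c : σ → k)
    (hc : ∀ i, algebraMap k (IsLocalRing.ResidueField P.O) (c i) =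
      aeval (fun l => IsLocalRing.residue P.O (a l)) (pderiv i f)) :
    P.1 (∑ i, c i • (φ i / φ j)) ≤ exp (-2 : ℤ) := by
  classical
  set α : σ → k := fun l => rho hK P (a l) with hα
  set y : σ → P.O := fun l => a l - algebraMap k P.O (α l) with hy
  have hyI : ∀ l, y l ∈ IsLocalRing.maximalIdeal P.O := by
    intro l
    rw [← IsLocalRing.residue_eq_zero_iff, map_sub, sub_eq_zero]
    exact (algebraMap_rho hK P (a l)).symm
  have ha' : (fun i => algebraMap k P.O (α i) + y i) = a := by
    funext l
    simp only [hy]
    ring
  have hT := taylor_one (IsLocalRing.maximalIdeal P.O) α y hyI f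
  rw [ha'] at hT
  -- f(a) = 0
  have hfa : aeval a f = 0 := by
    apply Subtype.val_injective
    have h1 : ((aeval a f : P.O) : K) = aeval (fun l => ((a l : P.O) : K)) f := by
      rw [aeval_def, aeval_def]
      exact eval₂_comp_left P.O.subtype (algebraMap k P.O) a f
    rw [h1]
    have h2 : (fun l => ((a l : P.O) : K)) = fun l => (φ j)⁻¹ * φ l := by
      funext l
      rw [ha l, div_eq_inv_mul]
    rw [h2, aeval_mul_of_isHomogeneous hhom, hfφ, mul_zero]
    rfl
  -- f(α) = 0
  have hrho : ∀ q : MvPolynomial σ k, rho hK P (aeval a q) = eval α q := by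
    intro q
    rw [aeval_def, eval₂_comp_left (rho hK P) (algebraMap k P.O) a q]
    have : (rho hK P).comp (algebraMap k P.O) = RingHom.id k := by
      ext x
      exact rho_algebraMap hK P x
    rw [this]
    rfl
  have hfα : eval α f = 0 := by
    rw [← hrho, hfa, map_zero]
  -- the coefficients
  have hcα : ∀ i, c i = eval α (pderiv i f) := by
    intro i
    apply (algebraMap k (IsLocalRing.ResidueField P.O)).injective
    rw [hc i]
    have h1 : (fun l => IsLocalRing.residue P.O (a l)) =
        (algebraMap k (IsLocalRing.ResidueField P.O)) ∘ α := by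
      funext l
      exact (algebraMap_rho hK P (a l)).symm
    rw [h1, aeval_def]
    have h2 := eval₂_comp_left (algebraMap k (IsLocalRing.ResidueField P.O)) (RingHom.id k) α
      (pderiv i f)
    rw [RingHom.comp_id] at h2
    rw [← h2]
    rfl
  -- Euler
  have heuler : ∑ i, α i * c i = 0 := by
    have h := congrArg (eval α) hhom.sum_X_mul_pderiv
    rw [map_sum, map_nsmul, hfα, smul_zero] at h
    rw [← h]
    refine Finset.sum_congr rfl fun i _ => ?_
    rw [map_mul, eval_X, hcα i]
  rw [hfa, hfα, map_zero, sub_zero, zero_sub] at hT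
  have hT' := val_le_of_mem_maximalIdeal_sq P (neg_mem hT)
  rw [neg_neg] at hT'
  have hfinal : ∑ i, c i • (φ i / φ j) =
      ((∑ i, algebraMap k P.O (eval α (pderiv i f)) * y i : P.O) : K) := by
    have h1 : ∀ i, c i • (φ i / φ j) =
        algebraMap k K (α i * c i) + ((algebraMap k P.O (c i) * y i : P.O) : K) := by
      intro i
      rw [← ha i, Algebra.smul_def]
      have : ((a i : P.O) : K) = algebraMap k K (α i) + ((y i : P.O) : K) := by
        simp only [hy]
        rw [AddSubgroupClass.coe_sub]
        rw [coe_algebraMap_O]
        ring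
      rw [this, map_mul]
      have h3 : ((algebraMap k P.O (c i) * y i : P.O) : K) = algebraMap k K (c i) * ((y i : P.O) : K) :=
        rfl
      rw [h3]
      ring
    rw [Finset.sum_congr rfl fun i _ => h1 i, Finset.sum_add_distrib, ← map_sum, heuler, map_zero,
      zero_add]
    have h4 : ((∑ i, algebraMap k P.O (eval α (pderiv i f)) * y i : P.O) : K) =
        ∑ i, ((algebraMap k P.O (eval α (pderiv i f)) * y i : P.O) : K) := by
      exact map_sum P.O.subtype _ _
    rw [h4]
    refine Finset.sum_congr rfl fun i _ => ?_
    rw [hcα i]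
  rw [hfinal]
  exact hT'

end

end Groth.Agent.H57
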