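import Groth.Agent.H57.PlaneRel
import Groth.Agent.H57.Tangent

/-!
# The ideal of a plane model is principal
-/

set_option autoImplicit false

namespace Groth.Agent.H57.Plane

open FunFld Groth.Agent.FF Groth.Agent.FF.Ext WithZero MvPolynomial Groth.Agent.H57 IntermediateField

universe u v
variable {k : Type u} {K : Type v} [Field k] [Field K] [Algebra k K]

section Dvd

/-- Evaluating `toPP c p` at `(x₁, y)` is evaluating `p` at `(x₁ + c y, y)`. -/
theorem aeval_map_toPP (c : k) (x₁ y : K) (p : MvPolynomial (Fin 2) k) :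
    Polynomial.aeval y ((toPP c p).map (evalGen x₁)) =
      aeval ![x₁ + algebraMap k K c * y, y] p := by
  have h : ((Polynomial.aeval y : Polynomial k⟮x₁⟯ →ₐ[k⟮x₁⟯] K).restrictScalars k).comp
      ((Polynomial.mapAlgHom (Polynomial.aeval (AdjoinSimple.gen k x₁) :
        Polynomial k →ₐ[k] k⟮x₁⟯)).comp (toPP c)) =
      (aeval ![x₁ + algebraMap k K c * y, y] : MvPolynomial (Fin 2) k →ₐ[k] K) := by
    apply MvPolynomial.algHom_ext
    intro i
    fin_cases i
    · simp [toPP, Polynomial.aeval_C]
    · simp [toPP]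
  exact AlgHom.congr_fun h p

/-- A coordinate change making the first coordinate transcendental. -/
theorem exists_transcendental_shear (hK : IsFunctionField k K) (x y : K)
    (hxy : adjoin k ({x, y} : Set K) = ⊤) :
    ∃ c : k, Transcendental k (x - algebraMap k K c * y) := by
  by_cases hx : Transcendental k x
  · exact ⟨0, by rwa [map_zero, zero_mul, sub_zero]⟩
  · rw [Transcendental, not_not] at hx
    obtain ⟨a, ha⟩ := hK.2 x hx
    refine ⟨1, ?_⟩
    rw [map_one, one_mul]
    intro halg
    have hy : IsAlgebraic k y := by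
      have : y = x - (x - y) := by ring
      rw [this]
      exact hx.sub halg
    obtain ⟨b, hb⟩ := hK.2 y hy
    obtain ⟨x₀, hx₀, -⟩ := hK.1
    have hmem : x₀ ∈ adjoin k ({x, y} : Set K) := by rw [hxy]; trivial
    have hle : adjoin k ({x, y} : Set K) ≤ ⊥ := by
      rw [adjoin_le_iff]
      intro z hz
      rw [SetLike.mem_coe, IntermediateField.mem_bot]
      rcases hz with rfl | hz
      · exact ⟨a, ha⟩
      · rw [Set.mem_singleton_iff] at hz
        rw [hz]
        exact ⟨b, hb⟩
    have := hle hmem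
    rw [IntermediateField.mem_bot] at this
    obtain ⟨c, hc⟩ := this
    exact hx₀ (hc ▸ isAlgebraic_algebraMap c)

/-- **The relations of a plane model are the multiples of the irreducible one.** -/
theorem dvd_of_aeval_eq_zero (hK : IsFunctionField k K) (x y : K)
    (hxy : adjoin k ({x, y} : Set K) = ⊤) (g : MvPolynomial (Fin 2) k) (hg : Irreducible g)
    (hgxy : aeval ![x, y] g = 0) (G : MvPolynomial (Fin 2) k) (hG : aeval ![x, y] G = 0) :
    g ∣ G := by
  classical
  obtain ⟨c, hc⟩ := exists_transcendental_shear hK x y hxy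
  set x₁ := x - algebraMap k K c * y with hx₁
  have hxeq : x₁ + algebraMap k K c * y = x := by rw [hx₁]; ring
  have hev : ∀ p : MvPolynomial (Fin 2) k,
      Polynomial.aeval y ((toPP c p).map (evalGen x₁)) = aeval ![x, y] p := by
    intro p
    rw [aeval_map_toPP, hxeq]
  by_cases hG0 : G = 0
  · rw [hG0]; exact dvd_zero g
  set g' := toPP c g with hg'
  set G' := toPP c G with hG'
  have hg'irr : Irreducible g' := irreducible_toPP c hg
  have hG'0 : G' ≠ 0 := by
    rw [hG', Ne, ← (equivPP c).map_eq_zero_iff] at *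
    exact hG0
  have hdeg : g'.natDegree ≠ 0 := by
    intro h0
    obtain ⟨g₀, hg₀⟩ : ∃ g₀ : Polynomial k, g' = Polynomial.C g₀ :=
      ⟨g'.coeff 0, Polynomial.eq_C_of_natDegree_eq_zero h0⟩
    have h1 := hev g
    rw [← hg', hg₀, Polynomial.map_C, Polynomial.aeval_C, hgxy] at h1
    have h2 : evalGen x₁ g₀ = 0 := by
      have hinj := (algebraMap k⟮x₁⟯ K).injective
      exact hinj (by rw [h1, map_zero])
    have h3 : g₀ = 0 := evalGen_injective hc (by rw [h2, map_zero])
    rw [h3, Polynomial.C_0] at hg₀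
    exact hg'irr.ne_zero hg₀
  have hirr := irreducible_map_evalGen hc hg'irr hdeg
  have hroot : Polynomial.aeval y (g'.map (evalGen x₁)) = 0 := by rw [hev, hgxy]
  have hrootG : Polynomial.aeval y (G'.map (evalGen x₁)) = 0 := by rw [hev, hG]
  have hmin := minpoly.eq_of_irreducible hirr hroot
  have hdvd1 : g'.map (evalGen x₁) ∣ G'.map (evalGen x₁) := by
    have h1 : minpoly k⟮x₁⟯ y ∣ G'.map (evalGen x₁) := minpoly.dvd _ _ hrootG
    rw [← hmin] at h1
    exact (dvd_mul_right _ _).trans h1
  -- transfer to `RatFunc k`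
  set e := RatFunc.algEquivOfTranscendental x₁ hc with he
  have htr : ∀ p : Polynomial (Polynomial k),
      Polynomial.mapEquiv e.toRingEquiv (p.map (algebraMap (Polynomial k) (RatFunc k))) =
        p.map (evalGen x₁) := by
    intro p
    rw [Polynomial.mapEquiv_apply, Polynomial.map_map]
    congr 1
    apply RingHom.ext
    intro q
    change e (algebraMap (Polynomial k) (RatFunc k) q) = _
    rw [he, RatFunc.algEquivOfTranscendental_algebraMap]
    rfl
  have hdvd2 : g'.map (algebraMap (Polynomial k) (RatFunc k)) ∣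
      G'.map (algebraMap (Polynomial k) (RatFunc k)) := by
    rw [← htr, ← htr] at hdvd1
    exact (map_dvd_iff (Polynomial.mapEquiv e.toRingEquiv)).1 hdvd1
  have hprim := hg'irr.isPrimitive hdeg
  have hdvd5 : g' ∣ G' := hprim.dvd_of_fraction_map_dvd_fraction_map hdvd2
  have := (map_dvd_iff (equivPP c)).1 (show equivPP c g ∣ equivPP c G from hdvd5)
  exact this

end Dvd

section Dehom

/-- Dehomogenization with respect to the first variable. -/
noncomputable def dehom : MvPolynomial (Fin 3) k →ₐ[k] MvPolynomial (Fin 2) k :=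
  aeval ![(1 : MvPolynomial (Fin 2) k), X 0, X 1]

theorem dehom_homog_eq (f : MvPolynomial (Fin 2) k) : dehom (homog f) = f := dehom_homog f

theorem dehom_X_zero : dehom (X 0 : MvPolynomial (Fin 3) k) = 1 := by
  unfold dehom
  rw [aeval_X]
  rfl

theorem aeval_dehom {B : Type*} [CommRing B] [Algebra k B] (b c : B)
    (H : MvPolynomial (Fin 3) k) : aeval ![b, c] (dehom H) = aeval ![1, b, c] H := by
  unfold dehom
  have h2 := AlgHom.congr_fun (comp_aeval (R := k)
    ![(1 : MvPolynomial (Fin 2) k), X 0, X 1] (aeval ![b, c] : MvPolynomial (Fin 2) k →ₐ[k] B)) H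
  rw [AlgHom.comp_apply] at h2
  rw [h2]
  congr 2
  funext i
  fin_cases i <;> simp

/-- A homogeneous polynomial is determined by its dehomogenization. -/
theorem eq_zero_of_dehom_eq_zero {H : MvPolynomial (Fin 3) k} {d : ℕ} (hH : H.IsHomogeneous d)
    (h0 : dehom H = 0) : H = 0 := by
  set L := FractionRing (MvPolynomial (Fin 3) k) with hL
  set u : Fin 3 → L := fun i => algebraMap (MvPolynomial (Fin 3) k) L (X i) with hu
  have hinj := IsFractionRing.injective (MvPolynomial (Fin 3) k) L
  have hu0 : u 0 ≠ 0 := (map_ne_zero_iff _ hinj).2 (X_ne_zero 0)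
  have h1 := aeval_normalize H hH u hu0
  rw [← aeval_dehom, h0, map_zero] at h1
  have h3 : aeval u H = algebraMap (MvPolynomial (Fin 3) k) L H := by
    have := aeval_algebraMap_apply (R := k) (A := MvPolynomial (Fin 3) k) L
      (X : Fin 3 → MvPolynomial (Fin 3) k) H
    rw [aeval_X_left, AlgHom.id_apply] at this
    exact this
  rw [h3] at h1
  have h4 : algebraMap (MvPolynomial (Fin 3) k) L H = 0 := by
    rcases mul_eq_zero.1 h1.symm with h | h
    · exact absurd h (pow_ne_zero _ (inv_ne_zero hu0))
    · exact h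
  exact (map_eq_zero_iff _ hinj).1 h4

theorem eq_of_dehom_eq {H H' : MvPolynomial (Fin 3) k} {d : ℕ} (hH : H.IsHomogeneous d)
    (hH' : H'.IsHomogeneous d) (h : dehom H = dehom H') : H = H' := by
  rw [← sub_eq_zero]
  apply eq_zero_of_dehom_eq_zero (hH.sub hH')
  rw [map_sub, h, sub_self]

end Dehom

section Kernel

/-- The map `Xᵢ ↦ φᵢ T` on a homogeneous polynomial. -/
theorem aeval_mulT (φ : Fin 3 → K) {H : MvPolynomial (Fin 3) k} {d : ℕ} (hH : H.IsHomogeneous d) :
    MvPolynomial.aeval (fun i => Polynomial.C (φ i) * Polynomial.X) H =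
      Polynomial.X ^ d * Polynomial.C (MvPolynomial.aeval φ H) := by
  have h1 : (fun i => Polynomial.C (φ i) * (Polynomial.X : Polynomial K)) =
      fun i => Polynomial.X * (Polynomial.C ∘ φ) i := by
    funext i
    rw [mul_comm]; rfl
  rw [h1, aeval_mul_of_isHomogeneous hH]
  congr 1
  exact aeval_algebraMap_apply (R := k) (A := K) (Polynomial K) φ H

/-- Elements of the kernel have all their homogeneous components in the kernel. -/
theorem aeval_component_eq_zero (φ : Fin 3 → K) (G : MvPolynomial (Fin 3) k)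
    (hG : aeval (fun i => Polynomial.C (φ i) * Polynomial.X) G = 0) (d : ℕ) :
    aeval φ (homogeneousComponent d G) = 0 := by
  classical
  by_cases hd : G.totalDegree < d
  · rw [homogeneousComponent_eq_zero _ _ hd, map_zero]
  rw [not_lt] at hd
  have hsum : aeval (fun i => Polynomial.C (φ i) * Polynomial.X) G =
      ∑ j ∈ Finset.range (G.totalDegree + 1),
        Polynomial.X ^ j * Polynomial.C (aeval φ (homogeneousComponent j G)) := by
    conv_lhs => rw [← sum_homogeneousComponent G, map_sum]
    exact Finset.sum_congr rfl fun j _ =>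
      aeval_mulT φ (homogeneousComponent_isHomogeneous j G)
  rw [hsum] at hG
  have hcoeff := congrArg (fun p : Polynomial K => p.coeff d) hG
  simp only [Polynomial.finsetSum_coeff, Polynomial.coeff_X_pow_mul', Polynomial.coeff_C,
    Polynomial.coeff_zero] at hcoeff
  rw [Finset.sum_eq_single d] at hcoeff
  · simpa using hcoeff
  · intro j _ hne
    by_cases hjd : j ≤ d
    · rw [if_pos hjd, if_neg (by omega)]
    · rw [if_neg hjd]
  · intro h
    exact absurd (Finset.mem_range.2 (by omega)) h

variable [IsAlgClosed k]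

/-- **The ideal of a plane model is principal with an irreducible homogeneous generator.** -/
theorem ker_eq_span (hK : IsFunctionField k K) (x y : K)
    (hxy : adjoin k ({x, y} : Set K) = ⊤) :
    ∃ p : MvPolynomial (Fin 3) k, Irreducible p ∧ p.IsHomogeneous p.totalDegree ∧
      RingHom.ker (aeval fun i => Polynomial.C (![(1 : K), x, y] i) * Polynomial.X :
        MvPolynomial (Fin 3) k →ₐ[k] Polynomial K) = Ideal.span {p} := by
  classical
  set φ : Fin 3 → K := ![(1 : K), x, y] with hφ
  set Ψ : MvPolynomial (Fin 3) k →ₐ[k] Polynomial K :=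
    aeval fun i => Polynomial.C (φ i) * Polynomial.X with hΨ
  obtain ⟨g, hg, hgxy⟩ := exists_irreducible_relation hK x y
  set F₀ := homog g with hF₀
  have hF₀hom : F₀.IsHomogeneous g.totalDegree := homog_isHomogeneous g
  have hF₀0 : F₀ ≠ 0 := by
    intro h0
    have := dehom_homog_eq g
    rw [← hF₀, h0, map_zero] at this
    exact hg.ne_zero this.symm
  have hF₀φ : aeval φ F₀ = 0 := by
    rw [hφ, hF₀, aeval_homog_one, hgxy]
  have hΨhom : ∀ {H : MvPolynomial (Fin 3) k} {d : ℕ}, H.IsHomogeneous d → aeval φ H = 0 →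
      Ψ H = 0 := by
    intro H d hH h0
    rw [hΨ, aeval_mulT φ hH, h0, map_zero, mul_zero]
  have hΨF₀ : Ψ F₀ = 0 := hΨhom hF₀hom hF₀φ
  -- an irreducible factor of `F₀` in the kernel
  obtain ⟨p, hp, hpF₀, hΨp⟩ : ∃ p : MvPolynomial (Fin 3) k, Prime p ∧ p ∣ F₀ ∧ Ψ p = 0 := by
    obtain ⟨fs, hprime, hassoc⟩ := UniqueFactorizationMonoid.exists_prime_factors F₀ hF₀0
    obtain ⟨w, hw⟩ := hassoc
    have h1 := hΨF₀
    rw [← hw, map_mul] at h1
    have hunit : Ψ (w : MvPolynomial (Fin 3) k) ≠ 0 := (w.isUnit.map Ψ).ne_zero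
    have hprod : Ψ fs.prod = 0 := (mul_eq_zero.1 h1).resolve_right hunit
    rw [map_multiset_prod, Multiset.prod_eq_zero_iff] at hprod
    obtain ⟨b, hb, hb0⟩ := Multiset.mem_map.1 hprod
    refine ⟨b, hprime b hb, ?_, hb0⟩
    rw [← hw]
    exact (Multiset.dvd_prod hb).mul_right _
  have hΨX0 : Ψ (X 0) ≠ 0 := by
    rw [hΨ, aeval_X]
    change Polynomial.C (1 : K) * Polynomial.X ≠ 0
    rw [map_one, one_mul]
    exact Polynomial.X_ne_zero
  have hpX0 : ¬ p ∣ X 0 := by
    rintro ⟨r, hr⟩
    apply hΨX0
    rw [hr, map_mul, hΨp, zero_mul]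
  -- homogeneous relations are multiples of `p`
  have hdvd : ∀ {H : MvPolynomial (Fin 3) k} {d : ℕ}, H.IsHomogeneous d → aeval φ H = 0 →
      p ∣ H := by
    intro H d hH h0
    have h1 : aeval ![x, y] (dehom H) = 0 := by
      rw [aeval_dehom]
      exact h0
    obtain ⟨q, hq⟩ := dvd_of_aeval_eq_zero hK x y hxy g hg hgxy (dehom H) h1
    set Q := homog q with hQ
    have hQhom : Q.IsHomogeneous q.totalDegree := homog_isHomogeneous q
    set a := g.totalDegree + q.totalDegree with ha
    have hE₁ : (X 0 ^ a * H : MvPolynomial (Fin 3) k).IsHomogeneous (a + d) :=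
      (isHomogeneous_X_pow 0 a).mul hH
    have hE₂ : (X 0 ^ d * (F₀ * Q) : MvPolynomial (Fin 3) k).IsHomogeneous (a + d) := by
      have := (isHomogeneous_X_pow (R := k) (0 : Fin 3) d).mul (hF₀hom.mul hQhom)
      rwa [add_comm d] at this
    have heq : X 0 ^ a * H = X 0 ^ d * (F₀ * Q) := by
      apply eq_of_dehom_eq hE₁ hE₂
      rw [map_mul, map_mul, map_mul, map_pow, map_pow, dehom_X_zero, one_pow, one_pow, one_mul,
        one_mul, hF₀, hQ, dehom_homog_eq, dehom_homog_eq, hq]
    have h2 : p ∣ X 0 ^ a * H := by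
      rw [heq]
      exact (hpF₀.mul_right Q).mul_left _
    rcases hp.dvd_or_dvd h2 with h3 | h3
    · exact absurd (hp.dvd_of_dvd_pow h3) hpX0
    · exact h3
  have hcomp : ∀ G : MvPolynomial (Fin 3) k, Ψ G = 0 → ∀ d, p ∣ homogeneousComponent d G := by
    intro G hG d
    exact hdvd (homogeneousComponent_isHomogeneous d G) (aeval_component_eq_zero φ G hG d)
  refine ⟨p, hp.irreducible, ?_, ?_⟩
  · -- `p` is homogeneous
    set N := p.totalDegree with hN
    have hlow : ∀ d, d < N → homogeneousComponent d p = 0 := by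
      intro d hd
      by_contra hne
      obtain ⟨r, hr⟩ := hcomp p hΨp d
      have hr0 : r ≠ 0 := by
        rintro rfl
        rw [mul_zero] at hr
        exact hne hr
      have h1 := (homogeneousComponent_isHomogeneous d p).totalDegree hne
      rw [hr, totalDegree_mul_of_isDomain hp.ne_zero hr0] at h1
      omega
    have hsum := sum_homogeneousComponent p
    rw [Finset.sum_range_succ, Finset.sum_eq_zero (fun d hd => hlow d (Finset.mem_range.1 hd)),
      zero_add] at hsum
    have := homogeneousComponent_isHomogeneous N p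
    rw [hsum] at this
    exact this
  · ext G
    rw [RingHom.mem_ker, Ideal.mem_span_singleton]
    constructor
    · intro hG
      rw [← sum_homogeneousComponent G]
      exact Finset.dvd_sum fun d _ => hcomp G hG d
    · rintro ⟨r, rfl⟩
      change Ψ (p * r) = 0
      rw [map_mul, hΨp, zero_mul]

end Kernel

end Groth.Agent.H57.Plane
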