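import Groth.Agent.H57.IntMultLoc
import Groth.Agent.H57.PlaneKer

/-!
# The quotient of the local ring of the plane by `(f, g)` as a quotient of subspaces of `K`
-/

set_option autoImplicit false

namespace Groth.Agent.H57.IntMult

open FunFld Groth.Agent.FF WithZero IntermediateField Groth.Agent.H57 MvPolynomial

universe u v
variable {k : Type u} {K : Type v} [Field k] [Field K] [Algebra k K]

section

variable (c : Fin 2 → k) (M : Ideal (MvPolynomial (Fin 2) k)) [M.IsMaximal]
  (hM : M = Ideal.span {X 0 - C (c 0), X 1 - C (c 1)})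

include hM in
theorem mem_M_iff (q : MvPolynomial (Fin 2) k) : q ∈ M ↔ eval c q = 0 := by
  have hle : M ≤ RingHom.ker (eval c) := by
    rw [hM, Ideal.span_le]
    rintro _ (rfl | rfl)
    · rw [SetLike.mem_coe, RingHom.mem_ker, map_sub, eval_X, eval_C, sub_self]
    · rw [SetLike.mem_coe, RingHom.mem_ker, map_sub, eval_X, eval_C, sub_self]
  have hne : RingHom.ker (eval c) ≠ ⊤ := RingHom.ker_ne_top _
  have heq : M = RingHom.ker (eval c) := Ideal.IsMaximal.eq_of_le ‹M.IsMaximal› hne hle
  rw [heq, RingHom.mem_ker]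

end

section Main

variable [IsAlgClosed k] (hK : IsFunctionField k K) (x y : K)
  (hxy : IntermediateField.adjoin k ({x, y} : Set K) = ⊤)
  (f g : MvPolynomial (Fin 2) k) (hf : Irreducible f) (hfxy : aeval ![x, y] f = 0)
  (hgxy : aeval ![x, y] g ≠ 0) (P : Place k K) (c : Fin 2 → k)
  (hc : ∀ i, P.1 (![x, y] i - algebraMap k K (c i)) < 1)
  (M : Ideal (MvPolynomial (Fin 2) k)) [M.IsMaximal]
  (hM : M = Ideal.span {X 0 - C (c 0), X 1 - C (c 1)})

include hc hM in
theorem isUnit_aeval_of_notMem (s : M.primeCompl) :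
    IsUnit (aeval ![x, y] (s : MvPolynomial (Fin 2) k) : K) := by
  have hs : eval c (s : MvPolynomial (Fin 2) k) ≠ 0 := fun h0 => s.2 ((mem_M_iff c M hM _).2 h0)
  have hP : P ∈ Sset x y c := hc
  have h1 := val_aeval_eq_one x y c hP hs
  refine IsUnit.mk0 _ fun h0 => ?_
  rw [h0, map_zero] at h1
  exact zero_ne_one h1

/-- The evaluation map on the local ring of the plane at `c`. -/
noncomputable def evLoc : Localization.AtPrime M →ₐ[k] K :=
  IsLocalization.liftAlgHom (M := M.primeCompl) (f := (aeval ![x, y] :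
    MvPolynomial (Fin 2) k →ₐ[k] K)) (isUnit_aeval_of_notMem x y P c hc M hM)

theorem evLoc_mk' (p : MvPolynomial (Fin 2) k) (s : M.primeCompl) :
    evLoc x y P c hc M hM (IsLocalization.mk' (Localization.AtPrime M) p s) *
      aeval ![x, y] (s : MvPolynomial (Fin 2) k) = aeval ![x, y] p := by
  have h := (IsLocalization.lift_mk'_spec (S := Localization.AtPrime M)
    (hg := isUnit_aeval_of_notMem x y P c hc M hM) p
    (evLoc x y P c hc M hM (IsLocalization.mk' (Localization.AtPrime M) p s)) s).1 rfl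
  rw [mul_comm]
  exact h.symm

theorem evLoc_algebraMap (p : MvPolynomial (Fin 2) k) :
    evLoc x y P c hc M hM (algebraMap _ (Localization.AtPrime M) p) = aeval ![x, y] p :=
  IsLocalization.lift_eq _ p

theorem evLoc_mem_Osub (t : Localization.AtPrime M) :
    evLoc x y P c hc M hM t ∈ Osub x y c := by
  obtain ⟨p, s, rfl⟩ := IsLocalization.exists_mk'_eq M.primeCompl t
  refine ⟨p, s, fun h0 => s.2 ((mem_M_iff c M hM _).2 h0), ?_⟩
  exact evLoc_mk' x y P c hc M hM p s

theorem exists_evLoc_eq {z : K} (hz : z ∈ Osub x y c) :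
    ∃ t : Localization.AtPrime M, evLoc x y P c hc M hM t = z := by
  obtain ⟨p, q, hq, e⟩ := hz
  have hqM : q ∈ M.primeCompl := fun h => hq ((mem_M_iff c M hM q).1 h)
  refine ⟨IsLocalization.mk' (Localization.AtPrime M) p ⟨q, hqM⟩, ?_⟩
  have h1 := evLoc_mk' x y P c hc M hM p ⟨q, hqM⟩
  have hu := isUnit_aeval_of_notMem x y P c hc M hM ⟨q, hqM⟩
  have h2 : (aeval ![x, y] q : K) ≠ 0 := hu.ne_zero
  change _ * aeval ![x, y] q = _ at h1
  rw [← e] at h1
  exact mul_right_cancel₀ h2 h1

include hK hxy hf hfxy in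
theorem evLoc_eq_zero_iff (t : Localization.AtPrime M) :
    evLoc x y P c hc M hM t = 0 ↔
      t ∈ Ideal.span {algebraMap _ (Localization.AtPrime M) f} := by
  obtain ⟨p, s, rfl⟩ := IsLocalization.exists_mk'_eq M.primeCompl t
  have h1 := evLoc_mk' x y P c hc M hM p s
  have hu := isUnit_aeval_of_notMem x y P c hc M hM s
  constructor
  · intro h0
    rw [h0, zero_mul] at h1
    obtain ⟨r, rfl⟩ := Plane.dvd_of_aeval_eq_zero hK x y hxy f hf hfxy p h1.symm
    rw [Ideal.mem_span_singleton]
    refine ⟨IsLocalization.mk' (Localization.AtPrime M) r s, ?_⟩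
    rw [IsLocalization.mul_mk'_eq_mk'_of_mul]
  · intro hmem
    rw [Ideal.mem_span_singleton] at hmem
    obtain ⟨r, hr⟩ := hmem
    rw [hr, map_mul, evLoc_algebraMap, hfxy, zero_mul]

/-- The evaluation map with values in `Osub`. -/
noncomputable def evLocO : Localization.AtPrime M →ₗ[k] Osub x y c :=
  (evLoc x y P c hc M hM).toLinearMap.codRestrict (Osub x y c)
    (evLoc_mem_Osub x y P c hc M hM)

theorem evLocO_coe (t : Localization.AtPrime M) :
    ((evLocO x y P c hc M hM t : Osub x y c) : K) = evLoc x y P c hc M hM t := rfl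

theorem evLocO_surjective : Function.Surjective (evLocO x y P c hc M hM) := by
  intro z
  obtain ⟨t, ht⟩ := exists_evLoc_eq x y P c hc M hM z.2
  exact ⟨t, Subtype.ext ht⟩

include hK hxy hf hfxy in
theorem evLoc_mem_map_iff (t : Localization.AtPrime M) :
    evLoc x y P c hc M hM t ∈ (Osub x y c).map (LinearMap.mulLeft k (aeval ![x, y] g)) ↔
      t ∈ Ideal.map (algebraMap (MvPolynomial (Fin 2) k) (Localization.AtPrime M))
        (Ideal.span {f, g}) := by
  rw [Ideal.map_span, Set.image_pair, Ideal.mem_span_pair, Submodule.mem_map]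
  constructor
  · rintro ⟨z, hz, e⟩
    obtain ⟨t', rfl⟩ := exists_evLoc_eq x y P c hc M hM hz
    rw [LinearMap.mulLeft_apply, ← evLoc_algebraMap x y P c hc M hM g, ← map_mul,
      ← sub_eq_zero, ← map_sub, evLoc_eq_zero_iff hK x y hxy f hf hfxy P c hc M hM,
      Ideal.mem_span_singleton'] at e
    obtain ⟨a, ha⟩ := e
    refine ⟨-a, t', ?_⟩
    linear_combination -ha
  · rintro ⟨a, b, rfl⟩
    refine ⟨evLoc x y P c hc M hM b, evLoc_mem_Osub x y P c hc M hM b, ?_⟩
    rw [LinearMap.mulLeft_apply, map_add, map_mul, map_mul, evLoc_algebraMap, evLoc_algebraMap,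
      hfxy, mul_zero, zero_add, mul_comm]

include hK hxy hf hfxy hc hM in
/-- The length of the local ring of the plane modulo `(f, g)` is the codimension of `g O` in
`O`. -/
theorem length_quot_eq_relLen :
    Module.length k (Localization.AtPrime M ⧸
      Ideal.map (algebraMap (MvPolynomial (Fin 2) k) (Localization.AtPrime M))
        (Ideal.span {f, g})) =
      relLen ((Osub x y c).map (LinearMap.mulLeft k (aeval ![x, y] g))) (Osub x y c) := by
  set A := (Osub x y c).map (LinearMap.mulLeft k (aeval ![x, y] g)) with hA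
  set I := Ideal.map (algebraMap (MvPolynomial (Fin 2) k) (Localization.AtPrime M))
    (Ideal.span {f, g}) with hI
  let ψ : Localization.AtPrime M →ₗ[k] (Osub x y c ⧸ A.submoduleOf (Osub x y c)) :=
    (A.submoduleOf (Osub x y c)).mkQ.comp (evLocO x y P c hc M hM)
  have hsurj : Function.Surjective ψ :=
    (Submodule.mkQ_surjective _).comp (evLocO_surjective x y P c hc M hM)
  have hker : LinearMap.ker ψ = I.restrictScalars k := by
    ext t
    rw [LinearMap.mem_ker, Submodule.restrictScalars_mem, hI,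
      ← evLoc_mem_map_iff hK x y hxy f g hf hfxy P c hc M hM]
    simp only [ψ, LinearMap.comp_apply, Submodule.mkQ_apply, Submodule.Quotient.mk_eq_zero]
    rfl
  unfold relLen
  exact ((Submodule.Quotient.restrictScalarsEquiv k I).symm.trans
    ((Submodule.quotEquivOfEq _ _ hker.symm).trans
      (ψ.quotKerEquivOfSurjective hsurj))).length_eq

end Main

end Groth.Agent.H57.IntMult
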