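import Mathlib
import Groth.Prelude.Def_CAlg
import Groth.Agent.Lib.Helper29.DepthRees

/-!
# Depth of a direct summand (helper57)
-/

set_option autoImplicit false
universe u v
open RingTheory.Sequence IsLocalRing

namespace Groth.Agent.H57.InvDepthA

section Retract

variable {R : Type u} [CommRing R]

/-- a weakly regular sequence on `M` is weakly regular on every retract of `M`. -/
theorem isWeaklyRegular_of_retract (rs : List R) :
    ∀ {M N : Type v} [AddCommGroup M] [AddCommGroup N] [Module R M] [Module R N]
      (i : N →ₗ[R] M) (p : M →ₗ[R] N) (_ : p ∘ₗ i = LinearMap.id),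
      IsWeaklyRegular M rs → IsWeaklyRegular N rs := by
  induction rs with
  | nil => intro M N _ _ _ _ i p _ _; exact IsWeaklyRegular.nil R N
  | cons r rs ih =>
    intro M N _ _ _ _ i p hpi h
    rw [isWeaklyRegular_cons_iff] at h ⊢
    refine ⟨?_, ?_⟩
    · have hinj : Function.Injective i := by
        intro x y hxy
        have := congrArg p hxy
        simpa [← LinearMap.comp_apply, hpi] using this
      intro x y hxy
      apply hinj
      apply h.1
      simpa using congrArg i hxy
    · refine ih (QuotSMulTop.map r i) (QuotSMulTop.map r p) ?_ h.2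
      rw [← QuotSMulTop.map_comp, hpi, QuotSMulTop.map_id]

end Retract

section Local

variable (A : Type u) [CommRing A] [IsLocalRing A]

open Groth.Agent.Lib.Helper29 in
/-- the depth of a retract is at least the depth of the module (finite nonzero modules over a
local ring). -/
theorem depth_le_depth_of_retract {M N : Type v} [AddCommGroup M] [AddCommGroup N] [Module A M]
    [Module A N] [Module.Finite A M] [Module.Finite A N] [Nontrivial M] [Nontrivial N]
    (i : N →ₗ[A] M) (p : M →ₗ[A] N) (hpi : p ∘ₗ i = LinearMap.id) :
    LocCoh.depth A M ≤ LocCoh.depth A N := by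
  refine ENat.forall_natCast_le_iff_le.mp fun n hn => ?_
  obtain ⟨rs, h1, h2, h3⟩ := (le_depth_iff A M n).mp hn
  rw [← h1]
  exact length_le_idealDepth _ N rs (isWeaklyRegular_of_retract rs i p hpi h3.toIsWeaklyRegular) h2

end Local

end Groth.Agent.H57.InvDepthA
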