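import Mathlib
import Groth.Prelude.Def_GLin
import Groth.Agent.Lib.Helper86.HopfInv2

/-!
# Going down for rings of invariants of finite group schemes (helper57)
-/

set_option autoImplicit false
universe u v w
open Polynomial TensorProduct

namespace Groth.Agent.H57.InvDepthB

section Matrix

variable {n : Type*} [Fintype n] [DecidableEq n] {S : Type*} [CommRing S]

/-- `charpoly (a • M) (a T) = a ^ n * charpoly M (T)`. -/
lemma charpoly_smul_comp (a : S) (M : Matrix n n S) :
    (a • M).charpoly.comp (C a * X) = C (a ^ Fintype.card n) * M.charpoly := by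
  have h1 : (a • M).charpoly.comp (C a * X) =
      (Polynomial.compRingHom (C a * X)) ((a • M).charpoly) := rfl
  rw [h1, Matrix.charpoly, RingHom.map_det]
  have h2 : (Polynomial.compRingHom (C a * X)).mapMatrix (Matrix.charmatrix (a • M)) =
      (C a) • Matrix.charmatrix M := by
    ext i j
    simp only [RingHom.mapMatrix_apply, Matrix.map_apply, Matrix.charmatrix_apply,
      Matrix.smul_apply, map_sub, Polynomial.coe_compRingHom_apply, smul_eq_mul]
    by_cases hij : i = j
    · subst hij
      simp [Matrix.diagonal_apply_eq, mul_sub]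
    · simp [Matrix.diagonal_apply_ne _ hij]
  rw [h2, Matrix.det_smul, Matrix.charpoly, map_pow]

lemma charpoly_smul_coeff (a : S) (M : Matrix n n S) (j : ℕ) :
    (a • M).charpoly.coeff j * a ^ j = a ^ Fintype.card n * M.charpoly.coeff j := by
  have h := congrArg (fun p => p.coeff j) (charpoly_smul_comp a M)
  simp only [Polynomial.comp_C_mul_X_coeff, Polynomial.coeff_C_mul] at h
  exact h

end Matrix

section LinearMap

variable {S : Type*} [CommRing S] {M : Type*} [AddCommGroup M] [Module S M] [Module.Free S M]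
  [Module.Finite S M]

lemma linearMap_charpoly_smul_coeff (a : S) (f : M →ₗ[S] M) (j : ℕ) :
    (a • f).charpoly.coeff j * a ^ j = a ^ Module.finrank S M * f.charpoly.coeff j := by
  rcases subsingleton_or_nontrivial S with hS | hS
  · exact Subsingleton.elim _ _
  rw [LinearMap.charpoly_def, LinearMap.charpoly_def, map_smul, charpoly_smul_coeff,
    Module.finrank_eq_card_chooseBasisIndex]

end LinearMap

section Chi

open Groth.Agent.Lib.Helper86.HopfInv

variable (k : Type u) [Field k] (H : Type v) [CommRing H] [Algebra k H] [Module.Finite k H]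
  (R : Type w) [CommRing R] [Algebra k R]

/-- if `w` dies in `(R ⧸ I) ⊗ H` then the lower coefficients of `chi w` lie in `I`. -/
lemma coeff_chi_mem_of_map_eq_zero (I : Ideal R) (w : R ⊗[k] H)
    (hw : Algebra.TensorProduct.map (Ideal.Quotient.mkₐ k I) (AlgHom.id k H) w = 0) (j : ℕ)
    (hj : j < Module.finrank k H) : (chi k H R w).coeff j ∈ I := by
  rcases subsingleton_or_nontrivial (R ⧸ I) with hS | hS
  · rw [Ideal.Quotient.subsingleton_iff] at hS
    rw [hS]; trivial
  have h := chi_map k H (Ideal.Quotient.mkₐ k I) w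
  rw [hw] at h
  have h0 : chi k H (R ⧸ I) 0 = X ^ Module.finrank k H := by
    rw [chi, LinearMap.mulLeft_zero_eq_zero, LinearMap.charpoly_zero, Module.finrank_baseChange]
  rw [h0] at h
  have h2 := congrArg (fun p => p.coeff j) h
  simp only [Polynomial.coeff_map, Polynomial.coeff_X_pow, if_neg hj.ne] at h2
  exact Ideal.Quotient.eq_zero_iff_mem.mp h2.symm

lemma chi_smul_coeff (x : R) (w : R ⊗[k] H) (j : ℕ) :
    (chi k H R ((x ⊗ₜ[k] (1 : H)) * w)).coeff j * x ^ j =
      x ^ Module.finrank k H * (chi k H R w).coeff j := by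
  have h1 : LinearMap.mulLeft R ((x ⊗ₜ[k] (1 : H)) * w) = x • LinearMap.mulLeft R w := by
    refine LinearMap.ext fun v => ?_
    rw [LinearMap.mulLeft_apply, LinearMap.smul_apply, LinearMap.mulLeft_apply, Algebra.smul_def,
      Algebra.TensorProduct.algebraMap_apply, Algebra.algebraMap_self, RingHom.id_apply, mul_assoc]
  rcases subsingleton_or_nontrivial R with hS | hS
  · exact Subsingleton.elim _ _
  rw [chi, chi, h1, linearMap_charpoly_smul_coeff, Module.finrank_baseChange]

end Chi

section Going

open Groth.Agent.Lib.Helper86.HopfInv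

variable (k : Type u) [Field k] (H : Type v) [CommRing H] [HopfAlgebra k H] [Module.Finite k H]
  (R : Type w) [CommRing R] [Algebra k R]
variable [HopfRep.Comod k H R] [GLin.IsCoactAlg k H R]

local notation "ρ" => GLin.coactAlgHom k H R

lemma map_mk_coact_eq_zero (p : Ideal (GLin.invariants k H R)) (g : R)
    (hg : g ∈ p.map (algebraMap (GLin.invariants k H R) R)) :
    Algebra.TensorProduct.map
      (Ideal.Quotient.mkₐ k (p.map (algebraMap (GLin.invariants k H R) R))) (AlgHom.id k H)
        (ρ g) = 0 := by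
  set I := p.map (algebraMap (GLin.invariants k H R) R) with hI
  let φ : R →+* (R ⧸ I) ⊗[k] H :=
    (Algebra.TensorProduct.map (Ideal.Quotient.mkₐ k I) (AlgHom.id k H)).toRingHom.comp
      (ρ).toRingHom
  have hle : I ≤ RingHom.ker φ := by
    refine Ideal.map_le_iff_le_comap.mpr ?_
    intro a ha
    rw [Ideal.mem_comap, RingHom.mem_ker]
    have h1 : ρ (algebraMap (GLin.invariants k H R) R a) = (a : R) ⊗ₜ[k] (1 : H) := by
      rw [GLin.coactAlgHom_apply]
      exact (GLin.mem_invariants_iff k H R _).mp a.2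
    change Algebra.TensorProduct.map (Ideal.Quotient.mkₐ k I) (AlgHom.id k H)
      (ρ (algebraMap (GLin.invariants k H R) R a)) = 0
    rw [h1, Algebra.TensorProduct.map_tmul]
    have h2 : (Ideal.Quotient.mkₐ k I) (a : R) = 0 := by
      rw [Ideal.Quotient.mkₐ_eq_mk, Ideal.Quotient.eq_zero_iff_mem]
      exact Ideal.mem_map_of_mem _ ha
    rw [h2, TensorProduct.zero_tmul]
  exact hle hg

instance isIntegral_invariants' : Algebra.IsIntegral (GLin.invariants k H R) R :=
  ⟨fun r => isIntegral_invariants k H R r⟩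

/-- lower coefficients of `chi (ρ g)` for `g ∈ pR` lie in `p`. -/
lemma coeff_chi_coact_mem (p : Ideal (GLin.invariants k H R)) [p.IsPrime] (g : R)
    (hg : g ∈ p.map (algebraMap (GLin.invariants k H R) R)) (j : ℕ)
    (hj : j < Module.finrank k H) :
    (⟨(chi k H R (ρ g)).coeff j, coeff_chi_mem_invariants k H R g j⟩ :
      GLin.invariants k H R) ∈ p := by
  have h1 := coeff_chi_mem_of_map_eq_zero k H R _ (ρ g) (map_mk_coact_eq_zero k H R p g hg) j hj
  obtain ⟨P, -, hP, hPp⟩ := Ideal.exists_ideal_over_prime_of_isIntegral p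
    (⊥ : Ideal R) (by
      intro a ha
      rw [Ideal.mem_comap, Ideal.mem_bot] at ha
      have : a = 0 := Subtype.ext ha
      rw [this]; exact zero_mem _)
  have h2 : p.map (algebraMap (GLin.invariants k H R) R) ≤ P := by
    rw [Ideal.map_le_iff_le_comap, hPp]
  rw [← hPp, Ideal.mem_comap]
  exact h2 h1

instance hasGoingDown_invariants : Algebra.HasGoingDown (GLin.invariants k H R) R := by
  constructor
  intro p _ Q _ hpQ
  let SQ := Localization.AtPrime Q
  suffices (p.map (algebraMap _ SQ)).comap (algebraMap _ SQ) ≤ p by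
    obtain ⟨P, hP, e⟩ :=
      (Ideal.comap_map_eq_self_iff_of_isPrime _).mp (this.antisymm Ideal.le_comap_map)
    refine ⟨P.under R, ?_, inferInstance, ⟨by rw [Ideal.under_under, ← e]⟩⟩
    exact (Ideal.comap_mono (IsLocalRing.le_maximalIdeal_of_isPrime P)).trans_eq
      Localization.AtPrime.under_maximalIdeal
  intro x hx
  obtain ⟨a, ha, haQ⟩ : ∃ a, x • a ∈ Ideal.map (algebraMap (GLin.invariants k H R) R) p ∧
      a ∉ Q := by
    have hx' : ∃ b ∈ Ideal.map (algebraMap (GLin.invariants k H R) R) p,
        ∃ s ∉ Q, (algebraMap R SQ) ((x : R) * s) = (algebraMap R SQ) b := by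
      simpa [Algebra.smul_def, IsScalarTower.algebraMap_eq (GLin.invariants k H R) R SQ,
        ← Ideal.map_map, IsLocalization.mem_map_algebraMap_iff Q.primeCompl, ← map_mul] using hx
    obtain ⟨b, hb, s, hs, hbs⟩ := hx'
    obtain ⟨t, ht⟩ := (IsLocalization.eq_iff_exists Q.primeCompl SQ).mp hbs
    refine ⟨(t : R) * s, ?_, fun h => ?_⟩
    · have : x • ((t : R) * s) = (t : R) * b := by
        rw [Algebra.smul_def, ← ht]
        change (x : R) * (↑t * s) = ↑t * (↑x * s)
        ring
      rw [this]
      exact Ideal.mul_mem_left _ _ hb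
    · rcases ‹Q.IsPrime›.mem_or_mem h with h | h
      · exact t.2 h
      · exact hs h
  by_contra hxp
  have : Nontrivial R := ⟨⟨0, a, fun h => haQ (h ▸ zero_mem _)⟩⟩
  set n := Module.finrank k H with hn
  -- lower coefficients of `chi (ρ a)` lie in `pR`
  have hc : ∀ j < n, (chi k H R (ρ a)).coeff j ∈
      p.map (algebraMap (GLin.invariants k H R) R) := by
    intro j hj
    have h1 := coeff_chi_coact_mem k H R p (x • a) ha j hj
    have h2 : ρ (x • a) = ((x : R) ⊗ₜ[k] (1 : H)) * ρ a := by
      rw [Algebra.smul_def, map_mul]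
      congr 1
      rw [GLin.coactAlgHom_apply]
      exact (GLin.mem_invariants_iff k H R _).mp x.2
    have h3 := chi_smul_coeff k H R (x : R) (ρ a) j
    rw [← h2] at h3
    have h4 : (⟨(chi k H R (ρ (x • a))).coeff j, coeff_chi_mem_invariants k H R (x • a) j⟩ :
        GLin.invariants k H R) * x ^ j =
        x ^ n * ⟨(chi k H R (ρ a)).coeff j, coeff_chi_mem_invariants k H R a j⟩ :=
      Subtype.ext h3
    have h5 : x ^ n * (⟨(chi k H R (ρ a)).coeff j, coeff_chi_mem_invariants k H R a j⟩ :
        GLin.invariants k H R) ∈ p := h4 ▸ Ideal.mul_mem_right _ _ h1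
    have h6 := (‹p.IsPrime›.mem_or_mem h5).resolve_left
      (fun h => hxp (‹p.IsPrime›.mem_of_pow_mem _ h))
    exact Ideal.mem_map_of_mem (algebraMap (GLin.invariants k H R) R) h6
  -- `a ^ n ∈ pR`
  have hdeg : (chi k H R (ρ a)).natDegree = n := by
    rw [chi, LinearMap.charpoly_natDegree, Module.finrank_baseChange]
  have hav := aeval_chi_coact k H R a
  rw [Polynomial.aeval_eq_sum_range, hdeg, Finset.sum_range_succ] at hav
  have hlead : (chi k H R (ρ a)).coeff n = 1 := by
    rw [← hdeg]; exact (chi_monic k H R _).coeff_natDegree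
  rw [hlead, one_smul] at hav
  have han : a ^ n ∈ p.map (algebraMap (GLin.invariants k H R) R) := by
    have : a ^ n = - ∑ i ∈ Finset.range n, (chi k H R (ρ a)).coeff i • a ^ i :=
      eq_neg_of_add_eq_zero_right hav
    rw [this]
    refine neg_mem (Ideal.sum_mem _ fun i hi => ?_)
    rw [smul_eq_mul]
    exact Ideal.mul_mem_right _ _ (hc i (Finset.mem_range.mp hi))
  have hle : p.map (algebraMap (GLin.invariants k H R) R) ≤ Q :=
    Ideal.map_le_iff_le_comap.mpr hpQ.le
  exact haQ (‹Q.IsPrime›.mem_of_pow_mem _ (hle han))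

end Going

end Groth.Agent.H57.InvDepthB
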