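import Mathlib
import Groth.Prelude.Def_CAlg
import Groth.Agent.H57.InvDepthA
import Groth.Agent.Lib.Helper29.FiniteRestrictCM
import Groth.Agent.Lib.Helper29.HeightMaps
import Groth.Agent.Lib.Helper29.DepthSelf

/-!
# Descent of `(S_r)` and Cohen–Macaulayness to a direct summand subring with going down (helper57)

`A → B` finite, with going down, and an `A`-linear retraction `E : B → A`.
-/

set_option autoImplicit false
set_option linter.unusedSectionVars false
universe u
open IsLocalRing

namespace Groth.Agent.H57.InvDepthC

open Groth.Agent.Lib.Helper29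

section

variable (A B : Type u) [CommRing A] [CommRing B] [Algebra A B]

theorem mem_support_self (q : PrimeSpectrum B) : q ∈ Module.support B B := by
  rw [Module.mem_support_iff']
  refine ⟨1, fun r hr h => hr ?_⟩
  rw [smul_eq_mul, mul_one] at h
  rw [h]; exact zero_mem _

variable [Module.Finite A B] [Algebra.HasGoingDown A B]
variable [IsNoetherianRing A] [IsNoetherianRing B]

theorem height_comap_eq (q : Ideal B) [q.IsPrime] :
    (q.comap (algebraMap A B)).height = q.height := by
  have hint : Algebra.IsIntegral A B := Algebra.IsIntegral.of_finite A B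
  apply le_antisymm
  · have : q.LiesOver (q.comap (algebraMap A B)) := ⟨rfl⟩
    rw [Ideal.height_eq_height_add_of_liesOver_of_hasGoingDown (q.comap (algebraMap A B)) q]
    exact le_self_add
  · exact height_le_height_comap_of_isIntegral (algebraMap A B) hint.isIntegral q

/-- dimension of `B_q` for `q` over `p`. -/
theorem supportDim_fibre (p : Ideal A) [p.IsPrime] (q : PrimeSpectrum B)
    (hq : q.asIdeal.comap (algebraMap A B) = p) :
    Module.supportDim (Localization.AtPrime q.asIdeal) (LocalizedModule q.asIdeal.primeCompl B) =
      ((p.height : ℕ∞) : WithBot ℕ∞) := by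
  rw [supportDim_localizedModule_self, ← hq, height_comap_eq A B q.asIdeal]

variable (hinj : Function.Injective (algebraMap A B))
include hinj

theorem exists_over (p : Ideal A) [p.IsPrime] :
    ∃ q : PrimeSpectrum B, q.asIdeal.comap (algebraMap A B) = p := by
  have hint : Algebra.IsIntegral A B := Algebra.IsIntegral.of_finite A B
  obtain ⟨Q, -, hQ, hQp⟩ := Ideal.exists_ideal_over_prime_of_isIntegral p (⊥ : Ideal B) (by
    intro a ha
    rw [Ideal.mem_comap, Ideal.mem_bot] at ha
    have : a = 0 := hinj (by rw [ha, map_zero])
    rw [this]; exact zero_mem _)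
  exact ⟨⟨Q, hQ⟩, hQp⟩

/-- `dim_{A_p} B_p = ht p`. -/
theorem supportDim_localizedModule (p : Ideal A) [p.IsPrime] :
    Module.supportDim (Localization.AtPrime p) (LocalizedModule p.primeCompl B) =
      ((p.height : ℕ∞) : WithBot ℕ∞) := by
  rw [supportDim_localizedModule_eq_iSup A B B p]
  apply le_antisymm
  · refine iSup₂_le fun q hq => ?_
    rw [supportDim_fibre A B p q hq.1]
  · obtain ⟨q, hq⟩ := exists_over A B hinj p
    refine le_iSup₂_of_le q ⟨hq, mem_support_self B q⟩ ?_
    rw [supportDim_fibre A B p q hq]

/-- `depth_{A_p} B_p ≥ n` as soon as `depth B_q ≥ n` for all `q` over `p`. -/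
theorem le_depth_localizedModule (p : Ideal A) [p.IsPrime] (n : ℕ∞)
    (h : ∀ q : PrimeSpectrum B, q.asIdeal.comap (algebraMap A B) = p →
      n ≤ LocCoh.depth (Localization.AtPrime q.asIdeal)
        (LocalizedModule q.asIdeal.primeCompl B)) :
    n ≤ LocCoh.depth (Localization.AtPrime p) (LocalizedModule p.primeCompl B) := by
  rw [depth_localizedModule_eq_iInf A B B p]
  exact le_iInf₂ fun q hq => h q hq.1

omit hinj

variable (E : B →ₗ[A] A) (hE : ∀ a : A, E (algebraMap A B a) = a)
include hE

/-- `depth_{A_p} B_p ≤ depth A_p`, from the retraction. -/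
theorem depth_localizedModule_le (p : Ideal A) [p.IsPrime] :
    LocCoh.depth (Localization.AtPrime p) (LocalizedModule p.primeCompl B) ≤
      LocCoh.depth (Localization.AtPrime p) (LocalizedModule p.primeCompl A) := by
  let i : LocalizedModule p.primeCompl A →ₗ[Localization.AtPrime p]
      LocalizedModule p.primeCompl B := LocalizedModule.map p.primeCompl (Algebra.linearMap A B)
  let e : LocalizedModule p.primeCompl B →ₗ[Localization.AtPrime p]
      LocalizedModule p.primeCompl A := LocalizedModule.map p.primeCompl E
  have hei : e ∘ₗ i = LinearMap.id := by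
    refine LinearMap.ext fun x => ?_
    induction x using LocalizedModule.induction_on with
    | h m s =>
      simp only [LinearMap.comp_apply, LinearMap.id_apply, i, e, LocalizedModule.map_mk,
        Algebra.linearMap_apply, hE]
  have hN : Nontrivial (LocalizedModule p.primeCompl A) :=
    (localizedModuleSelfEquiv A p).toEquiv.nontrivial
  have hinj' : Function.Injective i := by
    intro x y hxy
    have := congrArg e hxy
    simpa [← LinearMap.comp_apply, hei] using this
  have hM : Nontrivial (LocalizedModule p.primeCompl B) := hinj'.nontrivial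
  exact Groth.Agent.H57.InvDepthA.depth_le_depth_of_retract (Localization.AtPrime p) i e hei

omit hE

/-- `(S_r)` for `B` gives `(S_r)` for the `A`-module `B`. -/
theorem hasSk_restrict (hinj : Function.Injective (algebraMap A B)) (r : ℕ)
    (hB : LocCoh.HasSk r B B) : LocCoh.HasSk r A B := by
  intro p _
  rw [supportDim_localizedModule A B hinj p, min_natCast_coe_le_coe_iff]
  apply le_depth_localizedModule A B hinj p
  intro q hq
  have := hB q.asIdeal
  rw [supportDim_fibre A B p q hq, min_natCast_coe_le_coe_iff] at this
  exact this

include hE

theorem injective_of_retraction : Function.Injective (algebraMap A B) := by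
  intro x y hxy
  have := congrArg E hxy
  rwa [hE, hE] at this

/-- `(S_r)` for `B` gives `(S_r)` for the ring `A`. -/
theorem hasSk_self (r : ℕ) (hB : LocCoh.HasSk r B B) : LocCoh.HasSk r A A := by
  have hinj := injective_of_retraction A B E hE
  rw [hasSk_self_iff]
  intro p _
  rw [← depth_localizedModule_self]
  refine le_trans ?_ (depth_localizedModule_le A B E hE p)
  have := hasSk_restrict A B hinj r hB p
  rw [supportDim_localizedModule A B hinj p, min_natCast_coe_le_coe_iff] at this
  exact this

omit hE

/-- the depth of a Cohen–Macaulay local ring `B_q`. -/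
theorem depth_of_isCohenMacaulayRing (hB : LocCoh.IsCohenMacaulayRing B) (q : Ideal B)
    [q.IsPrime] :
    LocCoh.depth (Localization.AtPrime q) (LocalizedModule q.primeCompl B) = q.height := by
  have h := (hB.isCohenMacaulayLocalRing_localization q).supportDim_eq_depth
  rw [Module.supportDim_self_eq_ringKrullDim, IsLocalization.AtPrime.ringKrullDim_eq_height q]
    at h
  rw [depth_localizedModule_self]
  exact (WithBot.coe_injective h).symm

theorem depth_localizedModule_eq_of_isCohenMacaulayRing
    (hinj : Function.Injective (algebraMap A B)) (hB : LocCoh.IsCohenMacaulayRing B)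
    (p : Ideal A) [p.IsPrime] :
    LocCoh.depth (Localization.AtPrime p) (LocalizedModule p.primeCompl B) = p.height := by
  apply le_antisymm
  · have hM : Nontrivial (LocalizedModule p.primeCompl B) := by
      have h0 := supportDim_localizedModule A B hinj p
      by_contra hcon
      rw [not_nontrivial_iff_subsingleton] at hcon
      rw [Module.supportDim_eq_bot_of_subsingleton] at h0
      exact WithBot.bot_ne_coe h0
    have h := depth_le_supportDim (Localization.AtPrime p) (LocalizedModule p.primeCompl B)
    rw [supportDim_localizedModule A B hinj p] at h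
    exact WithBot.coe_le_coe.mp h
  · apply le_depth_localizedModule A B hinj p
    intro q hq
    rw [depth_of_isCohenMacaulayRing B hB q.asIdeal, ← hq, height_comap_eq A B q.asIdeal]

include hE

theorem isCohenMacaulayRing_of_retraction (hB : LocCoh.IsCohenMacaulayRing B) :
    LocCoh.IsCohenMacaulayRing A := by
  have hinj := injective_of_retraction A B E hE
  refine LocCoh.IsCohenMacaulayRing.mk ?_
  intro p _
  refine LocCoh.IsCohenMacaulayLocalRing.mk ?_
  rw [Module.supportDim_self_eq_ringKrullDim, IsLocalization.AtPrime.ringKrullDim_eq_height p]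
  congr 1
  apply le_antisymm
  · rw [← depth_localizedModule_eq_of_isCohenMacaulayRing A B hinj hB p,
      ← depth_localizedModule_self]
    exact depth_localizedModule_le A B E hE p
  · have h := depth_le_supportDim (Localization.AtPrime p) (Localization.AtPrime p)
    rw [Module.supportDim_self_eq_ringKrullDim, IsLocalization.AtPrime.ringKrullDim_eq_height p]
      at h
    exact WithBot.coe_le_coe.mp h

omit hE

theorem isCohenMacaulayModule_localizedModule (hinj : Function.Injective (algebraMap A B))
    (hB : LocCoh.IsCohenMacaulayRing B) (p : Ideal A) [p.IsPrime] :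
    LocCoh.IsCohenMacaulayModule (Localization.AtPrime p) (LocalizedModule p.primeCompl B) ∧
      Module.supportDim (Localization.AtPrime p) (LocalizedModule p.primeCompl B) =
        ringKrullDim (Localization.AtPrime p) := by
  refine ⟨?_, ?_⟩
  · unfold LocCoh.IsCohenMacaulayModule
    rw [supportDim_localizedModule A B hinj p,
      depth_localizedModule_eq_of_isCohenMacaulayRing A B hinj hB p]
  · rw [supportDim_localizedModule A B hinj p, IsLocalization.AtPrime.ringKrullDim_eq_height p]

end

end Groth.Agent.H57.InvDepthC
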