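import Mathlib
import Groth.Prelude.Def_CAlg
import Groth.Prelude.Def_GLin
import Groth.Agent.H57.InvDepthB
import Groth.Agent.H57.InvDepthC
import Groth.Agent.S12555
import Groth.Agent.S12556

/-!
# `(S_r)` and Cohen–Macaulayness of invariant rings of linearly reductive finite group schemes
(helper57)
-/

set_option autoImplicit false
universe u
open TensorProduct

namespace Groth.Agent.H57.InvDepthD

open Groth.Agent.H57.InvDepthB Groth.Agent.H57.InvDepthC

variable (k : Type u) [Field k] (H : Type u) [CommRing H] [HopfAlgebra k H] [Module.Finite k H]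
  (R : Type u) [CommRing R] [Algebra k R] [Algebra.FiniteType k R] [HopfRep.Comod k H R]
  [GLin.IsCoactAlg k H R]

instance finite_invariants : Module.Finite (GLin.invariants k H R) R :=
  have : Algebra.FiniteType (GLin.invariants k H R) R :=
    Algebra.FiniteType.of_restrictScalars_finiteType k (GLin.invariants k H R) R
  Algebra.IsIntegral.finite

instance finiteType_invariants : Algebra.FiniteType k (GLin.invariants k H R) :=
  ⟨fg_of_fg_of_fg k (GLin.invariants k H R) R (Algebra.FiniteType.out)
    (Module.Finite.fg_top) Subtype.val_injective⟩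

instance isNoetherianRing_invariants : IsNoetherianRing (GLin.invariants k H R) :=
  Algebra.FiniteType.isNoetherianRing k (GLin.invariants k H R)

theorem exists_retraction (hG : HopfRep.IsLinearlyReductive k H) :
    ∃ E : R →ₗ[GLin.invariants k H R] GLin.invariants k H R,
      ∀ a : GLin.invariants k H R, E (algebraMap (GLin.invariants k H R) R a) = a := by
  obtain ⟨E, ⟨h1, h2, h3⟩, -⟩ := Groth.Agent.S12555.result k H hG R
  have h3' : ∀ x : R, E x = x ↔ x ∈ GLin.invariants k H R := h3
  have h4 := fun x y hy => Groth.Agent.S12556.result k H hG R E h1 h2 h3' x y hy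
  have hmem : ∀ x, E x ∈ GLin.invariants k H R :=
    fun x => (h3' (E x)).mp (LinearMap.congr_fun h2 x)
  refine ⟨{ toFun := fun x => ⟨E x, hmem x⟩
            map_add' := fun x y => Subtype.ext (map_add E x y)
            map_smul' := fun a x => Subtype.ext ?_ }, fun a => Subtype.ext ?_⟩
  · change E (a • x) = (a : R) * E x
    rw [Algebra.smul_def, mul_comm, mul_comm (a : R)]
    exact h4 x a a.2
  · exact (h3' a).mpr a.2

theorem hasSk_invariants (hG : HopfRep.IsLinearlyReductive k H) (r : ℕ)
    (hR : LocCoh.HasSk r R R) :
    LocCoh.HasSk r (GLin.invariants k H R) R ∧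
      LocCoh.HasSk r (GLin.invariants k H R) (GLin.invariants k H R) := by
  have : IsNoetherianRing R := Algebra.FiniteType.isNoetherianRing k R
  obtain ⟨E, hE⟩ := exists_retraction k H R hG
  exact ⟨hasSk_restrict (GLin.invariants k H R) R Subtype.val_injective r hR,
    hasSk_self (GLin.invariants k H R) R E hE r hR⟩

theorem isCohenMacaulay_invariants (hG : HopfRep.IsLinearlyReductive k H)
    (hR : LocCoh.IsCohenMacaulayRing R) :
    LocCoh.IsCohenMacaulayRing (GLin.invariants k H R) ∧
      ∀ (p : Ideal (GLin.invariants k H R)) [p.IsPrime],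
        LocCoh.IsCohenMacaulayModule (Localization.AtPrime p) (LocalizedModule p.primeCompl R) ∧
          Module.supportDim (Localization.AtPrime p) (LocalizedModule p.primeCompl R) =
            ringKrullDim (Localization.AtPrime p) := by
  have : IsNoetherianRing R := Algebra.FiniteType.isNoetherianRing k R
  obtain ⟨E, hE⟩ := exists_retraction k H R hG
  exact ⟨isCohenMacaulayRing_of_retraction (GLin.invariants k H R) R E hE hR,
    fun p _ => isCohenMacaulayModule_localizedModule (GLin.invariants k H R) R
      Subtype.val_injective hR p⟩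

end Groth.Agent.H57.InvDepthD
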