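import Groth.Agent.H57.JacRel

/-!
# The Jacobian criterion for space curves: nonsingular points have Jacobian rank `n - 1`
-/

set_option autoImplicit false

namespace Groth.Agent.H57.JacGen

open FunFld Groth.Agent.FF WithZero MvPolynomial Groth.Agent.H57 IntermediateField

universe u v
variable {k : Type u} {K : Type v} [Field k] [Field K] [Algebra k K]

section Eval

variable {n : ℕ} (φ : Fin (n + 1) → K) (P : Place k K) (hφj : φ 0 ≠ 0)
  (hj : ∀ i, P.1 (φ i) ≤ P.1 (φ 0))
  (α : Fin (n + 1) → k) (hα : ∀ i, P.1 (φ i / φ 0 - algebraMap k K (α i)) < 1)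

include hφj hj hα in
theorem val_sub_eval_lt_one (p : MvPolynomial (Fin (n + 1)) k) :
    P.1 (aeval (fun i => φ i / φ 0) p - algebraMap k K (eval α p)) < 1 := by
  have h := val_lt_one_of_mem_span φ P 0 hφj hj α hα (sub_eval_mem_span φ 0 α p)
  have h2 : ((aeval (uR k φ 0) p - algebraMap k (ratioAlg k φ 0) (eval α p) : ratioAlg k φ 0) : K) =
      aeval (fun i => φ i / φ 0) p - algebraMap k K (eval α p) := by
    rw [Subalgebra.coe_sub, coe_aeval_uR]
    rfl
  rwa [h2] at h

include hφj hj hα in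
theorem eval_eq_zero_of_val_lt_one (p : MvPolynomial (Fin (n + 1)) k)
    (hp : P.1 (aeval (fun i => φ i / φ 0) p) < 1) : eval α p = 0 := by
  have h := val_sub_eval_lt_one φ P hφj hj α hα p
  have h2 : P.1 (algebraMap k K (eval α p)) < 1 := by
    have : algebraMap k K (eval α p) = aeval (fun i => φ i / φ 0) p -
        (aeval (fun i => φ i / φ 0) p - algebraMap k K (eval α p)) := by ring
    rw [this]
    exact lt_of_le_of_lt (P.1.map_sub _ _) (max_lt hp h)
  exact (val_algebraMap_lt_one_iff (P := P) _).1 h2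

include hφj hj hα in
theorem eval_ne_zero_of_val_eq_one (p : MvPolynomial (Fin (n + 1)) k)
    (hp : P.1 (aeval (fun i => φ i / φ 0) p) = 1) : eval α p ≠ 0 := by
  intro h0
  have h := val_sub_eval_lt_one φ P hφj hj α hα p
  rw [h0, map_zero, sub_zero, hp] at h
  exact lt_irrefl _ h

include hφj hj hα in
theorem val_le_of_mem_sq {z : ratioAlg k φ 0}
    (hz : z ∈ Ideal.span (Set.range (yR φ 0 α)) ^ 2) : P.1 (z : K) ≤ exp (-2 : ℤ) := by
  rw [pow_two] at hz
  refine Submodule.mul_induction_on hz ?_ ?_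
  · intro a ha b hb
    have h1 := Groth.Agent.FF.Ext.le_exp_neg_one_of_lt_one
      (val_lt_one_of_mem_span φ P 0 hφj hj α hα ha)
    have h2 := Groth.Agent.FF.Ext.le_exp_neg_one_of_lt_one
      (val_lt_one_of_mem_span φ P 0 hφj hj α hα hb)
    change P.1 ((a : K) * (b : K)) ≤ _
    rw [map_mul]
    calc P.1 (a : K) * P.1 (b : K) ≤ exp (-1 : ℤ) * exp (-1 : ℤ) := mul_le_mul' h1 h2
      _ = exp (-2 : ℤ) := by rw [← exp_add]; norm_num
  · intro x y hx hy
    change P.1 ((x : K) + (y : K)) ≤ _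
    exact (P.1.map_add _ _).trans (max_le hx hy)

end Eval

section Dir2

variable [IsAlgClosed k] (hK : IsFunctionField k K)
  {n : ℕ} (φ : Fin (n + 1) → K) (hφ0 : ∀ i, φ i ≠ 0) (P : Place k K)
  (hP : ∀ i, P.1 (φ i) ≤ P.1 (φ 0))
  (α : Fin (n + 1) → k) (hα : ∀ i, P.1 (φ i / φ 0 - algebraMap k K (α i)) < 1)
  {r : ℕ} (f : Fin r → MvPolynomial (Fin (n + 1)) k)
  (hhom : ∀ i, (f i).IsHomogeneous (f i).totalDegree)
  (hgen : Ideal.span (Set.range f) =
    RingHom.ker (aeval fun i => Polynomial.C (φ i) * Polynomial.X :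
      MvPolynomial (Fin (n + 1)) k →ₐ[k] Polynomial K))

include hφ0 hhom hgen in
theorem aeval_generator_eq_zero (i : Fin r) : aeval φ (f i) = 0 := by
  apply aeval_eq_zero_of_mem_ker φ (hhom i)
  rw [← hgen]
  exact Ideal.subset_span ⟨i, rfl⟩

include hK hφ0 hP hα hhom hgen in
theorem dir2 (hns : IsNonsingularAt φ P) (l₀ : Fin (n + 1))
    (hl₀ : P.1 (φ l₀ / φ 0 - algebraMap k K (α l₀)) = exp (-1 : ℤ)) :
    ∃ c : Fin (n + 1) → k, c l₀ = 1 ∧ c 0 = 0 ∧
      (∀ i, ∑ l, eval α (pderiv l (f i)) * c l = 0) ∧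
      ∀ l, ∃ (ω : k) (_ : ω ≠ 0) (d : Fin r → k), ∀ j : Fin (n + 1), j ≠ 0 →
        ω * ((if j = l then 1 else 0) - c l * (if j = l₀ then 1 else 0)) =
          ∑ i, d i * eval α (pderiv j (f i)) := by
  classical
  have hφj := hφ0 0
  have hfφ := aeval_generator_eq_zero φ hφ0 f hhom hgen
  have hfα : ∀ i, eval α (f i) = 0 := fun i =>
    eval_eq_zero φ P 0 hφj hP α hα (f i) (hhom i) (hfφ i)
  have hα0 : α 0 = 1 := alpha_j φ P 0 hφj α hα
  set y : Fin (n + 1) → K := fun l => φ l / φ 0 - algebraMap k K (α l) with hy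
  set t : K := y l₀ with ht
  have htv : P.1 t = exp (-1 : ℤ) := hl₀
  have ht0 : t ≠ 0 := by
    intro h0
    rw [h0, map_zero] at htv
    exact exp_ne_zero htv.symm
  have hy0 : y 0 = 0 := by
    rw [hy]
    simp only
    rw [div_self hφj, hα0, map_one, sub_self]
  have hyt : ∀ l, P.1 (y l / t) ≤ 1 := by
    intro l
    rw [map_div₀, htv]
    have h1 : P.1 (y l) ≤ exp (-1 : ℤ) := Groth.Agent.FF.Ext.le_exp_neg_one_of_lt_one (hα l)
    exact (div_le_one₀ exp_pos).2 h1
  set c : Fin (n + 1) → k := fun l => rhoK hK P (y l / t) with hc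
  have hcl : ∀ l, P.1 (y l / t - algebraMap k K (c l)) < 1 := fun l =>
    val_sub_rhoK_lt_one hK P _ (hyt l)
  have hcl₀ : c l₀ = 1 := by
    apply rhoK_unique hK P _ (hyt l₀)
    rw [div_self ht0, map_one, sub_self, map_zero]
    exact zero_lt_one
  have hc0 : c 0 = 0 := by
    apply rhoK_unique hK P _ (hyt 0)
    rw [hy0, zero_div, map_zero, sub_zero, map_zero]
    exact zero_lt_one
  refine ⟨c, hcl₀, hc0, ?_, ?_⟩
  · -- the tangent vector is killed by the Jacobian
    intro i
    have hT := tangent_mem_sq φ P 0 hφj hP α hα (f i) (hhom i) (hfφ i)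
    have hTv := val_le_of_mem_sq φ P hφj hP α hα hT
    have hcoe : ((∑ l, algebraMap k (ratioAlg k φ 0) (eval α (pderiv l (f i))) * yR φ 0 α l :
        ratioAlg k φ 0) : K) = ∑ l, algebraMap k K (eval α (pderiv l (f i))) * y l := by
      rw [← Subalgebra.coe_val, map_sum]
      refine Finset.sum_congr rfl fun l _ => ?_
      rfl
    rw [hcoe] at hTv
    have h1 : P.1 (∑ l, algebraMap k K (eval α (pderiv l (f i))) * (y l / t)) < 1 := by
      have : ∑ l, algebraMap k K (eval α (pderiv l (f i))) * (y l / t) =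
          (∑ l, algebraMap k K (eval α (pderiv l (f i))) * y l) / t := by
        rw [Finset.sum_div]
        refine Finset.sum_congr rfl fun l _ => ?_
        rw [mul_div_assoc]
      rw [this, map_div₀, htv]
      have h2 : P.1 (∑ l, algebraMap k K (eval α (pderiv l (f i))) * y l) / exp (-1 : ℤ) ≤
          exp (-1 : ℤ) := by
        rw [div_le_iff₀ exp_pos, ← exp_add]
        exact hTv
      exact lt_of_le_of_lt h2 (exp_lt_exp.2 (by norm_num))
    have h3 : P.1 (∑ l, algebraMap k K (eval α (pderiv l (f i))) *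
        (y l / t - algebraMap k K (c l))) < 1 := by
      apply P.1.map_sum_lt one_ne_zero
      intro l _
      rw [map_mul]
      calc P.1 (algebraMap k K (eval α (pderiv l (f i)))) * P.1 (y l / t - algebraMap k K (c l))
          ≤ 1 * P.1 (y l / t - algebraMap k K (c l)) := mul_le_mul_left (P.2.1 _) _
        _ = P.1 (y l / t - algebraMap k K (c l)) := one_mul _
        _ < 1 := hcl l
    have h4 : algebraMap k K (∑ l, eval α (pderiv l (f i)) * c l) =
        ∑ l, algebraMap k K (eval α (pderiv l (f i))) * (y l / t) -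
          ∑ l, algebraMap k K (eval α (pderiv l (f i))) * (y l / t - algebraMap k K (c l)) := by
      rw [← Finset.sum_sub_distrib, map_sum]
      refine Finset.sum_congr rfl fun l _ => ?_
      rw [map_mul]
      ring
    have h5 : P.1 (algebraMap k K (∑ l, eval α (pderiv l (f i)) * c l)) < 1 := by
      rw [h4]
      exact lt_of_le_of_lt (P.1.map_sub _ _) (max_lt h1 h3)
    exact (val_algebraMap_lt_one_iff (P := P) _).1 h5
  · -- the rows
    intro l
    set ε : K := y l / t - algebraMap k K (c l) with hε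
    have hεR := (inLocRing_iff_inLocRingAt hφj hP ε).1 (hns ε (hcl l).le)
    obtain ⟨p, hp, w, hw, hw1, hεw⟩ := hεR
    obtain ⟨Pl, hPl⟩ := exists_aeval_uR φ 0 ⟨p, hp⟩
    obtain ⟨Wl, hWl⟩ := exists_aeval_uR φ 0 ⟨w, hw⟩
    have hPl' : aeval (fun i => φ i / φ 0) Pl = p := by
      rw [← coe_aeval_uR, hPl]
    have hWl' : aeval (fun i => φ i / φ 0) Wl = w := by
      rw [← coe_aeval_uR, hWl]
    set L : MvPolynomial (Fin (n + 1)) k :=
      X l - C (α l) - C (c l) * (X l₀ - C (α l₀)) with hL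
    set G : MvPolynomial (Fin (n + 1)) k := Wl * L - (X l₀ - C (α l₀)) * Pl with hG
    have hLx : aeval (fun i => φ i / φ 0) L = y l - algebraMap k K (c l) * t := by
      rw [hL]
      simp only [map_sub, map_mul, aeval_X, aeval_C]
      rfl
    have hG0 : aeval (fun i => φ i / φ 0) G = 0 := by
      rw [hG, map_sub, map_mul, map_mul, hLx, hWl', hPl', map_sub, aeval_X, aeval_C, ← hεw]
      have : (φ l₀ / φ 0 - algebraMap k K (α l₀)) = t := rfl
      rw [this, hε]
      field_simp
      ring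
    obtain ⟨d, hd⟩ := eval_pderiv_eq φ hφj f hgen α hα0 hfα G hG0
    have hpv : P.1 p < 1 := by
      rw [← hεw, map_mul, hw1, mul_one]
      exact hcl l
    have hPα : eval α Pl = 0 :=
      eval_eq_zero_of_val_lt_one φ P hφj hP α hα Pl (by rw [hPl']; exact hpv)
    have hWα : eval α Wl ≠ 0 :=
      eval_ne_zero_of_val_eq_one φ P hφj hP α hα Wl (by rw [hWl']; exact hw1)
    have hLα : eval α L = 0 := by
      rw [hL]
      simp only [map_sub, map_mul, eval_X, eval_C, sub_self, mul_zero]
    refine ⟨eval α Wl, hWα, d, fun j hj => ?_⟩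
    rw [← hd j hj, hG, map_sub, Derivation.leibniz, Derivation.leibniz]
    have hpL : pderiv j L = (Pi.single j (1 : MvPolynomial (Fin (n + 1)) k) :
        Fin (n + 1) → MvPolynomial (Fin (n + 1)) k) l -
        C (c l) * (Pi.single j (1 : MvPolynomial (Fin (n + 1)) k) :
          Fin (n + 1) → MvPolynomial (Fin (n + 1)) k) l₀ := by
      rw [hL]
      simp only [map_sub, Derivation.leibniz, pderiv_C, pderiv_X, sub_zero, smul_eq_mul,
        add_zero, mul_zero]
    have hLd : eval α (pderiv j L) = (if j = l then 1 else 0) - c l * (if j = l₀ then 1 else 0) := by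
      have e1 : (if j = l then (1 : k) else 0) = if l = j then 1 else 0 := by
        simp only [eq_comm]
      have e2 : (if j = l₀ then (1 : k) else 0) = if l₀ = j then 1 else 0 := by
        simp only [eq_comm]
      rw [hpL, map_sub, map_mul, eval_C, Pi.single_apply, Pi.single_apply, e1, e2]
      split_ifs <;> simp
    simp only [smul_eq_mul, map_add, map_mul, map_sub, eval_X, eval_C, sub_self, zero_mul,
      hLα, hPα, hLd, add_zero, sub_zero, zero_add]

end Dir2

end Groth.Agent.H57.JacGen
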