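import Groth.Agent.H57.NonsingCrit
import Groth.Agent.H57.Tangent
import Mathlib.RingTheory.MvPolynomial.EulerIdentity
import Mathlib.RingTheory.Nakayama
import Groth.Agent.FunFld.RelFundIneq

/-!
# The Jacobian criterion for space curves: general facts
-/

set_option autoImplicit false

namespace Groth.Agent.H57.JacGen

open FunFld Groth.Agent.FF WithZero MvPolynomial Groth.Agent.H57 IntermediateField

universe u v
variable {k : Type u} {K : Type v} [Field k] [Field K] [Algebra k K]

section Taylor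

variable {n : ℕ} (φ : Fin (n + 1) → K) (P : Place k K) (j : Fin (n + 1)) (hφj : φ j ≠ 0)
  (hj : ∀ i, P.1 (φ i) ≤ P.1 (φ j))
  (α : Fin (n + 1) → k) (hα : ∀ i, P.1 (φ i / φ j - algebraMap k K (α i)) < 1)

variable (k) in
/-- The ratios as elements of the ratio algebra. -/
def uR (i : Fin (n + 1)) : ratioAlg k φ j := ⟨φ i / φ j, ratio_mem k φ j i⟩

/-- The ratios minus their values at `P`. -/
noncomputable def yR (i : Fin (n + 1)) : ratioAlg k φ j :=
  uR k φ j i - algebraMap k (ratioAlg k φ j) (α i)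

theorem coe_yR (i : Fin (n + 1)) :
    ((yR φ j α i : ratioAlg k φ j) : K) = φ i / φ j - algebraMap k K (α i) := rfl

theorem coe_aeval_uR (p : MvPolynomial (Fin (n + 1)) k) :
    ((aeval (uR k φ j) p : ratioAlg k φ j) : K) = aeval (fun i => φ i / φ j) p := by
  have := comp_aeval_apply (R := k) (f := uR k φ j) (ratioAlg k φ j).val p
  exact this

include hφj hj hα in
/-- Elements of the ideal generated by the `yR` vanish at `P`. -/
theorem val_lt_one_of_mem_span {z : ratioAlg k φ j}
    (hz : z ∈ Ideal.span (Set.range (yR φ j α))) : P.1 (z : K) < 1 := by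
  induction hz using Submodule.span_induction with
  | mem x hx =>
    obtain ⟨i, rfl⟩ := hx
    rw [coe_yR]
    exact hα i
  | zero =>
    change P.1 (0 : K) < 1
    rw [map_zero]; exact zero_lt_one
  | add x y _ _ hx hy =>
    change P.1 ((x : K) + (y : K)) < 1
    exact lt_of_le_of_lt (P.1.map_add _ _) (max_lt hx hy)
  | smul a x _ hx =>
    change P.1 ((a : K) * (x : K)) < 1
    rw [map_mul]
    have ha : P.1 (a : K) ≤ 1 := val_le_one_of_mem_ratioAlg hφj P hj a.2
    calc P.1 (a : K) * P.1 (x : K) ≤ 1 * P.1 (x : K) := mul_le_mul_left ha _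
      _ = P.1 (x : K) := one_mul _
      _ < 1 := hx

theorem uR_eq (i : Fin (n + 1)) :
    uR k φ j i = algebraMap k (ratioAlg k φ j) (α i) + yR φ j α i := by
  unfold yR
  ring

/-- A homogeneous relation among the `φ` is a relation among the ratios. -/
theorem aeval_uR_eq_zero (f : MvPolynomial (Fin (n + 1)) k) {d : ℕ} (hhom : f.IsHomogeneous d)
    (hfφ : aeval φ f = 0) : aeval (uR k φ j) f = 0 := by
  apply Subtype.val_injective
  rw [coe_aeval_uR]
  have h2 : (fun i => φ i / φ j) = fun i => (φ j)⁻¹ * φ i := by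
    funext i
    rw [div_eq_inv_mul]
  rw [h2, aeval_mul_of_isHomogeneous hhom, hfφ, mul_zero]
  rfl

/-- Every element of the ratio algebra is its value at `P` modulo the ideal of the point. -/
theorem sub_eval_mem_span (p : MvPolynomial (Fin (n + 1)) k) :
    aeval (uR k φ j) p - algebraMap k (ratioAlg k φ j) (eval α p) ∈
      Ideal.span (Set.range (yR φ j α)) := by
  have hT := taylor_one (Ideal.span (Set.range (yR φ j α))) α (yR φ j α)
    (fun i => Ideal.subset_span ⟨i, rfl⟩) p
  have h1 : (fun i => algebraMap k (ratioAlg k φ j) (α i) + yR φ j α i) = uR k φ j := by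
    funext i
    exact (uR_eq φ j α i).symm
  rw [h1] at hT
  have hI2 : Ideal.span (Set.range (yR φ j α)) ^ 2 ≤ Ideal.span (Set.range (yR φ j α)) :=
    Ideal.pow_le_self (by norm_num)
  have hsum : ∑ i, algebraMap k (ratioAlg k φ j) (eval α (pderiv i p)) * yR φ j α i ∈
      Ideal.span (Set.range (yR φ j α)) :=
    Ideal.sum_mem _ fun i _ => Ideal.mul_mem_left _ _ (Ideal.subset_span ⟨i, rfl⟩)
  have := Ideal.add_mem _ (hI2 hT) hsum
  rwa [sub_add_cancel] at this

include hφj hj hα in
/-- The image point lies on every relation. -/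
theorem eval_eq_zero (f : MvPolynomial (Fin (n + 1)) k) {d : ℕ} (hhom : f.IsHomogeneous d)
    (hfφ : aeval φ f = 0) : eval α f = 0 := by
  have h := sub_eval_mem_span φ j α f
  rw [aeval_uR_eq_zero φ j f hhom hfφ, zero_sub] at h
  have h2 := (Ideal.neg_mem_iff _).1 h
  have := val_lt_one_of_mem_span φ P j hφj hj α hα h2
  exact (val_algebraMap_lt_one_iff (P := P) _).1 this

include hφj hj hα in
/-- The tangent relation modulo the square of the maximal ideal. -/
theorem tangent_mem_sq (f : MvPolynomial (Fin (n + 1)) k) {d : ℕ} (hhom : f.IsHomogeneous d)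
    (hfφ : aeval φ f = 0) :
    ∑ i, algebraMap k (ratioAlg k φ j) (eval α (pderiv i f)) * yR φ j α i ∈
      Ideal.span (Set.range (yR φ j α)) ^ 2 := by
  have hT := taylor_one (Ideal.span (Set.range (yR φ j α))) α (yR φ j α)
    (fun i => Ideal.subset_span ⟨i, rfl⟩) f
  have h1 : (fun i => algebraMap k (ratioAlg k φ j) (α i) + yR φ j α i) = uR k φ j := by
    funext i
    exact (uR_eq φ j α i).symm
  rw [h1, aeval_uR_eq_zero φ j f hhom hfφ, eval_eq_zero φ P j hφj hj α hα f hhom hfφ, map_zero,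
    sub_zero, zero_sub] at hT
  exact Ideal.neg_mem_iff _ |>.1 hT

/-- Elements of the ratio algebra are polynomials in the ratios. -/
theorem exists_aeval_uR (z : ratioAlg k φ j) :
    ∃ p : MvPolynomial (Fin (n + 1)) k, aeval (uR k φ j) p = z := by
  obtain ⟨z, hz⟩ := z
  have hz' : z ∈ (aeval (fun i => φ i / φ j) : MvPolynomial (Fin (n + 1)) k →ₐ[k] K).range := by
    rw [← Algebra.adjoin_range_eq_range_aeval]
    exact hz
  obtain ⟨p, hp⟩ := hz'
  refine ⟨p, Subtype.ext ?_⟩
  rw [coe_aeval_uR]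
  exact hp

include hφj hj hα in
/-- Elements of the ratio algebra vanishing at `P` lie in the ideal of the point. -/
theorem mem_span_of_val_lt_one (z : ratioAlg k φ j) (hz : P.1 (z : K) < 1) :
    z ∈ Ideal.span (Set.range (yR φ j α)) := by
  obtain ⟨p, rfl⟩ := exists_aeval_uR φ j z
  have h := sub_eval_mem_span φ j α p
  have hc : eval α p = 0 := by
    have h1 := val_lt_one_of_mem_span φ P j hφj hj α hα h
    have h2 : P.1 (algebraMap k K (eval α p)) < 1 := by
      have : algebraMap k K (eval α p) =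
          ((aeval (uR k φ j) p : ratioAlg k φ j) : K) -
            ((aeval (uR k φ j) p - algebraMap k (ratioAlg k φ j) (eval α p) : ratioAlg k φ j) : K) := by
        push_cast
        ring
      rw [this]
      exact lt_of_le_of_lt (P.1.map_sub _ _) (max_lt hz h1)
    exact (val_algebraMap_lt_one_iff (P := P) _).1 h2
  rw [hc, map_zero, sub_zero] at h
  exact h

include hφj hα in
theorem alpha_j : α j = 1 := by
  have h := hα j
  rw [div_self hφj] at h
  have h1 : (1 : K) - algebraMap k K (α j) = algebraMap k K (1 - α j) := by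
    rw [map_sub, map_one]
  rw [h1, val_algebraMap_lt_one_iff] at h
  exact (sub_eq_zero.1 h).symm

include hφj hα in
theorem yR_j : yR φ j α j = 0 := by
  apply Subtype.val_injective
  rw [coe_yR, div_self hφj, alpha_j φ P j hφj α hα, map_one, sub_self]
  rfl

end Taylor

section Dir1

open scoped Pointwise

variable {n : ℕ} (φ : Fin (n + 1) → K) (hφ0 : ∀ i, φ i ≠ 0)
  (hbir : IntermediateField.adjoin k (Set.range fun i => φ i / φ 0) = ⊤)
  (P : Place k K) (hP : ∀ i, P.1 (φ i) ≤ P.1 (φ 0))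
  (α : Fin (n + 1) → k) (hα : ∀ i, P.1 (φ i / φ 0 - algebraMap k K (α i)) < 1)

include hφ0 hbir hP hα in
/-- If, modulo the square of the ideal of the point, all centred ratios are multiples of one of
them, then the map is nonsingular at `P`. -/
theorem isNonsingularAt_of_principal (l₀ : Fin (n + 1)) (c : Fin (n + 1) → k)
    (hc : ∀ l, yR φ 0 α l - algebraMap k (ratioAlg k φ 0) (c l) * yR φ 0 α l₀ ∈
      Ideal.span (Set.range (yR φ 0 α)) ^ 2) : IsNonsingularAt φ P := by
  classical
  set B := ratioAlg k φ 0 with hB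
  set m : Ideal B := Ideal.span (Set.range (yR φ 0 α)) with hm
  have hφj := hφ0 0
  -- Nakayama
  have hfg : (m : Submodule B B).FG := by
    rw [hm]
    exact Submodule.fg_span (Set.finite_range _)
  have hle : (m : Submodule B B) ≤ (Ideal.span {yR φ 0 α l₀} : Ideal B) ⊔ m • (m : Submodule B B) := by
    rw [hm, Ideal.span_le]
    rintro _ ⟨l, rfl⟩
    have h1 : yR φ 0 α l = algebraMap k B (c l) * yR φ 0 α l₀ +
        (yR φ 0 α l - algebraMap k B (c l) * yR φ 0 α l₀) := by ring
    rw [h1]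
    refine Submodule.add_mem_sup ?_ ?_
    · exact Ideal.mul_mem_left _ _ (Ideal.subset_span (Set.mem_singleton _))
    · have := hc l
      rw [pow_two] at this
      exact this
  obtain ⟨δ, hδ1, hδ2⟩ := Submodule.exists_sub_one_mem_and_smul_le_of_fg_of_le_sup
    (I := m) hfg le_rfl hle
  have hδval : P.1 (δ : K) = 1 := by
    have h1 : P.1 ((δ - 1 : B) : K) < 1 := val_lt_one_of_mem_span φ P 0 hφj hP α hα hδ1
    have h2 : (δ : K) = 1 + ((δ - 1 : B) : K) := by
      push_cast
      ring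
    rw [h2]
    exact P.1.map_one_add_of_lt h1
  have hδ0 : (δ : K) ≠ 0 := by
    intro h0
    rw [h0, map_zero] at hδval
    exact zero_ne_one hδval
  set y : K := ((yR φ 0 α l₀ : B) : K) with hy
  have hyval : P.1 y < 1 := hα l₀
  -- division by `y`
  have hdiv : ∀ b : B, P.1 (b : K) < 1 → ∃ b' : B, (δ : K) * (b : K) = y * (b' : K) := by
    intro b hb
    have hbm : b ∈ m := mem_span_of_val_lt_one φ P 0 hφj hP α hα b hb
    have h1 : δ • b ∈ δ • (m : Submodule B B) := Submodule.smul_mem_pointwise_smul _ _ _ hbm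
    have h2 := hδ2 h1
    rw [Ideal.mem_span_singleton'] at h2
    obtain ⟨b', hb'⟩ := h2
    refine ⟨b', ?_⟩
    have := congrArg (fun z : B => (z : K)) hb'
    simp only [smul_eq_mul, Subalgebra.coe_mul] at this
    rw [← this, mul_comm]
  -- main induction
  have hmain : ∀ N : ℕ, ∀ b₁ b₂ : B, (b₂ : K) ≠ 0 → P.1 (b₁ : K) ≤ P.1 (b₂ : K) →
      exp (-(N : ℤ)) ≤ P.1 (b₂ : K) → InLocRingAt φ P 0 ((b₁ : K) / (b₂ : K)) := by
    intro N
    induction N with
    | zero =>
      intro b₁ b₂ hb₂ _ hN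
      have h1 : P.1 (b₂ : K) = 1 := by
        apply le_antisymm (val_le_one_of_mem_ratioAlg hφj P hP b₂.2)
        simpa using hN
      exact ⟨b₁, b₁.2, b₂, b₂.2, h1, div_mul_cancel₀ _ hb₂⟩
    | succ N ih =>
      intro b₁ b₂ hb₂ h12 hN
      by_cases h1 : P.1 (b₂ : K) = 1
      · exact ⟨b₁, b₁.2, b₂, b₂.2, h1, div_mul_cancel₀ _ hb₂⟩
      have hb₂lt : P.1 (b₂ : K) < 1 :=
        lt_of_le_of_ne (val_le_one_of_mem_ratioAlg hφj P hP b₂.2) h1
      have hb₁lt : P.1 (b₁ : K) < 1 := lt_of_le_of_lt h12 hb₂lt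
      obtain ⟨b₁', hb₁'⟩ := hdiv b₁ hb₁lt
      obtain ⟨b₂', hb₂'⟩ := hdiv b₂ hb₂lt
      have hy0 : y ≠ 0 := by
        intro h0
        rw [h0, zero_mul] at hb₂'
        exact (mul_ne_zero hδ0 hb₂) hb₂'
      have hb₂'0 : (b₂' : K) ≠ 0 := by
        intro h0
        rw [h0, mul_zero] at hb₂'
        exact (mul_ne_zero hδ0 hb₂) hb₂'
      have hyv0 : P.1 y ≠ 0 := (Valuation.ne_zero_iff _).2 hy0
      have hv₁ : P.1 (b₁ : K) = P.1 y * P.1 (b₁' : K) := by
        have := congrArg P.1 hb₁'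
        rwa [map_mul, map_mul, hδval, one_mul] at this
      have hv₂ : P.1 (b₂ : K) = P.1 y * P.1 (b₂' : K) := by
        have := congrArg P.1 hb₂'
        rwa [map_mul, map_mul, hδval, one_mul] at this
      have heq : (b₁ : K) / (b₂ : K) = (b₁' : K) / (b₂' : K) := by
        rw [div_eq_div_iff hb₂ hb₂'0]
        have h3 : (δ : K) * ((b₁ : K) * (b₂' : K)) = (δ : K) * ((b₁' : K) * (b₂ : K)) := by
          calc (δ : K) * ((b₁ : K) * (b₂' : K)) = ((δ : K) * (b₁ : K)) * (b₂' : K) := by ring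
            _ = (y * (b₁' : K)) * (b₂' : K) := by rw [hb₁']
            _ = (b₁' : K) * (y * (b₂' : K)) := by ring
            _ = (b₁' : K) * ((δ : K) * (b₂ : K)) := by rw [hb₂']
            _ = (δ : K) * ((b₁' : K) * (b₂ : K)) := by ring
        exact mul_left_cancel₀ hδ0 h3
      rw [heq]
      apply ih b₁' b₂' hb₂'0
      · rw [hv₁, hv₂] at h12
        exact le_of_mul_le_mul_left h12 (zero_lt_iff.2 hyv0)
      · have hyle : P.1 y ≤ exp (-1 : ℤ) := Groth.Agent.FF.Ext.le_exp_neg_one_of_lt_one hyval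
        rw [hv₂] at hN
        have h4 : exp (-1 : ℤ) * exp (-(N : ℤ)) ≤ exp (-1 : ℤ) * P.1 (b₂' : K) := by
          calc exp (-1 : ℤ) * exp (-(N : ℤ)) = exp (-((N + 1 : ℕ) : ℤ)) := by
                rw [← exp_add]
                congr 1
                push_cast
                ring
            _ ≤ P.1 y * P.1 (b₂' : K) := hN
            _ ≤ exp (-1 : ℤ) * P.1 (b₂' : K) := mul_le_mul_left hyle _
        exact le_of_mul_le_mul_left h4 exp_pos
  intro z hz
  rw [inLocRing_iff_inLocRingAt hφj hP]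
  by_cases hz0 : z = 0
  · rw [hz0]
    exact ⟨0, zero_mem _, 1, one_mem _, map_one _, zero_mul _⟩
  have hzmem : z ∈ IntermediateField.adjoin k (Set.range fun i => φ i / φ 0) := by
    rw [hbir]
    trivial
  obtain ⟨b₁, hb₁, b₂, hb₂, rfl⟩ := IntermediateField.mem_adjoin_iff_div.1 hzmem
  have hb₂0 : b₂ ≠ 0 := by
    rintro rfl
    exact hz0 (div_zero _)
  have hv0 : P.1 b₂ ≠ 0 := (Valuation.ne_zero_iff _).2 hb₂0
  have h12 : P.1 b₁ ≤ P.1 b₂ := by
    rw [map_div₀] at hz
    exact (div_le_one₀ (zero_lt_iff.2 hv0)).1 hz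
  have hb₂le : P.1 b₂ ≤ 1 := val_le_one_of_mem_ratioAlg hφj P hP hb₂
  have hlog : log (P.1 b₂) ≤ 0 := by
    have h5 : exp (log (P.1 b₂)) ≤ exp (0 : ℤ) := by
      rw [exp_log hv0, exp_zero]
      exact hb₂le
    exact exp_le_exp.1 h5
  have hN : exp (-(((-log (P.1 b₂)).toNat : ℕ) : ℤ)) ≤ P.1 b₂ := by
    rw [Int.toNat_of_nonneg (by omega), neg_neg, exp_log hv0]
  exact hmain _ ⟨b₁, hb₁⟩ ⟨b₂, hb₂⟩ hb₂0 h12 hN

end Dir1

end Groth.Agent.H57.JacGen
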