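import Mathlib.LinearAlgebra.Matrix.Rank
import Mathlib.LinearAlgebra.Dual.Lemmas

/-!
# A linear-algebra criterion for corank one
-/

set_option autoImplicit false

namespace Groth.Agent.H57.JacGen

open Module

/-- The linear functional `v ↦ ∑ j, v j * s j`. -/
noncomputable def dotLin {κ : Type*} [Field κ] {n : ℕ} (s : Fin n → κ) : (Fin n → κ) →ₗ[κ] κ where
  toFun v := ∑ j, v j * s j
  map_add' v w := by
    simp only [Pi.add_apply, add_mul, Finset.sum_add_distrib]
  map_smul' c v := by
    simp only [Pi.smul_apply, smul_eq_mul, RingHom.id_apply, Finset.mul_sum, mul_assoc]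

theorem dotLin_apply {κ : Type*} [Field κ] {n : ℕ} (s : Fin n → κ) (v : Fin n → κ) :
    dotLin s v = ∑ j, v j * s j := rfl

theorem dotLin_single {κ : Type*} [Field κ] {n : ℕ} (s : Fin n → κ) (m : Fin n) :
    dotLin s (fun j => if j = m then 1 else 0) = s m := by
  classical
  rw [dotLin_apply]
  simp

/-- A matrix with `n ≥ 1` columns has rank `n - 1` iff its rows are killed by a vector `s` with
a coordinate equal to `1`, and the row space contains all `e_l - s_l e_{m₀}`. -/
theorem rank_eq_pred_iff {κ : Type*} [Field κ] {r n : ℕ} (hn : 1 ≤ n)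
    (J : Matrix (Fin r) (Fin n) κ) :
    J.rank = n - 1 ↔ ∃ (m₀ : Fin n) (s : Fin n → κ), s m₀ = 1 ∧ (∀ i, ∑ j, J i j * s j = 0) ∧
      ∀ l', ∃ d : Fin r → κ, ∀ j, ∑ i, d i * J i j =
        (if j = l' then 1 else 0) - s l' * (if j = m₀ then 1 else 0) := by
  classical
  rw [Matrix.rank_eq_finrank_span_row]
  set W := Submodule.span κ (Set.range J.row) with hW
  have hmemW : ∀ v : Fin n → κ, v ∈ W ↔ ∃ d : Fin r → κ, ∀ j, ∑ i, d i * J i j = v j := by
    intro v
    rw [hW, Submodule.mem_span_range_iff_exists_fun]
    refine exists_congr fun d => ?_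
    rw [funext_iff]
    refine forall_congr' fun j => ?_
    rw [Finset.sum_apply]
    simp only [Pi.smul_apply, smul_eq_mul, Matrix.row_apply]
  have hkerfin : ∀ f : (Fin n → κ) →ₗ[κ] κ, f ≠ 0 → finrank κ (LinearMap.ker f) + 1 = n := by
    intro f hf
    rw [Module.Dual.finrank_ker_add_one_of_ne_zero hf, Module.finrank_fin_fun]
  constructor
  · intro hrk
    have hlt : W < ⊤ := by
      refine lt_top_iff_ne_top.2 ?_
      intro htop
      rw [htop, finrank_top, Module.finrank_fin_fun] at hrk
      omega
    obtain ⟨f, hf0, hWf⟩ := Submodule.exists_le_ker_of_lt_top W hlt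
    have hker := hkerfin f hf0
    have hWeq : W = LinearMap.ker f := Submodule.eq_of_le_of_finrank_le hWf (by omega)
    set τ : Fin n → κ := fun j => f (fun j' => if j = j' then 1 else 0) with hτ
    have hfv : ∀ v : Fin n → κ, f v = ∑ j, v j * τ j := by
      intro v
      rw [LinearMap.pi_apply_eq_sum_univ f v]
      simp only [smul_eq_mul, hτ]
    obtain ⟨m₀, hm₀⟩ : ∃ m₀, τ m₀ ≠ 0 := by
      by_contra hcon
      push Not at hcon
      apply hf0
      refine LinearMap.ext fun v => ?_
      rw [hfv]
      simp [hcon]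
    refine ⟨m₀, fun j => τ j / τ m₀, div_self hm₀, ?_, ?_⟩
    · intro i
      have h1 : J.row i ∈ W := Submodule.subset_span ⟨i, rfl⟩
      have h2 : f (J.row i) = 0 := hWf h1
      rw [hfv] at h2
      simp only [Matrix.row_apply] at h2
      have h3 : ∑ j, J i j * (τ j / τ m₀) = (∑ j, J i j * τ j) / τ m₀ := by
        rw [div_eq_mul_inv, Finset.sum_mul]
        refine Finset.sum_congr rfl fun j _ => ?_
        rw [div_eq_mul_inv, mul_assoc]
      rw [h3, h2, zero_div]
    · intro l'
      rw [← hmemW (fun j => (if j = l' then 1 else 0) - τ l' / τ m₀ * (if j = m₀ then 1 else 0)),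
        hWeq, LinearMap.mem_ker, hfv]
      simp only [sub_mul, Finset.sum_sub_distrib]
      simp only [ite_mul, one_mul, zero_mul, mul_ite, mul_one, mul_zero, Finset.sum_ite_eq',
        Finset.mem_univ, if_true]
      field_simp
      ring
  · rintro ⟨m₀, s, hs1, hrows, hd⟩
    have hlam0 : dotLin s ≠ 0 := by
      intro h0
      have h1 := dotLin_single s m₀
      rw [h0, hs1] at h1
      exact zero_ne_one h1
    have hker := hkerfin (dotLin s) hlam0
    have hWle : W ≤ LinearMap.ker (dotLin s) := by
      rw [hW, Submodule.span_le]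
      rintro _ ⟨i, rfl⟩
      change dotLin s (J.row i) = 0
      rw [dotLin_apply]
      exact hrows i
    have hle : LinearMap.ker (dotLin s) ≤ W := by
      intro v hv
      rw [LinearMap.mem_ker, dotLin_apply] at hv
      have hv2 : v = ∑ l', v l' • (fun j => ((if j = l' then 1 else 0) -
          s l' * (if j = m₀ then 1 else 0) : κ)) := by
        funext j
        rw [Finset.sum_apply]
        simp only [Pi.smul_apply, smul_eq_mul, mul_sub, Finset.sum_sub_distrib]
        simp only [mul_ite, mul_one, mul_zero, Finset.sum_ite_eq, Finset.mem_univ, if_true]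
        by_cases hj : j = m₀
        · subst hj
          simp only [if_true]
          rw [hv, sub_zero]
        · simp only [hj, if_false, Finset.sum_const_zero, sub_zero]
      rw [hv2]
      refine Submodule.sum_mem _ fun l' _ => Submodule.smul_mem _ _ ?_
      rw [hmemW]
      exact hd l'
    have hWeq : W = LinearMap.ker (dotLin s) := le_antisymm hWle hle
    rw [hWeq]
    omega

end Groth.Agent.H57.JacGen
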