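import Groth.Agent.H57.JacDir2
import Groth.Agent.H57.JacLin
import Groth.Agent.H57.Expansion

/-!
# The Jacobian criterion for space curves: assembly
-/

set_option autoImplicit false

namespace Groth.Agent.H57.JacGen

open FunFld Groth.Agent.FF WithZero MvPolynomial Groth.Agent.H57 IntermediateField

universe u v
variable {k : Type u} {K : Type v} [Field k] [Field K] [Algebra k K]

theorem jacobian_rank [IsAlgClosed k] (hK : IsFunctionField k K) {n : ℕ} (hn : 1 ≤ n)
    (φ : Fin (n + 1) → K) (hφ : LinearIndependent k φ)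
    (hbir : IntermediateField.adjoin k (Set.range fun i => φ i / φ 0) = ⊤)
    (P : Place k K) (hP : ∀ i, P.1 (φ i) ≤ P.1 (φ 0)) {r : ℕ}
    (f : Fin r → MvPolynomial (Fin (n + 1)) k)
    (hhom : ∀ i, (f i).IsHomogeneous (f i).totalDegree)
    (hgen : Ideal.span (Set.range f) =
      RingHom.ker (MvPolynomial.aeval fun i => Polynomial.C (φ i) * Polynomial.X))
    (M : Matrix (Fin r) (Fin n) P.O)
    (hM : ∀ i j, ((M i j : P.O) : K) =
      MvPolynomial.aeval (fun l => φ l / φ 0) (MvPolynomial.pderiv j.succ (f i))) :
    IsNonsingularAt φ P ↔ (M.map (IsLocalRing.residue P.O)).rank = n - 1 := by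
  classical
  have hφ0 : ∀ i, φ i ≠ 0 := fun i => hφ.ne_zero i
  set α : Fin (n + 1) → k := fun i => alphaR hK φ P 0 i with hαdef
  have hα : ∀ i, P.1 (φ i / φ 0 - algebraMap k K (α i)) < 1 := fun i =>
    val_yR_lt_one hK hφ0 hP i
  have hι := bijective_algebraMap_residueField hK P
  have hMres : ∀ i j, IsLocalRing.residue P.O (M i j) =
      algebraMap k (IsLocalRing.ResidueField P.O) (eval α (pderiv j.succ (f i))) := by
    intro i j
    rw [← algebraMap_rho hK P (M i j)]
    congr 1
    apply rho_eq_of_val_lt_one
    rw [hM]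
    exact val_sub_eval_lt_one φ P (hφ0 0) hP α hα _
  have hfφ := aeval_generator_eq_zero φ hφ0 f hhom hgen
  rw [rank_eq_pred_iff hn]
  constructor
  · intro hns
    obtain ⟨_, l₀, hl₀⟩ := (isNonsingularAt_iff_condA_condB hK hφ0 hP hbir).1 hns
    have hl₀' : P.1 (φ l₀ / φ 0 - algebraMap k K (α l₀)) = exp (-1 : ℤ) := hl₀
    obtain ⟨c, hcl₀, hc0, hkill, hrows⟩ := dir2 hK φ hφ0 P hP α hα f hhom hgen hns l₀ hl₀'
    have hl₀0 : l₀ ≠ 0 := by
      rintro rfl
      rw [hcl₀] at hc0
      exact one_ne_zero hc0
    obtain ⟨m₀, rfl⟩ := Fin.exists_succ_eq.2 hl₀0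
    refine ⟨m₀, fun j => algebraMap k _ (c j.succ), ?_, ?_, ?_⟩
    · simp only [hcl₀, map_one]
    · intro i
      have h1 := hkill i
      rw [Fin.sum_univ_succ, hc0, mul_zero, zero_add] at h1
      have h2 := congrArg (algebraMap k (IsLocalRing.ResidueField P.O)) h1
      rw [map_sum, map_zero] at h2
      rw [← h2]
      refine Finset.sum_congr rfl fun j _ => ?_
      rw [Matrix.map_apply, hMres, map_mul]
    · intro l'
      obtain ⟨ω, hω, d, hd⟩ := hrows l'.succ
      refine ⟨fun i => algebraMap k _ (d i / ω), fun j => ?_⟩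
      have h1 := hd j.succ (Fin.succ_ne_zero j)
      have h2 : ∑ i, d i / ω * eval α (pderiv j.succ (f i)) =
          (if j = l' then 1 else 0) - c l'.succ * (if j = m₀ then 1 else 0) := by
        have h3 : ∑ i, d i / ω * eval α (pderiv j.succ (f i)) =
            (∑ i, d i * eval α (pderiv j.succ (f i))) / ω := by
          rw [div_eq_mul_inv, Finset.sum_mul]
          refine Finset.sum_congr rfl fun i _ => ?_
          ring
        rw [h3, ← h1, mul_div_cancel_left₀ _ hω]
        simp only [Fin.succ_inj]
      have h4 := congrArg (algebraMap k (IsLocalRing.ResidueField P.O)) h2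
      rw [map_sum, map_sub, map_mul] at h4
      have e1 : algebraMap k (IsLocalRing.ResidueField P.O) (if j = l' then 1 else 0) =
          if j = l' then 1 else 0 := by split_ifs <;> simp
      have e2 : algebraMap k (IsLocalRing.ResidueField P.O) (if j = m₀ then 1 else 0) =
          if j = m₀ then 1 else 0 := by split_ifs <;> simp
      rw [e1, e2] at h4
      rw [← h4]
      refine Finset.sum_congr rfl fun i _ => ?_
      rw [Matrix.map_apply, hMres, map_mul]
  · rintro ⟨m₀, s, hs1, hrows, hd⟩
    choose c' hc' using fun j => hι.2 (s j)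
    choose d hdd using hd
    choose dd hdd' using fun l' i => hι.2 (d l' i)
    have hc'm₀ : c' m₀ = 1 := by
      apply hι.1
      rw [hc', hs1, map_one]
    have hcomb : ∀ l' j, ∑ i, dd l' i * eval α (pderiv j.succ (f i)) =
        (if j = l' then 1 else 0) - c' l' * (if j = m₀ then 1 else 0) := by
      intro l' j
      apply hι.1
      rw [map_sum, map_sub, map_mul]
      have e1 : algebraMap k (IsLocalRing.ResidueField P.O) (if j = l' then 1 else 0) =
          if j = l' then 1 else 0 := by split_ifs <;> simp
      have e2 : algebraMap k (IsLocalRing.ResidueField P.O) (if j = m₀ then 1 else 0) =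
          if j = m₀ then 1 else 0 := by split_ifs <;> simp
      rw [e1, e2, hc', ← hdd l' j]
      refine Finset.sum_congr rfl fun i _ => ?_
      rw [Matrix.map_apply, hMres, map_mul, hdd']
    have hy0 : yR φ 0 α 0 = 0 := yR_j φ P 0 (hφ0 0) α hα
    refine isNonsingularAt_of_principal φ hφ0 hbir P hP α hα m₀.succ (Fin.cons 0 c') ?_
    intro l
    refine Fin.cases ?_ (fun l' => ?_) l
    · rw [hy0, Fin.cons_zero, map_zero, zero_mul, sub_zero]
      exact Ideal.zero_mem _
    · rw [Fin.cons_succ]
      have hsum : ∑ i, algebraMap k (ratioAlg k φ 0) (dd l' i) *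
          (∑ j, algebraMap k (ratioAlg k φ 0) (eval α (pderiv j (f i))) * yR φ 0 α j) ∈
          Ideal.span (Set.range (yR φ 0 α)) ^ 2 := by
        refine Ideal.sum_mem _ fun i _ => Ideal.mul_mem_left _ _ ?_
        exact tangent_mem_sq φ P 0 (hφ0 0) hP α hα (f i) (hhom i) (hfφ i)
      have heq : ∑ i, algebraMap k (ratioAlg k φ 0) (dd l' i) *
          (∑ j, algebraMap k (ratioAlg k φ 0) (eval α (pderiv j (f i))) * yR φ 0 α j) =
          yR φ 0 α l'.succ - algebraMap k (ratioAlg k φ 0) (c' l') * yR φ 0 α m₀.succ := by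
        have h1 : ∀ i, algebraMap k (ratioAlg k φ 0) (dd l' i) *
            (∑ j, algebraMap k (ratioAlg k φ 0) (eval α (pderiv j (f i))) * yR φ 0 α j) =
            ∑ j : Fin n, algebraMap k (ratioAlg k φ 0)
              (dd l' i * eval α (pderiv j.succ (f i))) * yR φ 0 α j.succ := by
          intro i
          rw [Fin.sum_univ_succ, hy0, mul_zero, zero_add, Finset.mul_sum]
          refine Finset.sum_congr rfl fun j _ => ?_
          rw [map_mul, mul_assoc]
        rw [Finset.sum_congr rfl fun i _ => h1 i, Finset.sum_comm]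
        have h2 : ∀ j : Fin n, ∑ i, algebraMap k (ratioAlg k φ 0)
              (dd l' i * eval α (pderiv j.succ (f i))) * yR φ 0 α j.succ =
            algebraMap k (ratioAlg k φ 0)
              ((if j = l' then 1 else 0) - c' l' * (if j = m₀ then 1 else 0)) *
              yR φ 0 α j.succ := by
          intro j
          rw [← Finset.sum_mul, ← map_sum, hcomb]
        rw [Finset.sum_congr rfl fun j _ => h2 j]
        simp only [map_sub, map_mul, sub_mul, Finset.sum_sub_distrib]
        congr 1
        · rw [Finset.sum_eq_single l']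
          · simp
          · intro j _ hj
            simp [hj]
          · intro h
            exact absurd (Finset.mem_univ _) h
        · rw [Finset.sum_eq_single m₀]
          · simp
          · intro j _ hj
            simp [hj]
          · intro h
            exact absurd (Finset.mem_univ _) h
      rw [← heq]
      exact hsum

end Groth.Agent.H57.JacGen
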