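import Groth.Agent.H57.JacGen

/-!
# Relations among the ratios come from homogeneous relations
-/

set_option autoImplicit false

namespace Groth.Agent.H57.JacGen

open FunFld Groth.Agent.FF WithZero MvPolynomial Groth.Agent.H57 IntermediateField

universe u v
variable {k : Type u} {K : Type v} [Field k] [Field K] [Algebra k K]
variable {n : ℕ} (φ : Fin (n + 1) → K)

/-- The map `Xᵢ ↦ φᵢ T` on a homogeneous polynomial. -/
theorem aeval_CX_of_isHomogeneous {H : MvPolynomial (Fin (n + 1)) k} {D : ℕ}
    (hH : H.IsHomogeneous D) :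
    aeval (fun i => Polynomial.C (φ i) * Polynomial.X) H =
      Polynomial.C (aeval φ H) * Polynomial.X ^ D := by
  have h1 : (fun i => Polynomial.C (φ i) * (Polynomial.X : Polynomial K)) =
      fun i => Polynomial.X * (algebraMap K (Polynomial K) ∘ φ) i := by
    funext i
    rw [Function.comp_apply, Polynomial.algebraMap_eq, mul_comm]
  rw [h1, aeval_mul_of_isHomogeneous hH, aeval_algebraMap_apply, Polynomial.algebraMap_eq,
    mul_comm]

/-- A homogeneous polynomial vanishing at `φ` is a homogeneous relation. -/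
theorem mem_ker_of_isHomogeneous {H : MvPolynomial (Fin (n + 1)) k} {D : ℕ}
    (hH : H.IsHomogeneous D) (h0 : aeval φ H = 0) :
    H ∈ RingHom.ker (aeval fun i => Polynomial.C (φ i) * Polynomial.X :
      MvPolynomial (Fin (n + 1)) k →ₐ[k] Polynomial K) := by
  rw [RingHom.mem_ker, aeval_CX_of_isHomogeneous φ hH, h0, map_zero, zero_mul]

/-- A homogeneous relation vanishes at `φ`. -/
theorem aeval_eq_zero_of_mem_ker {H : MvPolynomial (Fin (n + 1)) k} {D : ℕ}
    (hH : H.IsHomogeneous D)
    (h0 : H ∈ RingHom.ker (aeval fun i => Polynomial.C (φ i) * Polynomial.X :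
      MvPolynomial (Fin (n + 1)) k →ₐ[k] Polynomial K)) : aeval φ H = 0 := by
  rw [RingHom.mem_ker, aeval_CX_of_isHomogeneous φ hH] at h0
  have := congrArg (fun q => Polynomial.coeff q D) h0
  simp only [Polynomial.coeff_C_mul, Polynomial.coeff_X_pow, if_true, mul_one,
    Polynomial.coeff_zero] at this
  exact this

/-- **Relations among the ratios** are combinations of the homogeneous relations modulo
`X₀ - 1`. -/
theorem exists_combination (hφ0 : φ 0 ≠ 0) {r : ℕ} (f : Fin r → MvPolynomial (Fin (n + 1)) k)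
    (hgen : Ideal.span (Set.range f) =
      RingHom.ker (aeval fun i => Polynomial.C (φ i) * Polynomial.X :
        MvPolynomial (Fin (n + 1)) k →ₐ[k] Polynomial K))
    (G : MvPolynomial (Fin (n + 1)) k) (hG : aeval (fun i => φ i / φ 0) G = 0) :
    ∃ h : Fin r → MvPolynomial (Fin (n + 1)) k,
      G - ∑ i, h i * f i ∈ Ideal.span {(X 0 - 1 : MvPolynomial (Fin (n + 1)) k)} := by
  classical
  set D := G.totalDegree with hD
  set Gh : MvPolynomial (Fin (n + 1)) k :=
    ∑ d ∈ Finset.range (D + 1), X 0 ^ (D - d) * homogeneousComponent d G with hGh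
  have hGsum : G = ∑ d ∈ Finset.range (D + 1), homogeneousComponent d G :=
    (sum_homogeneousComponent G).symm
  have hdiff : Gh - G ∈ Ideal.span {(X 0 - 1 : MvPolynomial (Fin (n + 1)) k)} := by
    have : Gh - G = ∑ d ∈ Finset.range (D + 1),
        (X 0 ^ (D - d) - 1) * homogeneousComponent d G := by
      conv_lhs => rw [hGsum]
      rw [hGh, ← Finset.sum_sub_distrib]
      refine Finset.sum_congr rfl fun d _ => ?_
      ring
    rw [this]
    refine Ideal.sum_mem _ fun d _ => Ideal.mul_mem_right _ _ ?_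
    rw [Ideal.mem_span_singleton]
    have := sub_dvd_pow_sub_pow (X 0 : MvPolynomial (Fin (n + 1)) k) 1 (D - d)
    rwa [one_pow] at this
  have hhom : Gh.IsHomogeneous D := by
    rw [hGh]
    refine IsHomogeneous.sum _ _ _ fun d hd => ?_
    have hd' : d ≤ D := Nat.lt_succ_iff.1 (Finset.mem_range.1 hd)
    have h1 : (X 0 ^ (D - d) : MvPolynomial (Fin (n + 1)) k).IsHomogeneous (D - d) :=
      isHomogeneous_X_pow 0 (D - d)
    have h2 := h1.mul (homogeneousComponent_isHomogeneous d G)
    rwa [Nat.sub_add_cancel hd'] at h2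
  have hx0 : (fun i => φ i / φ 0) 0 = 1 := div_self hφ0
  have hGhx : aeval (fun i => φ i / φ 0) Gh = 0 := by
    rw [← hG]
    conv_rhs => rw [hGsum]
    rw [hGh, map_sum, map_sum]
    refine Finset.sum_congr rfl fun d _ => ?_
    rw [map_mul, map_pow, aeval_X, div_self hφ0, one_pow, one_mul]
  have hGhφ : aeval φ Gh = 0 := by
    have h1 : φ = fun i => φ 0 * (φ i / φ 0) := by
      funext i
      rw [mul_div_cancel₀ _ hφ0]
    rw [h1, aeval_mul_of_isHomogeneous hhom, hGhx, mul_zero]
  have hmem : Gh ∈ Ideal.span (Set.range f) := by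
    rw [hgen]
    exact mem_ker_of_isHomogeneous φ hhom hGhφ
  obtain ⟨h, hh⟩ := (Ideal.mem_span_range_iff_exists_fun).1 hmem
  refine ⟨h, ?_⟩
  rw [hh]
  have := (Ideal.neg_mem_iff _).2 hdiff
  rwa [neg_sub] at this

/-- The gradient of a relation among the ratios, at the image point, is a combination of the
gradients of the homogeneous relations. -/
theorem eval_pderiv_eq (hφ0 : φ 0 ≠ 0) {r : ℕ} (f : Fin r → MvPolynomial (Fin (n + 1)) k)
    (hgen : Ideal.span (Set.range f) =
      RingHom.ker (aeval fun i => Polynomial.C (φ i) * Polynomial.X :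
        MvPolynomial (Fin (n + 1)) k →ₐ[k] Polynomial K))
    (α : Fin (n + 1) → k) (hα0 : α 0 = 1) (hfα : ∀ i, eval α (f i) = 0)
    (G : MvPolynomial (Fin (n + 1)) k) (hG : aeval (fun i => φ i / φ 0) G = 0) :
    ∃ d : Fin r → k, ∀ j : Fin (n + 1), j ≠ 0 →
      eval α (pderiv j G) = ∑ i, d i * eval α (pderiv j (f i)) := by
  obtain ⟨h, hh⟩ := exists_combination φ hφ0 f hgen G hG
  rw [Ideal.mem_span_singleton'] at hh
  obtain ⟨H, hH⟩ := hh
  refine ⟨fun i => eval α (h i), fun j hj => ?_⟩
  have hGeq : G = ∑ i, h i * f i + H * (X 0 - 1) := by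
    rw [hH]
    ring
  rw [hGeq, map_add, map_sum, map_add, map_sum]
  have h1 : ∀ i, eval α (pderiv j (h i * f i)) = eval α (h i) * eval α (pderiv j (f i)) := by
    intro i
    rw [Derivation.leibniz, smul_eq_mul, smul_eq_mul, map_add, map_mul, map_mul, hfα i,
      zero_mul, add_zero]
  have h2 : eval α (pderiv j (H * (X 0 - 1))) = 0 := by
    have h3 : pderiv j (X 0 - 1 : MvPolynomial (Fin (n + 1)) k) = 0 := by
      rw [map_sub, pderiv_X, Pi.single_eq_of_ne (Ne.symm hj), pderiv_one, sub_self]
    have h4 : eval α (X 0 - 1 : MvPolynomial (Fin (n + 1)) k) = 0 := by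
      rw [map_sub, eval_X, hα0, map_one, sub_self]
    rw [Derivation.leibniz, h3, smul_zero, zero_add, smul_eq_mul, map_mul, h4, zero_mul]
  rw [Finset.sum_congr rfl fun i _ => h1 i, h2, add_zero]

end Groth.Agent.H57.JacGen
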