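import Groth.Agent.H57.Orders2
import Mathlib.LinearAlgebra.LinearIndependent.Lemmas
import Mathlib.LinearAlgebra.FiniteDimensional.Lemmas

set_option autoImplicit false

namespace Groth.Agent.H57

open FunFld

/-- Jump vectors taken along a strictly increasing index family are linearly independent. -/
theorem linearIndependent_of_isJump {K V : Type*} [Field K] [AddCommGroup V] [Module K V]
    (e : ℕ → V) : ∀ {m : ℕ} (idx : Fin m → ℕ), StrictMono idx → (∀ i, IsJump K e (idx i)) →
    LinearIndependent K (fun i => e (idx i)) := by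
  intro m
  induction m with
  | zero => intro idx _ _; exact linearIndependent_empty_type
  | succ m ih =>
    intro idx hmono hjump
    rw [linearIndependent_finSucc']
    refine ⟨?_, ?_⟩
    · have := ih (fun i => idx (Fin.castSucc i))
        (fun a b hab => hmono (Fin.castSucc_lt_castSucc_iff.2 hab)) (fun i => hjump _)
      exact this
    · intro hmem
      apply hjump (Fin.last m)
      refine Submodule.span_mono ?_ hmem
      rintro _ ⟨i, rfl⟩
      refine ⟨idx (Fin.castSucc i), ?_, rfl⟩
      exact hmono (Fin.castSucc_lt_last i)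

/-- Inserting a nonzero vector `v` of the total span in front of a sequence kills exactly one of its
jumps. -/
theorem exists_jump_killed {K V : Type*} [Field K] [AddCommGroup V] [Module K V]
    (e : ℕ → V) (v : V) (hv : v ≠ 0) (hmem : ∃ N, v ∈ Submodule.span K (e '' Set.Iio N)) :
    ∃ j₀, IsJump K e j₀ ∧ v ∈ Submodule.span K (e '' Set.Iio (j₀ + 1)) ∧
      v ∉ Submodule.span K (e '' Set.Iio j₀) ∧
      ∀ j, (e j ∉ Submodule.span K {v} ⊔ Submodule.span K (e '' Set.Iio j)) ↔
        (j ≠ j₀ ∧ IsJump K e j) := by
  classical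
  have hsucc : ∀ N, Submodule.span K (e '' Set.Iio (N + 1)) =
      Submodule.span K {e N} ⊔ Submodule.span K (e '' Set.Iio N) := by
    intro N
    have h1 : Set.Iio (N + 1) = insert N (Set.Iio N) := by
      ext j; simp only [Set.mem_Iio, Set.mem_insert_iff]; omega
    rw [h1, Set.image_insert_eq, Submodule.span_insert]
  have hmono : ∀ {a b : ℕ}, a ≤ b →
      Submodule.span K (e '' Set.Iio a) ≤ Submodule.span K (e '' Set.Iio b) := by
    intro a b hab
    exact Submodule.span_mono (Set.image_mono (Set.Iio_subset_Iio hab))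
  set N₀ := Nat.find hmem with hN₀
  have hN₀mem : v ∈ Submodule.span K (e '' Set.Iio N₀) := Nat.find_spec hmem
  have hN₀pos : N₀ ≠ 0 := by
    intro h0
    rw [h0] at hN₀mem
    simp at hN₀mem
    exact hv hN₀mem
  obtain ⟨j₀, hj₀⟩ : ∃ j₀, N₀ = j₀ + 1 := ⟨N₀ - 1, by omega⟩
  have hnot : v ∉ Submodule.span K (e '' Set.Iio j₀) := by
    have := Nat.find_min hmem (m := j₀) (by omega)
    exact this
  rw [hj₀] at hN₀mem
  -- v = a + λ e j₀ with λ ≠ 0
  have hdecomp : ∃ (a : V) (lam : K), a ∈ Submodule.span K (e '' Set.Iio j₀) ∧ lam ≠ 0 ∧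
      v = lam • e j₀ + a := by
    rw [hsucc, Submodule.mem_sup] at hN₀mem
    obtain ⟨y, hy, a, ha, hya⟩ := hN₀mem
    rw [Submodule.mem_span_singleton] at hy
    obtain ⟨lam, rfl⟩ := hy
    refine ⟨a, lam, ha, ?_, hya.symm⟩
    rintro rfl
    rw [zero_smul, zero_add] at hya
    exact hnot (hya ▸ ha)
  obtain ⟨a, lam, ha, hlam, hva⟩ := hdecomp
  have hjump₀ : IsJump K e j₀ := by
    intro hmem'
    apply hnot
    rw [hva]
    exact Submodule.add_mem _ (Submodule.smul_mem _ _ hmem') ha
  refine ⟨j₀, hjump₀, hN₀mem, hnot, ?_⟩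
  intro j
  rcases lt_trichotomy j j₀ with hlt | heq | hgt
  · -- v ∉ span (e '' Iio (j+1))
    have hvn : v ∉ Submodule.span K (e '' Set.Iio (j + 1)) := fun h => hnot (hmono hlt h)
    constructor
    · intro h
      refine ⟨ne_of_lt hlt, fun h' => h (Submodule.mem_sup_right h')⟩
    · rintro ⟨_, hj⟩ h
      rw [Submodule.mem_sup] at h
      obtain ⟨y, hy, b, hb, hyb⟩ := h
      rw [Submodule.mem_span_singleton] at hy
      obtain ⟨mu, rfl⟩ := hy
      by_cases hmu : mu = 0
      · subst hmu
        rw [zero_smul, zero_add] at hyb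
        exact hj (hyb ▸ hb)
      · apply hvn
        have : v = mu⁻¹ • (e j - b) := by
          rw [← hyb, add_sub_cancel_right, smul_smul, inv_mul_cancel₀ hmu, one_smul]
        rw [this, hsucc]
        refine Submodule.smul_mem _ _ (Submodule.sub_mem _ (Submodule.mem_sup_left ?_)
          (Submodule.mem_sup_right hb))
        exact Submodule.mem_span_singleton_self _
  · subst heq
    constructor
    · intro h
      exfalso
      apply h
      have : e j = lam⁻¹ • (v - a) := by
        rw [hva, add_sub_cancel_right, smul_smul, inv_mul_cancel₀ hlam, one_smul]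
      rw [this]
      refine Submodule.smul_mem _ _ (Submodule.sub_mem _ (Submodule.mem_sup_left ?_)
        (Submodule.mem_sup_right ha))
      exact Submodule.mem_span_singleton_self _
    · rintro ⟨h, _⟩
      exact absurd rfl h
  · have hvj : v ∈ Submodule.span K (e '' Set.Iio j) := hmono (by omega) hN₀mem
    have hsup : Submodule.span K {v} ⊔ Submodule.span K (e '' Set.Iio j) =
        Submodule.span K (e '' Set.Iio j) := by
      rw [sup_eq_right, Submodule.span_singleton_le_iff_mem]
      exact hvj
    rw [hsup]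
    constructor
    · intro h
      exact ⟨ne_of_gt hgt, h⟩
    · rintro ⟨_, h⟩
      exact h

/-- Replacing the leading column of a sequence `c` with `c 1 = c 0` by a vector `v` that is not
proportional to `c 0`: the new sequence of jumps after the leading column is `0` together with the
old orders, one of them removed. -/
theorem exists_orders_replace_leading {K V : Type*} [Field K] [AddCommGroup V] [Module K V]
    (c c' : ℕ → V) (hcc' : ∀ j, c' (j + 1) = c (j + 1)) (h01 : c 1 = c 0)
    (hv0 : c' 0 ≠ 0) (hv : c' 0 ∉ Submodule.span K {c 0}) (hc0 : c 0 ≠ 0)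
    (htop : ∃ N, c' 0 ∈ Submodule.span K (c '' Set.Iio N))
    {n : ℕ} (J : Fin n → ℕ) (hJ : IsOrders K c J) :
    ∃ m : Fin n, ∀ j : ℕ, IsJump K c' (j + 1) ↔ (j = 0 ∨ ∃ l, l ≠ m ∧ J l = j) := by
  classical
  set e : ℕ → V := fun j => c (j + 1) with he
  set v := c' 0 with hvdef
  have he0 : e 0 = c 0 := h01
  -- spans of c in terms of e
  have hA : ∀ N, 1 ≤ N → Submodule.span K (c '' Set.Iio (N + 1)) =
      Submodule.span K (e '' Set.Iio N) := by
    intro N hN
    induction N, hN using Nat.le_induction with
    | base =>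
      have h1 : Set.Iio (1 + 1) = ({0, 1} : Set ℕ) := by
        ext j; simp only [Set.mem_Iio, Set.mem_insert_iff, Set.mem_singleton_iff]; omega
      have h2 : Set.Iio 1 = ({0} : Set ℕ) := by
        ext j; simp only [Set.mem_Iio, Set.mem_singleton_iff]; omega
      rw [h1, h2, Set.image_pair, Set.image_singleton, h01]
      simp [he0]
    | succ N hN ih =>
      have h1 : ∀ M, Set.Iio (M + 1) = insert M (Set.Iio M) := by
        intro M; ext j; simp only [Set.mem_Iio, Set.mem_insert_iff]; omega
      rw [h1 (N + 1), Set.image_insert_eq, Submodule.span_insert, ih, h1 N, Set.image_insert_eq,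
        Submodule.span_insert]
  have hB : ∀ N, Submodule.span K (c' '' Set.Iio (N + 1)) =
      Submodule.span K {v} ⊔ Submodule.span K (e '' Set.Iio N) := by
    intro N
    induction N with
    | zero =>
      have h2 : Set.Iio (0 + 1) = ({0} : Set ℕ) := by
        ext j; simp only [Set.mem_Iio, Set.mem_singleton_iff]; omega
      rw [h2, Set.image_singleton]
      simp [hvdef]
    | succ N ih =>
      have h1 : ∀ M, Set.Iio (M + 1) = insert M (Set.Iio M) := by
        intro M; ext j; simp only [Set.mem_Iio, Set.mem_insert_iff]; omega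
      rw [h1 (N + 1), Set.image_insert_eq, Submodule.span_insert, ih, h1 N, Set.image_insert_eq,
        Submodule.span_insert, hcc' N]
      rw [← sup_assoc, ← sup_assoc, sup_comm (Submodule.span K {c (N + 1)})]
  -- jumps of c after the leading column are the jumps of e at positive indices
  have hjumpc : ∀ j, IsJump K c (j + 1) ↔ (1 ≤ j ∧ IsJump K e j) := by
    intro j
    unfold IsJump
    rcases Nat.eq_zero_or_pos j with h0 | hpos
    · subst h0
      constructor
      · intro h
        exfalso
        apply h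
        apply Submodule.subset_span
        exact ⟨0, by simp, h01.symm⟩
      · rintro ⟨h, _⟩
        omega
    · rw [hA j hpos]
      constructor
      · intro h; exact ⟨hpos, h⟩
      · rintro ⟨_, h⟩; exact h
  have htop' : ∃ N, v ∈ Submodule.span K (e '' Set.Iio N) := by
    obtain ⟨N, hN⟩ := htop
    refine ⟨N + 1, ?_⟩
    rw [← hA (N + 1) (by omega)]
    refine Submodule.span_mono (Set.image_mono (Set.Iio_subset_Iio ?_)) hN
    omega
  obtain ⟨j₀, hj₀jump, hj₀mem, hj₀not, hj₀⟩ := exists_jump_killed e v hv0 htop'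
  have hj₀pos : 1 ≤ j₀ := by
    by_contra h
    have h0 : j₀ = 0 := by omega
    subst h0
    apply hv
    have h2 : Set.Iio (0 + 1) = ({0} : Set ℕ) := by
      ext j; simp only [Set.mem_Iio, Set.mem_singleton_iff]; omega
    rw [h2, Set.image_singleton, he0] at hj₀mem
    exact hj₀mem
  obtain ⟨hJmono, hJrange⟩ := hJ
  obtain ⟨m, hm⟩ := (hJrange j₀).2 ((hjumpc j₀).2 ⟨hj₀pos, hj₀jump⟩)
  refine ⟨m, fun j => ?_⟩
  have hiff : IsJump K c' (j + 1) ↔ (j ≠ j₀ ∧ IsJump K e j) := by
    rw [← hj₀ j]
    unfold IsJump
    rw [hB j, hcc' j]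
  rw [hiff]
  rcases Nat.eq_zero_or_pos j with h0 | hpos
  · subst h0
    constructor
    · intro _; exact Or.inl rfl
    · intro _
      refine ⟨by omega, ?_⟩
      unfold IsJump
      have hI0 : Set.Iio (0 : ℕ) = ∅ := by
        ext j; simp
      rw [hI0, Set.image_empty, Submodule.span_empty, Submodule.mem_bot, he0]
      exact hc0
  · constructor
    · rintro ⟨hne, hj⟩
      right
      obtain ⟨l, hl⟩ := (hJrange j).2 ((hjumpc j).2 ⟨hpos, hj⟩)
      refine ⟨l, ?_, hl⟩
      rintro rfl
      exact hne (hl.symm.trans hm)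
    · rintro (h0 | ⟨l, hlm, hl⟩)
      · omega
      · refine ⟨?_, ?_⟩
        · intro hjj
          apply hlm
          apply hJmono.injective
          rw [hl, hm, hjj]
        · exact ((hjumpc j).1 ((hJrange j).1 ⟨l, hl⟩)).2

end Groth.Agent.H57
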