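import Groth.Prelude.Def_LocRes
import Mathlib.RingTheory.LaurentSeries
import Mathlib.Algebra.MonoidAlgebra.Basic

set_option autoImplicit false

namespace Groth.Agent.H57

open PowerSeries in
/-- Derivative of an integer power of a unit power series. -/
theorem ps_derivative_units_zpow {R : Type*} [CommRing R] (U : R⟦X⟧ˣ) (n : ℤ) :
    d⁄dX R ((U ^ n : R⟦X⟧ˣ) : R⟦X⟧) = (n : R⟦X⟧) * ((U ^ (n - 1) : R⟦X⟧ˣ) : R⟦X⟧) * d⁄dX R (U : R⟦X⟧) := by
  induction n using Int.induction_on with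
  | zero => simp
  | succ k ih =>
    rw [zpow_add_one, Units.val_mul, Derivation.leibniz, ih, add_sub_cancel_right, smul_eq_mul, smul_eq_mul]
    have : ((U ^ (k : ℤ) : R⟦X⟧ˣ) : R⟦X⟧) = ((U ^ ((k : ℤ) - 1) : R⟦X⟧ˣ) : R⟦X⟧) * (U : R⟦X⟧) := by
      rw [← Units.val_mul, ← zpow_add_one, sub_add_cancel]
    rw [this]
    push_cast
    ring
  | pred k ih =>
    have h1 : ((U ^ (-(k : ℤ)) : R⟦X⟧ˣ) : R⟦X⟧) = ((U ^ (-(k : ℤ) - 1) : R⟦X⟧ˣ) : R⟦X⟧) * (U : R⟦X⟧) := by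
      rw [← Units.val_mul, ← zpow_add_one, sub_add_cancel]
    have h2 : ((U ^ (-(k : ℤ) - 1) : R⟦X⟧ˣ) : R⟦X⟧) = ((U ^ (-(k : ℤ) - 1 - 1) : R⟦X⟧ˣ) : R⟦X⟧) * (U : R⟦X⟧) := by
      rw [← Units.val_mul, ← zpow_add_one, sub_add_cancel]
    have h3 := ih
    rw [h1, Derivation.leibniz, smul_eq_mul, smul_eq_mul] at h3
    have h4 : (U : R⟦X⟧) * d⁄dX R ((U ^ (-(k : ℤ) - 1) : R⟦X⟧ˣ) : R⟦X⟧) =
        ((-(k : ℤ) - 1 : ℤ) : R⟦X⟧) * ((U ^ (-(k : ℤ) - 1) : R⟦X⟧ˣ) : R⟦X⟧) * d⁄dX R (U : R⟦X⟧) := by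
      push_cast
      push_cast at h3
      linear_combination h3
    have h5 : d⁄dX R ((U ^ (-(k : ℤ) - 1) : R⟦X⟧ˣ) : R⟦X⟧) =
        ((U⁻¹ : R⟦X⟧ˣ) : R⟦X⟧) * ((U : R⟦X⟧) * d⁄dX R ((U ^ (-(k : ℤ) - 1) : R⟦X⟧ˣ) : R⟦X⟧)) := by
      rw [← mul_assoc, Units.inv_mul, one_mul]
    rw [h5, h4, h2]
    have h6 : ((U⁻¹ : R⟦X⟧ˣ) : R⟦X⟧) * (U : R⟦X⟧) = 1 := Units.inv_mul U
    linear_combination (((-(k : ℤ) - 1 : ℤ) : R⟦X⟧) * ((U ^ (-(k : ℤ) - 1 - 1) : R⟦X⟧ˣ) : R⟦X⟧) * d⁄dX R (U : R⟦X⟧)) * h6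


open PowerSeries in
/-- The universal identity behind `res (g^(n-1) dg) = 0`, over a ring without `ℤ`-torsion. -/
theorem ps_coeff_identity_torsionFree {R : Type*} [CommRing R]
    (hR : ∀ (n : ℤ) (x : R), n ≠ 0 → (n : R) * x = 0 → x = 0)
    (U : R⟦X⟧ˣ) (n m : ℤ) (hn : n ≠ 0) (N : ℕ) (hN : (N : ℤ) + 1 = -(m * n)) :
    (m : R) * coeff (N + 1) ((U ^ n : R⟦X⟧ˣ) : R⟦X⟧) +
      coeff N (((U ^ (n - 1) : R⟦X⟧ˣ) : R⟦X⟧) * d⁄dX R (U : R⟦X⟧)) = 0 := by
  apply hR n _ hn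
  have h1 := congrArg (coeff N) (ps_derivative_units_zpow U n)
  rw [coeff_derivative, mul_assoc] at h1
  have h2 : coeff N ((n : R⟦X⟧) * (((U ^ (n - 1) : R⟦X⟧ˣ) : R⟦X⟧) * d⁄dX R (U : R⟦X⟧))) =
      (n : R) * coeff N (((U ^ (n - 1) : R⟦X⟧ˣ) : R⟦X⟧) * d⁄dX R (U : R⟦X⟧)) := by
    have : (n : R⟦X⟧) = C (n : R) := by simp
    rw [this, coeff_C_mul]
  rw [h2] at h1
  have h3 : ((N : R) + 1) = -((m : R) * (n : R)) := by
    have := congrArg (Int.cast (R := R)) hN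
    push_cast at this
    exact this
  rw [mul_add, ← h1, h3]
  ring


open PowerSeries in
theorem ps_derivative_map {R S : Type*} [CommRing R] [CommRing S] (ψ : R →+* S) (f : R⟦X⟧) :
    d⁄dX S (PowerSeries.map ψ f) = PowerSeries.map ψ (d⁄dX R f) := by
  ext n
  simp [coeff_derivative]

theorem monoidAlgebra_int_torsionFree (G : Type*) [CommGroup G] (n : ℤ) (x : MonoidAlgebra ℤ G)
    (hn : n ≠ 0) (h : (n : MonoidAlgebra ℤ G) * x = 0) : x = 0 := by
  rw [← zsmul_eq_mul] at h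
  ext g
  have := congrArg (fun f => f.coeff g) h
  simp only [MonoidAlgebra.coeff_smul_apply, MonoidAlgebra.coeff_zero, Finsupp.coe_zero,
    Pi.zero_apply, smul_eq_mul, mul_eq_zero] at this
  simp
  tauto

open PowerSeries in
/-- The identity behind `res (g^(n-1) dg) = 0` over an arbitrary field, by lifting to the
integral group ring of the unit group, which has no `ℤ`-torsion. -/
theorem ps_coeff_identity_field {F : Type*} [Field F] (u : F⟦X⟧ˣ) (n m : ℤ) (hn : n ≠ 0) (N : ℕ)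
    (hN : (N : ℤ) + 1 = -(m * n)) :
    (m : F) * coeff (N + 1) ((u ^ n : F⟦X⟧ˣ) : F⟦X⟧) +
      coeff N (((u ^ (n - 1) : F⟦X⟧ˣ) : F⟦X⟧) * d⁄dX F (u : F⟦X⟧)) = 0 := by
  classical
  let R := MonoidAlgebra ℤ Fˣ
  let ψ : R →+* F := (MonoidAlgebra.lift ℤ F Fˣ (Units.coeHom F)).toRingHom
  let s : F → R := fun a => if h : a = 0 then 0 else MonoidAlgebra.of ℤ Fˣ (Units.mk0 a h)
  have hs : ∀ a, ψ (s a) = a := by
    intro a
    by_cases h : a = 0
    · simp [s, h]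
    · simp only [s, h, ψ, dif_neg, not_false_eq_true]
      change (MonoidAlgebra.lift ℤ F Fˣ (Units.coeHom F)) (MonoidAlgebra.of ℤ Fˣ (Units.mk0 a h)) = a
      rw [MonoidAlgebra.lift_of]
      rfl
  let U₀ : R⟦X⟧ := PowerSeries.mk (fun i => s (coeff i (u : F⟦X⟧)))
  have hU₀ : PowerSeries.map ψ U₀ = u := by
    ext i; simp [U₀, hs]
  have hunit : IsUnit U₀ := by
    rw [isUnit_iff_constantCoeff]
    have h0 : constantCoeff (u : F⟦X⟧) ≠ 0 :=
      (isUnit_iff_constantCoeff.1 u.isUnit).ne_zero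
    have h1 : constantCoeff U₀ = MonoidAlgebra.of ℤ Fˣ (Units.mk0 _ h0) := by
      simp only [U₀, ← coeff_zero_eq_constantCoeff_apply, coeff_mk, s]
      rw [dif_neg]
    rw [h1]
    exact (Group.isUnit _).map _
  obtain ⟨U, hU⟩ := hunit
  have hmapU : Units.map (PowerSeries.map ψ).toMonoidHom U = u :=
    Units.ext (by simp [hU, hU₀])
  have hpow : ∀ k : ℤ, PowerSeries.map ψ ((U ^ k : R⟦X⟧ˣ) : R⟦X⟧) = ((u ^ k : F⟦X⟧ˣ) : F⟦X⟧) := by
    intro k
    rw [← hmapU, ← map_zpow]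
    rfl
  have key := ps_coeff_identity_torsionFree (R := R)
    (fun n x hn h => monoidAlgebra_int_torsionFree Fˣ n x hn h) U n m hn N hN
  have := congrArg ψ key
  rw [map_add, map_mul, map_zero, map_intCast, ← coeff_map, ← coeff_map, map_mul,
    ← ps_derivative_map, hpow, hpow, hU, hU₀] at this
  exact this


section LaurentField

open LaurentSeries HahnSeries

variable {F : Type*} [Field F]

/-- A nonzero Laurent series is a power of `X` times a unit power series. -/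
theorem laurent_exists_unit (g : F⸨X⸩) (hg : g ≠ 0) :
    ∃ Pu : (PowerSeries F)ˣ, g = single g.order (1 : F) * ((Pu : PowerSeries F) : F⸨X⸩) := by
  have hunit : IsUnit g.powerSeriesPart := by
    rw [PowerSeries.isUnit_iff_constantCoeff, ← PowerSeries.coeff_zero_eq_constantCoeff_apply,
      powerSeriesPart_coeff]
    simpa [HahnSeries.coeff_order_eq_zero] using hg
  obtain ⟨Pu, hPu⟩ := hunit
  exact ⟨Pu, by rw [hPu, single_order_mul_powerSeriesPart]⟩

theorem laurent_single_zpow (m k : ℤ) :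
    (single m (1 : F) : F⸨X⸩) ^ k = single (m * k) (1 : F) := by
  rw [RatFunc.single_zpow, ← zpow_mul, ← RatFunc.single_zpow]

theorem laurent_coe_units_zpow (Pu : (PowerSeries F)ˣ) (k : ℤ) :
    (((Pu : PowerSeries F) : F⸨X⸩)) ^ k = (((Pu ^ k : (PowerSeries F)ˣ) : PowerSeries F) : F⸨X⸩) := by
  have h := map_zpow (Units.map (HahnSeries.ofPowerSeries ℤ F).toMonoidHom) Pu k
  have h2 := congrArg Units.val h
  rw [Units.val_zpow_eq_zpow_val] at h2
  exact h2.symm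

/-- The shape of `g^(n-1) * g'` for `g = X^m * P`. -/
theorem laurent_zpow_mul_D (m : ℤ) (Pu : (PowerSeries F)ˣ) (n : ℤ) :
    (single m (1 : F) * ((Pu : PowerSeries F) : F⸨X⸩)) ^ (n - 1) *
      LocRes.D F (single m (1 : F) * ((Pu : PowerSeries F) : F⸨X⸩)) =
    single (m * n) (1 : F) *
        (((((Pu ^ (n - 1) : (PowerSeries F)ˣ) : PowerSeries F) *
          PowerSeries.derivative F (Pu : PowerSeries F) : PowerSeries F)) : F⸨X⸩) +
      single (m * n - 1) (m : F) * ((((Pu ^ n : (PowerSeries F)ˣ) : PowerSeries F)) : F⸨X⸩) := by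
  rw [LocRes.D_apply, LocRes.derivative_single_mul, LocRes.derivative_coe, mul_zpow,
    laurent_single_zpow, laurent_coe_units_zpow, PowerSeries.coe_mul]
  have h1 : ((((Pu ^ n : (PowerSeries F)ˣ) : PowerSeries F)) : F⸨X⸩) =
      ((((Pu ^ (n - 1) : (PowerSeries F)ˣ) : PowerSeries F)) : F⸨X⸩) * ((Pu : PowerSeries F) : F⸨X⸩) := by
    rw [← PowerSeries.coe_mul, ← Units.val_mul, ← zpow_add_one, sub_add_cancel]
  have h2 : (single (m * n) (1 : F) : F⸨X⸩) = single (m * (n - 1)) 1 * single m 1 := by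
    rw [single_mul_single, one_mul]; congr 1; ring_nf
  have h3 : (single (m * n - 1) (m : F) : F⸨X⸩) = single (m * (n - 1)) 1 * single (m - 1) (m • (1 : F)) := by
    rw [single_mul_single, one_mul]; congr 1
    · ring_nf
    · simp
  rw [h1, h2, h3]
  ring

/-- Residue of `g^(n-1) dg`: it is the order of `g` for `n = 0`, and `0` otherwise. -/
theorem laurent_res_zpow_mul_D (g : F⸨X⸩) (hg : g ≠ 0) (n : ℤ) :
    LocRes.res F (g ^ (n - 1) * LocRes.D F g) = if n = 0 then (g.order : F) else 0 := by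
  obtain ⟨Pu, hPu⟩ := laurent_exists_unit g hg
  set m := g.order with hm
  rw [hPu, laurent_zpow_mul_D, LocRes.res_apply, HahnSeries.coeff_add, coeff_single_mul,
    coeff_single_mul, one_mul, PowerSeries.coeff_coe, PowerSeries.coeff_coe]
  by_cases h0 : n = 0
  · subst h0
    simp
  · rw [if_neg h0]
    by_cases h1 : -1 - m * n < 0
    · rw [if_pos h1]
      by_cases h2 : -1 - (m * n - 1) < 0
      · rw [if_pos h2]; simp
      · have hmn : m * n = 0 := by omega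
        have hm0 : m = 0 := by
          rcases mul_eq_zero.1 hmn with h | h
          · exact h
          · exact absurd h h0
        rw [hm0]; simp
    · rw [if_neg h1]
      have h2 : ¬ (-1 - (m * n - 1) < 0) := by omega
      rw [if_neg h2]
      push Not at h1
      obtain ⟨N, hN⟩ := Int.eq_ofNat_of_zero_le h1
      have e1 : (-1 - m * n).natAbs = N := by omega
      have e2 : (-1 - (m * n - 1)).natAbs = N + 1 := by omega
      rw [e1, e2, add_comm]
      exact ps_coeff_identity_field Pu n m h0 N (by omega)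

/-- The `X`-adic valuation of a nonzero Laurent series is `exp (-order)`. -/
theorem laurent_valued_eq_exp_neg_order (g : F⸨X⸩) (hg : g ≠ 0) :
    Valued.v g = WithZero.exp (-g.order) := by
  obtain ⟨Pu, hPu⟩ := laurent_exists_unit g hg
  have h1 : Valued.v (((Pu : PowerSeries F) : F⸨X⸩)) = 1 := by
    apply le_antisymm
    · exact (LaurentSeries.val_le_one_iff_eq_coe F _).2 ⟨_, rfl⟩
    · have h2 : Valued.v ((((Pu⁻¹ : (PowerSeries F)ˣ) : PowerSeries F) : F⸨X⸩)) ≤ 1 :=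
        (LaurentSeries.val_le_one_iff_eq_coe F _).2 ⟨_, rfl⟩
      have h3 : ((Pu : PowerSeries F) : F⸨X⸩) * ((((Pu⁻¹ : (PowerSeries F)ˣ) : PowerSeries F) : F⸨X⸩)) = 1 := by
        rw [← PowerSeries.coe_mul, ← Units.val_mul, mul_inv_cancel, Units.val_one, PowerSeries.coe_one]
      have h4 := congrArg (Valued.v (R := F⸨X⸩)) h3
      rw [map_mul, map_one] at h4
      calc (1 : WithZero (Multiplicative ℤ)) = Valued.v (((Pu : PowerSeries F) : F⸨X⸩)) *
            Valued.v ((((Pu⁻¹ : (PowerSeries F)ˣ) : PowerSeries F) : F⸨X⸩)) := h4.symm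
        _ ≤ Valued.v (((Pu : PowerSeries F) : F⸨X⸩)) * 1 := by gcongr
        _ = _ := mul_one _
  conv_lhs => rw [hPu]
  rw [map_mul, h1, mul_one, LaurentSeries.valuation_single_zpow]

end LaurentField

end Groth.Agent.H57
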