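import Groth.Agent.H57.LocRing

set_option autoImplicit false

namespace Groth.Agent.H57

open FunFld Groth.Agent.FF WithZero

universe u v
variable {k : Type u} {K : Type v} [Field k] [Field K] [Algebra k K]

theorem val_lt_one_iff_le_exp_neg_one (P : Place k K) (x : K) :
    P.1 x < 1 ↔ P.1 x ≤ exp (-1 : ℤ) := by
  by_cases hx : x = 0
  · subst hx; simp
  · rw [val_lt_one_iff P hx, val_le_exp_iff P hx]
    constructor <;> intro h <;> omega

theorem val_mul_le_exp_neg_two (P : Place k K) {x y : K} (hx : P.1 x < 1) (hy : P.1 y < 1) :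
    P.1 (x * y) ≤ exp (-2 : ℤ) := by
  rw [val_lt_one_iff_le_exp_neg_one] at hx hy
  rw [map_mul]
  calc P.1 x * P.1 y ≤ exp (-1 : ℤ) * exp (-1 : ℤ) := mul_le_mul' hx hy
    _ = exp (-2 : ℤ) := by rw [← exp_add]; norm_num

theorem exp_neg_two_lt_one : (exp (-2 : ℤ) : ℤᵐ⁰) < 1 := by
  rw [← exp_zero, exp_lt_exp]; norm_num

/-- If all entries of a tuple lie in the maximal ideal, so does their span. -/
theorem val_lt_one_of_mem_span {ι : Type*} (φ : ι → K) (P : Place k K)
    (h : ∀ i, P.1 (φ i) < 1) {x : K} (hx : x ∈ Submodule.span k (Set.range φ)) : P.1 x < 1 := by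
  induction hx using Submodule.span_induction with
  | mem x hx => obtain ⟨i, rfl⟩ := hx; exact h i
  | zero => simp
  | add x y _ _ hx hy => exact (P.1.map_add _ _).trans_lt (max_lt hx hy)
  | smul c x _ hx => exact (val_smul_le P c x).trans_lt hx

theorem val_le_one_of_mem_span {ι : Type*} (φ : ι → K) (P : Place k K)
    (h : ∀ i, P.1 (φ i) ≤ 1) {x : K} (hx : x ∈ Submodule.span k (Set.range φ)) : P.1 x ≤ 1 := by
  induction hx using Submodule.span_induction with
  | mem x hx => obtain ⟨i, rfl⟩ := hx; exact h i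
  | zero => simp
  | add x y _ _ hx hy => exact (P.1.map_add _ _).trans (max_le hx hy)
  | smul c x _ hx => exact (val_smul_le P c x).trans hx

/-- For an effective map normalized at `P`, an entry of least order at `P` is a unit at `P`. -/
theorem val_eq_one_of_least_order {n : ℕ} (φ : Fin (n + 1) → K) (P : Place k K)
    (heff : (1 : K) ∈ Submodule.span k (Set.range φ)) (hnorm : ∀ i, P.1 (φ i) ≤ 1)
    (j : Fin (n + 1)) (hj : ∀ i, P.1 (φ i) ≤ P.1 (φ j)) : P.1 (φ j) = 1 := by
  by_contra hne
  have hlt : P.1 (φ j) < 1 := lt_of_le_of_ne (hnorm j) hne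
  have := val_lt_one_of_mem_span φ P (fun i => (hj i).trans_lt hlt) heff
  rw [map_one] at this
  exact lt_irrefl _ this

/-- Dividing the span of `φ` by `φ j` gives the span of the ratios. -/
theorem div_mem_span_ratios {n : ℕ} (φ : Fin (n + 1) → K) (j : Fin (n + 1)) {s : K}
    (hs : s ∈ Submodule.span k (Set.range φ)) :
    s / φ j ∈ Submodule.span k (Set.range fun i => φ i / φ j) := by
  induction hs using Submodule.span_induction with
  | mem x hx => obtain ⟨i, rfl⟩ := hx; exact Submodule.subset_span ⟨i, rfl⟩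
  | zero => rw [zero_div]; exact Submodule.zero_mem _
  | add x y _ _ hx hy => rw [add_div]; exact Submodule.add_mem _ hx hy
  | smul c x _ hx => rw [smul_div_assoc]; exact Submodule.smul_mem _ c hx

theorem mul_mem_span_of_mem_span_ratios {n : ℕ} (φ : Fin (n + 1) → K) (j : Fin (n + 1))
    (hj : φ j ≠ 0) {l : K} (hl : l ∈ Submodule.span k (Set.range fun i => φ i / φ j)) :
    l * φ j ∈ Submodule.span k (Set.range φ) := by
  induction hl using Submodule.span_induction with
  | mem x hx =>
    obtain ⟨i, rfl⟩ := hx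
    rw [div_mul_cancel₀ _ hj]
    exact Submodule.subset_span ⟨i, rfl⟩
  | zero => rw [zero_mul]; exact Submodule.zero_mem _
  | add x y _ _ hx hy => rw [add_mul]; exact Submodule.add_mem _ hx hy
  | smul c x _ hx => rw [smul_mul_assoc]; exact Submodule.smul_mem _ c hx

theorem span_le_adjoin (S : Set K) : (Submodule.span k S : Set K) ⊆ Algebra.adjoin k S := by
  intro x hx
  exact Algebra.span_le_adjoin k S hx

/-- Every element of the algebra generated by the (integral) ratios is congruent modulo the square of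
the maximal ideal to an element of their span. -/
theorem exists_linear_approx [IsAlgClosed k] (hK : IsFunctionField k K) {n : ℕ}
    (φ : Fin (n + 1) → K) (P : Place k K) (j : Fin (n + 1)) (hj : φ j ≠ 0)
    (hint : ∀ i, P.1 (φ i / φ j) ≤ 1) {u : K}
    (hu : u ∈ Algebra.adjoin k (Set.range fun i => φ i / φ j)) :
    ∃ l ∈ Submodule.span k (Set.range fun i => φ i / φ j), P.1 (u - l) ≤ exp (-2 : ℤ) := by
  set W' := Submodule.span k (Set.range fun i => φ i / φ j) with hW'
  have hone : (1 : K) ∈ W' := by
    apply Submodule.subset_span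
    exact ⟨j, div_self hj⟩
  have hintW : ∀ l ∈ W', P.1 l ≤ 1 := fun l hl => val_le_one_of_mem_span _ P hint hl
  -- products of elements of W'
  have hprod : ∀ l ∈ W', ∀ l' ∈ W', ∃ l'' ∈ W', P.1 (l * l' - l'') ≤ exp (-2 : ℤ) := by
    intro l hl l' hl'
    obtain ⟨a, ha⟩ := exists_residue_const hK P (hintW l hl)
    obtain ⟨a', ha'⟩ := exists_residue_const hK P (hintW l' hl')
    refine ⟨a • l' + a' • l - (a * a') • (1 : K), ?_, ?_⟩
    · exact Submodule.sub_mem _ (Submodule.add_mem _ (Submodule.smul_mem _ _ hl')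
        (Submodule.smul_mem _ _ hl)) (Submodule.smul_mem _ _ hone)
    · have : l * l' - (a • l' + a' • l - (a * a') • (1 : K)) =
          (l - algebraMap k K a) * (l' - algebraMap k K a') := by
        simp only [Algebra.smul_def, map_mul, mul_one]
        ring
      rw [this]
      exact val_mul_le_exp_neg_two P ha ha'
  induction hu using Algebra.adjoin_induction with
  | mem s hs => exact ⟨s, Submodule.subset_span hs, by simp⟩
  | algebraMap c =>
    refine ⟨c • (1 : K), Submodule.smul_mem _ _ hone, ?_⟩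
    rw [Algebra.smul_def, mul_one, sub_self, map_zero]
    exact zero_le
  | add x y _ _ hx hy =>
    obtain ⟨l, hl, hxl⟩ := hx
    obtain ⟨l', hl', hyl⟩ := hy
    refine ⟨l + l', Submodule.add_mem _ hl hl', ?_⟩
    have : x + y - (l + l') = (x - l) + (y - l') := by ring
    rw [this]
    exact (P.1.map_add _ _).trans (max_le hxl hyl)
  | mul x y _ _ hx hy =>
    obtain ⟨l, hl, hxl⟩ := hx
    obtain ⟨l', hl', hyl⟩ := hy
    obtain ⟨l'', hl'', hll⟩ := hprod l hl l' hl'
    refine ⟨l'', hl'', ?_⟩
    have hy1 : P.1 y ≤ 1 := by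
      have : y = (y - l') + l' := by ring
      rw [this]
      exact (P.1.map_add _ _).trans
        (max_le (hyl.trans exp_neg_two_lt_one.le) (hintW l' hl'))
    have : x * y - l'' = (x - l) * y + l * (y - l') + (l * l' - l'') := by ring
    rw [this]
    refine (P.1.map_add _ _).trans (max_le ((P.1.map_add _ _).trans (max_le ?_ ?_)) hll)
    · rw [map_mul]
      calc P.1 (x - l) * P.1 y ≤ exp (-2 : ℤ) * 1 := mul_le_mul' hxl hy1
        _ = exp (-2 : ℤ) := mul_one _
    · rw [map_mul]
      calc P.1 l * P.1 (y - l') ≤ 1 * exp (-2 : ℤ) := mul_le_mul' (hintW l hl) hyl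
        _ = exp (-2 : ℤ) := one_mul _

end Groth.Agent.H57
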