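import Groth.Agent.H57.TraceDual
import Mathlib.RingTheory.Nakayama

/-!
# A local parameter generating the extension: the conductor of `O_P[s]` is prime to `Q`
-/

set_option autoImplicit false

namespace Groth.Agent.H57.LGen

open FunFld Groth.Agent.FF Groth.Agent.FF.Ext WithZero Groth.Agent.H57.TDual

universe u v

variable {k : Type u} {K K' : Type v} [Field k] [Field K] [Field K'] [Algebra k K] [Algebra K K']
  [Algebra k K'] [IsScalarTower k K K'] [FiniteDimensional K K']

open scoped Pointwise in
/-- If `s` is a local parameter at `Q` (of residue degree one over `P`) and a unit at the other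
places over `P`, some element of `O_P[s]` that is a unit at `Q` multiplies the integral closure of
`O_P` into `O_P[s]`. -/
theorem exists_conductor_unit (hK : IsFunctionField k K) (P : Place k K) (Q : Place k K')
    (hQP : IsOver Q P) [P.1.HasExtension Q.1]
    (hf : Function.Surjective
      (algebraMap (IsLocalRing.ResidueField P.O) (IsLocalRing.ResidueField Q.O)))
    [Algebra P.O K'] [IsScalarTower P.O K K']
    (s : K') (hs : Q.1 s = exp (-1 : ℤ))
    (hs' : ∀ Q' : Place k K', IsOver Q' P → Q' ≠ Q → Q'.1 s = 1) :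
    ∃ b ∈ Algebra.adjoin P.O ({s} : Set K'), Q.1 b = 1 ∧
      ∀ r : K', (∀ Q' : Place k K', IsOver Q' P → Q'.1 r ≤ 1) →
        b * r ∈ Algebra.adjoin P.O ({s} : Set K') := by
  classical
  set A : Subalgebra P.O K' := Algebra.adjoin P.O ({s} : Set K') with hA
  have hsA : s ∈ A := Algebra.subset_adjoin (Set.mem_singleton s)
  have hsint : ∀ Q' : Place k K', IsOver Q' P → Q'.1 s ≤ 1 := by
    intro Q' hQ'
    by_cases hne : Q' = Q
    · rw [hne, hs, ← exp_zero, exp_le_exp]; norm_num
    · rw [hs' Q' hQ' hne]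
  have hsI : IsIntegral P.O s := isIntegral_of_val_le_one hK P hsint
  have hAint : ∀ a ∈ A, ∀ Q' : Place k K', IsOver Q' P → Q'.1 a ≤ 1 := by
    intro a ha Q' hQ'
    obtain ⟨e', he'⟩ := hQ'
    have hle : A ≤ integralClosure P.O K' :=
      Algebra.adjoin_le (Set.singleton_subset_iff.2 hsI)
    exact val_le_one_of_isIntegral he' (hle ha)
  -- the integral closure as an `A`-submodule
  let RA : Submodule A K' :=
    { carrier := {r | ∀ Q' : Place k K', IsOver Q' P → Q'.1 r ≤ 1}
      add_mem' := fun {x y} hx hy Q' hQ' =>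
        (Q'.1.map_add x y).trans (max_le (hx Q' hQ') (hy Q' hQ'))
      zero_mem' := fun Q' _ => by rw [map_zero]; exact zero_le_one
      smul_mem' := fun a x hx Q' hQ' => by
        change Q'.1 ((a : K') * x) ≤ 1
        rw [map_mul]
        exact mul_le_one' (hAint a a.2 Q' hQ') (hx Q' hQ') }
  have hmemRA : ∀ r : K', r ∈ RA ↔ ∀ Q' : Place k K', IsOver Q' P → Q'.1 r ≤ 1 := fun r => Iff.rfl
  -- finitely generated
  obtain ⟨yb, hyb1, -, hyb3⟩ := exists_integral_basis (K' := K') hK P
  have hfg : RA.FG := by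
    refine ⟨Finset.univ.image yb, le_antisymm ?_ ?_⟩
    · rw [Submodule.span_le]
      intro w hw
      rw [Finset.coe_image, Finset.coe_univ, Set.image_univ] at hw
      obtain ⟨p, rfl⟩ := hw
      exact fun Q' hQ' => hyb1 Q' hQ' p
    · intro w hw
      obtain ⟨g, hg1, hwg⟩ := hyb3 w hw
      rw [hwg]
      apply Submodule.sum_mem
      intro p _
      have h1 : algebraMap K K' (g p) * yb p =
          (⟨algebraMap P.O K' ⟨g p, hg1 p⟩, Subalgebra.algebraMap_mem A _⟩ : A) • yb p := by
        change _ = algebraMap P.O K' ⟨g p, hg1 p⟩ * yb p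
        rw [IsScalarTower.algebraMap_apply P.O K K']
        rfl
      rw [h1]
      apply Submodule.smul_mem
      apply Submodule.subset_span
      rw [Finset.coe_image, Finset.coe_univ, Set.image_univ]
      exact ⟨p, rfl⟩
  set I : Ideal A := Ideal.span {(⟨s, hsA⟩ : A)} with hI
  have hle : RA ≤ (1 : Submodule A K') ⊔ I • RA := by
    intro r hr
    have hrQ : Q.1 r ≤ 1 := hr Q hQP
    obtain ⟨c, hc1, hc2⟩ := exists_approx P Q hf hrQ
    have hs0 : s ≠ 0 := by
      intro h0
      rw [h0, map_zero] at hs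
      exact exp_ne_zero hs.symm
    set r' : K' := (r - algebraMap K K' c) / s with hr'
    have hcint : ∀ Q' : Place k K', IsOver Q' P → Q'.1 (algebraMap K K' c) ≤ 1 := by
      rintro Q' ⟨e', he'⟩
      rw [he' c]
      exact pow_le_one' hc1 e'
    have hr'RA : r' ∈ RA := by
      intro Q' hQ'
      rw [hr', map_div₀]
      by_cases hne : Q' = Q
      · rw [hne, hs]
        have h1 : Q.1 (r - algebraMap K K' c) ≤ exp (-1 : ℤ) := le_exp_neg_one_of_lt_one hc2
        rw [div_le_iff₀ (by rw [← hs]; exact zero_lt_iff.2 ((Valuation.ne_zero_iff _).2 hs0))]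
        rw [one_mul]
        exact h1
      · rw [hs' Q' hQ' hne, _root_.div_one]
        exact (Valuation.map_sub _ _ _).trans (max_le (hr Q' hQ') (hcint Q' hQ'))
    have hdecomp : r = algebraMap K K' c + (⟨s, hsA⟩ : A) • r' := by
      change r = algebraMap K K' c + s * r'
      rw [hr', mul_div_cancel₀ _ hs0]
      ring
    rw [hdecomp]
    apply Submodule.add_mem_sup
    · rw [Submodule.mem_one]
      refine ⟨⟨algebraMap P.O K' ⟨c, hc1⟩, Subalgebra.algebraMap_mem A _⟩, ?_⟩
      change algebraMap P.O K' ⟨c, hc1⟩ = algebraMap K K' c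
      rw [IsScalarTower.algebraMap_apply P.O K K']
      rfl
    · exact Submodule.smul_mem_smul (Ideal.subset_span (Set.mem_singleton _)) hr'RA
  obtain ⟨a, ha1, ha2⟩ := Submodule.exists_sub_one_mem_and_smul_le_of_fg_of_le_sup
    (I := I) (N := (1 : Submodule A K')) hfg le_rfl hle
  refine ⟨(a : K'), a.2, ?_, fun r hr => ?_⟩
  · rw [hI, Ideal.mem_span_singleton'] at ha1
    obtain ⟨a', ha'⟩ := ha1
    have h1 : (a : K') = 1 + (a' : K') * s := by
      have := congrArg (fun x : A => (x : K')) ha'
      simp only [Subalgebra.coe_mul, Subalgebra.coe_sub, Subalgebra.coe_one] at this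
      rw [this]
      ring
    have h2 : Q.1 ((a' : K') * s) < 1 := by
      rw [map_mul, hs]
      calc Q.1 (a' : K') * exp (-1 : ℤ) ≤ 1 * exp (-1 : ℤ) :=
            mul_le_mul_left (hAint a' a'.2 Q hQP) _
        _ = exp (-1 : ℤ) := one_mul _
        _ < exp 0 := exp_lt_exp.2 (by norm_num)
        _ = 1 := exp_zero
    rw [h1]
    have h3 : Q.1 ((a' : K') * s) < Q.1 1 := by rwa [map_one]
    rw [Valuation.map_add_eq_of_lt_left _ h3, map_one]
  · have h1 : a • r ∈ a • RA := Submodule.smul_mem_pointwise_smul r a RA hr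
    have h2 := ha2 h1
    rw [Submodule.mem_one] at h2
    obtain ⟨c, hc⟩ := h2
    have : (a : K') * r = (c : K') := hc.symm
    rw [this]
    exact c.2

end Groth.Agent.H57.LGen
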