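import Groth.Agent.Lib.Helper74.ModTrunc.ModRlim

/-!
# A local criterion for `H^0(b)` to be an isomorphism (helper57)

For `b : M ⟶ N` in `D(O)` on a small ringed site: if `b ∘ -` is bijective on maps
`freeOn O V [0] ⟶ M` for all `V` in a "basis" `B`, then `H^0(b)` is an isomorphism.
-/

set_option autoImplicit false
universe w u

namespace Groth.Agent.H57.LocalIso

open CategoryTheory CategoryTheory.Limits Opposite DerivedCategory
open Groth.Agent.Lib.Helper83.SingleHom Groth.Agent.Lib.Helper74.ModQc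
  Groth.Agent.Lib.Helper74.ModTrunc

variable {C : Type u} [SmallCategory C] {J : GrothendieckTopology C}
  {O : Sheaf J CommRingCat.{u}} [HasDerivedCategory.{w} (ModSite.Mod O)]

/-- **Local criterion** for `H^0(b)` to be an isomorphism. -/
theorem isIso_H0_of_local (B : Set C)
    (hB : ∀ (U : C), ∀ T ∈ J U, ∃ (ι : Type u) (Y : ι → C) (f : ∀ i, Y i ⟶ U),
      (∀ i, T.arrows (f i)) ∧ Sieve.ofArrows Y f ∈ J U ∧ ∀ i, Y i ∈ B)
    {M N : DerivedCategory (ModSite.Mod O)} (b : M ⟶ N)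
    (h : ∀ V ∈ B, Function.Bijective
      (fun y : (DerivedCategory.singleFunctor (ModSite.Mod O) 0).obj (ModSite.freeOn O V) ⟶ M =>
        y ≫ b)) :
    IsIso ((DerivedCategory.homologyFunctor (ModSite.Mod O) 0).map b) := by
  let H0 := DerivedCategory.homologyFunctor (ModSite.Mod O) 0
  apply isIso_of_locally
  · intro U
    apply injective_H0_app
    intro T hT
    obtain ⟨ι, Y, f, hfT, hcov, hYB⟩ := hB U T hT
    refine ⟨ι, Y, f, hfT, hcov, fun i y hy => ?_⟩
    exact (h (Y i) (hYB i)).1 (by simpa using hy)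
  · intro U s
    obtain ⟨LN, hLN, ⟨eN⟩⟩ := exists_kInjective N
    obtain ⟨R, hR, hR'⟩ := locally_surj eN (ofSec O s)
    obtain ⟨ι, YU, f, hfR, hcov, hYB⟩ := hB U R hR
    refine ⟨Sieve.ofArrows YU f, hcov, ?_⟩
    intro W g hg
    obtain ⟨Z, c, e, he, hce⟩ := hg
    obtain ⟨i⟩ := he
    subst hce
    obtain ⟨φ, hφ⟩ := hR' (f i) (hfR i)
    obtain ⟨y, hy⟩ := (h (YU i) (hYB i)).2 φ
    replace hy : y ≫ b = φ := hy
    have e1 : secMap (H0.map b) (YU i) (toSec O (h0 y)) = (H0.obj N).val.map (f i).op s := by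
      rw [← toSec_comp, ← h0_postcomp]
      change toSec O (h0 (y ≫ b)) = _
      rw [hy, hφ, toSec_freeOnMap_comp, toSec_ofSec]
    refine ⟨(H0.obj M).val.map c.op (toSec O (h0 y)), ?_⟩
    rw [← secMap_map, e1, ← map_comp_apply]

end Groth.Agent.H57.LocalIso
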