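import Groth.Agent.H57.TateSum3
import Groth.Agent.FunFld.IntClosure
import Groth.Agent.FunFld.RelFundIneq

/-!
# The local trace formula for residues at a single place

For `Q` over `P`, if `y` is integral at every other place over `P` and `x` is integral at `P`,
then `Res_P(tr(y) dx) = Res_Q(y dx)`.
-/

set_option autoImplicit false

namespace Groth.Agent.H57.LTrace

open FunFld Groth.Agent.FF Groth.Agent.FF.Ext Groth.Agent.H57.Tate WithZero

universe u v w
variable {k : Type u} {K K' : Type v} [Field k] [Field K] [Field K'] [Algebra k K] [Algebra K K']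
  [Algebra k K'] [IsScalarTower k K K'] [FiniteDimensional K K']

/-- **Local trace formula.** -/
theorem locRes_trace_eq (hK : IsFunctionField k K) (P : Place k K) (Q : Place k K')
    (hQP : IsOver Q P)
    {F : Type w} [Field F] [Algebra k F] [FiniteDimensional k F]
    (φ : K →ₐ[k] LaurentSeries F) (hφ : LocRes.IsExpansionAt P.1 φ)
    {F' : Type w} [Field F'] [Algebra k F'] [FiniteDimensional k F']
    (ψ : K' →ₐ[k] LaurentSeries F') (hψ : LocRes.IsExpansionAt Q.1 ψ)
    (y : K') (x : K) (hy : ∀ Q' : Place k K', IsOver Q' P → Q' ≠ Q → Q'.1 y ≤ 1)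
    (hx : P.1 x ≤ 1) :
    LocRes.locRes φ (Algebra.trace K K' y) x = LocRes.locRes ψ y (algebraMap K K' x) := by
  classical
  obtain ⟨π, hπ, hπres⟩ := exists_isProj_fpTrace_eq P.1 φ hφ P.2.1
  have hEP : ∀ u : K, InE (valSub P.1 P.2.1) (mulK k u) :=
    fun u => inE_mulK_valSub P.1 φ hφ P.2.1 u
  obtain ⟨πQ, hπQ, hπQres⟩ := exists_isProj_fpTrace_eq Q.1 ψ hψ Q.2.1
  have hEQ : ∀ z : K', InE (valSub Q.1 Q.2.1) (mulK k z) :=
    fun z => inE_mulK_valSub Q.1 ψ hψ Q.2.1 z
  set Qs : Finset (Place k K') := (finite_isOver (K' := K') P).toFinset with hQs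
  have hQsmem : ∀ Q', Q' ∈ Qs ↔ IsOver Q' P := fun Q' => by
    rw [hQs, Set.Finite.mem_toFinset]; rfl
  set S : Finset (Place k K') := Qs.erase Q with hS
  set A : Submodule k K' := valSub Q.1 Q.2.1 with hA
  set B : Submodule k K' := ⨅ Q' ∈ S, valSub Q'.1 Q'.2.1 with hB
  have hmemB : ∀ w : K', w ∈ B ↔ ∀ Q' : Place k K', IsOver Q' P → Q' ≠ Q → Q'.1 w ≤ 1 := by
    intro w
    rw [hB, Submodule.mem_iInf]
    constructor
    · intro h Q' hQ' hne
      have := h Q'
      rw [Submodule.mem_iInf] at this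
      exact this (Finset.mem_erase.2 ⟨hne, (hQsmem Q').2 hQ'⟩)
    · intro h Q'
      rw [Submodule.mem_iInf]
      intro hQ'
      rw [hS, Finset.mem_erase] at hQ'
      exact h Q' ((hQsmem Q').1 hQ'.2) hQ'.1
  have hmemR : ∀ w : K', w ∈ A ⊓ B ↔ ∀ Q' : Place k K', IsOver Q' P → Q'.1 w ≤ 1 := by
    intro w
    rw [Submodule.mem_inf, hmemB]
    constructor
    · rintro ⟨h1, h2⟩ Q' hQ'
      by_cases hne : Q' = Q
      · rw [hne]; exact h1
      · exact h2 Q' hQ' hne
    · intro h
      exact ⟨h Q hQP, fun Q' hQ' _ => h Q' hQ'⟩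
  -- `A ⊔ B = ⊤` by weak approximation
  have hsup : A ⊔ B = ⊤ := by
    rw [eq_top_iff]
    intro z _
    let Pl : ↥(insert Q S) → Place k K' := Subtype.val
    have hinj : Function.Injective Pl := Subtype.val_injective
    obtain ⟨b, hb⟩ := weak_approx Pl hinj (fun i => if (i : Place k K') = Q then z else 0) 0
    have hbA : z - b ∈ A := by
      have := hb ⟨Q, Finset.mem_insert_self _ _⟩
      simp only [Pl, if_true, exp_zero] at this
      change Q.1 (z - b) ≤ 1
      rw [← neg_sub, Valuation.map_neg]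
      exact this.le
    have hbB : b ∈ B := by
      rw [hB, Submodule.mem_iInf]
      intro Q'
      rw [Submodule.mem_iInf]
      intro hQ'
      have hne : Q' ≠ Q := (Finset.mem_erase.1 hQ').1
      have := hb ⟨Q', Finset.mem_insert_of_mem hQ'⟩
      simp only [Pl, if_neg hne, sub_zero, exp_zero] at this
      exact this.le
    have : z = (z - b) + b := by abel
    rw [this]
    exact Submodule.add_mem_sup hbA hbB
  set x' : K' := algebraMap K K' x with hx'
  have hx'B : ∀ Q' : Place k K', IsOver Q' P → Q'.1 x' ≤ 1 := by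
    rintro Q' ⟨e, he⟩
    rw [hx', he x]
    exact pow_le_one' hx e
  have hyB : ∀ a ∈ B, mulK k y a ∈ B := by
    intro a ha
    rw [hmemB] at ha ⊢
    intro Q' hQ' hne
    change Q'.1 (y * a) ≤ 1
    rw [map_mul]
    calc Q'.1 y * Q'.1 a ≤ 1 * 1 := mul_le_mul' (hy Q' hQ' hne) (ha Q' hQ' hne)
      _ = 1 := one_mul _
  have hxB : ∀ a ∈ B, mulK k x' a ∈ B := by
    intro a ha
    rw [hmemB] at ha ⊢
    intro Q' hQ' hne
    change Q'.1 (x' * a) ≤ 1
    rw [map_mul]
    calc Q'.1 x' * Q'.1 a ≤ 1 * 1 := mul_le_mul' (hx'B Q' hQ') (ha Q' hQ' hne)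
      _ = 1 := one_mul _
  have hEBy : InE B (mulK k y) := AlmostLE.of_le (by
    rintro _ ⟨a, ha, rfl⟩
    exact hyB a ha)
  have hEBx : InE B (mulK k x') := AlmostLE.of_le (by
    rintro _ ⟨a, ha, rfl⟩
    exact hxB a ha)
  have hcomm : mulK k y * mulK k x' = mulK k x' * mulK k y := by
    ext z
    change y * (x' * z) = x' * (y * z)
    ring
  obtain ⟨πB, hπB⟩ := exists_isProj B
  -- the integral basis
  obtain ⟨yb, hyb1, hli, hyb3⟩ := exists_integral_basis (K' := K') hK P
  have hcard : Fintype.card (Fin (Module.finrank K K')) = Module.finrank K K' := Fintype.card_fin _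
  have hne : Nonempty (Fin (Module.finrank K K')) := by
    rw [← Fintype.card_pos_iff, hcard]
    exact Module.finrank_pos
  set b : Module.Basis (Fin (Module.finrank K K')) K K' :=
    basisOfLinearIndependentOfCardEqFinrank hli hcard with hb
  have hbp : ∀ p, b p = yb p := fun p => by
    rw [hb, coe_basisOfLinearIndependentOfCardEqFinrank]
  have h1 : ∀ p, ∀ a ∈ valSub (k := k) P.1 P.2.1, a • b p ∈ A ⊓ B := by
    intro p a ha
    rw [hmemR]
    intro Q' hQ'
    obtain ⟨e, he⟩ := hQ'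
    rw [Algebra.smul_def, map_mul, he a, hbp]
    have ha' : P.1 a ≤ 1 := ha
    calc P.1 a ^ e * Q'.1 (yb p) ≤ 1 * 1 :=
          mul_le_mul' (pow_le_one' ha' e) (hyb1 Q' ⟨e, he⟩ p)
      _ = 1 := one_mul _
  have h2 : ∀ w ∈ A ⊓ B, ∀ p, b.repr w p ∈ valSub (k := k) P.1 P.2.1 := by
    intro w hw p
    obtain ⟨g, hg1, hwg⟩ := hyb3 w ((hmemR w).1 hw)
    have hrepr : b.repr w = Finsupp.equivFunOnFinite.symm g := by
      have hw' : w = ∑ q, g q • b q := by
        rw [hwg]
        refine Finset.sum_congr rfl fun q _ => ?_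
        rw [Algebra.smul_def, hbp]
      rw [hw']
      ext q
      rw [map_sum, Finset.sum_apply']
      simp only [map_smul, Module.Basis.repr_self, Finsupp.smul_apply, smul_eq_mul,
        Finsupp.single_apply, mul_ite, mul_one, mul_zero]
      rw [Finset.sum_ite_eq' Finset.univ q, if_pos (Finset.mem_univ q)]
      rfl
    rw [hrepr]
    exact hg1 p
  have hπR := isProj_blockProj b hπ h1 h2
  have hblock := tres_blockProj b hπ h1 h2 hEP y x
  have hsum := tres_inf_eq_add A B hsup (hEQ y) (hEQ x') hEBy hEBx hcomm hπQ hπB hπR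
  have hzero : tres πB (mulK k y) (mulK k x') = 0 :=
    tres_eq_zero_of_map_le hπB hyB hxB hcomm
  rw [← hπres, ← hπQres]
  change tres π (mulK k (Algebra.trace K K' y)) (mulK k x) = tres πQ (mulK k y) (mulK k x')
  rw [← hblock, hsum, hzero, add_zero]

end Groth.Agent.H57.LTrace
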