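import Groth.Agent.H57.HolRing
import Groth.Agent.H57.Expansion
import Groth.Prelude.Def_W4bk4goldsch45

set_option autoImplicit false

namespace Groth.Agent.H57

open FunFld Groth.Agent.FF WithZero

universe u v
variable {k : Type u} {K : Type v} [Field k] [Field K] [Algebra k K]

section LocRing
variable {n : ℕ} (φ : Fin (n + 1) → K) (P : Place k K)

variable (k) in
/-- The algebra generated by the ratios `φ i / φ j`. -/
def ratioAlg (j : Fin (n + 1)) : Subalgebra k K :=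
  Algebra.adjoin k (Set.range fun i => φ i / φ j)

/-- Membership in the local ring of `φ` at `P` with respect to a fixed index `j`. -/
def InLocRingAt (j : Fin (n + 1)) (z : K) : Prop :=
  ∃ u ∈ ratioAlg k φ j, ∃ w ∈ ratioAlg k φ j, P.1 w = 1 ∧ z * w = u

theorem inLocRing_iff_exists (z : K) :
    InLocRing φ P z ↔ ∃ j, φ j ≠ 0 ∧ (∀ i, P.1 (φ i) ≤ P.1 (φ j)) ∧ InLocRingAt φ P j z :=
  Iff.rfl

variable (k) in
theorem ratio_mem (j i : Fin (n + 1)) : φ i / φ j ∈ ratioAlg k φ j :=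
  Algebra.subset_adjoin ⟨i, rfl⟩

variable {φ P}

theorem val_le_one_of_mem_ratioAlg {j : Fin (n + 1)} (hj : φ j ≠ 0)
    (Q : Place k K) (hQ : ∀ i, Q.1 (φ i) ≤ Q.1 (φ j)) {a : K} (ha : a ∈ ratioAlg k φ j) :
    Q.1 a ≤ 1 := by
  have hj0 : Q.1 (φ j) ≠ 0 := (Q.1.ne_zero_iff).2 hj
  induction ha using Algebra.adjoin_induction with
  | mem x hx =>
    obtain ⟨i, rfl⟩ := hx
    rw [map_div₀]
    exact (div_le_one₀ (zero_lt_iff.2 hj0)).2 (hQ i)
  | algebraMap c => exact val_algebraMap_le Q c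
  | add x y _ _ hx hy => exact (Q.1.map_add _ _).trans (max_le hx hy)
  | mul x y _ _ hx hy => rw [map_mul]; exact mul_le_one' hx hy

/-- Change of index: elements of the ratio algebra for `j'` become elements of the ratio algebra
for `j` after multiplication by a power of `φ j' / φ j`. -/
theorem exists_pow_mul_mem_ratioAlg {j j' : Fin (n + 1)} (hj' : φ j' ≠ 0) {a : K}
    (ha : a ∈ ratioAlg k φ j') : ∃ N : ℕ, a * (φ j' / φ j) ^ N ∈ ratioAlg k φ j := by
  induction ha using Algebra.adjoin_induction with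
  | mem x hx =>
    obtain ⟨i, rfl⟩ := hx
    refine ⟨1, ?_⟩
    rw [pow_one]
    have : φ i / φ j' * (φ j' / φ j) = φ i / φ j := by field_simp
    rw [this]
    exact ratio_mem k φ j i
  | algebraMap c => exact ⟨0, by rw [pow_zero, mul_one]; exact Subalgebra.algebraMap_mem _ c⟩
  | add x y _ _ hx hy =>
    obtain ⟨N₁, h₁⟩ := hx
    obtain ⟨N₂, h₂⟩ := hy
    refine ⟨N₁ + N₂, ?_⟩
    have : (x + y) * (φ j' / φ j) ^ (N₁ + N₂) =
        x * (φ j' / φ j) ^ N₁ * (φ j' / φ j) ^ N₂ + y * (φ j' / φ j) ^ N₂ * (φ j' / φ j) ^ N₁ := by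
      rw [pow_add]; ring
    rw [this]
    exact add_mem (mul_mem h₁ (pow_mem (ratio_mem k φ j j') _))
      (mul_mem h₂ (pow_mem (ratio_mem k φ j j') _))
  | mul x y _ _ hx hy =>
    obtain ⟨N₁, h₁⟩ := hx
    obtain ⟨N₂, h₂⟩ := hy
    refine ⟨N₁ + N₂, ?_⟩
    have : (x * y) * (φ j' / φ j) ^ (N₁ + N₂) =
        (x * (φ j' / φ j) ^ N₁) * (y * (φ j' / φ j) ^ N₂) := by
      rw [pow_add]; ring
    rw [this]
    exact mul_mem h₁ h₂

theorem inLocRingAt_change_index {j j' : Fin (n + 1)} (hj : φ j ≠ 0) (hj' : φ j' ≠ 0)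
    (hPj : ∀ i, P.1 (φ i) ≤ P.1 (φ j)) (hPj' : ∀ i, P.1 (φ i) ≤ P.1 (φ j')) {z : K}
    (hz : InLocRingAt φ P j' z) : InLocRingAt φ P j z := by
  obtain ⟨u, hu, w, hw, hw1, hzw⟩ := hz
  obtain ⟨N₁, h₁⟩ := exists_pow_mul_mem_ratioAlg (j := j) hj' hu
  obtain ⟨N₂, h₂⟩ := exists_pow_mul_mem_ratioAlg (j := j) hj' hw
  have hg : P.1 (φ j' / φ j) = 1 := by
    rw [map_div₀, le_antisymm (hPj j') (hPj' j)]
    exact div_self ((P.1.ne_zero_iff).2 hj)
  have hgmem := ratio_mem k φ j j'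
  refine ⟨u * (φ j' / φ j) ^ N₁ * (φ j' / φ j) ^ N₂, mul_mem h₁ (pow_mem hgmem _),
    w * (φ j' / φ j) ^ N₂ * (φ j' / φ j) ^ N₁, mul_mem h₂ (pow_mem hgmem _), ?_, ?_⟩
  · rw [map_mul, map_mul, map_pow, map_pow, hg, hw1]; simp
  · rw [← hzw]; ring

theorem inLocRing_iff_inLocRingAt {j : Fin (n + 1)} (hj : φ j ≠ 0)
    (hPj : ∀ i, P.1 (φ i) ≤ P.1 (φ j)) (z : K) : InLocRing φ P z ↔ InLocRingAt φ P j z := by
  constructor
  · rintro ⟨j', hj', hPj', hz⟩
    exact inLocRingAt_change_index hj hj' hPj hPj' hz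
  · intro hz
    exact ⟨j, hj, hPj, hz⟩

theorem inLocRingAt_of_mem {j : Fin (n + 1)} {a : K} (ha : a ∈ ratioAlg k φ j) :
    InLocRingAt φ P j a :=
  ⟨a, ha, 1, one_mem _, map_one _, mul_one a⟩

theorem InLocRingAt.add {j : Fin (n + 1)} {z z' : K} (hz : InLocRingAt φ P j z)
    (hz' : InLocRingAt φ P j z') : InLocRingAt φ P j (z + z') := by
  obtain ⟨u, hu, w, hw, hw1, hzw⟩ := hz
  obtain ⟨u', hu', w', hw', hw1', hzw'⟩ := hz'
  refine ⟨u * w' + u' * w, add_mem (mul_mem hu hw') (mul_mem hu' hw), w * w', mul_mem hw hw', ?_, ?_⟩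
  · rw [map_mul, hw1, hw1', one_mul]
  · rw [← hzw, ← hzw']; ring

theorem InLocRingAt.mul {j : Fin (n + 1)} {z z' : K} (hz : InLocRingAt φ P j z)
    (hz' : InLocRingAt φ P j z') : InLocRingAt φ P j (z * z') := by
  obtain ⟨u, hu, w, hw, hw1, hzw⟩ := hz
  obtain ⟨u', hu', w', hw', hw1', hzw'⟩ := hz'
  refine ⟨u * u', mul_mem hu hu', w * w', mul_mem hw hw', ?_, ?_⟩
  · rw [map_mul, hw1, hw1', one_mul]
  · rw [← hzw, ← hzw']; ring

theorem InLocRingAt.val_le_one {j : Fin (n + 1)} (hj : φ j ≠ 0)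
    (hPj : ∀ i, P.1 (φ i) ≤ P.1 (φ j)) {z : K} (hz : InLocRingAt φ P j z) : P.1 z ≤ 1 := by
  obtain ⟨u, hu, w, hw, hw1, hzw⟩ := hz
  have := val_le_one_of_mem_ratioAlg hj P hPj hu
  rw [← hzw, map_mul, hw1, mul_one] at this
  exact this

/-- For a birational map, every function is a quotient of elements of the ratio algebra. -/
theorem exists_ratioAlg_div (hφ0 : ∀ i, φ i ≠ 0)
    (hbir : IntermediateField.adjoin k (Set.range fun i => φ i / φ 0) = ⊤)
    (j : Fin (n + 1)) (f : K) :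
    ∃ a ∈ ratioAlg k φ j, ∃ c ∈ ratioAlg k φ j, c ≠ 0 ∧ f * c = a := by
  have hf : f ∈ IntermediateField.adjoin k (Set.range fun i => φ i / φ 0) := by
    rw [hbir]; trivial
  induction hf using IntermediateField.adjoin_induction with
  | mem x hx =>
    obtain ⟨i, rfl⟩ := hx
    refine ⟨φ i / φ j, ratio_mem k φ j i, φ 0 / φ j, ratio_mem k φ j 0,
      div_ne_zero (hφ0 0) (hφ0 j), ?_⟩
    have h0 := hφ0 0
    have hj := hφ0 j
    field_simp
  | algebraMap c =>
    exact ⟨algebraMap k K c, Subalgebra.algebraMap_mem _ c, 1, one_mem _, one_ne_zero, mul_one _⟩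
  | add x y _ _ hx hy =>
    obtain ⟨a, ha, c, hc, hc0, hxc⟩ := hx
    obtain ⟨a', ha', c', hc', hc0', hyc⟩ := hy
    refine ⟨a * c' + a' * c, add_mem (mul_mem ha hc') (mul_mem ha' hc), c * c', mul_mem hc hc',
      mul_ne_zero hc0 hc0', ?_⟩
    rw [← hxc, ← hyc]; ring
  | inv x _ hx =>
    obtain ⟨a, ha, c, hc, hc0, hxc⟩ := hx
    by_cases hx0 : x = 0
    · exact ⟨0, zero_mem _, 1, one_mem _, one_ne_zero, by rw [hx0, inv_zero, zero_mul]⟩
    · refine ⟨c, hc, a, ha, ?_, ?_⟩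
      · rw [← hxc]; exact mul_ne_zero hx0 hc0
      · rw [← hxc]; field_simp
  | mul x y _ _ hx hy =>
    obtain ⟨a, ha, c, hc, hc0, hxc⟩ := hx
    obtain ⟨a', ha', c', hc', hc0', hyc⟩ := hy
    refine ⟨a * a', mul_mem ha ha', c * c', mul_mem hc hc', mul_ne_zero hc0 hc0', ?_⟩
    rw [← hxc, ← hyc]; ring

/-- Common denominator for a finite-dimensional space of functions. -/
theorem exists_common_denominator (hφ0 : ∀ i, φ i ≠ 0)
    (hbir : IntermediateField.adjoin k (Set.range fun i => φ i / φ 0) = ⊤)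
    (j : Fin (n + 1)) (V : Submodule k K) [FiniteDimensional k V] :
    ∃ c ∈ ratioAlg k φ j, c ≠ 0 ∧ ∀ f ∈ V, c * f ∈ ratioAlg k φ j := by
  classical
  obtain ⟨s, hs⟩ := (Submodule.fg_iff_finiteDimensional V).2 inferInstance
  choose a ha c hc hc0 hfc using fun f : K => exists_ratioAlg_div hφ0 hbir j f
  refine ⟨∏ f ∈ s, c f, prod_mem fun f _ => hc f, Finset.prod_ne_zero_iff.2 fun f _ => hc0 f, ?_⟩
  intro f hf
  rw [← hs] at hf
  induction hf using Submodule.span_induction with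
  | mem x hx =>
    rw [← Finset.mul_prod_erase s c hx]
    have : c x * ∏ f ∈ s.erase x, c f = (∏ f ∈ s.erase x, c f) * c x := mul_comm _ _
    rw [this, mul_assoc, mul_comm (c x) x, hfc x]
    exact mul_mem (prod_mem fun f _ => hc f) (ha x)
  | zero => rw [mul_zero]; exact zero_mem _
  | add x y _ _ hx hy => rw [mul_add]; exact add_mem hx hy
  | smul r x _ hx =>
    rw [mul_smul_comm]
    exact Subalgebra.smul_mem _ hx r

/-- The conductor: a nonzero element of the ratio algebra multiplying into it every function whose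
poles are among the poles of the ratios. -/
theorem exists_conductor [Infinite k] (hK : IsFunctionField k K) (hφ0 : ∀ i, φ i ≠ 0)
    (hbir : IntermediateField.adjoin k (Set.range fun i => φ i / φ 0) = ⊤)
    (j : Fin (n + 1)) :
    ∃ c ∈ ratioAlg k φ j, c ≠ 0 ∧ ∀ f : K,
      (∀ Q : Place k K, (∀ i, Q.1 (φ i / φ j) ≤ 1) → Q.1 f ≤ 1) → c * f ∈ ratioAlg k φ j := by
  classical
  set A := ratioAlg k φ j with hA
  set W := Submodule.span k (Set.range fun i => φ i / φ j) with hW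
  have hWA : ∀ w ∈ W, w ∈ A := fun w hw => Algebra.span_le_adjoin k _ hw
  set S : Set (Place k K) := {Q | ∃ i, 1 < Q.1 (φ i / φ j)} with hS
  have hSfin : S.Finite := by
    have : S = ⋃ i, {Q : Place k K | 1 < Q.1 (φ i / φ j)} := by
      ext Q; simp [hS]
    rw [this]
    exact Set.finite_iUnion fun i => finite_one_lt_val hK (div_ne_zero (hφ0 i) (hφ0 j))
  have hnotS : ∀ Q : Place k K, Q ∉ S → ∀ i, Q.1 (φ i / φ j) ≤ 1 := by
    intro Q hQ i
    by_contra h
    exact hQ ⟨i, not_le.1 h⟩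
  obtain ⟨x, hxW, hxS⟩ := exists_mem_forall_one_lt_val W S hSfin (by
    rintro Q ⟨i, hi⟩
    exact ⟨φ i / φ j, Submodule.subset_span ⟨i, rfl⟩, hi⟩)
  have hxA : x ∈ A := hWA x hxW
  by_cases hx : Transcendental k x
  · set D := poleDiv k x with hD
    obtain ⟨m₀, hm₀⟩ := exists_L_smul_poleDiv_le hK hx
    have hfd := finite_L hK (m₀ • D)
    obtain ⟨c, hc, hc0, hcV⟩ := exists_common_denominator hφ0 hbir j (L (m₀ • D))
    refine ⟨c, hc, hc0, fun f hf => ?_⟩
    let T : Submodule k K :=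
      { carrier := {f | c * f ∈ A}
        add_mem' := fun {a b} ha hb => by
          change c * (a + b) ∈ A
          rw [mul_add]; exact add_mem ha hb
        zero_mem' := by
          change c * 0 ∈ A
          rw [mul_zero]; exact zero_mem _
        smul_mem' := fun r a ha => by
          change c * (r • a) ∈ A
          rw [mul_smul_comm]; exact Subalgebra.smul_mem _ ha r }
    have hT : ∀ f ∈ T, x * f ∈ T := by
      intro f hf
      change c * (x * f) ∈ A
      have : c * (x * f) = x * (c * f) := by ring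
      rw [this]
      exact mul_mem hxA hf
    have hall := hm₀ T hT (fun f hf => hcV f hf)
    by_cases hf0 : f = 0
    · rw [hf0, mul_zero]; exact zero_mem _
    set m : ℕ := ∑ Q ∈ hSfin.toFinset, (-(Q.ord f)).toNat with hm
    have hfm : f ∈ L (m • D) := by
      intro Q
      rw [Finsupp.smul_apply, hD, poleDiv_apply hK]
      by_cases hQ : Q ∈ S
      · have h1 : 1 < Q.1 x := hxS Q hQ
        have hx0 : x ≠ 0 := fun h => by rw [h, map_zero] at h1; exact not_lt_of_ge zero_le h1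
        have h2 : Q.ord x < 0 := by
          by_contra h
          rw [not_lt, ← val_le_one_iff Q hx0] at h
          exact absurd h1 (not_lt.2 h)
        rw [val_le_exp_iff Q hf0, max_eq_left (by omega)]
        have h3 : (-(Q.ord f)).toNat ≤ m :=
          Finset.single_le_sum (f := fun Q : Place k K => (-(Q.ord f)).toNat)
            (fun _ _ => Nat.zero_le _) ((Set.Finite.mem_toFinset hSfin).2 hQ)
        have h4 : -(Q.ord f) ≤ ((-(Q.ord f)).toNat : ℤ) := Int.self_le_toNat _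
        have h5 : ((-(Q.ord f)).toNat : ℤ) ≤ m := by exact_mod_cast h3
        have h6 : (m : ℤ) ≤ m * (-Q.ord x) := by nlinarith
        simp only [nsmul_eq_mul]
        linarith
      · have h1 := hf Q (hnotS Q hQ)
        refine h1.trans ?_
        rw [← exp_zero, exp_le_exp]
        simp only [nsmul_eq_mul]
        have : (0 : ℤ) ≤ max (-Q.ord x) 0 := le_max_right _ _
        positivity
    exact hall m hfm
  · -- x is constant: there are no poles at all
    obtain ⟨c₀, hc₀⟩ := hK.2 x (by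
      by_contra h
      exact hx h)
    have hSempty : ∀ Q : Place k K, Q ∉ S := by
      intro Q hQ
      have := hxS Q hQ
      rw [← hc₀] at this
      exact absurd this (not_lt.2 (val_algebraMap_le Q c₀))
    refine ⟨1, one_mem _, one_ne_zero, fun f hf => ?_⟩
    have hfL : f ∈ L (0 : Divisor k K) := by
      intro Q
      rw [Finsupp.zero_apply, exp_zero]
      exact hf Q (hnotS Q (hSempty Q))
    rw [L_zero_eq hK, Submodule.mem_one] at hfL
    obtain ⟨c', rfl⟩ := hfL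
    rw [one_mul]
    exact Subalgebra.algebraMap_mem _ c'


theorem val_pow_mul_le_one (Q : Place k K) {w z : K} (hw : Q.1 w < 1) (hz : z ≠ 0) :
    Q.1 (w ^ (-(Q.ord z)).toNat * z) ≤ 1 := by
  rw [val_lt_one_iff_le_exp_neg_one] at hw
  rw [map_mul, map_pow, val_eq_exp_neg_ord Q hz]
  have h1 : Q.1 w ^ (-(Q.ord z)).toNat ≤ exp (-1 : ℤ) ^ (-(Q.ord z)).toNat :=
    pow_le_pow_left₀ zero_le hw _
  have h2 : exp (-1 : ℤ) ^ (-(Q.ord z)).toNat * exp (-Q.ord z) =
      exp (-(((-(Q.ord z)).toNat : ℤ)) + -Q.ord z) := by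
    rw [exp_add, ← exp_nsmul]
    congr 2
    simp
  calc Q.1 w ^ (-(Q.ord z)).toNat * exp (-Q.ord z)
      ≤ exp (-1 : ℤ) ^ (-(Q.ord z)).toNat * exp (-Q.ord z) := mul_le_mul_left h1 _
    _ = exp (-(((-(Q.ord z)).toNat : ℤ)) + -Q.ord z) := h2
    _ ≤ 1 := by
      rw [← exp_zero, exp_le_exp]
      have := Int.self_le_toNat (-(Q.ord z))
      omega

section Main
variable [IsAlgClosed k]

/-- Taylor decomposition to any order with remainder in the valuation ring. -/
theorem exists_decomp_pow (hK : IsFunctionField k K) {t : K} (ht : P.1 t = exp (-1 : ℤ))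
    (R : K → Prop) (hRc : ∀ c : k, R (algebraMap k K c)) (hRt : R t)
    (hRadd : ∀ a b, R a → R b → R (a + b)) (hRmul : ∀ a b, R a → R b → R (a * b))
    (N : ℕ) (z : K) (hz : P.1 z ≤ 1) :
    ∃ r z' : K, R r ∧ P.1 z' ≤ 1 ∧ z = r + t ^ N * z' := by
  induction N with
  | zero =>
    refine ⟨0, z, ?_, hz, by rw [pow_zero, one_mul, zero_add]⟩
    have := hRc 0
    rwa [map_zero] at this
  | succ N ih =>
    obtain ⟨r, z', hr, hz', hzz⟩ := ih
    have hspec := shift_spec hK P t ht ⟨z', hz'⟩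
    refine ⟨r + t ^ N * algebraMap k K (rho hK P ⟨z', hz'⟩), (shift hK P t ht ⟨z', hz'⟩ : K),
      hRadd _ _ hr (hRmul _ _ ?_ (hRc _)), (shift hK P t ht ⟨z', hz'⟩).2, ?_⟩
    · clear hzz hspec
      induction N with
      | zero =>
        rw [pow_zero]
        have := hRc 1
        rwa [map_one] at this
      | succ N ih => rw [pow_succ]; exact hRmul _ _ ih hRt
    · change z' = _ at hspec
      rw [hzz]
      conv_lhs => rw [hspec]
      ring

/-- The local ring at `P` is the whole valuation ring as soon as it separates `P` from the other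
places where the ratios are integral and contains a local parameter. -/
theorem inLocRingAt_of_val_le_one (hK : IsFunctionField k K) (hφ0 : ∀ i, φ i ≠ 0)
    (hbir : IntermediateField.adjoin k (Set.range fun i => φ i / φ 0) = ⊤)
    {j : Fin (n + 1)} (hPj : ∀ i, P.1 (φ i) ≤ P.1 (φ j))
    (ha : ∀ Q : Place k K, Q ≠ P → (∀ i, Q.1 (φ i / φ j) ≤ 1) →
      ∃ w ∈ ratioAlg k φ j, P.1 w = 1 ∧ Q.1 w < 1)
    (hb : ∃ t, InLocRingAt φ P j t ∧ P.1 t = exp (-1 : ℤ))
    (z : K) (hz : P.1 z ≤ 1) : InLocRingAt φ P j z := by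
  classical
  have : Infinite k := IsAlgClosed.instInfinite
  set A := ratioAlg k φ j with hA
  have hj := hφ0 j
  have hscope : ∀ Q : Place k K, (∀ i, Q.1 (φ i / φ j) ≤ 1) → ∀ i, Q.1 (φ i) ≤ Q.1 (φ j) := by
    intro Q hQ i
    have := hQ i
    rw [map_div₀, div_le_one₀ (zero_lt_iff.2 ((Q.1.ne_zero_iff).2 hj))] at this
    exact this
  obtain ⟨c, hcA, hc0, hc⟩ := exists_conductor hK hφ0 hbir j
  -- choose separating functions
  have hw : ∀ Q : Place k K, ∃ w ∈ A, P.1 w = 1 ∧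
      (Q ≠ P → (∀ i, Q.1 (φ i / φ j) ≤ 1) → Q.1 w < 1) := by
    intro Q
    by_cases h : Q ≠ P ∧ ∀ i, Q.1 (φ i / φ j) ≤ 1
    · obtain ⟨w, hw, h1, h2⟩ := ha Q h.1 h.2
      exact ⟨w, hw, h1, fun _ _ => h2⟩
    · exact ⟨1, one_mem _, map_one _, fun h1 h2 => absurd ⟨h1, h2⟩ h⟩
  choose w hwA hwP hwQ using hw
  -- Step 2: c * O_P ⊆ R
  have step2 : ∀ z : K, P.1 z ≤ 1 → InLocRingAt φ P j (c * z) := by
    intro z hz
    by_cases hz0 : z = 0
    · rw [hz0, mul_zero]; exact inLocRingAt_of_mem (zero_mem _)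
    have hT := finite_one_lt_val hK hz0
    set s : K := ∏ Q ∈ hT.toFinset, w Q ^ (-(Q.ord z)).toNat with hs
    have hsA : s ∈ A := prod_mem fun Q _ => pow_mem (hwA Q) _
    have hsP : P.1 s = 1 := by
      rw [hs, map_prod]
      refine Finset.prod_eq_one fun Q _ => ?_
      rw [map_pow, hwP, one_pow]
    have hsz : ∀ Q : Place k K, (∀ i, Q.1 (φ i / φ j) ≤ 1) → Q.1 (s * z) ≤ 1 := by
      intro Q hQ
      have hle : ∀ Q' : Place k K, Q.1 (w Q' ^ (-(Q'.ord z)).toNat) ≤ 1 := by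
        intro Q'
        rw [map_pow]
        exact pow_le_one₀ zero_le (val_le_one_of_mem_ratioAlg hj Q (hscope Q hQ) (hwA Q'))
      by_cases hQz : Q.1 z ≤ 1
      · rw [map_mul]
        refine mul_le_one' ?_ hQz
        rw [hs, map_prod]
        exact Finset.prod_le_one' fun Q' _ => hle Q'
      · rw [not_le] at hQz
        have hQT : Q ∈ hT.toFinset := (Set.Finite.mem_toFinset hT).2 hQz
        have hQP : Q ≠ P := by
          rintro rfl
          exact absurd hz (not_le.2 hQz)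
        rw [hs, ← Finset.mul_prod_erase _ _ hQT]
        have : w Q ^ (-(Q.ord z)).toNat *
            (∏ Q' ∈ hT.toFinset.erase Q, w Q' ^ (-(Q'.ord z)).toNat) * z =
            (w Q ^ (-(Q.ord z)).toNat * z) *
            (∏ Q' ∈ hT.toFinset.erase Q, w Q' ^ (-(Q'.ord z)).toNat) := by ring
        rw [this, map_mul]
        refine mul_le_one' (val_pow_mul_le_one Q (hwQ Q hQP hQ) hz0) ?_
        rw [map_prod]
        exact Finset.prod_le_one' fun Q' _ => hle Q'
    have hmem := hc (s * z) hsz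
    exact ⟨c * (s * z), hmem, s, hsA, hsP, by ring⟩
  -- Step 3
  obtain ⟨t, htR, ht⟩ := hb
  have ht0 := ne_zero_of_val_eq_exp P ht
  have hcP : P.1 c ≤ 1 := val_le_one_of_mem_ratioAlg hj P hPj hcA
  have hordc : 0 ≤ P.ord c := (val_le_one_iff P hc0).1 hcP
  set N : ℕ := (P.ord c).toNat with hN
  have hNc : (N : ℤ) = P.ord c := Int.toNat_of_nonneg hordc
  have hv : P.1 (t ^ N / c) = 1 := by
    rw [map_div₀, map_pow, ht, val_eq_exp_neg_ord P hc0, ← exp_nsmul, ← hNc]
    simp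
  obtain ⟨r, z', hr, hz', hzz⟩ := exists_decomp_pow (P := P) hK ht (InLocRingAt φ P j)
    (fun c' => inLocRingAt_of_mem (Subalgebra.algebraMap_mem _ c')) htR
    (fun a b => InLocRingAt.add) (fun a b => InLocRingAt.mul) N z hz
  have h2 := step2 (t ^ N / c * z') (by rw [map_mul, hv, one_mul]; exact hz')
  have : c * (t ^ N / c * z') = t ^ N * z' := by field_simp
  rw [this] at h2
  rw [hzz]
  exact hr.add h2

end Main


omit φ in
/-- A place whose valuation ring contains that of another place is equal to it. -/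
theorem place_eq_of_O_le (P Q : Place k K) (h : ∀ x : K, P.1 x ≤ 1 → Q.1 x ≤ 1) : P = Q := by
  apply place_ext_of_le_one_iff
  intro x
  refine ⟨h x, fun hx => ?_⟩
  by_contra hP
  rw [not_le] at hP
  have hx0 : x ≠ 0 := by
    rintro rfl
    simp at hP
  obtain ⟨y, hy0, hy⟩ := exists_ord_eq Q (-1)
  have hxP : P.ord x < 0 := by
    by_contra hge
    rw [not_lt, ← val_le_one_iff P hx0] at hge
    exact absurd hP (not_lt.2 hge)
  have hxQ : 0 ≤ Q.ord x := (val_le_one_iff Q hx0).1 hx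
  set N : ℕ := (-(P.ord y)).toNat with hN
  have hN1 : -(P.ord y) ≤ (N : ℤ) := Int.self_le_toNat _
  have hne : y * x⁻¹ ^ N ≠ 0 := mul_ne_zero hy0 (pow_ne_zero _ (inv_ne_zero hx0))
  have h1 : P.1 (y * x⁻¹ ^ N) ≤ 1 := by
    rw [val_le_one_iff P hne, ord_mul P hy0 (pow_ne_zero _ (inv_ne_zero hx0)), ord_pow, ord_inv]
    nlinarith
  have h2 := h _ h1
  rw [val_le_one_iff Q hne, ord_mul Q hy0 (pow_ne_zero _ (inv_ne_zero hx0)), ord_pow, ord_inv,
    hy] at h2
  nlinarith

/-- Nonsingularity criterion (both directions). -/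
theorem isNonsingularAt_iff [IsAlgClosed k] (hK : IsFunctionField k K)
    (hφ0 : ∀ i, φ i ≠ 0)
    (hbir : IntermediateField.adjoin k (Set.range fun i => φ i / φ 0) = ⊤) :
    IsNonsingularAt φ P ↔
      (∀ Q : Place k K, (∀ z : K, InLocRing φ P z → Q.1 z ≤ 1) → Q = P) ∧
        ∃ t : K, InLocRing φ P t ∧ P.1 t = exp (-1 : ℤ) := by
  obtain ⟨j, hPj⟩ := Finite.exists_max (fun i => P.1 (φ i))
  have hj := hφ0 j
  constructor
  · intro hns
    refine ⟨fun Q hQ => ?_, ?_⟩
    · exact (place_eq_of_O_le P Q fun x hx => hQ x (hns x hx)).symm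
    · obtain ⟨t, ht⟩ := exists_uniformizer P
      refine ⟨t, hns t ?_, ht⟩
      rw [ht, ← exp_zero, exp_le_exp]
      omega
  · rintro ⟨ha, t, htR, ht⟩ z hz
    rw [inLocRing_iff_inLocRingAt hj hPj] at htR ⊢
    refine inLocRingAt_of_val_le_one hK hφ0 hbir hPj ?_ ⟨t, htR, ht⟩ z hz
    intro Q hQP hQ
    have hscope : ∀ i, Q.1 (φ i) ≤ Q.1 (φ j) := by
      intro i
      have := hQ i
      rw [map_div₀, div_le_one₀ (zero_lt_iff.2 ((Q.1.ne_zero_iff).2 hj))] at this
      exact this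
    by_contra hcon
    apply hQP
    apply ha Q
    intro z hzR
    rw [inLocRing_iff_inLocRingAt hj hPj] at hzR
    obtain ⟨u, hu, w, hw, hw1, hzw⟩ := hzR
    by_contra hz1
    rw [not_le] at hz1
    apply hcon
    refine ⟨w, hw, hw1, ?_⟩
    have hu1 : Q.1 u ≤ 1 := val_le_one_of_mem_ratioAlg hj Q hscope hu
    rw [← hzw, map_mul] at hu1
    by_contra hw2
    rw [not_lt] at hw2
    have : 1 < Q.1 z * Q.1 w := by
      calc (1 : ℤᵐ⁰) < Q.1 z := hz1
        _ = Q.1 z * 1 := (mul_one _).symm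
        _ ≤ Q.1 z * Q.1 w := mul_le_mul_right hw2 _
    exact absurd hu1 (not_le.2 this)

end LocRing

end Groth.Agent.H57
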