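import Groth.Agent.H57.NonsingCrit

set_option autoImplicit false

namespace Groth.Agent.H57

open FunFld Groth.Agent.FF WithZero IntermediateField

universe u v
variable {k : Type u} {K : Type v} [Field k] [Field K] [Algebra k K]

section Fibre
variable [IsAlgClosed k] (hK : IsFunctionField k K) {n : ℕ} {φ : Fin (n + 1) → K}
  {P : Place k K} {j : Fin (n + 1)} (hφ0 : ∀ i, φ i ≠ 0) (hPj : ∀ i, P.1 (φ i) ≤ P.1 (φ j))
include hφ0 hPj

/-- The fibre of the image point of `P`, in terms of the centred ratios. -/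
theorem sameImage_iff (Q : Place k K) :
    SameImage φ P Q ↔ (∀ i, Q.1 (φ i) ≤ Q.1 (φ j)) ∧ ∀ i, Q.1 (yR hK φ P j i) < 1 := by
  have hj := hφ0 j
  constructor
  · rintro ⟨j', hj', hPj', hQj', hc⟩
    choose c hcP hcQ using hc
    set u := φ j / φ j' with hu
    have huP : P.1 u = 1 := by
      rw [hu, map_div₀, le_antisymm (hPj' j) (hPj j')]
      exact div_self ((P.1.ne_zero_iff).2 hj')
    have hcj0 : c j ≠ 0 := by
      intro h0
      have := hcP j
      rw [h0, map_zero, sub_zero, ← hu, huP] at this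
      exact lt_irrefl _ this
    have huQ : Q.1 u = 1 := val_eq_one_of_sub_const Q hcj0 (hcQ j)
    have hQj : ∀ i, Q.1 (φ i) ≤ Q.1 (φ j) := by
      intro i
      have h1 : Q.1 (φ j) = Q.1 (φ j') := by
        have := huQ
        rw [hu, map_div₀, div_eq_one_iff_eq ((Q.1.ne_zero_iff).2 hj')] at this
        exact this
      rw [h1]
      exact hQj' i
    refine ⟨hQj, fun i => ?_⟩
    have hu0 : u ≠ 0 := div_ne_zero hj hj'
    have hcu : algebraMap k K (c j) ≠ 0 := by rwa [Ne, map_eq_zero]
    have hexpr : φ i / φ j - algebraMap k K (c i / c j) =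
        ((φ i / φ j' - algebraMap k K (c i)) -
          algebraMap k K (c i / c j) * (u - algebraMap k K (c j))) / u := by
      rw [hu, map_div₀]
      field_simp
      ring
    have hsmall : ∀ R : Place k K, R.1 u = 1 → R.1 (φ i / φ j' - algebraMap k K (c i)) < 1 →
        R.1 (u - algebraMap k K (c j)) < 1 → R.1 (φ i / φ j - algebraMap k K (c i / c j)) < 1 := by
      intro R hR1 hR2 hR3
      rw [hexpr, map_div₀, hR1, div_one]
      refine lt_of_le_of_lt (R.1.map_sub _ _) (max_lt hR2 ?_)
      rw [map_mul]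
      calc R.1 (algebraMap k K (c i / c j)) * R.1 (u - algebraMap k K (c j))
          ≤ 1 * R.1 (u - algebraMap k K (c j)) := mul_le_mul_left (val_algebraMap_le R _) _
        _ = R.1 (u - algebraMap k K (c j)) := one_mul _
        _ < 1 := hR3
    have hα : alphaR hK φ P j i = c i / c j :=
      rhoK_unique hK P _ (val_ratio_le_one hφ0 hPj i) _ (hsmall P huP (hcP i) (hcP j))
    rw [yR, hα]
    exact hsmall Q huQ (hcQ i) (hcQ j)
  · rintro ⟨hQj, hy⟩
    exact ⟨j, hj, hPj, hQj, fun i => ⟨alphaR hK φ P j i, val_yR_lt_one hK hφ0 hPj i, hy i⟩⟩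

include hK in
theorem sameImage_self : SameImage φ P P :=
  (sameImage_iff hK hφ0 hPj P).2 ⟨hPj, fun i => val_yR_lt_one hK hφ0 hPj i⟩

/-- Condition (a') says that the fibre of the image point of `P` is `{P}`. -/
theorem condA_iff_fibre : CondA hK φ P j ↔ {Q : Place k K | SameImage φ P Q} = {P} := by
  have hj := hφ0 j
  constructor
  · intro hA
    ext Q
    rw [Set.mem_ofPred_eq, Set.mem_singleton_iff]
    constructor
    · intro hQ
      by_contra hQP
      obtain ⟨hQj, hy⟩ := (sameImage_iff hK hφ0 hPj Q).1 hQ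
      obtain ⟨i, hi⟩ := hA Q hQP hQj
      exact absurd hi (ne_of_lt (hy i))
    · rintro rfl
      exact sameImage_self hK hφ0 hPj
  · intro hF Q hQP hQj
    by_contra hcon
    push Not at hcon
    apply hQP
    have : Q ∈ {Q : Place k K | SameImage φ P Q} :=
      (sameImage_iff hK hφ0 hPj Q).2
        ⟨hQj, fun i => lt_of_le_of_ne (val_yR_le_one' hK hj hQj i) (hcon i)⟩
    rw [hF] at this
    exact this

/-- A combination of the centred ratios of order one at `P` forces one of them to be a local
parameter. -/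
theorem condB_of_val_comb (c : Fin (n + 1) → k)
    (h : P.1 (∑ i, c i • yR hK φ P j i) = exp (-1 : ℤ)) : CondB hK φ P j := by
  by_contra hcon
  unfold CondB at hcon
  push Not at hcon
  have hall : ∀ i, P.1 (yR hK φ P j i) ≤ exp (-2 : ℤ) := by
    intro i
    have h1 := (val_lt_one_iff_le_exp_neg_one P _).1 (val_yR_lt_one hK hφ0 hPj i)
    have h2 := lt_of_le_of_ne h1 (hcon i)
    by_cases h0 : yR hK φ P j i = 0
    · rw [h0, map_zero]; exact zero_le
    · rw [val_lt_exp_iff P h0] at h2
      rw [val_le_exp_iff P h0]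
      omega
  have : P.1 (∑ i, c i • yR hK φ P j i) ≤ exp (-2 : ℤ) := by
    apply P.1.map_sum_le
    intro i _
    exact (val_smul_le P _ _).trans (hall i)
  rw [h, exp_le_exp] at this
  omega

/-- The local intersection number at a place of the fibre. -/
theorem term_eq (c : Fin (n + 1) → k) (hf : ∑ i, c i • φ i ≠ 0) {Q : Place k K}
    (hQ : SameImage φ P Q) :
    mapDiv k φ Q + Q.ord (∑ i, c i • φ i) =
      Q.ord (algebraMap k K (∑ i, c i * alphaR hK φ P j i) + ∑ i, c i • yR hK φ P j i) := by
  have hj := hφ0 j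
  obtain ⟨hQj, -⟩ := (sameImage_iff hK hφ0 hPj Q).1 hQ
  rw [← comb_div_eq hK c, ord_div Q hf hj]
  have := val_eq_exp_mapDiv_of_least hK hφ0 hQj
  rw [val_eq_exp_neg_ord Q hj] at this
  have := exp_injective this
  omega

theorem val_comb_lt_one (c : Fin (n + 1) → k) {Q : Place k K} (hQ : SameImage φ P Q) :
    Q.1 (∑ i, c i • yR hK φ P j i) < 1 := by
  obtain ⟨-, hy⟩ := (sameImage_iff hK hφ0 hPj Q).1 hQ
  apply Q.1.map_sum_lt one_ne_zero
  intro i _
  exact lt_of_le_of_lt (val_smul_le Q _ _) (hy i)

end Fibre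


section Main
variable [IsAlgClosed k]

/-- Nonsingularity at `P` means that some hyperplane meets the curve with multiplicity one at the
image point of `P`. -/
theorem isNonsingularAt_iff_intersection (hK : IsFunctionField k K) {n : ℕ}
    (φ : Fin (n + 1) → K) (hφ : LinearIndependent k φ)
    (hbir : IntermediateField.adjoin k (Set.range fun i => φ i / φ 0) = ⊤) (P : Place k K) :
    IsNonsingularAt φ P ↔ ∃ c : Fin (n + 1) → k, ∑ i, c i • φ i ≠ 0 ∧
      ∑ᶠ Q ∈ {Q : Place k K | SameImage φ P Q},
        ((mapDiv k φ) Q + Q.ord (∑ i, c i • φ i)) = 1 := by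
  classical
  have hφ0 : ∀ i, φ i ≠ 0 := fun i => hφ.ne_zero i
  obtain ⟨j, hPj⟩ := Finite.exists_max (fun i => P.1 (φ i))
  have hj := hφ0 j
  rw [isNonsingularAt_iff_condA_condB hK hφ0 hPj hbir]
  constructor
  · rintro ⟨hA, i, hi⟩
    have hF := (condA_iff_fibre hK hφ0 hPj).1 hA
    have hy0 : yR hK φ P j i ≠ 0 := by
      intro h0
      rw [h0, map_zero] at hi
      exact exp_ne_zero hi.symm
    refine ⟨fun l => (if l = i then 1 else 0) - (if l = j then alphaR hK φ P j i else 0), ?_, ?_⟩
    all_goals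
      have hsum : ∑ l, ((if l = i then (1 : k) else 0) -
          (if l = j then alphaR hK φ P j i else 0)) • φ l = yR hK φ P j i * φ j := by
        rw [yR_mul_eq hK i hj]
        simp only [sub_smul, Finset.sum_sub_distrib, ite_smul, one_smul, zero_smul,
          Finset.sum_ite_eq', Finset.mem_univ, if_true]
    · rw [hsum]
      exact mul_ne_zero hy0 hj
    · rw [hF, finsum_mem_singleton, hsum, ord_mul P hy0 hj]
      have h1 : P.ord (yR hK φ P j i) = 1 := by
        rw [val_eq_exp_neg_ord P hy0] at hi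
        have := exp_injective hi
        omega
      have h2 := val_eq_exp_mapDiv_of_least hK hφ0 hPj
      rw [val_eq_exp_neg_ord P hj] at h2
      have := exp_injective h2
      omega
  · rintro ⟨c, hf, hsum⟩
    set F : Set (Place k K) := {Q : Place k K | SameImage φ P Q} with hF
    set ℓ : K := algebraMap k K (∑ i, c i * alphaR hK φ P j i) + ∑ i, c i • yR hK φ P j i with hℓ
    have hℓeq : (∑ i, c i • φ i) / φ j = ℓ := comb_div_eq hK c
    have hℓ0 : ℓ ≠ 0 := by rw [← hℓeq]; exact div_ne_zero hf hj
    have hPF : P ∈ F := sameImage_self hK hφ0 hPj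
    by_cases hconst : ∑ i, c i * alphaR hK φ P j i = 0
    · have hℓ' : ℓ = ∑ i, c i • yR hK φ P j i := by rw [hℓ, hconst, map_zero, zero_add]
      have hterm : ∀ Q ∈ F, 1 ≤ mapDiv k φ Q + Q.ord (∑ i, c i • φ i) := by
        intro Q hQ
        rw [term_eq hK hφ0 hPj c hf hQ, ← hℓ]
        have : Q.1 ℓ < 1 := by rw [hℓ']; exact val_comb_lt_one hK hφ0 hPj c hQ
        rw [val_lt_one_iff Q hℓ0] at this
        omega
      have hFfin : F.Finite := by
        refine (finite_val_lt_one hK hℓ0).subset ?_
        intro Q hQ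
        change Q.1 ℓ < 1
        rw [hℓ']
        exact val_comb_lt_one hK hφ0 hPj c hQ
      rw [finsum_mem_eq_finite_toFinset_sum _ hFfin,
        ← Finset.add_sum_erase _ _ ((Set.Finite.mem_toFinset hFfin).2 hPF)] at hsum
      have h1 := hterm P hPF
      have h2 : ((hFfin.toFinset.erase P).card : ℤ) ≤
          ∑ Q ∈ hFfin.toFinset.erase P, (mapDiv k φ Q + Q.ord (∑ i, c i • φ i)) := by
        have := Finset.card_nsmul_le_sum (hFfin.toFinset.erase P)
          (fun Q => mapDiv k φ Q + Q.ord (∑ i, c i • φ i)) 1 (fun Q hQ =>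
            hterm Q ((Set.Finite.mem_toFinset hFfin).1 (Finset.mem_of_mem_erase hQ)))
        simpa using this
      have hcard : (hFfin.toFinset.erase P).card = 0 := by
        have : ((hFfin.toFinset.erase P).card : ℤ) ≤ 0 := by linarith
        exact_mod_cast le_antisymm (by exact_mod_cast this) (Nat.zero_le _)
      have hPterm : mapDiv k φ P + P.ord (∑ i, c i • φ i) = 1 := by
        rw [Finset.card_eq_zero] at hcard
        rw [hcard, Finset.sum_empty, add_zero] at hsum
        exact hsum
      constructor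
      · rw [condA_iff_fibre hK hφ0 hPj]
        ext Q
        rw [Set.mem_singleton_iff]
        constructor
        · intro hQ
          by_contra hQP
          have : Q ∈ hFfin.toFinset.erase P :=
            Finset.mem_erase.2 ⟨hQP, (Set.Finite.mem_toFinset hFfin).2 hQ⟩
          rw [Finset.card_eq_zero] at hcard
          rw [hcard] at this
          exact absurd this (Finset.notMem_empty _)
        · rintro rfl
          exact hPF
      · apply condB_of_val_comb hK hφ0 hPj c
        rw [term_eq hK hφ0 hPj c hf hPF, ← hℓ, hℓ'] at hPterm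
        rw [← hℓ'] at hPterm ⊢
        rw [val_eq_exp_neg_ord P hℓ0, hPterm]
    · exfalso
      have hterm : ∀ Q ∈ F, mapDiv k φ Q + Q.ord (∑ i, c i • φ i) = 0 := by
        intro Q hQ
        rw [term_eq hK hφ0 hPj c hf hQ, ← hℓ, ← val_eq_one_iff Q hℓ0]
        apply val_eq_one_of_sub_const Q hconst
        rw [hℓ, add_sub_cancel_left]
        exact val_comb_lt_one hK hφ0 hPj c hQ
      rw [finsum_mem_eq_zero_of_forall_eq_zero hterm] at hsum
      exact zero_ne_one hsum

end Main

end Groth.Agent.H57
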