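import Groth.Agent.H57.NonsingCrit2

set_option autoImplicit false

namespace Groth.Agent.H57

open FunFld Groth.Agent.FF WithZero IntermediateField

universe u v
variable {k : Type u} {K : Type v} [Field k] [Field K] [Algebra k K]

section
variable [IsAlgClosed k]

/-- A place of the chart with a different image point is separated from `P` by an element of the
ratio algebra. -/
theorem exists_sep_of_val_yR_eq_one (hK : IsFunctionField k K) {n : ℕ} {φ : Fin (n + 1) → K}
    {P : Place k K} {j : Fin (n + 1)} (hφ0 : ∀ i, φ i ≠ 0) (hPj : ∀ i, P.1 (φ i) ≤ P.1 (φ j))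
    {Q : Place k K} (hQj : ∀ i, Q.1 (φ i) ≤ Q.1 (φ j)) {i : Fin (n + 1)}
    (hi : Q.1 (yR hK φ P j i) = 1) :
    ∃ w ∈ ratioAlg k φ j, P.1 w = 1 ∧ Q.1 w < 1 := by
  have hj := hφ0 j
  set β := rhoK hK Q (φ i / φ j) with hβ
  set w := φ i / φ j - algebraMap k K β with hw
  have hwQ : Q.1 w < 1 := val_sub_rhoK_lt_one hK Q _ (val_ratio_le_one' hj hQj i)
  have hβα : alphaR hK φ P j i - β ≠ 0 := by
    intro h
    have : β = alphaR hK φ P j i := (sub_eq_zero.1 h).symm
    rw [hw, this] at hwQ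
    exact absurd hi (ne_of_lt hwQ)
  have hwP : P.1 w = 1 := by
    apply val_eq_one_of_sub_const P hβα
    have : w - algebraMap k K (alphaR hK φ P j i - β) = yR hK φ P j i := by
      rw [hw, yR, map_sub]; ring
    rw [this]
    exact val_yR_lt_one hK hφ0 hPj i
  exact ⟨w, sub_mem (ratio_mem k φ j i) (Subalgebra.algebraMap_mem _ _), hwP, hwQ⟩

/-- Finiteness property of the local ring of a birational projective map: functions vanishing to
high order along the fibre of the image point belong to the local ring. -/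
theorem exists_bound_inLocRing (hK : IsFunctionField k K) {n : ℕ} (hn : 1 ≤ n)
    (φ : Fin (n + 1) → K) (hφ : LinearIndependent k φ)
    (hbir : IntermediateField.adjoin k (Set.range fun i => φ i / φ 0) = ⊤) (P : Place k K) :
    ∃ N : ℕ, ∀ z : K,
      (∀ Q : Place k K, SameImage φ P Q → Q.1 z ≤ exp (-(N : ℤ))) → InLocRing φ P z := by
  classical
  have : Infinite k := IsAlgClosed.instInfinite
  have hφ0 : ∀ i, φ i ≠ 0 := fun i => hφ.ne_zero i
  obtain ⟨j, hPj⟩ := Finite.exists_max (fun i => P.1 (φ i))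
  have hj := hφ0 j
  set A := ratioAlg k φ j with hA
  obtain ⟨c, hcA, hc0, hc⟩ := exists_conductor hK hφ0 hbir j
  set F : Set (Place k K) := {Q | SameImage φ P Q} with hF
  -- the fibre is finite
  obtain ⟨i₁, hij⟩ : ∃ i : Fin (n + 1), i ≠ j := by
    by_cases h : j = 0
    · refine ⟨⟨1, by omega⟩, ?_⟩
      rw [h]
      intro h1
      have := congrArg Fin.val h1
      simp at this
    · exact ⟨0, fun h' => h h'.symm⟩
  have hy0 : yR hK φ P j i₁ ≠ 0 := by
    intro h0
    rw [yR, sub_eq_zero] at h0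
    have h1 : φ i₁ = alphaR hK φ P j i₁ • φ j := by
      rw [Algebra.smul_def, ← h0]; field_simp
    have hnot : φ i₁ ∉ Submodule.span k (φ '' {j}) := hφ.notMem_span_image (by simpa using hij)
    rw [Set.image_singleton, Submodule.mem_span_singleton] at hnot
    exact hnot ⟨_, h1.symm⟩
  have hFfin : F.Finite := by
    refine (finite_val_lt_one hK hy0).subset ?_
    intro Q hQ
    exact ((sameImage_iff hK hφ0 hPj Q).1 hQ).2 i₁
  refine ⟨∑ Q ∈ hFfin.toFinset, (Q.ord c).toNat, fun z hz => ?_⟩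
  set N : ℕ := ∑ Q ∈ hFfin.toFinset, (Q.ord c).toNat with hN
  rw [inLocRing_iff_inLocRingAt hj hPj]
  by_cases hz0 : z = 0
  · rw [hz0]; exact inLocRingAt_of_mem (zero_mem _)
  set z' := z / c with hz'
  have hz'0 : z' ≠ 0 := div_ne_zero hz0 hc0
  have hchart : ∀ Q : Place k K, (∀ i, Q.1 (φ i / φ j) ≤ 1) → ∀ i, Q.1 (φ i) ≤ Q.1 (φ j) := by
    intro Q hQ i
    have := hQ i
    rwa [map_div₀, div_le_one₀ (zero_lt_iff.2 ((Q.1.ne_zero_iff).2 hj))] at this
  have hz'F : ∀ Q ∈ F, Q.1 z' ≤ 1 := by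
    intro Q hQ
    have h1 := hz Q hQ
    rw [val_le_exp_iff Q hz0, neg_neg] at h1
    rw [val_le_one_iff Q hz'0, hz', ord_div Q hz0 hc0]
    have h2 : (Q.ord c).toNat ≤ N :=
      Finset.single_le_sum (f := fun Q : Place k K => (Q.ord c).toNat)
        (fun _ _ => Nat.zero_le _) ((Set.Finite.mem_toFinset hFfin).2 hQ)
    have h3 : Q.ord c ≤ ((Q.ord c).toNat : ℤ) := Int.self_le_toNat _
    have h4 : ((Q.ord c).toNat : ℤ) ≤ N := by exact_mod_cast h2
    omega
  -- separating functions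
  have hw : ∀ Q : Place k K, ∃ w ∈ A, P.1 w = 1 ∧
      ((∀ i, Q.1 (φ i / φ j) ≤ 1) → Q ∉ F → Q.1 w < 1) := by
    intro Q
    by_cases h : (∀ i, Q.1 (φ i / φ j) ≤ 1) ∧ Q ∉ F
    · obtain ⟨hQ, hQF⟩ := h
      have hQj := hchart Q hQ
      have : ¬ ∀ i, Q.1 (yR hK φ P j i) < 1 := fun hall =>
        hQF ((sameImage_iff hK hφ0 hPj Q).2 ⟨hQj, hall⟩)
      push Not at this
      obtain ⟨i, hi⟩ := this
      have hi' : Q.1 (yR hK φ P j i) = 1 := le_antisymm (val_yR_le_one' hK hj hQj i) hi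
      obtain ⟨w, hwA, h1, h2⟩ := exists_sep_of_val_yR_eq_one hK hφ0 hPj hQj hi'
      exact ⟨w, hwA, h1, fun _ _ => h2⟩
    · exact ⟨1, one_mem _, map_one _, fun h1 h2 => absurd ⟨h1, h2⟩ h⟩
  choose w hwA hwP hwQ using hw
  have hT := finite_one_lt_val hK hz'0
  set s : K := ∏ Q ∈ hT.toFinset, w Q ^ (-(Q.ord z')).toNat with hs
  have hsA : s ∈ A := prod_mem fun Q _ => pow_mem (hwA Q) _
  have hsP : P.1 s = 1 := by
    rw [hs, map_prod]
    refine Finset.prod_eq_one fun Q _ => ?_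
    rw [map_pow, hwP, one_pow]
  have hsz : ∀ Q : Place k K, (∀ i, Q.1 (φ i / φ j) ≤ 1) → Q.1 (s * z') ≤ 1 := by
    intro Q hQ
    have hle : ∀ Q' : Place k K, Q.1 (w Q' ^ (-(Q'.ord z')).toNat) ≤ 1 := by
      intro Q'
      rw [map_pow]
      exact pow_le_one₀ zero_le (val_le_one_of_mem_ratioAlg hj Q (hchart Q hQ) (hwA Q'))
    by_cases hQz : Q.1 z' ≤ 1
    · rw [map_mul]
      refine mul_le_one' ?_ hQz
      rw [hs, map_prod]
      exact Finset.prod_le_one' fun Q' _ => hle Q'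
    · have hQF : Q ∉ F := fun h => hQz (hz'F Q h)
      rw [not_le] at hQz
      have hQT : Q ∈ hT.toFinset := (Set.Finite.mem_toFinset hT).2 hQz
      rw [hs, ← Finset.mul_prod_erase _ _ hQT]
      have : w Q ^ (-(Q.ord z')).toNat *
          (∏ Q' ∈ hT.toFinset.erase Q, w Q' ^ (-(Q'.ord z')).toNat) * z' =
          (w Q ^ (-(Q.ord z')).toNat * z') *
          (∏ Q' ∈ hT.toFinset.erase Q, w Q' ^ (-(Q'.ord z')).toNat) := by ring
      rw [this, map_mul]
      refine mul_le_one' (val_pow_mul_le_one Q (hwQ Q hQ hQF) hz'0) ?_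
      rw [map_prod]
      exact Finset.prod_le_one' fun Q' _ => hle Q'
  have hmem := hc (s * z') hsz
  refine ⟨c * (s * z'), hmem, s, hsA, hsP, ?_⟩
  rw [hz']
  field_simp

end

end Groth.Agent.H57
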