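import Groth.Agent.H57.PlaneChoice

/-!
# The adjoint divisor of a plane model: nonnegativity and the singular places
-/

set_option autoImplicit false

namespace Groth.Agent.H57.Plane

open FunFld Groth.Agent.FF Groth.Agent.FF.Ext WithZero MvPolynomial Groth.Agent.H57 IntermediateField

universe u v
variable {k : Type u} {K : Type v} [Field k] [Field K] [Algebra k K]

section
variable [IsAlgClosed k]

/-- The new affine coordinates generate the function field. -/
theorem adjoin_new_eq_top (A : Matrix (Fin 3) (Fin 3) k) (x y : K) (u : Fin 3 → K)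
    (hu : ∀ i, ∑ j, algebraMap k K (A i j) * u j = ![(1 : K), x, y] i) (hu0 : u 0 ≠ 0)
    (hxy : adjoin k ({x, y} : Set K) = ⊤) :
    adjoin k ({u 1 / u 0, u 2 / u 0} : Set K) = ⊤ := by
  set E := adjoin k ({u 1 / u 0, u 2 / u 0} : Set K) with hE
  have h1 : u 1 / u 0 ∈ E := subset_adjoin k _ (by simp)
  have h2 : u 2 / u 0 ∈ E := subset_adjoin k _ (by simp)
  have hnorm : ∀ s, u s = u 0 * ![(1 : K), u 1 / u 0, u 2 / u 0] s := by
    intro s
    rw [normalize_eq u hu0, mul_inv_cancel_left₀ hu0]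
  have hmemn : ∀ s, ![(1 : K), u 1 / u 0, u 2 / u 0] s ∈ E := by
    intro s
    fin_cases s
    · exact one_mem _
    · exact h1
    · exact h2
  set S : Fin 3 → K := fun r => ∑ s, algebraMap k K (A r s) * ![(1 : K), u 1 / u 0, u 2 / u 0] s
    with hS
  have hSmem : ∀ r, S r ∈ E := fun r =>
    sum_mem fun s _ => mul_mem (IntermediateField.algebraMap_mem _ _) (hmemn s)
  have hX : ∀ r, ![(1 : K), x, y] r = u 0 * S r := by
    intro r
    rw [← hu r, hS, Finset.mul_sum]
    refine Finset.sum_congr rfl fun s _ => ?_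
    rw [hnorm s]
    ring
  have h0 := hX 0
  simp only [Matrix.cons_val_zero] at h0
  have hS0 : S 0 ≠ 0 := by
    intro h
    rw [h, mul_zero] at h0
    exact one_ne_zero h0
  have hu0E : u 0 ∈ E := by
    have : u 0 = (S 0)⁻¹ := by
      field_simp
      exact h0.symm
    rw [this]
    exact inv_mem (hSmem 0)
  rw [eq_top_iff, ← hxy, adjoin_le_iff]
  rintro w (rfl | rfl)
  · have := hX 1
    simp only [Matrix.cons_val_one, Matrix.cons_val_zero] at this
    rw [this]
    exact mul_mem hu0E (hSmem 1)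
  · have := hX 2
    simp only [Matrix.cons_val_two, Matrix.tail_cons, Matrix.head_cons] at this
    have h3 : u 0 * S 2 ∈ E := mul_mem hu0E (hSmem 2)
    rw [← this] at h3
    exact h3

/-- **The adjoint divisor is effective, and vanishes exactly at the nonsingular places.** -/
theorem adjoint_hom (hK : IsFunctionField k K) (x y : K)
    (hxy : adjoin k ({x, y} : Set K) = ⊤)
    (F : MvPolynomial (Fin 3) k) {n : ℕ} (hF : F.IsHomogeneous n) (hF0 : F ≠ 0)
    (hFxy : aeval ![(1 : K), x, y] F = 0)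
    (he : (mapDiv k ![(1 : K), x, y]).deg = n)
    (hdx : KaehlerDifferential.D k K x ≠ 0)
    (hFy : aeval ![(1 : K), x, y] (pderiv 2 F) ≠ 0)
    (Q : Place k K) (ΦQ : K →ₐ[k] LaurentSeries k) (hΦQ : LocRes.IsExpansionAt Q.1 ΦQ) :
    0 ≤ ((n : ℤ) - 3) * mapDiv k ![(1 : K), x, y] Q -
        LocRes.ordDiff ΦQ (aeval ![(1 : K), x, y] (pderiv 2 F))⁻¹ x ∧
    (((n : ℤ) - 3) * mapDiv k ![(1 : K), x, y] Q -
        LocRes.ordDiff ΦQ (aeval ![(1 : K), x, y] (pderiv 2 F))⁻¹ x = 0 ↔
      IsNonsingularAt ![(1 : K), x, y] Q) := by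
  obtain ⟨A, u, hdet, hspec, hu0, hQx', hcoeff, hG⟩ :=
    exists_good_coordinates hK x y F hF hF0 hFxy hFy Q
  have hF' := transf_isHomogeneous A F hF
  have hG' : aeval ![(1 : K), u 1 / u 0, u 2 / u 0] (pderiv 2 (transf A F)) ≠ 0 := by
    rw [aeval_normalize _ hF'.pderiv u hu0]
    exact mul_ne_zero (pow_ne_zero _ (inv_ne_zero hu0)) hG
  have hF'xy : aeval ![(1 : K), u 1 / u 0, u 2 / u 0] (transf A F) = 0 := by
    rw [aeval_normalize _ hF' u hu0, aeval_transf A F x y u hspec, hFxy, mul_zero]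
  have hdx' := D_new_ne_zero A hdet F hF x y u hspec hFxy hu0 hFy hdx hG
  have he' : (mapDiv k ![(1 : K), u 1 / u 0, u 2 / u 0]).deg = n := by
    rw [deg_mapDiv_new A hdet x y u hspec hK hu0, he]
  have hxy' := adjoin_new_eq_top A x y u hspec hu0 hxy
  have hLT := adjoint_local hK (u 1 / u 0) (u 2 / u 0) hxy' (transf A F) hF' hcoeff hF'xy he'
    hdx' hG' Q hQx' ΦQ hΦQ
  have hne := vDiff_ne_zero hK Q ΦQ hΦQ _ x (inv_ne_zero hFy) hdx
  obtain ⟨hV'ne, hord⟩ := ordDiff_new A hdet F hF x y u hspec hFxy hu0 hFy hG' Q ΦQ hΦQ hne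
  have hD' : mapDiv k ![(1 : K), u 1 / u 0, u 2 / u 0] Q = 0 := by
    rw [mapDiv_eq_poleDiv (transf A F) hF' hcoeff _ _ hF'xy hK, poleDiv_apply hK]
    by_cases hx0 : u 1 / u 0 = 0
    · rw [hx0, ord_zero]; simp
    · have := (val_le_one_iff Q hx0).1 hQx'
      exact max_eq_right (by omega)
  have hDrel := mapDiv_new_apply A hdet x y u hspec hK hu0 Q
  rw [hD'] at hDrel
  have hns := isNonsingularAt_new_iff A hdet x y u hspec hu0 Q
  set V' := LocRes.vDiff ΦQ (aeval ![(1 : K), u 1 / u 0, u 2 / u 0]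
    (pderiv 2 (transf A F)))⁻¹ (u 1 / u 0) with hV'
  have hV'exp : V' = exp (log V') := (exp_log hV'ne).symm
  have hkey : ((n : ℤ) - 3) * mapDiv k ![(1 : K), x, y] Q -
      LocRes.ordDiff ΦQ (aeval ![(1 : K), x, y] (pderiv 2 F))⁻¹ x = log V' := by
    have h1 : LocRes.ordDiff ΦQ (aeval ![(1 : K), u 1 / u 0, u 2 / u 0]
        (pderiv 2 (transf A F)))⁻¹ (u 1 / u 0) = -log V' := rfl
    rw [h1] at hord
    have h2 : mapDiv k ![(1 : K), x, y] Q = -Q.ord (u 0) := by omega
    rw [h2]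
    linarith
  rw [hkey]
  constructor
  · have := hLT.1
    rw [hV'exp, ← exp_zero, exp_le_exp] at this
    exact this
  · rw [← hns, ← hLT.2]
    constructor
    · intro h0
      rw [hV'exp, h0, exp_zero]
    · intro h1
      rw [h1, log_one]

end

end Groth.Agent.H57.Plane
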