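import Groth.Agent.H57.PlaneLT

/-!
# Choosing projective coordinates in good position at a given place
-/

set_option autoImplicit false

namespace Groth.Agent.H57.Plane

open FunFld Groth.Agent.FF Groth.Agent.FF.Ext WithZero MvPolynomial Groth.Agent.H57 IntermediateField

universe u v
variable {k : Type u} {K : Type v} [Field k] [Field K] [Algebra k K]

section Reduction

/-- Polynomial evaluation is compatible with reduction at a place. -/
theorem val_aeval_sub_lt {σ : Type*} (Q : Place k K) (z : σ → K) (p : σ → k)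
    (hz : ∀ i, Q.1 (z i - algebraMap k K (p i)) < 1) (G : MvPolynomial σ k) :
    Q.1 (aeval z G - algebraMap k K (eval p G)) < 1 := by
  have hz1 : ∀ i, Q.1 (z i) ≤ 1 := by
    intro i
    have : z i = (z i - algebraMap k K (p i)) + algebraMap k K (p i) := by ring
    rw [this]
    exact (Q.1.map_add _ _).trans (max_le (hz i).le (val_algebraMap_le Q _))
  induction G using MvPolynomial.induction_on with
  | C a =>
    rw [aeval_C, eval_C, sub_self, map_zero]
    exact zero_lt_one
  | add f g hf hg =>
    have : aeval z (f + g) - algebraMap k K (eval p (f + g)) =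
        (aeval z f - algebraMap k K (eval p f)) + (aeval z g - algebraMap k K (eval p g)) := by
      rw [map_add, map_add, map_add]; ring
    rw [this]
    exact lt_of_le_of_lt (Q.1.map_add _ _) (max_lt hf hg)
  | mul_X f i hf =>
    have : aeval z (f * X i) - algebraMap k K (eval p (f * X i)) =
        (aeval z f - algebraMap k K (eval p f)) * z i +
          algebraMap k K (eval p f) * (z i - algebraMap k K (p i)) := by
      rw [map_mul, map_mul, aeval_X, eval_X, map_mul]; ring
    rw [this]
    refine lt_of_le_of_lt (Q.1.map_add _ _) (max_lt ?_ ?_)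
    · rw [map_mul]
      exact lt_of_le_of_lt (mul_le_mul_right (hz1 i) _) (by rwa [mul_one])
    · rw [map_mul]
      exact lt_of_le_of_lt (mul_le_mul_left (val_algebraMap_le Q _) _) (by rw [one_mul]; exact hz i)

theorem eval_eq_zero_of_reduction {σ : Type*} (Q : Place k K) (z : σ → K) (p : σ → k)
    (hz : ∀ i, Q.1 (z i - algebraMap k K (p i)) < 1) (G : MvPolynomial σ k)
    (hG : aeval z G = 0) : eval p G = 0 := by
  have h := val_aeval_sub_lt Q z p hz G
  rw [hG, zero_sub, Valuation.map_neg] at h
  exact (val_algebraMap_lt_one_iff Q _).1 h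

end Reduction

section Point
variable [IsAlgClosed k]

/-- The image point of a place on the plane curve. -/
theorem exists_image_point (hK : IsFunctionField k K) (x y : K) (Q : Place k K)
    (F : MvPolynomial (Fin 3) k) {n : ℕ} (hF : F.IsHomogeneous n)
    (hFxy : aeval ![(1 : K), x, y] F = 0) :
    ∃ (j : Fin 3) (p : Fin 3 → k), ![(1 : K), x, y] j ≠ 0 ∧ p j = 1 ∧
      (∀ i, Q.1 (![(1 : K), x, y] i / ![(1 : K), x, y] j - algebraMap k K (p i)) < 1) ∧
      eval p F = 0 := by
  obtain ⟨j, hj⟩ := Finite.exists_max (fun i => Q.1 (![(1 : K), x, y] i))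
  have hj0 : ![(1 : K), x, y] j ≠ 0 := by
    intro h0
    have := hj 0
    simp only [h0, map_zero, Matrix.cons_val_zero, map_one] at this
    exact not_le.2 zero_lt_one this
  have hle : ∀ i, Q.1 (![(1 : K), x, y] i / ![(1 : K), x, y] j) ≤ 1 := by
    intro i
    rw [map_div₀]
    exact (div_le_one₀ (zero_lt_iff.2 ((Q.1.ne_zero_iff).2 hj0))).2 (hj i)
  set p : Fin 3 → k := fun i => rhoK hK Q (![(1 : K), x, y] i / ![(1 : K), x, y] j) with hp
  have hred : ∀ i, Q.1 (![(1 : K), x, y] i / ![(1 : K), x, y] j - algebraMap k K (p i)) < 1 :=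
    fun i => val_sub_rhoK_lt_one hK Q _ (hle i)
  refine ⟨j, p, hj0, ?_, hred, ?_⟩
  · apply rhoK_unique hK Q _ (hle j)
    rw [div_self hj0, map_one, sub_self, map_zero]
    exact zero_lt_one
  · apply eval_eq_zero_of_reduction Q _ p hred F
    have h := aeval_smul_of_isHomogeneous F n hF (![(1 : K), x, y] j)⁻¹ ![(1 : K), x, y]
    rw [hFxy, mul_zero] at h
    rw [← h]
    congr 2
    funext i
    rw [div_eq_inv_mul]

end Point

section Generic
variable [Infinite k]

/-- A point of `k³` off the curve at which a given `K`-valued linear form does not vanish. -/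
theorem exists_generic_point (F : MvPolynomial (Fin 3) k) (hF0 : F ≠ 0) (L : Fin 3 → K)
    (hL2 : L 2 ≠ 0) :
    ∃ c : Fin 3 → k, eval c F ≠ 0 ∧ ∑ i, algebraMap k K (c i) * L i ≠ 0 := by
  classical
  have : ∃ c₁ : Fin 3 → k, eval c₁ F ≠ 0 := by
    by_contra hcon
    push Not at hcon
    exact hF0 (MvPolynomial.funext fun pt => by rw [hcon pt, map_zero])
  obtain ⟨c₁, hc₁⟩ := this
  set e₂ : Fin 3 → k := fun i => if i = 2 then 1 else 0 with he₂
  set P : Polynomial k :=
    aeval (fun i : Fin 3 => Polynomial.C (c₁ i) + Polynomial.X * Polynomial.C (e₂ i)) F with hP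
  have hPeval : ∀ t : k, Polynomial.eval t P = eval (fun i => c₁ i + t * e₂ i) F := by
    intro t
    have h := AlgHom.congr_fun (comp_aeval (R := k)
      (fun i : Fin 3 => Polynomial.C (c₁ i) + Polynomial.X * Polynomial.C (e₂ i))
      (Polynomial.aeval t : Polynomial k →ₐ[k] k)) F
    rw [AlgHom.comp_apply] at h
    rw [← Polynomial.coe_aeval_eq_eval, hP, h, ← aeval_eq_eval]
    congr 2
    funext i
    simp only [map_add, Polynomial.aeval_C, map_mul, Polynomial.aeval_X,
      Algebra.algebraMap_self, RingHom.id_apply]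
  have hP0 : P ≠ 0 := by
    intro h0
    have := hPeval 0
    rw [h0, Polynomial.eval_zero] at this
    apply hc₁
    rw [this]
    congr 2
    funext i
    simp
  have hfin1 : {t : k | P.IsRoot t}.Finite := Polynomial.finite_setOf_isRoot hP0
  have hfin2 : {t : k | ∑ i, algebraMap k K (c₁ i + t * e₂ i) * L i = 0}.Finite := by
    apply Set.Subsingleton.finite
    intro t ht t' ht'
    rw [Set.mem_setOf_eq] at ht ht'
    have hexp : ∀ s : k, ∑ i, algebraMap k K (c₁ i + s * e₂ i) * L i =
        ∑ i, algebraMap k K (c₁ i) * L i + algebraMap k K s * L 2 := by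
      intro s
      rw [Fin.sum_univ_three, Fin.sum_univ_three]
      simp only [he₂, map_add, map_mul]
      simp
      ring
    rw [hexp] at ht ht'
    have : (algebraMap k K t - algebraMap k K t') * L 2 = 0 := by
      linear_combination ht - ht'
    rcases mul_eq_zero.1 this with h | h
    · exact (algebraMap k K).injective (sub_eq_zero.1 h)
    · exact absurd h hL2
  obtain ⟨t, ht⟩ := (hfin1.union hfin2).infinite_compl.nonempty
  rw [Set.mem_compl_iff, Set.mem_union, not_or] at ht
  refine ⟨fun i => c₁ i + t * e₂ i, ?_, ht.2⟩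
  rw [← hPeval]
  exact ht.1

end Generic

section Mat

/-- The matrix with columns `p`, `e_l`, `c`. -/
def coordMat (p c : Fin 3 → k) (l : Fin 3) : Matrix (Fin 3) (Fin 3) k :=
  Matrix.of fun r s => ![p r, (if r = l then 1 else 0), c r] s

theorem coordMat_mulVec (p c : Fin 3 → k) (l : Fin 3) (v : Fin 3 → k) (r : Fin 3) :
    (coordMat p c l).mulVec v r = p r * v 0 + (if r = l then 1 else 0) * v 1 + c r * v 2 := by
  rw [Matrix.mulVec, dotProduct, Fin.sum_univ_three]
  rfl

theorem det_coordMat_ne_zero (p c : Fin 3 → k) (i j l : Fin 3) (hli : l ≠ i)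
    (hlj : l ≠ j) (hpj : p j = 1) (hci : c i - c j * p i ≠ 0) : (coordMat p c l).det ≠ 0 := by
  intro hdet
  obtain ⟨v, hv0, hv⟩ := Matrix.exists_mulVec_eq_zero_iff.2 hdet
  have hj := congrFun hv j
  have hi := congrFun hv i
  have hl := congrFun hv l
  rw [coordMat_mulVec] at hj hi hl
  rw [if_neg (Ne.symm hlj), hpj] at hj
  rw [if_neg (Ne.symm hli)] at hi
  rw [if_pos rfl] at hl
  simp only [Pi.zero_apply, zero_mul, add_zero, one_mul] at hj hi hl
  have hv0' : v 0 = -(c j * v 2) := by linear_combination hj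
  have hv2 : v 2 = 0 := by
    have : (c i - c j * p i) * v 2 = 0 := by
      rw [hv0'] at hi
      linear_combination hi
    exact (mul_eq_zero.1 this).resolve_left hci
  have hv00 : v 0 = 0 := by rw [hv0', hv2, mul_zero, neg_zero]
  have hv1 : v 1 = 0 := by
    rw [hv00, hv2] at hl
    simpa using hl
  apply hv0
  funext s
  fin_cases s
  · exact hv00
  · exact hv1
  · exact hv2

theorem exists_third (i j : Fin 3) : ∃ l : Fin 3, l ≠ i ∧ l ≠ j := by
  revert i j
  decide

end Mat

section Choice
variable [IsAlgClosed k]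

/-- **Good coordinates at a place.** -/
theorem exists_good_coordinates (hK : IsFunctionField k K) (x y : K)
    (F : MvPolynomial (Fin 3) k) {n : ℕ} (hF : F.IsHomogeneous n) (hF0 : F ≠ 0)
    (hFxy : aeval ![(1 : K), x, y] F = 0)
    (hFy : aeval ![(1 : K), x, y] (pderiv 2 F) ≠ 0) (Q : Place k K) :
    ∃ (A : Matrix (Fin 3) (Fin 3) k) (u : Fin 3 → K), A.det ≠ 0 ∧
      (∀ i, ∑ j, algebraMap k K (A i j) * u j = ![(1 : K), x, y] i) ∧ u 0 ≠ 0 ∧
      Q.1 (u 1 / u 0) ≤ 1 ∧ (transf A F).coeff (Finsupp.single 2 n) ≠ 0 ∧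
      aeval u (pderiv 2 (transf A F)) ≠ 0 := by
  classical
  have : Infinite k := IsAlgClosed.instInfinite
  obtain ⟨j, p, hj0, hpj, hred, hFp⟩ := exists_image_point hK x y Q F hF hFxy
  obtain ⟨c, hcF, hcL⟩ := exists_generic_point F hF0
    (fun i => aeval ![(1 : K), x, y] (pderiv i F)) hFy
  have hex : ∃ i, c i - c j * p i ≠ 0 := by
    by_contra hcon
    push Not at hcon
    apply hcF
    have hc : c = fun i => c j * p i := by
      funext i
      have := hcon i
      linear_combination this
    have h := aeval_smul_of_isHomogeneous (B := k) F n hF (c j) p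
    rw [aeval_eq_eval, aeval_eq_eval, hFp, mul_zero] at h
    rw [hc]
    exact h
  obtain ⟨i, hi⟩ := hex
  obtain ⟨l, hli, hlj⟩ := exists_third i j
  set A := coordMat p c l with hA
  have hdet : A.det ≠ 0 := det_coordMat_ne_zero p c i j l hli hlj hpj hi
  have hAB : A * A⁻¹ = 1 := Matrix.mul_nonsing_inv A (isUnit_iff_ne_zero.2 hdet)
  have hBA : A⁻¹ * A = 1 := Matrix.nonsing_inv_mul A (isUnit_iff_ne_zero.2 hdet)
  set B := A⁻¹ with hB
  set u : Fin 3 → K := fun r => ∑ s, algebraMap k K (B r s) * ![(1 : K), x, y] s with hu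
  have hspec : ∀ r, ∑ s, algebraMap k K (A r s) * u s = ![(1 : K), x, y] r := by
    intro r
    calc ∑ s, algebraMap k K (A r s) * u s
        = ∑ t, (∑ s, algebraMap k K (A r s) * algebraMap k K (B s t)) * ![(1 : K), x, y] t := by
          simp only [hu, Finset.mul_sum, Finset.sum_mul]
          rw [Finset.sum_comm]
          refine Finset.sum_congr rfl fun t _ => Finset.sum_congr rfl fun s _ => ?_
          ring
      _ = ∑ t, algebraMap k K ((1 : Matrix (Fin 3) (Fin 3) k) r t) * ![(1 : K), x, y] t := by
          refine Finset.sum_congr rfl fun t _ => ?_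
          rw [← hAB, Matrix.mul_apply, map_sum]
          simp only [map_mul]
      _ = ![(1 : K), x, y] r := by
          rw [Finset.sum_eq_single r]
          · rw [Matrix.one_apply_eq, map_one, one_mul]
          · intro t _ ht
            rw [Matrix.one_apply_ne (Ne.symm ht), map_zero, zero_mul]
          · intro h; exact absurd (Finset.mem_univ r) h
  have hcol0 : ∀ s, A s 0 = p s := fun s => rfl
  have hcol2 : ∀ s, A s 2 = c s := fun s => rfl
  have hBp : ∀ r, ∑ s, B r s * p s = if r = 0 then 1 else 0 := by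
    intro r
    have : ∑ s, B r s * p s = (B * A) r 0 := by
      rw [Matrix.mul_apply]
      rfl
    rw [this, hBA, Matrix.one_apply]
  have hcong : ∀ r, Q.1 (u r / ![(1 : K), x, y] j -
      algebraMap k K (if r = 0 then 1 else 0)) < 1 := by
    intro r
    have heq : u r / ![(1 : K), x, y] j - algebraMap k K (if r = 0 then 1 else 0) =
        ∑ s, algebraMap k K (B r s) *
          (![(1 : K), x, y] s / ![(1 : K), x, y] j - algebraMap k K (p s)) := by
      rw [← hBp r, map_sum, hu, Finset.sum_div, ← Finset.sum_sub_distrib]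
      refine Finset.sum_congr rfl fun s _ => ?_
      rw [map_mul]
      ring
    rw [heq]
    apply Valuation.map_sum_lt Q.1 one_ne_zero
    intro s _
    rw [map_mul]
    exact lt_of_le_of_lt (mul_le_mul_left (val_algebraMap_le Q _) _) (by rw [one_mul]; exact hred s)
  have h0 := hcong 0
  rw [if_pos rfl] at h0
  have hu0v : Q.1 (u 0 / ![(1 : K), x, y] j) = 1 := val_eq_one_of_sub_const Q one_ne_zero h0
  have hu0 : u 0 ≠ 0 := by
    intro h
    rw [h, zero_div, map_zero] at hu0v
    exact zero_ne_one hu0v
  have h1 := hcong 1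
  rw [if_neg (by decide), map_zero, sub_zero] at h1
  refine ⟨A, u, hdet, hspec, hu0, ?_, ?_, ?_⟩
  · have : u 1 / u 0 = (u 1 / ![(1 : K), x, y] j) / (u 0 / ![(1 : K), x, y] j) := by
      field_simp
    rw [this, map_div₀, hu0v, _root_.div_one]
    exact h1.le
  · rw [← eval_e2 _ (transf_isHomogeneous A F hF), eval_transf_e2]
    have : ![A 0 2, A 1 2, A 2 2] = c := by
      funext s
      fin_cases s <;> rfl
    rw [this]
    exact hcF
  · rw [aeval_pderiv_transf A F x y u hspec 2]
    simp only [hcol2]
    exact hcL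

end Choice

end Groth.Agent.H57.Plane
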