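import Groth.Agent.H57.MvChain
import Mathlib.LinearAlgebra.Matrix.Determinant.Basic
import Mathlib.Tactic.Module
import Mathlib.Tactic.LinearCombination
import Groth.Agent.FunFld.LocResFF

/-!
# The differential `dx/F_y` under a change of projective coordinates
-/

set_option autoImplicit false

namespace Groth.Agent.H57.Plane

open MvPolynomial

variable {k K : Type*} [Field k] [Field K] [Algebra k K]

/-- The transformed polynomial `F'(X') = F(AX')`. -/
noncomputable def transf (A : Matrix (Fin 3) (Fin 3) k) (F : MvPolynomial (Fin 3) k) :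
    MvPolynomial (Fin 3) k :=
  aeval (fun i : Fin 3 => ∑ j, C (A i j) * X j) F

section
variable (A : Matrix (Fin 3) (Fin 3) k) (F : MvPolynomial (Fin 3) k)
  (x y : K) (u : Fin 3 → K)
  (hu : ∀ i, ∑ j, algebraMap k K (A i j) * u j = ![(1 : K), x, y] i)

include hu in
theorem aeval_subst (G : MvPolynomial (Fin 3) k) :
    aeval u (aeval (fun i : Fin 3 => ∑ j, C (A i j) * X j) G) = aeval ![(1 : K), x, y] G := by
  have h := AlgHom.congr_fun (comp_aeval (R := k) (fun i : Fin 3 => ∑ j, C (A i j) * X j)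
    (aeval u : MvPolynomial (Fin 3) k →ₐ[k] K)) G
  rw [AlgHom.comp_apply] at h
  rw [h]
  congr 2
  funext i
  rw [← hu i, map_sum]
  refine Finset.sum_congr rfl fun j _ => ?_
  rw [map_mul, aeval_C, aeval_X]

include hu in
theorem aeval_transf : aeval u (transf A F) = aeval ![(1 : K), x, y] F :=
  aeval_subst A x y u hu F

theorem pderiv_transf (j : Fin 3) :
    pderiv j (transf A F) =
      ∑ i, aeval (fun i : Fin 3 => ∑ j, C (A i j) * X j) (pderiv i F) * C (A i j) := by
  unfold transf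
  rw [derivation_aeval (pderiv j) (fun i : Fin 3 => ∑ j, C (A i j) * X j) F]
  refine Finset.sum_congr rfl fun i _ => ?_
  rw [smul_eq_mul]
  congr 1
  rw [map_sum, Finset.sum_eq_single j]
  · rw [Derivation.leibniz, pderiv_X_self, pderiv_C]
    simp
  · intro l _ hl
    rw [Derivation.leibniz, pderiv_C, pderiv_X_of_ne hl]
    simp
  · intro h; exact absurd (Finset.mem_univ j) h

include hu in
/-- The chain rule for the transformed polynomial, evaluated at the new coordinates. -/
theorem aeval_pderiv_transf (j : Fin 3) :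
    aeval u (pderiv j (transf A F)) =
      ∑ i, algebraMap k K (A i j) * aeval ![(1 : K), x, y] (pderiv i F) := by
  rw [pderiv_transf, map_sum]
  refine Finset.sum_congr rfl fun i _ => ?_
  rw [map_mul, aeval_subst A x y u hu, aeval_C, mul_comm]

end

section Differential
variable {M : Type*} [AddCommGroup M] [Module k M] [Module K M] [IsScalarTower k K M]
  (d : Derivation k K M)
variable (A : Matrix (Fin 3) (Fin 3) k) (F : MvPolynomial (Fin 3) k) {e : ℕ}
  (hF : F.IsHomogeneous e) (x y : K) (u : Fin 3 → K)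
  (hu : ∀ i, ∑ j, algebraMap k K (A i j) * u j = ![(1 : K), x, y] i)
  (hFxy : aeval ![(1 : K), x, y] F = 0)

include hF hFxy in
/-- Euler's identity on the curve. -/
theorem euler_on_curve :
    aeval ![(1 : K), x, y] (pderiv 0 F) + x * aeval ![(1 : K), x, y] (pderiv 1 F) +
      y * aeval ![(1 : K), x, y] (pderiv 2 F) = 0 := by
  have h := congrArg (aeval ![(1 : K), x, y]) hF.sum_X_mul_pderiv
  rw [map_sum, Fin.sum_univ_three, map_nsmul, hFxy, smul_zero] at h
  simp only [map_mul, aeval_X] at h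
  simpa using h

include hFxy in
/-- `dF = 0` on the curve. -/
theorem dF_on_curve :
    aeval ![(1 : K), x, y] (pderiv 1 F) • d x + aeval ![(1 : K), x, y] (pderiv 2 F) • d y = 0 := by
  have h := derivation_aeval d ![(1 : K), x, y] F
  rw [hFxy, map_zero, Fin.sum_univ_three] at h
  simp only [Matrix.cons_val_zero, Matrix.cons_val_one, Matrix.cons_val_two,
    Matrix.head_cons, Matrix.tail_cons] at h
  rw [Derivation.map_one_eq_zero, smul_zero, zero_add] at h
  exact h.symm

include hF hu hFxy in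
/-- The key identity: `det A · F_y · (u₀ du₁ - u₁ du₀) = F'_{y'}(u) dx`. -/
theorem key_identity :
    (algebraMap k K A.det * aeval ![(1 : K), x, y] (pderiv 2 F)) • (u 0 • d (u 1) - u 1 • d (u 0)) =
      aeval u (pderiv 2 (transf A F)) • d x := by
  have hE := euler_on_curve F hF x y hFxy
  have hR3 := dF_on_curve d F x y hFxy
  rw [aeval_pderiv_transf A F x y u hu 2, Fin.sum_univ_three]
  set F0 := aeval ![(1 : K), x, y] (pderiv 0 F) with hF0
  set F1 := aeval ![(1 : K), x, y] (pderiv 1 F) with hF1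
  set F2 := aeval ![(1 : K), x, y] (pderiv 2 F) with hF2
  have hu0 := hu 0
  have hu1 := hu 1
  have hu2 := hu 2
  rw [Fin.sum_univ_three] at hu0 hu1 hu2
  simp only [Matrix.cons_val_zero, Matrix.cons_val_one, Matrix.cons_val_two,
    Matrix.head_cons, Matrix.tail_cons] at hu0 hu1 hu2
  rw [Matrix.det_fin_three]
  simp only [map_add, map_sub, map_mul]
  set a00 := algebraMap k K (A 0 0)
  set a01 := algebraMap k K (A 0 1)
  set a02 := algebraMap k K (A 0 2)
  set a10 := algebraMap k K (A 1 0)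
  set a11 := algebraMap k K (A 1 1)
  set a12 := algebraMap k K (A 1 2)
  set a20 := algebraMap k K (A 2 0)
  set a21 := algebraMap k K (A 2 1)
  set a22 := algebraMap k K (A 2 2)
  have hd : ∀ (c : k) (v : K), d (algebraMap k K c * v) = algebraMap k K c • d v := by
    intro c v
    rw [← Algebra.smul_def, Derivation.map_smul, algebraMap_smul]
  have R0 : a00 • d (u 0) + a01 • d (u 1) + a02 • d (u 2) = 0 := by
    have := congrArg d hu0
    rwa [map_add, map_add, hd, hd, hd, Derivation.map_one_eq_zero] at this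
  have R1 : a10 • d (u 0) + a11 • d (u 1) + a12 • d (u 2) = d x := by
    have := congrArg d hu1
    rwa [map_add, map_add, hd, hd, hd] at this
  have R2 : a20 • d (u 0) + a21 • d (u 1) + a22 • d (u 2) = d y := by
    have := congrArg d hu2
    rwa [map_add, map_add, hd, hd, hd] at this
  set det := a00 * a11 * a22 - a00 * a12 * a21 - a01 * a10 * a22 + a01 * a12 * a20 +
    a02 * a10 * a21 - a02 * a11 * a20 with hdet
  have hC0 : det • d (u 0) = (-(a01 * a22 - a02 * a21)) • d x + (a01 * a12 - a02 * a11) • d y := by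
    linear_combination (norm := module) (a11 * a22 - a12 * a21) • R0 +
      (-(a01 * a22 - a02 * a21)) • R1 + (a01 * a12 - a02 * a11) • R2
  have hC1 : det • d (u 1) = (a00 * a22 - a02 * a20) • d x + (-(a00 * a12 - a02 * a10)) • d y := by
    linear_combination (norm := module) (-(a10 * a22 - a12 * a20)) • R0 +
      (a00 * a22 - a02 * a20) • R1 + (-(a00 * a12 - a02 * a10)) • R2
  have hS : (u 0 * (a00 * a22 - a02 * a20) - u 1 * (-(a01 * a22 - a02 * a21))) * F2 -
      (u 0 * (-(a00 * a12 - a02 * a10)) - u 1 * (a01 * a12 - a02 * a11)) * F1 =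
      a02 * F0 + a12 * F1 + a22 * F2 := by
    linear_combination (F1 * a12 + F2 * a22) * hu0 - a02 * F1 * hu1 - a02 * F2 * hu2 - a02 * hE
  have hS' : ((u 0 * (a00 * a22 - a02 * a20) - u 1 * (-(a01 * a22 - a02 * a21))) * F2 -
      (u 0 * (-(a00 * a12 - a02 * a10)) - u 1 * (a01 * a12 - a02 * a11)) * F1) • d x =
      (a02 * F0 + a12 * F1 + a22 * F2) • d x := by rw [hS]
  linear_combination (norm := module) (F2 * u 0) • hC1 - (F2 * u 1) • hC0 +
    (u 0 * (-(a00 * a12 - a02 * a10)) - u 1 * (a01 * a12 - a02 * a11)) • hR3 + hS'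

end Differential

section Homog
variable (A : Matrix (Fin 3) (Fin 3) k) (F : MvPolynomial (Fin 3) k) {e : ℕ}

theorem transf_isHomogeneous (hF : F.IsHomogeneous e) : (transf A F).IsHomogeneous e := by
  have h := hF.aeval (S := k) (τ := Fin 3) (n := 1) (fun i : Fin 3 => ∑ j, C (A i j) * X j)
    (fun i => IsHomogeneous.sum _ _ _ fun j _ => isHomogeneous_C_mul_X _ _)
  rwa [one_mul] at h

theorem normalize_eq (u : Fin 3 → K) (hu0 : u 0 ≠ 0) :
    ![(1 : K), u 1 / u 0, u 2 / u 0] = fun i => (u 0)⁻¹ * u i := by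
  funext i
  fin_cases i
  · simp [hu0]
  · simp [div_eq_inv_mul]
  · simp [div_eq_inv_mul]

theorem aeval_normalize (G : MvPolynomial (Fin 3) k) {m : ℕ} (hG : G.IsHomogeneous m)
    (u : Fin 3 → K) (hu0 : u 0 ≠ 0) :
    aeval ![(1 : K), u 1 / u 0, u 2 / u 0] G = ((u 0)⁻¹) ^ m * aeval u G := by
  rw [normalize_eq u hu0]
  exact aeval_smul_of_isHomogeneous G m hG _ u

end Homog

section Final
variable (A : Matrix (Fin 3) (Fin 3) k) (hA : A.det ≠ 0) (F : MvPolynomial (Fin 3) k) {e : ℕ}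
  (hF : F.IsHomogeneous e) (x y : K) (u : Fin 3 → K)
  (hu : ∀ i, ∑ j, algebraMap k K (A i j) * u j = ![(1 : K), x, y] i)
  (hFxy : aeval ![(1 : K), x, y] F = 0) (hu0 : u 0 ≠ 0)
  (hFy : aeval ![(1 : K), x, y] (pderiv 2 F) ≠ 0)

include hA hF hu hFxy hFy in
/-- `dx' = g dx` with an explicit `g`. -/
theorem D_new_eq :
    KaehlerDifferential.D k K (u 1 / u 0) =
      (((u 0)⁻¹) ^ 2 * (algebraMap k K A.det * aeval ![(1 : K), x, y] (pderiv 2 F))⁻¹ *
        aeval u (pderiv 2 (transf A F))) • KaehlerDifferential.D k K x := by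
  have hkey := key_identity (KaehlerDifferential.D k K) A F hF x y u hu hFxy
  have hdet : algebraMap k K A.det ≠ 0 := by
    rw [Ne, map_eq_zero]; exact hA
  have hne : algebraMap k K A.det * aeval ![(1 : K), x, y] (pderiv 2 F) ≠ 0 := mul_ne_zero hdet hFy
  rw [Derivation.leibniz_div, mul_assoc, mul_smul, mul_smul, ← hkey, smul_smul (_)⁻¹,
    inv_mul_cancel₀ hne, one_smul]

include hA hF hu hFxy hu0 hFy in
theorem D_new_ne_zero (hdx : KaehlerDifferential.D k K x ≠ 0)
    (hG : aeval u (pderiv 2 (transf A F)) ≠ 0) :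
    KaehlerDifferential.D k K (u 1 / u 0) ≠ 0 := by
  rw [D_new_eq A hA F hF x y u hu hFxy hFy]
  have hdet : algebraMap k K A.det ≠ 0 := by
    rw [Ne, map_eq_zero]; exact hA
  exact smul_ne_zero (mul_ne_zero (mul_ne_zero (pow_ne_zero _ (inv_ne_zero hu0))
    (inv_ne_zero (mul_ne_zero hdet hFy))) hG) hdx

include hA hF hu hFxy hu0 hFy in
/-- The valuation of `dx'/F'_{y'}` against that of `dx/F_y`. -/
theorem vDiff_transf (w : Valuation K (WithZero (Multiplicative ℤ)))
    (hw : ∀ c : k, c ≠ 0 → w (algebraMap k K c) = 1)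
    (Φ : K →ₐ[k] LaurentSeries k) (hΦ : ∀ f : K, Valued.v (Φ f) = w f)
    (hG : aeval ![(1 : K), u 1 / u 0, u 2 / u 0] (pderiv 2 (transf A F)) ≠ 0) :
    LocRes.vDiff Φ (aeval ![(1 : K), u 1 / u 0, u 2 / u 0] (pderiv 2 (transf A F)))⁻¹ (u 1 / u 0) *
        w (u 0) ^ 2 =
      LocRes.vDiff Φ (aeval ![(1 : K), x, y] (pderiv 2 F))⁻¹ x * w (u 0) ^ (e - 1) := by
  have hD := Groth.Agent.FF.D_exp_of_D_eq_smul Φ (D_new_eq A hA F hF x y u hu hFxy hFy)
  have hnorm := aeval_normalize (pderiv 2 (transf A F)) (transf_isHomogeneous A F hF).pderiv u hu0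
  set G' := aeval ![(1 : K), u 1 / u 0, u 2 / u 0] (pderiv 2 (transf A F)) with hG'
  set G := aeval u (pderiv 2 (transf A F)) with hGdef
  set F2 := aeval ![(1 : K), x, y] (pderiv 2 F) with hF2
  have hw0 : w (u 0) ≠ 0 := (w.ne_zero_iff).2 hu0
  have hG0 : G ≠ 0 := by
    intro h0
    rw [h0, mul_zero] at hnorm
    exact hG hnorm
  have hGG : G = u 0 ^ (e - 1) * G' := by
    rw [hnorm, ← mul_assoc, ← mul_pow, mul_inv_cancel₀ hu0, one_pow, one_mul]
  have hdet : algebraMap k K A.det ≠ 0 := by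
    rw [Ne, map_eq_zero]; exact hA
  set g := (u 0)⁻¹ ^ 2 * ((algebraMap k K) A.det * F2)⁻¹ * G with hg
  have hfield : G'⁻¹ * g * u 0 ^ 2 = (algebraMap k K A.det)⁻¹ * (F2⁻¹ * u 0 ^ (e - 1)) := by
    rw [hg, hGG]
    field_simp
  have hL : LocRes.vDiff Φ G'⁻¹ (u 1 / u 0) = w (G'⁻¹ * g) * Valued.v (LocRes.D k (Φ x)) := by
    unfold LocRes.vDiff
    rw [hD, ← mul_assoc, ← map_mul, map_mul, hΦ]
  have hR : LocRes.vDiff Φ F2⁻¹ x = w F2⁻¹ * Valued.v (LocRes.D k (Φ x)) := by
    unfold LocRes.vDiff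
    rw [map_mul, hΦ]
  clear_value g
  have hwf : w (G'⁻¹ * g) * w (u 0) ^ 2 = w F2⁻¹ * w (u 0) ^ (e - 1) := by
    calc w (G'⁻¹ * g) * w (u 0) ^ 2 = w (G'⁻¹ * g * u 0 ^ 2) := by rw [map_mul _ _ (u 0 ^ 2), map_pow]
      _ = w ((algebraMap k K A.det)⁻¹ * (F2⁻¹ * u 0 ^ (e - 1))) := by rw [hfield]
      _ = w F2⁻¹ * w (u 0) ^ (e - 1) := by
          rw [map_mul, map_inv₀, hw _ hA, inv_one, one_mul, map_mul, map_pow]
  rw [hL, hR, mul_right_comm, hwf, mul_right_comm]

end Final

end Groth.Agent.H57.Plane
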