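import Groth.Agent.H57.MapDiv
import Mathlib.RingTheory.AlgebraTower
import Mathlib.RingTheory.PowerBasis

set_option autoImplicit false

namespace Groth.Agent.H57

open FunFld Groth.Agent.FF WithZero IntermediateField

universe u v
variable {k : Type u} {K : Type v} [Field k] [Field K] [Algebra k K]

theorem two_mul_sum_range_sub (m : ℕ) : ∀ d : ℕ, d ≤ m + 1 →
    2 * ∑ b ∈ Finset.range d, ((m + 1 - b : ℕ) : ℤ) = (d : ℤ) * (2 * m + 3 - d) := by
  intro d
  induction d with
  | zero => intro _; simp
  | succ d ih =>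
    intro hd
    rw [Finset.sum_range_succ, mul_add, ih (by omega), Nat.cast_sub (by omega)]
    push_cast
    ring

theorem div_one_eq_zero (hK : IsFunctionField k K) : FunFld.div k (1 : K) = 0 := by
  ext Q
  rw [div_apply hK, ord_one, Finsupp.zero_apply]

/-- Monomials `f ^ a * y ^ b` with `b < [K : k(f)]` are linearly independent over `k` when
`K = k(f, y)`. -/
theorem linearIndependent_monomials (hK : IsFunctionField k K) {f y : K}
    (hf : Transcendental k f) (hfy : IntermediateField.adjoin k ({f, y} : Set K) = ⊤) (l : ℕ) :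
    LinearIndependent k fun p : Fin (l + 1) × Fin (Module.finrank (adjoin k ({f} : Set K)) K) =>
      f ^ (p.1 : ℕ) * y ^ (p.2 : ℕ) := by
  have hfin := finite_adjoin_of_transcendental hK hf
  set F₁ := adjoin k ({f} : Set K) with hF₁
  have htop : F₁⟮y⟯ = ⊤ := by
    apply IntermediateField.restrictScalars_injective k
    rw [adjoin_simple_adjoin_simple, hfy]
    rfl
  have hint : IsIntegral F₁ y := IsIntegral.of_finite F₁ y
  have hdeg : (minpoly F₁ y).natDegree = Module.finrank F₁ K := by
    rw [← IntermediateField.adjoin.finrank hint, htop, IntermediateField.finrank_top']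
  have h1 : LinearIndependent F₁ fun i : Fin (Module.finrank F₁ K) => y ^ (i : ℕ) := by
    have := linearIndependent_pow (K := F₁) y
    rw [hdeg] at this
    exact this
  have h0 : LinearIndependent k fun a : Fin (l + 1) => (⟨f, mem_adjoin_simple_self k f⟩ : F₁) ^ (a : ℕ) := by
    apply LinearIndependent.of_comp (F₁.val.toLinearMap)
    have : (F₁.val.toLinearMap ∘ fun a : Fin (l + 1) => (⟨f, mem_adjoin_simple_self k f⟩ : F₁) ^ (a : ℕ)) =
        fun a : Fin (l + 1) => f ^ (a : ℕ) := by
      funext a
      simp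
    rw [this]
    exact linearIndependent_pow_of_transcendental hf l
  have h := linearIndependent_smul h0 h1
  have heq : (fun p : Fin (l + 1) × Fin (Module.finrank F₁ K) =>
      (⟨f, mem_adjoin_simple_self k f⟩ : F₁) ^ (p.1 : ℕ) • y ^ (p.2 : ℕ)) =
      fun p => f ^ (p.1 : ℕ) * y ^ (p.2 : ℕ) := by
    funext p
    rw [Algebra.smul_def]
    rfl
  rw [heq] at h
  exact h


section
variable [IsAlgClosed k]

/-- The genus of a plane curve of degree `d` is at most `(d - 1)(d - 2)/2`. -/
theorem plane_genus_bound (hK : IsFunctionField k K) (x y : K)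
    (hxy : IntermediateField.adjoin k ({x, y} : Set K) = ⊤) :
    2 * (genus k K : ℤ) ≤
      ((mapDiv k ![(1 : K), x, y]).deg - 1) * ((mapDiv k ![(1 : K), x, y]).deg - 2) := by
  classical
  have : Infinite k := IsAlgClosed.instInfinite
  set φ : Fin 3 → K := ![(1 : K), x, y] with hφ
  set D := mapDiv k φ with hD
  set W := Submodule.span k (Set.range φ) with hW
  have hWL : W ≤ L D := span_le_L_mapDiv hK φ
  have hφ0 : φ 0 = 1 := rfl
  have hφ1 : φ 1 = x := rfl
  have hφ2 : φ 2 = y := rfl
  have hxW : x ∈ W := Submodule.subset_span ⟨1, rfl⟩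
  have hyW : y ∈ W := Submodule.subset_span ⟨2, rfl⟩
  have hD0 : 0 ≤ D := by
    intro Q
    have : -(D Q) ≤ Q.ord (φ 0) := neg_mapDiv_le_ord hK φ Q 0
    rw [hφ0, ord_one] at this
    rw [Finsupp.zero_apply]
    omega
  have hbpf : ∀ Q : Place k K, ∃ f ∈ W, f ∉ L (D - Finsupp.single Q 1) := by
    intro Q
    apply exists_mem_span_not_mem_L hK φ Q
    obtain ⟨i, hi⟩ := exists_ord_eq_neg_mapDiv hK φ Q
    by_cases h0 : φ i = 0
    · refine ⟨0, by rw [hφ0]; exact one_ne_zero, ?_⟩
      rw [h0, ord_zero] at hi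
      rw [hφ0, ord_one]
      exact hi
    · exact ⟨i, h0, hi⟩
  -- D is not zero
  have hDne : ∃ Q₁ : Place k K, D Q₁ ≠ 0 := by
    by_contra hcon
    push Not at hcon
    have hDz : D = 0 := by
      ext Q; rw [hcon Q, Finsupp.zero_apply]
    obtain ⟨x₀, hx₀, -⟩ := hK.1
    have hmem : x₀ ∈ IntermediateField.adjoin k ({x, y} : Set K) := by rw [hxy]; trivial
    have hle : IntermediateField.adjoin k ({x, y} : Set K) ≤ ⊥ := by
      rw [IntermediateField.adjoin_le_iff]
      intro z hz
      have hzW : z ∈ W := by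
        rcases hz with rfl | rfl
        · exact hxW
        · exact hyW
      have := hWL hzW
      rw [hDz, L_zero_eq hK, Submodule.mem_one] at this
      obtain ⟨c, hc⟩ := this
      rw [SetLike.mem_coe, IntermediateField.mem_bot]
      exact ⟨c, hc⟩
    have := hle hmem
    rw [IntermediateField.mem_bot] at this
    obtain ⟨c, hc⟩ := this
    exact hx₀ (hc ▸ isAlgebraic_algebraMap c)
  obtain ⟨Q₁, hQ₁⟩ := hDne
  set S : Set (Place k K) := {Q | D Q ≠ 0} with hS
  have hSfin : S.Finite := by
    have : S = (D.support : Set (Place k K)) := by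
      ext Q; simp [hS]
    rw [this]
    exact Finset.finite_toSet _
  obtain ⟨f, hfW, hfgen⟩ := exists_mem_forall_not_mem W S hSfin
    (fun Q => L (D - Finsupp.single Q 1)) (fun Q _ => hbpf Q)
  have hf0 : f ≠ 0 := by
    rintro rfl
    exact hfgen Q₁ hQ₁ (Submodule.zero_mem _)
  have hpole : poleDiv k f = D := by
    have h := poleDiv_div_eq hK (D := D) (D' := D) (B := 0) le_rfl (by rw [sub_zero])
      (one_ne_zero) (by rw [div_one_eq_zero hK, zero_add]; exact hD0) (hWL hfW) hf0
      (fun Q hQ => hfgen Q (by rwa [div_one_eq_zero hK, zero_add] at hQ))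
    rw [div_one, div_one_eq_zero hK, zero_add, sub_zero] at h
    exact h
  have hftr : Transcendental k f := by
    intro halg
    obtain ⟨c, hc⟩ := hK.2 _ halg
    rw [← hc, poleDiv_algebraMap hK] at hpole
    apply hQ₁
    rw [← hpole, Finsupp.zero_apply]
  have hfin := finite_adjoin_of_transcendental hK hftr
  set d' : ℕ := Module.finrank (adjoin k ({f} : Set K)) K with hd'
  have hd'pos : 0 < d' := Module.finrank_pos
  have hdeg : D.deg = d' := by
    rw [← hpole]; exact deg_poleDiv_eq hK hftr
  -- a second coordinate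
  have hy' : ∃ y' ∈ W, IntermediateField.adjoin k ({f, y'} : Set K) = ⊤ := by
    obtain ⟨c, hc⟩ := (Submodule.mem_span_range_iff_exists_fun k).1 hfW
    rw [Fin.sum_univ_three, hφ0, hφ1, hφ2] at hc
    by_cases h1 : c 1 = 0
    · by_cases h2 : c 2 = 0
      · exfalso
        rw [h1, h2, zero_smul, zero_smul, add_zero, add_zero, Algebra.smul_def, mul_one] at hc
        exact hftr (hc ▸ isAlgebraic_algebraMap (c 0))
      · refine ⟨x, hxW, ?_⟩
        rw [eq_top_iff, ← hxy, IntermediateField.adjoin_le_iff]
        have hfm : f ∈ IntermediateField.adjoin k ({f, x} : Set K) :=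
          IntermediateField.subset_adjoin k _ (by simp)
        have hxm : x ∈ IntermediateField.adjoin k ({f, x} : Set K) :=
          IntermediateField.subset_adjoin k _ (by simp)
        have hyeq : y = (c 2)⁻¹ • (f - c 0 • (1 : K)) := by
          rw [← hc, h1, zero_smul, add_zero, add_sub_cancel_left, smul_smul,
            inv_mul_cancel₀ h2, one_smul]
        intro z hz
        rcases hz with rfl | rfl
        · exact hxm
        · rw [SetLike.mem_coe, hyeq, Algebra.smul_def, Algebra.smul_def, mul_one]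
          exact mul_mem (IntermediateField.algebraMap_mem _ _)
            (sub_mem hfm (IntermediateField.algebraMap_mem _ _))
    · refine ⟨y, hyW, ?_⟩
      rw [eq_top_iff, ← hxy, IntermediateField.adjoin_le_iff]
      have hfm : f ∈ IntermediateField.adjoin k ({f, y} : Set K) :=
        IntermediateField.subset_adjoin k _ (by simp)
      have hym : y ∈ IntermediateField.adjoin k ({f, y} : Set K) :=
        IntermediateField.subset_adjoin k _ (by simp)
      have hxeq : x = (c 1)⁻¹ • (f - c 0 • (1 : K) - c 2 • y) := by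
        rw [← hc]
        have : c 0 • (1 : K) + c 1 • x + c 2 • y - c 0 • (1 : K) - c 2 • y = c 1 • x := by abel
        rw [this, smul_smul, inv_mul_cancel₀ h1, one_smul]
      intro z hz
      rcases hz with rfl | rfl
      · rw [SetLike.mem_coe, hxeq, Algebra.smul_def, Algebra.smul_def, Algebra.smul_def, mul_one]
        exact mul_mem (IntermediateField.algebraMap_mem _ _)
          (sub_mem (sub_mem hfm (IntermediateField.algebraMap_mem _ _))
            (mul_mem (IntermediateField.algebraMap_mem _ _) hym))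
      · exact hym
  obtain ⟨y', hy'W, hfy'⟩ := hy'
  -- the independent monomials
  set g := genus k K with hg
  set m : ℕ := 2 * g + d' with hm
  have hli := linearIndependent_monomials hK hftr hfy' m
  let e : (Σ b : Fin d', Fin (m + 1 - b)) → Fin (m + 1) × Fin d' :=
    fun p => (⟨p.2, by have := p.2.2; omega⟩, p.1)
  have he : Function.Injective e := by
    rintro ⟨b, a⟩ ⟨b', a'⟩ h
    simp only [e, Prod.mk.injEq, Fin.mk.injEq] at h
    obtain ⟨h1, rfl⟩ := h
    have : a = a' := Fin.ext h1
    rw [this]
  have hli2 := hli.comp e he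
  have hmemL : ∀ p : (Σ b : Fin d', Fin (m + 1 - b)),
      f ^ (p.2 : ℕ) * y' ^ (p.1 : ℕ) ∈ L (m • D) := by
    intro p
    have h1 := mul_mem_L (pow_mem_L (hWL hfW) (p.2 : ℕ)) (pow_mem_L (hWL hy'W) (p.1 : ℕ))
    rw [← add_nsmul] at h1
    refine L_mono ?_ h1
    have hle : (p.2 : ℕ) + (p.1 : ℕ) ≤ m := by
      have := p.2.2
      have := p.1.2
      omega
    intro Q
    rw [Finsupp.smul_apply, Finsupp.smul_apply]
    have := hD0 Q
    rw [Finsupp.zero_apply] at this
    simp only [nsmul_eq_mul]
    have h3 : (((p.2 : ℕ) + (p.1 : ℕ) : ℕ) : ℤ) ≤ (m : ℤ) := by exact_mod_cast hle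
    nlinarith
  have hfdL := finite_L hK (m • D)
  have hli3 : LinearIndependent k fun p : (Σ b : Fin d', Fin (m + 1 - b)) =>
      (⟨f ^ (p.2 : ℕ) * y' ^ (p.1 : ℕ), hmemL p⟩ : L (m • D)) := by
    apply LinearIndependent.of_comp (L (m • D)).subtype
    exact hli2
  have hcard := hli3.fintype_card_le_finrank
  rw [Fintype.card_sigma] at hcard
  simp only [Fintype.card_fin] at hcard
  rw [Fin.sum_univ_eq_sum_range (fun b => m + 1 - b) d'] at hcard
  have hdegm : (m • D).deg = m * d' := by
    rw [← degHom_apply, map_nsmul, degHom_apply, hdeg]; simp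
  have hell := ell_eq_of_deg_ge hK (m • D) (by
    rw [hdegm, hm]
    have : (1 : ℤ) ≤ d' := by exact_mod_cast hd'pos
    push_cast
    nlinarith)
  have hsum := two_mul_sum_range_sub m d' (by omega)
  have hcard' : (∑ b ∈ Finset.range d', ((m + 1 - b : ℕ) : ℤ)) ≤ (ell (m • D) : ℤ) := by
    have : ((∑ b ∈ Finset.range d', (m + 1 - b) : ℕ) : ℤ) ≤ (ell (m • D) : ℤ) := by
      exact_mod_cast hcard
    rwa [Nat.cast_sum] at this
  rw [hell, hdegm] at hcard'
  rw [hdeg]
  nlinarith

end

end Groth.Agent.H57
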