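import Groth.Agent.H57.PlaneHom
import Groth.Agent.H57.PlaneSpan
import Groth.Agent.FunFld.DegDiv

/-!
# Plane models in good position: `y` integral over `k[x]` with the degree bounds
-/

set_option autoImplicit false

namespace Groth.Agent.H57.Plane

open FunFld Groth.Agent.FF WithZero MvPolynomial Groth.Agent.H57 IntermediateField

universe u v
variable {k : Type u} {K : Type v} [Field k] [Field K] [Algebra k K]

section Good
variable (F : MvPolynomial (Fin 3) k) {n : ℕ} (hF : F.IsHomogeneous n)
  (hc : F.coeff (Finsupp.single 2 n) ≠ 0) (x y : K)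
  (hFxy : aeval ![(1 : K), x, y] F = 0)

include hF hc hFxy in
theorem val_y_le_one (Q : Place k K) (hx : Q.1 x ≤ 1) : Q.1 y ≤ 1 :=
  val_le_one_of_root F hF hc Q.1 (fun c => val_algebraMap_le Q c)
    (fun c hc => val_algebraMap Q hc) (by rw [map_one]) hx hFxy

include hF hc hFxy in
theorem val_y_le_val_x (Q : Place k K) (hx : 1 < Q.1 x) : Q.1 y ≤ Q.1 x := by
  have hx0 : x ≠ 0 := by
    rintro rfl
    rw [map_zero] at hx
    exact not_lt.2 zero_le_one hx
  have hroot : aeval ![x⁻¹, (1 : K), y / x] F = 0 := by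
    have h := aeval_smul_of_isHomogeneous F n hF x⁻¹ ![(1 : K), x, y]
    rw [hFxy, mul_zero] at h
    rw [← h]
    congr 2
    funext i
    fin_cases i
    · simp
    · simp [hx0]
    · simp [div_eq_inv_mul]
  have hxinv : Q.1 x⁻¹ ≤ 1 := by
    rw [map_inv₀]
    exact inv_le_one_of_one_le₀ hx.le
  have h := val_le_one_of_root F hF hc Q.1 (fun c => val_algebraMap_le Q c)
    (fun c hc => val_algebraMap Q hc) hxinv (by rw [map_one]) hroot
  rw [map_div₀] at h
  exact (div_le_one₀ (lt_trans zero_lt_one hx)).1 h

include hF hc hFxy in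
/-- In good position the divisor of the map is the pole divisor of `x`. -/
theorem mapDiv_eq_poleDiv (hK : IsFunctionField k K) :
    mapDiv k ![(1 : K), x, y] = poleDiv k x := by
  ext Q
  have hone : ∃ i, ![(1 : K), x, y] i = 1 := ⟨0, rfl⟩
  rw [poleDiv_apply hK]
  rcases le_or_gt (Q.1 x) 1 with hx | hx
  · have hm : max (-Q.ord x) 0 = 0 := by
      by_cases hx0 : x = 0
      · rw [hx0, ord_zero]; simp
      · have := (val_le_one_iff Q hx0).1 hx
        exact max_eq_right (by omega)
    rw [hm]
    apply mapDiv_eq_of_val hK _ hone Q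
    · intro i
      rw [exp_zero]
      fin_cases i
      · simp
      · exact hx
      · exact val_y_le_one F hF hc x y hFxy Q hx
    · exact ⟨0, by simp⟩
  · have hx0 : x ≠ 0 := by
      rintro rfl
      rw [map_zero] at hx
      exact not_lt.2 zero_le_one hx
    have hxv : Q.1 x = exp (-Q.ord x) := val_eq_exp_neg_ord Q hx0
    have hneg : 0 < -Q.ord x := by
      rw [hxv, ← exp_zero, exp_lt_exp] at hx
      exact hx
    rw [max_eq_left hneg.le]
    apply mapDiv_eq_of_val hK _ hone Q
    · intro i
      rw [← hxv]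
      fin_cases i
      · simp [hx.le]
      · exact le_rfl
      · exact val_y_le_val_x F hF hc x y hFxy Q hx
    · exact ⟨1, hxv⟩

include hF hc hFxy in
theorem deg_mapDiv_eq_finrank (hK : IsFunctionField k K) (hx : Transcendental k x) :
    (mapDiv k ![(1 : K), x, y]).deg = Module.finrank (adjoin k ({x} : Set K)) K := by
  rw [mapDiv_eq_poleDiv F hF hc x y hFxy hK, deg_poleDiv_eq hK hx]

end Good

end Groth.Agent.H57.Plane
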