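import Groth.Agent.H57.MvChain
import Mathlib.RingTheory.Valuation.Basic
import Mathlib.Algebra.Polynomial.AlgebraMap
import Mathlib.Algebra.Order.GroupWithZero.Canonical
import Mathlib.Algebra.Polynomial.Derivation

/-!
# Homogeneous ternary forms with a pure power of the last variable
-/

set_option autoImplicit false

namespace Groth.Agent.H57.Plane

open MvPolynomial

variable {k : Type*} [Field k]

section Support
variable (F : MvPolynomial (Fin 3) k) {n : ℕ} (hF : F.IsHomogeneous n)

include hF in
theorem sum_eq_of_mem_support {m : Fin 3 →₀ ℕ} (hm : m ∈ F.support) : m 0 + m 1 + m 2 = n := by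
  have := hF.degree_eq_sum_deg_support hm
  rw [this, ← Fin.sum_univ_three]
  exact (Finsupp.sum_fintype m (fun _ a => a) (fun _ => rfl)).symm

include hF in
theorem eq_single_of_mem_support {m : Fin 3 →₀ ℕ} (hm : m ∈ F.support) (h2 : n ≤ m 2) :
    m = Finsupp.single 2 n := by
  have hs := sum_eq_of_mem_support F hF hm
  ext i
  fin_cases i
  · simp only [Fin.zero_eta, Fin.isValue, Finsupp.single_apply]
    rw [if_neg (by decide)]
    omega
  · simp only [Fin.mk_one, Fin.isValue, Finsupp.single_apply]
    rw [if_neg (by decide)]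
    omega
  · simp only [Fin.reduceFinMk, Fin.isValue, Finsupp.single_eq_same]
    omega

end Support

section Val
variable {K : Type*} [Field K] [Algebra k K]
variable (F : MvPolynomial (Fin 3) k) {n : ℕ} (hF : F.IsHomogeneous n)
  (hc : F.coeff (Finsupp.single 2 n) ≠ 0)

include hF hc in
/-- A root of a form with a pure power of the last variable is integral wherever the first two
coordinates are. -/
theorem val_le_one_of_root (w : Valuation K (WithZero (Multiplicative ℤ)))
    (hw : ∀ c : k, w (algebraMap k K c) ≤ 1) (hw' : ∀ c : k, c ≠ 0 → w (algebraMap k K c) = 1)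
    {a b z : K} (ha : w a ≤ 1) (hb : w b ≤ 1) (hroot : aeval ![a, b, z] F = 0) : w z ≤ 1 := by
  classical
  by_contra hz
  rw [not_le] at hz
  have hz0 : w z ≠ 0 := ne_of_gt (lt_trans zero_lt_one hz)
  rw [aeval_def, eval₂_eq'] at hroot
  have hmem : Finsupp.single 2 n ∈ F.support := mem_support_iff.2 hc
  rw [← Finset.add_sum_erase _ _ hmem] at hroot
  have hterm : (algebraMap k K) (coeff (Finsupp.single 2 n) F) *
      ∏ i, ![a, b, z] i ^ (Finsupp.single (2 : Fin 3) n) i =
      algebraMap k K (coeff (Finsupp.single 2 n) F) * z ^ n := by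
    rw [Fin.prod_univ_three]
    simp
  rw [hterm] at hroot
  have hlt : w (∑ m ∈ F.support.erase (Finsupp.single 2 n),
      (algebraMap k K) (coeff m F) * ∏ i, ![a, b, z] i ^ m i) < w z ^ n := by
    apply Valuation.map_sum_lt w (pow_ne_zero _ hz0)
    intro m hm
    rw [Finset.mem_erase] at hm
    have hs := sum_eq_of_mem_support F hF hm.2
    have h2 : m 2 < n := by
      by_contra hge
      rw [not_lt] at hge
      exact hm.1 (eq_single_of_mem_support F hF hm.2 hge)
    rw [map_mul, Fin.prod_univ_three]
    simp only [Matrix.cons_val_zero, Matrix.cons_val_one, Matrix.cons_val_two,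
      Matrix.head_cons, Matrix.tail_cons, map_mul, map_pow]
    calc w (algebraMap k K (coeff m F)) * (w a ^ m 0 * w b ^ m 1 * w z ^ m 2)
        ≤ 1 * (1 * 1 * w z ^ m 2) := by
          gcongr
          · exact hw _
          · exact pow_le_one' ha _
          · exact pow_le_one' hb _
      _ = w z ^ m 2 := by simp
      _ < w z ^ n := pow_lt_pow_right₀ hz h2
  have hmain : w (algebraMap k K (coeff (Finsupp.single 2 n) F) * z ^ n) = w z ^ n := by
    rw [map_mul, hw' _ hc, one_mul, map_pow]
  have := Valuation.map_add_eq_of_lt_left w (x := algebraMap k K (coeff (Finsupp.single 2 n) F) * z ^ n)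
    (y := ∑ m ∈ F.support.erase (Finsupp.single 2 n),
      (algebraMap k K) (coeff m F) * ∏ i, ![a, b, z] i ^ m i) (by rw [hmain]; exact hlt)
  rw [hroot, map_zero, hmain] at this
  exact pow_ne_zero _ hz0 this.symm

end Val

section Poly
variable {L : Type*} [Field L] [Algebra k L]
variable (F : MvPolynomial (Fin 3) k) {n : ℕ} (hF : F.IsHomogeneous n) (x₀ : L)

/-- The polynomial `F(1, x₀, Y)` over `L`. -/
noncomputable def polyY : Polynomial L :=
  aeval ![Polynomial.C 1, Polynomial.C x₀, Polynomial.X] F

theorem polyY_eq_sum : polyY F x₀ =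
    ∑ m ∈ F.support, Polynomial.C (algebraMap k L (coeff m F) * x₀ ^ m 1) * Polynomial.X ^ m 2 := by
  unfold polyY
  rw [aeval_def, eval₂_eq']
  refine Finset.sum_congr rfl fun m _ => ?_
  rw [Fin.prod_univ_three]
  simp only [Matrix.cons_val_zero, Matrix.cons_val_one, Matrix.cons_val_two,
    Matrix.head_cons, Matrix.tail_cons, map_one, one_pow, one_mul]
  rw [map_mul, map_pow, mul_assoc]
  rfl

include hF in
theorem natDegree_polyY_le : (polyY F x₀).natDegree ≤ n := by
  rw [polyY_eq_sum]
  apply Polynomial.natDegree_sum_le_of_forall_le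
  intro m hm
  have hs := sum_eq_of_mem_support F hF hm
  exact (Polynomial.natDegree_C_mul_X_pow_le _ _).trans (by omega)

include hF in
theorem coeff_polyY : (polyY F x₀).coeff n = algebraMap k L (coeff (Finsupp.single 2 n) F) := by
  classical
  rw [polyY_eq_sum, Polynomial.finsetSum_coeff]
  simp only [Polynomial.coeff_C_mul_X_pow]
  by_cases hc : Finsupp.single 2 n ∈ F.support
  · rw [Finset.sum_eq_single (Finsupp.single 2 n)]
    · simp
    · intro m hm hne
      rw [if_neg]
      intro h
      exact hne (eq_single_of_mem_support F hF hm h.le)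
    · intro h; exact absurd hc h
  · rw [notMem_support_iff.1 hc, map_zero]
    apply Finset.sum_eq_zero
    intro m hm
    rw [if_neg]
    intro h
    exact hc (eq_single_of_mem_support F hF hm h.le ▸ hm)

theorem aeval_polyY {K : Type*} [Field K] [Algebra k K] [Algebra L K] [IsScalarTower k L K]
    (y : K) : Polynomial.aeval y (polyY F x₀) = aeval ![(1 : K), algebraMap L K x₀, y] F := by
  unfold polyY
  have h := AlgHom.congr_fun (comp_aeval (R := k)
    ![Polynomial.C 1, Polynomial.C x₀, (Polynomial.X : Polynomial L)]
    ((Polynomial.aeval y : Polynomial L →ₐ[L] K).restrictScalars k)) F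
  rw [AlgHom.comp_apply] at h
  rw [AlgHom.restrictScalars_apply] at h
  rw [h]
  congr 2
  funext i
  fin_cases i <;> simp

theorem derivative_polyY :
    Polynomial.derivative (polyY F x₀) = polyY (pderiv 2 F) x₀ := by
  unfold polyY
  have h := derivation_aeval
    ((Polynomial.derivative' : Derivation L (Polynomial L) (Polynomial L)).restrictScalars k)
    ![Polynomial.C 1, Polynomial.C x₀, (Polynomial.X : Polynomial L)] F
  rw [Fin.sum_univ_three] at h
  simp only [Derivation.restrictScalars_apply, Polynomial.derivative'_apply,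
    Matrix.cons_val_zero, Matrix.cons_val_one, Matrix.cons_val_two,
    Matrix.head_cons, Matrix.tail_cons, Polynomial.derivative_C, smul_zero, zero_add,
    Polynomial.derivative_X, smul_eq_mul, mul_one, mul_zero] at h
  exact h

end Poly

end Groth.Agent.H57.Plane
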