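import Groth.Agent.H57.PlaneKer
import Groth.Agent.H57.NonsingCrit
import Mathlib.RingTheory.MvPolynomial.EulerIdentity

/-!
# The Jacobian criterion for plane models
-/

set_option autoImplicit false

namespace Groth.Agent.H57.Plane

open FunFld Groth.Agent.FF Groth.Agent.FF.Ext WithZero MvPolynomial Groth.Agent.H57 IntermediateField

universe u v
variable {k : Type u} {K : Type v} [Field k] [Field K] [Algebra k K]

section Taylor

variable (φ : Fin 3 → K) (P : Place k K) (j : Fin 3) (hφj : φ j ≠ 0)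
  (hj : ∀ i, P.1 (φ i) ≤ P.1 (φ j))
  (α : Fin 3 → k) (hα : ∀ i, P.1 (φ i / φ j - algebraMap k K (α i)) < 1)

variable (k) in
/-- The ratios as elements of the ratio algebra. -/
def uR (i : Fin 3) : ratioAlg k φ j := ⟨φ i / φ j, ratio_mem k φ j i⟩

/-- The ratios minus their values at `P`. -/
noncomputable def yR (i : Fin 3) : ratioAlg k φ j := uR k φ j i - algebraMap k (ratioAlg k φ j) (α i)

theorem coe_yR (i : Fin 3) :
    ((yR φ j α i : ratioAlg k φ j) : K) = φ i / φ j - algebraMap k K (α i) := rfl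

theorem coe_aeval_uR (p : MvPolynomial (Fin 3) k) :
    ((aeval (uR k φ j) p : ratioAlg k φ j) : K) = aeval (fun i => φ i / φ j) p := by
  have := comp_aeval_apply (R := k) (f := uR k φ j) (ratioAlg k φ j).val p
  exact this

include hφj hj hα in
/-- Elements of the ideal generated by the `yR` vanish at `P`. -/
theorem val_lt_one_of_mem_span {z : ratioAlg k φ j}
    (hz : z ∈ Ideal.span (Set.range (yR φ j α))) : P.1 (z : K) < 1 := by
  induction hz using Submodule.span_induction with
  | mem x hx =>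
    obtain ⟨i, rfl⟩ := hx
    rw [coe_yR]
    exact hα i
  | zero =>
    change P.1 (0 : K) < 1
    rw [map_zero]; exact zero_lt_one
  | add x y _ _ hx hy =>
    change P.1 ((x : K) + (y : K)) < 1
    exact lt_of_le_of_lt (P.1.map_add _ _) (max_lt hx hy)
  | smul a x _ hx =>
    change P.1 ((a : K) * (x : K)) < 1
    rw [map_mul]
    have ha : P.1 (a : K) ≤ 1 := val_le_one_of_mem_ratioAlg hφj P hj a.2
    calc P.1 (a : K) * P.1 (x : K) ≤ 1 * P.1 (x : K) := mul_le_mul_left ha _
      _ = P.1 (x : K) := one_mul _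
      _ < 1 := hx

variable (f : MvPolynomial (Fin 3) k) (hhom : f.IsHomogeneous f.totalDegree)
  (hfφ : aeval φ f = 0)

include hhom hfφ in
theorem aeval_uR_eq_zero : aeval (uR k φ j) f = 0 := by
  apply Subtype.val_injective
  rw [coe_aeval_uR]
  have h2 : (fun i => φ i / φ j) = fun i => (φ j)⁻¹ * φ i := by
    funext i
    rw [div_eq_inv_mul]
  rw [h2, aeval_mul_of_isHomogeneous hhom, hfφ, mul_zero]
  rfl

theorem uR_eq (i : Fin 3) :
    uR k φ j i = algebraMap k (ratioAlg k φ j) (α i) + yR φ j α i := by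
  unfold yR
  ring

include hφj hj hα hhom hfφ in
/-- The image point lies on the curve. -/
theorem eval_eq_zero : eval α f = 0 := by
  have hT := taylor_one (Ideal.span (Set.range (yR φ j α))) α (yR φ j α)
    (fun i => Ideal.subset_span ⟨i, rfl⟩) f
  have h1 : (fun i => algebraMap k (ratioAlg k φ j) (α i) + yR φ j α i) = uR k φ j := by
    funext i
    exact (uR_eq φ j α i).symm
  rw [h1, aeval_uR_eq_zero φ j f hhom hfφ, zero_sub] at hT
  have hI2 : Ideal.span (Set.range (yR φ j α)) ^ 2 ≤ Ideal.span (Set.range (yR φ j α)) :=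
    Ideal.pow_le_self (by norm_num)
  have hsum : ∑ i, algebraMap k (ratioAlg k φ j) (eval α (pderiv i f)) * yR φ j α i ∈
      Ideal.span (Set.range (yR φ j α)) :=
    Ideal.sum_mem _ fun i _ => Ideal.mul_mem_left _ _ (Ideal.subset_span ⟨i, rfl⟩)
  have hmem : algebraMap k (ratioAlg k φ j) (eval α f) ∈ Ideal.span (Set.range (yR φ j α)) := by
    have := Ideal.add_mem _ (hI2 hT) hsum
    rw [sub_add_cancel] at this
    have h2 := Ideal.neg_mem_iff _ |>.1 this
    exact h2
  have := val_lt_one_of_mem_span φ P j hφj hj α hα hmem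
  exact (val_algebraMap_lt_one_iff (P := P) _).1 this

include hφj hj hα hhom hfφ in
/-- The tangent relation modulo the square of the maximal ideal. -/
theorem tangent_mem_sq :
    ∑ i, algebraMap k (ratioAlg k φ j) (eval α (pderiv i f)) * yR φ j α i ∈
      Ideal.span (Set.range (yR φ j α)) ^ 2 := by
  have hT := taylor_one (Ideal.span (Set.range (yR φ j α))) α (yR φ j α)
    (fun i => Ideal.subset_span ⟨i, rfl⟩) f
  have h1 : (fun i => algebraMap k (ratioAlg k φ j) (α i) + yR φ j α i) = uR k φ j := by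
    funext i
    exact (uR_eq φ j α i).symm
  rw [h1, aeval_uR_eq_zero φ j f hhom hfφ, eval_eq_zero φ P j hφj hj α hα f hhom hfφ, map_zero,
    sub_zero, zero_sub] at hT
  exact Ideal.neg_mem_iff _ |>.1 hT

/-- Every element of the ratio algebra is its value at `P` modulo the ideal of the point. -/
theorem sub_eval_mem_span (p : MvPolynomial (Fin 3) k) :
    aeval (uR k φ j) p - algebraMap k (ratioAlg k φ j) (eval α p) ∈
      Ideal.span (Set.range (yR φ j α)) := by
  have hT := taylor_one (Ideal.span (Set.range (yR φ j α))) α (yR φ j α)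
    (fun i => Ideal.subset_span ⟨i, rfl⟩) p
  have h1 : (fun i => algebraMap k (ratioAlg k φ j) (α i) + yR φ j α i) = uR k φ j := by
    funext i
    exact (uR_eq φ j α i).symm
  rw [h1] at hT
  have hI2 : Ideal.span (Set.range (yR φ j α)) ^ 2 ≤ Ideal.span (Set.range (yR φ j α)) :=
    Ideal.pow_le_self (by norm_num)
  have hsum : ∑ i, algebraMap k (ratioAlg k φ j) (eval α (pderiv i p)) * yR φ j α i ∈
      Ideal.span (Set.range (yR φ j α)) :=
    Ideal.sum_mem _ fun i _ => Ideal.mul_mem_left _ _ (Ideal.subset_span ⟨i, rfl⟩)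
  have := Ideal.add_mem _ (hI2 hT) hsum
  rwa [sub_add_cancel] at this

/-- Elements of the ratio algebra are polynomials in the ratios. -/
theorem exists_aeval_uR (z : ratioAlg k φ j) : ∃ p : MvPolynomial (Fin 3) k, aeval (uR k φ j) p = z := by
  obtain ⟨z, hz⟩ := z
  have hz' : z ∈ (aeval (fun i => φ i / φ j) : MvPolynomial (Fin 3) k →ₐ[k] K).range := by
    rw [← Algebra.adjoin_range_eq_range_aeval]
    exact hz
  obtain ⟨p, hp⟩ := hz'
  refine ⟨p, Subtype.ext ?_⟩
  rw [coe_aeval_uR]
  exact hp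

end Taylor

section Dir1

variable (φ : Fin 3 → K) (hφ0 : ∀ i, φ i ≠ 0)
  (hbir : IntermediateField.adjoin k (Set.range fun i => φ i / φ 0) = ⊤)
  (P : Place k K) (j : Fin 3) (hj : ∀ i, P.1 (φ i) ≤ P.1 (φ j))
  (α : Fin 3 → k) (hα : ∀ i, P.1 (φ i / φ j - algebraMap k K (α i)) < 1)
  (f : MvPolynomial (Fin 3) k) (hhom : f.IsHomogeneous f.totalDegree) (hfφ : aeval φ f = 0)

include hφ0 hα in
theorem alpha_j : α j = 1 := by
  have h := hα j
  rw [div_self (hφ0 j)] at h
  have h1 : (1 : K) - algebraMap k K (α j) = algebraMap k K (1 - α j) := by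
    rw [map_sub, map_one]
  rw [h1, val_algebraMap_lt_one_iff] at h
  exact (sub_eq_zero.1 h).symm

include hφ0 hα in
theorem yR_j : yR φ j α j = 0 := by
  apply Subtype.val_injective
  rw [coe_yR, div_self (hφ0 j), alpha_j φ hφ0 P j α hα, map_one, sub_self]
  rfl

include hφ0 hj hα hhom hfφ in
/-- Euler's relation at the image point. -/
theorem euler_at : ∑ i, α i * eval α (pderiv i f) = 0 := by
  have h := congrArg (eval α) hhom.sum_X_mul_pderiv
  rw [map_sum, map_nsmul, eval_eq_zero φ P j (hφ0 j) hj α hα f hhom hfφ, smul_zero] at h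
  rw [← h]
  refine Finset.sum_congr rfl fun i _ => ?_
  rw [map_mul, eval_X]

include hφ0 hj hα in
/-- Elements of the ratio algebra vanishing at `P` lie in the ideal of the two affine
coordinates. -/
theorem mem_span_pair_of_val_lt_one (l m : Fin 3) (hcases : ∀ i : Fin 3, i = j ∨ i = l ∨ i = m)
    (z : ratioAlg k φ j) (hz : P.1 (z : K) < 1) :
    z ∈ Ideal.span ({yR φ j α l, yR φ j α m} : Set (ratioAlg k φ j)) := by
  have hφj := hφ0 j
  have hyj : yR φ j α j = 0 := yR_j φ hφ0 P j α hα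
  have hII₂ : Ideal.span (Set.range (yR φ j α)) ≤
      Ideal.span ({yR φ j α l, yR φ j α m} : Set (ratioAlg k φ j)) := by
    rw [Ideal.span_le]
    rintro _ ⟨i, rfl⟩
    rcases hcases i with h | h | h
    · rw [h, hyj]; exact Ideal.zero_mem _
    · rw [h]; exact Ideal.subset_span (by simp)
    · rw [h]; exact Ideal.subset_span (by simp)
  obtain ⟨p, hp⟩ := exists_aeval_uR φ j z
  have hmem := sub_eval_mem_span φ j α p
  rw [hp] at hmem
  have hp0 : eval α p = 0 := by
    have h1 := val_lt_one_of_mem_span φ P j hφj hj α hα hmem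
    have h2 : algebraMap k K (eval α p) = (z : K) - ((z : K) - algebraMap k K (eval α p)) := by
      ring
    have h3 : P.1 (algebraMap k K (eval α p)) < 1 := by
      rw [h2]
      exact lt_of_le_of_lt (Valuation.map_sub _ _ _) (max_lt hz h1)
    exact (val_algebraMap_lt_one_iff (P := P) _).1 h3
  rw [hp0, map_zero, sub_zero] at hmem
  exact hII₂ hmem

include hφ0 hbir hj hα hhom hfφ in
/-- **Jacobian criterion, easy half**: a point with a nonvanishing partial derivative is
nonsingular. -/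
theorem isNonsingularAt_of_pderiv_ne_zero (l₀ : Fin 3) (hl₀ : eval α (pderiv l₀ f) ≠ 0) :
    IsNonsingularAt φ P := by
  classical
  have hφj := hφ0 j
  set c : Fin 3 → k := fun i => eval α (pderiv i f) with hc
  -- an index different from `j` with nonvanishing derivative
  obtain ⟨l, hlj, hl⟩ : ∃ l, l ≠ j ∧ c l ≠ 0 := by
    by_cases h : l₀ = j
    · have he := euler_at φ hφ0 P j hj α hα f hhom hfφ
      rw [← Finset.add_sum_erase _ _ (Finset.mem_univ j), alpha_j φ hφ0 P j α hα, one_mul] at he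
      have hne : ∑ i ∈ Finset.univ.erase j, α i * eval α (pderiv i f) ≠ 0 := by
        intro h0
        rw [h0, add_zero] at he
        exact hl₀ (h ▸ he)
      obtain ⟨i, hi, hi0⟩ := Finset.exists_ne_zero_of_sum_ne_zero hne
      exact ⟨i, (Finset.mem_erase.1 hi).1, right_ne_zero_of_mul hi0⟩
    · exact ⟨l₀, h, hl₀⟩
  have hex : ∀ j l : Fin 3, ∃ m : Fin 3, m ≠ j ∧ m ≠ l := by decide
  obtain ⟨m, hmj, hml⟩ := hex j l
  have hall : ∀ j l m : Fin 3, l ≠ j → m ≠ j → m ≠ l → ∀ i : Fin 3, i = j ∨ i = l ∨ i = m := by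
    decide
  have hcases : ∀ i : Fin 3, i = j ∨ i = l ∨ i = m := hall j l m hlj hmj hml
  have huniv : (Finset.univ : Finset (Fin 3)) = {j, l, m} := by
    ext i
    simp only [Finset.mem_univ, Finset.mem_insert, Finset.mem_singleton, true_iff]
    exact hcases i
  set R₀ := ratioAlg k φ j with hR₀
  set y := yR φ j α with hy
  set I := Ideal.span (Set.range y) with hI
  set I₂ := Ideal.span ({y l, y m} : Set R₀) with hI₂
  have hyj : y j = 0 := yR_j φ hφ0 P j α hα
  have hII₂ : I ≤ I₂ := by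
    rw [hI, Ideal.span_le]
    rintro _ ⟨i, rfl⟩
    rcases hcases i with h | h | h
    · rw [h, hyj]; exact I₂.zero_mem
    · rw [h]; exact Ideal.subset_span (by simp)
    · rw [h]; exact Ideal.subset_span (by simp)
  have hyI : ∀ i, P.1 ((y i : R₀) : K) < 1 := fun i => by rw [hy, coe_yR]; exact hα i
  have hR₀val : ∀ a : R₀, P.1 (a : K) ≤ 1 := fun a =>
    val_le_one_of_mem_ratioAlg hφj P hj a.2
  have hL : ∀ a : R₀, InLocRingAt φ P j (a : K) := fun a => inLocRingAt_of_mem a.2
  -- the tangent relation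
  have hT := tangent_mem_sq φ P j hφj hj α hα f hhom hfφ
  rw [huniv, Finset.sum_insert (by simp [hlj.symm, hmj.symm]), Finset.sum_pair hml.symm, ← hy,
    hyj, mul_zero, zero_add] at hT
  have hT2 : algebraMap k R₀ (c l) * y l + algebraMap k R₀ (c m) * y m ∈ I₂ * I₂ := by
    have := Ideal.pow_right_mono hII₂ 2 hT
    rwa [pow_two] at this
  rw [hI₂, Ideal.span_pair_mul_span_pair] at hT2
  obtain ⟨a₁, z₁, hz₁, h₁⟩ := Ideal.mem_span_insert.1 hT2
  obtain ⟨a₂, z₂, hz₂, h₂⟩ := Ideal.mem_span_insert.1 hz₁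
  obtain ⟨a₃, z₃, hz₃, h₃⟩ := Ideal.mem_span_insert.1 hz₂
  obtain ⟨a₄, h₄⟩ := Ideal.mem_span_singleton'.1 hz₃
  -- `y l` is a multiple of `y m` in the local ring
  set U : R₀ := algebraMap k R₀ (c l) - a₁ * y l - (a₂ + a₃) * y m with hU
  set W : R₀ := a₄ * y m - algebraMap k R₀ (c m) with hW
  have hUW : y l * U = y m * W := by
    have : algebraMap k R₀ (c l) * y l + algebraMap k R₀ (c m) * y m =
        a₁ * (y l * y l) + (a₂ * (y l * y m) + (a₃ * (y m * y l) + a₄ * (y m * y m))) := by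
      rw [h₁, h₂, h₃, ← h₄]
    rw [hU, hW]
    linear_combination this
  have hUval : P.1 (U : K) = 1 := by
    apply val_eq_one_of_sub_const P (c := c l) hl
    have : (U : K) - algebraMap k K (c l) =
        -(((a₁ * y l : R₀) : K) + (((a₂ + a₃) * y m : R₀) : K)) := by
      rw [hU]
      push_cast
      change (algebraMap k K (c l) - _ - _ : K) - _ = _
      ring
    rw [this, Valuation.map_neg]
    refine lt_of_le_of_lt (P.1.map_add _ _) (max_lt ?_ ?_)
    · change P.1 ((a₁ : K) * (y l : K)) < 1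
      rw [map_mul]
      exact lt_of_le_of_lt (mul_le_mul_left (hR₀val a₁) _) (by rw [one_mul]; exact hyI l)
    · change P.1 (((a₂ + a₃ : R₀) : K) * (y m : K)) < 1
      rw [map_mul]
      exact lt_of_le_of_lt (mul_le_mul_left (hR₀val _) _) (by rw [one_mul]; exact hyI m)
  have hU0 : (U : K) ≠ 0 := by
    intro h0
    rw [h0, map_zero] at hUval
    exact zero_ne_one hUval
  obtain ⟨w, hwL, hw⟩ : ∃ w : K, InLocRingAt φ P j w ∧ ((y l : R₀) : K) = (y m : K) * w := by
    refine ⟨(W : K) / (U : K), InLocRingAt.div (hL W) (hL U) hUval (div_mul_cancel₀ _ hU0), ?_⟩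
    have h := congrArg (fun z : R₀ => (z : K)) hUW
    simp only [Subalgebra.coe_mul] at h
    field_simp
    exact h
  -- elements of the local ring vanishing at `P` are multiples of `y m`
  have hC3 : ∀ z : K, InLocRingAt φ P j z → P.1 z < 1 →
      ∃ w' : K, InLocRingAt φ P j w' ∧ z = (y m : K) * w' := by
    rintro z ⟨G, hG, W₁, hW₁, hW₁v, hzW⟩ hz
    obtain ⟨p, hp⟩ := exists_aeval_uR φ j (⟨G, hG⟩ : R₀)
    have hmem := sub_eval_mem_span φ j α p
    rw [hp] at hmem
    have hGv : P.1 G < 1 := by rw [← hzW, map_mul, hW₁v, mul_one]; exact hz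
    have hp0 : eval α p = 0 := by
      have h1 := val_lt_one_of_mem_span φ P j hφj hj α hα hmem
      have h2 : algebraMap k K (eval α p) = G - (G - algebraMap k K (eval α p)) := by ring
      have h3 : P.1 (algebraMap k K (eval α p)) < 1 := by
        rw [h2]
        exact lt_of_le_of_lt (Valuation.map_sub _ _ _) (max_lt hGv h1)
      exact (val_algebraMap_lt_one_iff (P := P) _).1 h3
    rw [hp0, map_zero, sub_zero] at hmem
    obtain ⟨s, t, hst⟩ := Ideal.mem_span_pair.1 (hII₂ hmem)
    have hst' : G = (s : K) * (y l : K) + (t : K) * (y m : K) := by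
      have := congrArg (fun z : R₀ => (z : K)) hst
      exact this.symm
    have hW₁0 : W₁ ≠ 0 := by
      intro h0
      rw [h0, map_zero] at hW₁v
      exact zero_ne_one hW₁v
    refine ⟨((s : K) * w + (t : K)) / W₁, InLocRingAt.div (((hL s).mul hwL).add (hL t))
      (inLocRingAt_of_mem hW₁) hW₁v (div_mul_cancel₀ _ hW₁0), ?_⟩
    rw [← mul_div_assoc, eq_div_iff hW₁0, hzW, hst', hw]
    ring
  -- factorization of nonzero elements
  have hC4 : ∀ n : ℕ, ∀ z : K, InLocRingAt φ P j z → z ≠ 0 → P.1 z = exp (-(n : ℤ)) →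
      ∃ (N : ℕ) (w' : K), InLocRingAt φ P j w' ∧ P.1 w' = 1 ∧ z = (y m : K) ^ N * w' := by
    intro n
    induction n using Nat.strong_induction_on with
    | _ n ih =>
      intro z hzL hz0 hzv
      rcases Nat.eq_zero_or_pos n with hn | hn
      · refine ⟨0, z, hzL, ?_, by rw [pow_zero, one_mul]⟩
        rw [hzv, hn]; simp
      · have hz1 : P.1 z < 1 := by
          rw [hzv]
          calc (exp (-(n : ℤ)) : ℤᵐ⁰) < exp 0 := exp_lt_exp.2 (by omega)
            _ = 1 := exp_zero
        obtain ⟨w₁, hw₁L, hzw₁⟩ := hC3 z hzL hz1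
        have hym0 : ((y m : R₀) : K) ≠ 0 := by
          intro h0
          rw [h0, zero_mul] at hzw₁
          exact hz0 hzw₁
        have hw₁0 : w₁ ≠ 0 := by
          intro h0
          rw [h0, mul_zero] at hzw₁
          exact hz0 hzw₁
        have hymv : P.1 ((y m : R₀) : K) = exp (log (P.1 ((y m : R₀) : K))) :=
          (exp_log ((Valuation.ne_zero_iff _).2 hym0)).symm
        have hw₁v : P.1 w₁ = exp (log (P.1 w₁)) :=
          (exp_log ((Valuation.ne_zero_iff _).2 hw₁0)).symm
        have hlogy : log (P.1 ((y m : R₀) : K)) ≤ -1 := by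
          have := hyI m
          rw [hymv] at this
          have h2 : (exp (log (P.1 ((y m : R₀) : K))) : ℤᵐ⁰) < exp 0 := by rwa [exp_zero]
          rw [exp_lt_exp] at h2
          omega
        have hlogw : log (P.1 w₁) ≤ 0 := by
          have := InLocRingAt.val_le_one hφj hj hw₁L
          rw [hw₁v] at this
          have h2 : (exp (log (P.1 w₁)) : ℤᵐ⁰) ≤ exp 0 := by rwa [exp_zero]
          rwa [exp_le_exp] at h2
        have hsum : log (P.1 ((y m : R₀) : K)) + log (P.1 w₁) = -(n : ℤ) := by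
          have := hzv
          rw [hzw₁, map_mul, hymv, hw₁v, ← exp_add, exp_inj] at this
          exact this
        obtain ⟨N₁, w₂, hw₂L, hw₂v, hw₁eq⟩ := ih (-(log (P.1 w₁))).toNat (by omega) w₁ hw₁L hw₁0
          (by rw [Int.toNat_of_nonneg (by omega), neg_neg]; exact hw₁v)
        refine ⟨N₁ + 1, w₂, hw₂L, hw₂v, ?_⟩
        rw [hzw₁, hw₁eq, pow_succ]
        ring
  -- conclusion
  intro z hz
  rw [inLocRing_iff_inLocRingAt hφj hj]
  by_cases hz0 : z = 0
  · rw [hz0]; exact inLocRingAt_of_mem (zero_mem _)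
  obtain ⟨A, hA, B, hB, hB0, hzB⟩ := exists_ratioAlg_div hφ0 hbir j z
  have hA0 : A ≠ 0 := by
    rw [← hzB]; exact mul_ne_zero hz0 hB0
  have hnat : ∀ G : K, G ∈ R₀ → G ≠ 0 → ∃ n : ℕ, P.1 G = exp (-(n : ℤ)) := by
    intro G hG hG0
    have hv : P.1 G ≠ 0 := (Valuation.ne_zero_iff _).2 hG0
    have hle := hR₀val ⟨G, hG⟩
    refine ⟨(-(log (P.1 G))).toNat, ?_⟩
    have h1 : (exp (log (P.1 G)) : ℤᵐ⁰) ≤ exp 0 := by rw [exp_log hv, exp_zero]; exact hle
    rw [exp_le_exp] at h1
    rw [Int.toNat_of_nonneg (by omega), neg_neg, exp_log hv]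
  obtain ⟨nA, hnA⟩ := hnat A hA hA0
  obtain ⟨nB, hnB⟩ := hnat B hB hB0
  obtain ⟨a, wA, hwAL, hwAv, hAeq⟩ := hC4 nA A (inLocRingAt_of_mem hA) hA0 hnA
  obtain ⟨b, wB, hwBL, hwBv, hBeq⟩ := hC4 nB B (inLocRingAt_of_mem hB) hB0 hnB
  have hwB0 : wB ≠ 0 := by
    intro h0
    rw [h0, map_zero] at hwBv
    exact zero_ne_one hwBv
  by_cases hb : b = 0
  · -- `B` is a unit
    rw [hb, pow_zero, one_mul] at hBeq
    exact InLocRingAt.div (inLocRingAt_of_mem hA) hwBL hwBv (by rw [← hBeq]; exact hzB)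
  · have hym0 : ((y m : R₀) : K) ≠ 0 := by
      intro h0
      rw [h0, zero_pow hb, zero_mul] at hBeq
      exact hB0 hBeq
    have hymv : P.1 ((y m : R₀) : K) = exp (log (P.1 ((y m : R₀) : K))) :=
      (exp_log ((Valuation.ne_zero_iff _).2 hym0)).symm
    have hlogy : log (P.1 ((y m : R₀) : K)) ≤ -1 := by
      have := hyI m
      rw [hymv] at this
      have h2 : (exp (log (P.1 ((y m : R₀) : K))) : ℤᵐ⁰) < exp 0 := by rwa [exp_zero]
      rw [exp_lt_exp] at h2
      omega
    have hab : b ≤ a := by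
      have h1 : P.1 z * P.1 B = P.1 A := by rw [← map_mul, hzB]
      rw [hAeq, hBeq, map_mul, map_mul, map_pow, map_pow, hwAv, hwBv, mul_one, mul_one] at h1
      have hzv : P.1 z = exp (log (P.1 z)) := (exp_log ((Valuation.ne_zero_iff _).2 hz0)).symm
      have hzlog : log (P.1 z) ≤ 0 := by
        have h2 : (exp (log (P.1 z)) : ℤᵐ⁰) ≤ exp 0 := by rw [← hzv, exp_zero]; exact hz
        rwa [exp_le_exp] at h2
      rw [hzv, hymv, ← exp_nsmul, ← exp_nsmul, ← exp_add, exp_inj] at h1
      simp only [nsmul_eq_mul] at h1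
      by_contra hcon
      rw [not_le] at hcon
      have h3 : ((b : ℤ) - a) * log (P.1 ((y m : R₀) : K)) ≤ -1 := by
        have hba : (1 : ℤ) ≤ (b : ℤ) - a := by omega
        nlinarith
      nlinarith
    have hkey : z * wB = (y m : K) ^ (a - b) * wA := by
      have h1 : z * ((y m : K) ^ b * wB) = (y m : K) ^ a * wA := by rw [← hBeq, ← hAeq, hzB]
      have h2 : (y m : K) ^ a = (y m : K) ^ (a - b) * (y m : K) ^ b := by
        rw [← pow_add, Nat.sub_add_cancel hab]
      rw [h2] at h1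
      have h3 : ((y m : R₀) : K) ^ b ≠ 0 := pow_ne_zero _ hym0
      apply mul_right_cancel₀ h3
      calc z * wB * (y m : K) ^ b = z * ((y m : K) ^ b * wB) := by ring
        _ = (y m : K) ^ (a - b) * (y m : K) ^ b * wA := h1
        _ = (y m : K) ^ (a - b) * wA * (y m : K) ^ b := by ring
    refine InLocRingAt.div ?_ hwBL hwBv hkey
    have hpow : InLocRingAt φ P j (((y m : R₀) : K) ^ (a - b)) :=
      inLocRingAt_of_mem (pow_mem (y m).2 _)
    exact hpow.mul hwAL

end Dir1

section Dir2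

variable [IsAlgClosed k]

theorem adjoin_pair_of_hbir (φ : Fin 3 → K) (hφ0 : φ 0 ≠ 0)
    (hbir : IntermediateField.adjoin k (Set.range fun i => φ i / φ 0) = ⊤) :
    adjoin k ({φ 1 / φ 0, φ 2 / φ 0} : Set K) = ⊤ := by
  rw [eq_top_iff, ← hbir, adjoin_le_iff]
  rintro _ ⟨i, rfl⟩
  fin_cases i
  · simp only [Fin.zero_eta, div_self hφ0]
    exact one_mem _
  · exact subset_adjoin k _ (by simp)
  · exact subset_adjoin k _ (by simp)

/-- Homogeneous relations of a plane model are multiples of its irreducible equation. -/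
theorem dvd_of_homogeneous_relation (hK : IsFunctionField k K) (φ : Fin 3 → K) (hφ0 : φ 0 ≠ 0)
    (hbir : IntermediateField.adjoin k (Set.range fun i => φ i / φ 0) = ⊤)
    (f : MvPolynomial (Fin 3) k) (hf : Irreducible f) (hhom : f.IsHomogeneous f.totalDegree)
    (hfφ : aeval φ f = 0) {H : MvPolynomial (Fin 3) k} {d : ℕ} (hH : H.IsHomogeneous d)
    (hHφ : aeval φ H = 0) : f ∣ H := by
  set x := φ 1 / φ 0 with hx
  set y := φ 2 / φ 0 with hy
  have hxy := adjoin_pair_of_hbir φ hφ0 hbir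
  obtain ⟨p, hp, -, hker⟩ := ker_eq_span hK x y hxy
  have hnorm : (![(1 : K), x, y] : Fin 3 → K) = fun i => (φ 0)⁻¹ * φ i := by
    funext i
    fin_cases i
    · simp [hφ0]
    · simp [hx, div_eq_inv_mul]
    · simp [hy, div_eq_inv_mul]
  have hmem : ∀ {G : MvPolynomial (Fin 3) k} {e : ℕ}, G.IsHomogeneous e → aeval φ G = 0 →
      p ∣ G := by
    intro G e hG hGφ
    rw [← Ideal.mem_span_singleton, ← hker, RingHom.mem_ker]
    change aeval (fun i => Polynomial.C (![(1 : K), x, y] i) * Polynomial.X) G = 0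
    rw [aeval_mulT _ hG, hnorm, aeval_mul_of_isHomogeneous hG, hGφ, mul_zero, map_zero, mul_zero]
  have hpf := hmem hhom hfφ
  have hassoc : Associated p f := hp.associated_of_dvd hf hpf
  exact hassoc.dvd_iff_dvd_left.1 (hmem hH hHφ)

variable (hK : IsFunctionField k K) (φ : Fin 3 → K) (hφ0 : ∀ i, φ i ≠ 0)
  (hbir : IntermediateField.adjoin k (Set.range fun i => φ i / φ 0) = ⊤)
  (P : Place k K) (j : Fin 3) (hj : ∀ i, P.1 (φ i) ≤ P.1 (φ j))
  (α : Fin 3 → k) (hα : ∀ i, P.1 (φ i / φ j - algebraMap k K (α i)) < 1)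
  (f : MvPolynomial (Fin 3) k) (hf : Irreducible f) (hhom : f.IsHomogeneous f.totalDegree)
  (hfφ : aeval φ f = 0)

include hK hφ0 hbir hj hα hf hhom hfφ in
/-- Core of the hard half: if all partial derivatives vanish at the image point, no `y m` can be a
local parameter with `y l / y m` in the local ring. -/
theorem false_of_uniformizer (hall : ∀ i, eval α (pderiv i f) = 0) (l m : Fin 3) (hlj : l ≠ j)
    (hml : m ≠ l)
    (hz : InLocRingAt φ P j (((yR φ j α l : ratioAlg k φ j) : K) / (yR φ j α m : ratioAlg k φ j))) :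
    (yR φ j α m : ratioAlg k φ j) = 0 := by
  classical
  by_contra hym0
  have hφj := hφ0 j
  set R₀ := ratioAlg k φ j with hR₀
  set y := yR φ j α with hy
  have hym0' : ((y m : R₀) : K) ≠ 0 := fun h => hym0 (Subtype.ext h)
  obtain ⟨G', hG', W', hW', hW'v, hzW⟩ := hz
  obtain ⟨pW, hpW⟩ := exists_aeval_uR φ j (⟨W', hW'⟩ : R₀)
  obtain ⟨pG, hpG⟩ := exists_aeval_uR φ j (⟨G', hG'⟩ : R₀)
  set q : MvPolynomial (Fin 3) k := pW * (X l - C (α l)) - pG * (X m - C (α m)) with hq
  have hyeq : ∀ i, aeval (uR k φ j) (X i - C (α i)) = y i := by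
    intro i
    rw [map_sub, aeval_X, aeval_C]
    rfl
  have hqu : aeval (uR k φ j) q = 0 := by
    rw [hq, map_sub, map_mul, map_mul, hpW, hpG, hyeq, hyeq]
    apply Subtype.val_injective
    change W' * (y l : K) - G' * (y m : K) = 0
    rw [← hzW]
    field_simp
    ring
  have hqu' : aeval (fun i => φ i / φ j) q = 0 := by
    rw [← coe_aeval_uR, hqu]
    rfl
  -- homogenize with respect to `X j`
  set N := q.totalDegree with hN
  set H : MvPolynomial (Fin 3) k :=
    ∑ d ∈ Finset.range (N + 1), X j ^ (N - d) * homogeneousComponent d q with hH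
  have hHhom : H.IsHomogeneous N := by
    rw [hH]
    apply IsHomogeneous.sum
    intro d hd
    rw [Finset.mem_range] at hd
    have := (isHomogeneous_X_pow (R := k) j (N - d)).mul (homogeneousComponent_isHomogeneous d q)
    rwa [Nat.sub_add_cancel (by omega)] at this
  have hHu : aeval (fun i => φ i / φ j) H = 0 := by
    rw [hH, map_sum]
    have : ∀ d ∈ Finset.range (N + 1),
        aeval (fun i => φ i / φ j) (X j ^ (N - d) * homogeneousComponent d q) =
          aeval (fun i => φ i / φ j) (homogeneousComponent d q) := by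
      intro d _
      rw [map_mul, map_pow, aeval_X, div_self hφj, one_pow, one_mul]
    rw [Finset.sum_congr rfl this, ← map_sum, sum_homogeneousComponent, hqu']
  have hHφ : aeval φ H = 0 := by
    have h1 : φ = fun i => φ j * (φ i / φ j) := by
      funext i
      field_simp
    rw [h1, aeval_mul_of_isHomogeneous hHhom, hHu, mul_zero]
  obtain ⟨r, hr⟩ := dvd_of_homogeneous_relation hK φ (hφ0 0) hbir f hf hhom hfφ hHhom hHφ
  -- `q - H` is a multiple of `X j - 1`
  obtain ⟨s, hs⟩ : (X j - 1 : MvPolynomial (Fin 3) k) ∣ H - q := by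
    conv_rhs => rw [← sum_homogeneousComponent q, hH, ← Finset.sum_sub_distrib]
    apply Finset.dvd_sum
    intro d _
    have h1 : X j ^ (N - d) * homogeneousComponent d q - homogeneousComponent d q =
        (X j ^ (N - d) - 1) * homogeneousComponent d q := by ring
    rw [h1]
    have h2 : (X j - 1 : MvPolynomial (Fin 3) k) ∣ X j ^ (N - d) - 1 := by
      have := sub_dvd_pow_sub_pow (X j : MvPolynomial (Fin 3) k) 1 (N - d)
      rwa [one_pow] at this
    exact h2.mul_right _
  have hαj := alpha_j φ hφ0 P j α hα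
  have hfα := eval_eq_zero φ P j hφj hj α hα f hhom hfφ
  -- differentiate `q = f r - (X j - 1) s` at the image point
  have hqeq : q = f * r - (X j - 1) * s := by
    rw [← hr, ← hs]; ring
  have hD1 : eval α (pderiv l q) = 0 := by
    have h1 : pderiv l (X j - 1 : MvPolynomial (Fin 3) k) = 0 := by
      rw [map_sub, pderiv_X_of_ne hlj.symm, Derivation.map_one_eq_zero, sub_zero]
    rw [hqeq, map_sub, Derivation.leibniz, Derivation.leibniz, h1, smul_zero, add_zero]
    simp only [smul_eq_mul, map_sub, map_add, map_mul, eval_X, map_one, hall l, hfα, hαj, sub_self,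
      zero_mul, mul_zero, add_zero, sub_zero]
  have hD2 : eval α (pderiv l q) = eval α pW := by
    have h1 : pderiv l (X l - C (α l) : MvPolynomial (Fin 3) k) = 1 := by
      rw [map_sub, pderiv_X_self, pderiv_C, sub_zero]
    have h2 : pderiv l (X m - C (α m) : MvPolynomial (Fin 3) k) = 0 := by
      rw [map_sub, pderiv_X_of_ne hml, pderiv_C, sub_zero]
    rw [hq, map_sub, Derivation.leibniz, Derivation.leibniz, h1, h2, smul_zero, zero_add]
    simp only [smul_eq_mul, map_sub, map_add, map_mul, eval_X, eval_C, sub_self, zero_mul,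
      mul_zero, add_zero, sub_zero, mul_one, map_one]
  have hpW0 : eval α pW ≠ 0 := by
    intro h0
    have hmem := sub_eval_mem_span φ j α pW
    rw [hpW, h0, map_zero, sub_zero] at hmem
    have := val_lt_one_of_mem_span φ P j hφj hj α hα hmem
    change P.1 W' < 1 at this
    rw [hW'v] at this
    exact lt_irrefl _ this
  exact hpW0 (hD2 ▸ hD1)

include hK hφ0 hbir hj hα hf hhom hfφ in
/-- **Jacobian criterion, hard half**: at a nonsingular point some partial derivative does not
vanish. -/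
theorem exists_pderiv_ne_zero_of_isNonsingularAt (hns : IsNonsingularAt φ P) :
    ∃ i, eval α (pderiv i f) ≠ 0 := by
  classical
  by_contra hcon
  push Not at hcon
  have hφj := hφ0 j
  have hex : ∀ j : Fin 3, ∃ l m : Fin 3, l ≠ j ∧ m ≠ j ∧ m ≠ l := by decide
  obtain ⟨l, m, hlj, hmj, hml⟩ := hex j
  have hall : ∀ j l m : Fin 3, l ≠ j → m ≠ j → m ≠ l → ∀ i : Fin 3, i = j ∨ i = l ∨ i = m := by
    decide
  have hcases := hall j l m hlj hmj hml
  set y := yR φ j α with hy
  have hyI : ∀ i, P.1 ((y i : ratioAlg k φ j) : K) < 1 := fun i => by rw [hy, coe_yR]; exact hα i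
  have hR₀val : ∀ a : ratioAlg k φ j, P.1 (a : K) ≤ 1 := fun a =>
    val_le_one_of_mem_ratioAlg hφj P hj a.2
  obtain ⟨t, ht⟩ := exists_uniformizer P
  have ht1 : P.1 t ≤ 1 := by
    rw [ht]
    calc (exp (-1 : ℤ) : ℤᵐ⁰) ≤ exp 0 := exp_le_exp.2 (by norm_num)
      _ = 1 := exp_zero
  obtain ⟨G, hG, W₁, hW₁, hW₁v, htW⟩ := (inLocRing_iff_inLocRingAt hφj hj t).1 (hns t ht1)
  have hGv : P.1 G = exp (-1 : ℤ) := by rw [← htW, map_mul, hW₁v, mul_one, ht]
  have hGlt : P.1 G < 1 := by
    rw [hGv]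
    calc (exp (-1 : ℤ) : ℤᵐ⁰) < exp 0 := exp_lt_exp.2 (by norm_num)
      _ = 1 := exp_zero
  obtain ⟨s, t', hst⟩ := Ideal.mem_span_pair.1
    (mem_span_pair_of_val_lt_one φ hφ0 P j hj α hα l m hcases ⟨G, hG⟩ hGlt)
  have hst' : G = (s : K) * (y l : K) + (t' : K) * (y m : K) := by
    have := congrArg (fun z : ratioAlg k φ j => (z : K)) hst
    exact this.symm
  have hmax : (exp (-1 : ℤ) : ℤᵐ⁰) ≤ max (P.1 ((y l : ratioAlg k φ j) : K))
      (P.1 ((y m : ratioAlg k φ j) : K)) := by
    rw [← hGv, hst']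
    refine (P.1.map_add _ _).trans (max_le_max ?_ ?_)
    · rw [map_mul]
      exact (mul_le_mul_left (hR₀val s) _).trans_eq (one_mul _)
    · rw [map_mul]
      exact (mul_le_mul_left (hR₀val t') _).trans_eq (one_mul _)
  -- the case where `y b` is a local parameter
  have hcase : ∀ a b : Fin 3, a ≠ j → b ≠ a →
      (exp (-1 : ℤ) : ℤᵐ⁰) ≤ P.1 ((y b : ratioAlg k φ j) : K) → False := by
    intro a b haj hba hb
    have hbv : P.1 ((y b : ratioAlg k φ j) : K) = exp (-1 : ℤ) :=
      le_antisymm (le_exp_neg_one_of_lt_one (hyI b)) hb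
    have hb0 : ((y b : ratioAlg k φ j) : K) ≠ 0 := by
      intro h0
      rw [h0, map_zero] at hbv
      exact exp_ne_zero hbv.symm
    have hzv : P.1 (((y a : ratioAlg k φ j) : K) / (y b : ratioAlg k φ j)) ≤ 1 := by
      rw [map_div₀, hbv, div_le_iff₀ (zero_lt_iff.2 exp_ne_zero), one_mul]
      exact le_exp_neg_one_of_lt_one (hyI a)
    have hzL := (inLocRing_iff_inLocRingAt hφj hj _).1 (hns _ hzv)
    have := false_of_uniformizer hK φ hφ0 hbir P j hj α hα f hf hhom hfφ hcon a b haj hba hzL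
    exact hb0 (by rw [← hy] at this; rw [this]; rfl)
  rcases le_max_iff.1 hmax with h | h
  · exact hcase m l hmj hml.symm h
  · exact hcase l m hlj hml h

end Dir2

end Groth.Agent.H57.Plane
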