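import Groth.Agent.H57.Conductor
import Groth.Agent.H57.PlaneDeg
import Groth.Agent.H57.NonsingCrit
import Groth.Agent.H57.ExpandAt
import Groth.Agent.FunFld.LinSeries
import Groth.Agent.FunFld.Geometric

/-!
# The local adjoint theorem for a plane model in good position
-/

set_option autoImplicit false

namespace Groth.Agent.H57.Plane

open FunFld Groth.Agent.FF Groth.Agent.FF.Ext WithZero MvPolynomial Groth.Agent.H57 IntermediateField

universe u v
variable {k : Type u} {K : Type v} [Field k] [Field K] [Algebra k K]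

section Rational
variable [IsAlgClosed k]

/-- In `k(x₀)` the function `x₀ - a` has a single zero, of order one. -/
theorem gen_sub_zero (hK : IsFunctionField k K) (x₀ : K)
    (htop : adjoin k ({x₀} : Set K) = ⊤) (a : k) :
    (x₀ - algebraMap k K a ≠ 0) ∧ (zeroDiv k (x₀ - algebraMap k K a)).deg = 1 := by
  set t := x₀ - algebraMap k K a with ht
  have hadj : adjoin k ({t} : Set K) = ⊤ := by
    rw [eq_top_iff, ← htop, adjoin_le_iff, Set.singleton_subset_iff]
    have h1 : t ∈ adjoin k ({t} : Set K) := mem_adjoin_simple_self k t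
    have : x₀ = t + algebraMap k K a := by rw [ht]; ring
    rw [this]
    exact add_mem h1 (IntermediateField.algebraMap_mem _ a)
  have htr : Transcendental k t := by
    intro halg
    obtain ⟨c, hc⟩ := hK.2 t halg
    obtain ⟨z, hz, -⟩ := hK.1
    have hmem : z ∈ adjoin k ({t} : Set K) := by rw [hadj]; trivial
    have hle : adjoin k ({t} : Set K) ≤ ⊥ := by
      rw [adjoin_le_iff, Set.singleton_subset_iff, ← hc]
      exact (⊥ : IntermediateField k K).algebraMap_mem c
    have hbot := hle hmem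
    rw [IntermediateField.mem_bot] at hbot
    obtain ⟨c₀, rfl⟩ := hbot
    exact hz (isAlgebraic_algebraMap c₀)
  refine ⟨fun h0 => htr (h0 ▸ isAlgebraic_zero), ?_⟩
  rw [deg_zeroDiv_eq hK htr, hadj, IntermediateField.finrank_top]
  rfl

/-- A place of `k(x₀)` at which `x₀ - a` vanishes has `x₀ - a` as a local parameter. -/
theorem val_gen_sub_eq (hK : IsFunctionField k K) (x₀ : K)
    (htop : adjoin k ({x₀} : Set K) = ⊤) (a : k) (P₀ : Place k K)
    (ha : P₀.1 (x₀ - algebraMap k K a) < 1) :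
    P₀.1 (x₀ - algebraMap k K a) = exp (-1 : ℤ) := by
  obtain ⟨ht0, hdeg⟩ := gen_sub_zero hK x₀ htop a
  set t := x₀ - algebraMap k K a with ht
  have hord : 0 < P₀.ord t := (val_lt_one_iff P₀ ht0).1 ha
  have hle : (Finsupp.single P₀ (P₀.ord t) : Divisor k K) ≤ zeroDiv k t := by
    intro Q
    rw [zeroDiv_apply hK]
    by_cases hQ : Q = P₀
    · subst hQ
      rw [Finsupp.single_eq_same]
      exact le_max_left _ _
    · rw [Finsupp.single_eq_of_ne hQ]
      exact le_max_right _ _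
  have h1 := deg_mono hle
  rw [deg_single, deg_eq_one_of_isAlgClosed hK P₀, hdeg] at h1
  have hord1 : P₀.ord t = 1 := by
    have : P₀.ord t * ((1 : ℕ) : ℤ) ≤ 1 := h1
    simp only [Nat.cast_one, mul_one] at this
    omega
  rw [val_eq_exp_neg_ord P₀ ht0, hord1]

/-- The place of `k(x₀)` at which `x₀ - a` vanishes is unique. -/
theorem place_eq_of_gen_sub (hK : IsFunctionField k K) (x₀ : K)
    (htop : adjoin k ({x₀} : Set K) = ⊤) (a : k) (P₀ P₁ : Place k K)
    (h₀ : P₀.1 (x₀ - algebraMap k K a) < 1) (h₁ : P₁.1 (x₀ - algebraMap k K a) < 1) :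
    P₀ = P₁ := by
  classical
  obtain ⟨ht0, hdeg⟩ := gen_sub_zero hK x₀ htop a
  set t := x₀ - algebraMap k K a with ht
  by_contra hne
  have hord₀ : 0 < P₀.ord t := (val_lt_one_iff P₀ ht0).1 h₀
  have hord₁ : 0 < P₁.ord t := (val_lt_one_iff P₁ ht0).1 h₁
  have hle : (Finsupp.single P₀ 1 + Finsupp.single P₁ 1 : Divisor k K) ≤ zeroDiv k t := by
    intro Q
    rw [zeroDiv_apply hK, Finsupp.add_apply]
    by_cases hQ : Q = P₀
    · subst hQ
      rw [Finsupp.single_eq_same, Finsupp.single_eq_of_ne hne, add_zero]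
      exact le_trans (by omega) (le_max_left _ _)
    · by_cases hQ' : Q = P₁
      · subst hQ'
        rw [Finsupp.single_eq_of_ne hQ, Finsupp.single_eq_same, zero_add]
        exact le_trans (by omega) (le_max_left _ _)
      · rw [Finsupp.single_eq_of_ne hQ, Finsupp.single_eq_of_ne hQ', add_zero]
        exact le_max_right _ _
  have h1 := deg_mono hle
  rw [deg_add, deg_single, deg_single, deg_eq_one_of_isAlgClosed hK P₀,
    deg_eq_one_of_isAlgClosed hK P₁, hdeg] at h1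
  norm_num at h1

/-- In `k(x₀)`, at a place where `x₀` is integral, `dx₀` has order `0`. -/
theorem val_D_gen_eq_one (hK : IsFunctionField k K) (x₀ : K)
    (htop : adjoin k ({x₀} : Set K) = ⊤) (P₀ : Place k K) (hP₀ : P₀.1 x₀ ≤ 1)
    (φ₀ : K →ₐ[k] LaurentSeries k) (hφ₀ : LocRes.IsExpansionAt P₀.1 φ₀) :
    Valued.v (LocRes.D k (φ₀ x₀)) = 1 := by
  obtain ⟨a, ha⟩ := exists_residue_const hK P₀ hP₀
  have hv := val_gen_sub_eq hK x₀ htop a P₀ ha
  set t := x₀ - algebraMap k K a with ht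
  have hvt : Valued.v (φ₀ t) = exp (-(1 : ℤ)) := by
    rw [hφ₀.1, hv]
  have hD : LocRes.D k (φ₀ x₀) = LocRes.D k (φ₀ t) := by
    rw [ht, map_sub, map_sub, LocRes.map_algebraMap, LocRes.D_apply k (HahnSeries.C _),
      LocRes.derivative_C, sub_zero]
  rw [hD, val_D_eq_of_cast_ne_zero hvt (by simp), sub_self, neg_zero, exp_zero]

end Rational

section Gen

theorem adjoin_gen_eq_top (x : K) : adjoin k ({AdjoinSimple.gen k x} : Set k⟮x⟯) = ⊤ := by
  apply IntermediateField.lift_injective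
  rw [lift_adjoin_simple, lift_top]
  rfl

end Gen

section Forward
variable [IsAlgClosed k]
variable (hK : IsFunctionField k K) (x y : K) (hx : Transcendental k x)
  [FiniteDimensional k⟮x⟯ K] (hK₀ : IsFunctionField k k⟮x⟯)
  (P₀ : Place k k⟮x⟯) (hP₀ : P₀.1 (AdjoinSimple.gen k x) ≤ 1)
  (hyint : ∀ Q' : Place k K, IsOver Q' P₀ → Q'.1 y ≤ 1)

omit [IsAlgClosed k] [FiniteDimensional k⟮x⟯ K] in
include hP₀ in
/-- `k[x, y]` lies in `O_{P₀}[y]`. -/
theorem ratioAlg_le_adjoin {a : K} (ha : a ∈ ratioAlg k ![(1 : K), x, y] 0) :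
    a ∈ Algebra.adjoin P₀.O ({y} : Set K) := by
  induction ha using Algebra.adjoin_induction with
  | mem z hz =>
    obtain ⟨i, rfl⟩ := hz
    fin_cases i
    · simp only [Fin.zero_eta, Fin.isValue, Matrix.cons_val_zero, _root_.div_one]
      exact one_mem _
    · simp only [Fin.mk_one, Fin.isValue, Matrix.cons_val_one, Matrix.cons_val_zero, _root_.div_one]
      exact Subalgebra.algebraMap_mem _ (⟨AdjoinSimple.gen k x, hP₀⟩ : P₀.O)
    · simp only [Fin.reduceFinMk, Fin.isValue, Matrix.cons_val_two, Matrix.tail_cons,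
        Matrix.head_cons, Matrix.cons_val_zero, _root_.div_one]
      exact Algebra.subset_adjoin rfl
  | algebraMap c =>
    exact Subalgebra.algebraMap_mem _ (⟨algebraMap k k⟮x⟯ c, P₀.2.1 c⟩ : P₀.O)
  | add z w _ _ hz hw => exact add_mem hz hw
  | mul z w _ _ hz hw => exact mul_mem hz hw

include hK₀ hP₀ hyint in
/-- A nonsingular place carries a conductor element that is a unit there. -/
theorem exists_conductor_of_nonsingular (Q : Place k K) (hQ : IsOver Q P₀)
    (hns : IsNonsingularAt ![(1 : K), x, y] Q) :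
    ∃ z ∈ Algebra.adjoin P₀.O ({y} : Set K), Q.1 z = 1 ∧
      ∀ u : K, (∀ Q' : Place k K, IsOver Q' P₀ → Q'.1 u ≤ 1) →
        z * u ∈ Algebra.adjoin P₀.O ({y} : Set K) := by
  classical
  obtain ⟨w, hw1, -, hspan⟩ := exists_integral_basis (K' := K) hK₀ P₀
  obtain ⟨e, he⟩ := hQ
  have hQx : Q.1 x ≤ 1 := (le_one_iff he (AdjoinSimple.gen k x)).2 hP₀
  have hQy : Q.1 y ≤ 1 := hyint Q ⟨e, he⟩
  have hPj : ∀ i, Q.1 (![(1 : K), x, y] i) ≤ Q.1 (![(1 : K), x, y] 0) := by
    intro i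
    fin_cases i
    · exact le_rfl
    · simpa using hQx
    · simpa using hQy
  have h0 : (![(1 : K), x, y] 0) ≠ 0 := by simp
  have hloc : ∀ p, InLocRingAt ![(1 : K), x, y] Q 0 (w p) := fun p =>
    (inLocRing_iff_inLocRingAt h0 hPj _).1 (hns (w p) (hw1 Q ⟨e, he⟩ p))
  choose a ha b hb hb1 hab using hloc
  refine ⟨∏ p, b p, ratioAlg_le_adjoin x y P₀ hP₀ (prod_mem fun p _ => hb p), ?_, ?_⟩
  · rw [map_prod]
    exact Finset.prod_eq_one fun p _ => hb1 p
  · intro u hu
    obtain ⟨g, hg, hug⟩ := hspan u hu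
    rw [hug, Finset.mul_sum]
    refine Subalgebra.sum_mem _ fun p _ => ?_
    have h1 : (∏ q, b q) * (algebraMap k⟮x⟯ K (g p) * w p) =
        algebraMap k⟮x⟯ K (g p) * ((∏ q ∈ Finset.univ.erase p, b q) * a p) := by
      rw [← hab p, ← Finset.mul_prod_erase Finset.univ b (Finset.mem_univ p)]
      ring
    rw [h1]
    refine mul_mem (Subalgebra.algebraMap_mem _ (⟨g p, hg p⟩ : P₀.O)) ?_
    exact ratioAlg_le_adjoin x y P₀ hP₀ (mul_mem (prod_mem fun q _ => hb q) (ha p))

end Forward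

section Backward
variable [IsAlgClosed k]
variable (hK : IsFunctionField k K) (x y : K)
  [FiniteDimensional k⟮x⟯ K] (hK₀ : IsFunctionField k k⟮x⟯)
  (P₀ : Place k k⟮x⟯)
  (hy : IsIntegral P₀.O y)

include hK₀ hy in
/-- Elements of `O_{P₀}[y]` have the same residue at two places over `P₀` with the same image
point. -/
theorem exists_common_residue {Q Q' : Place k K} (hQ : IsOver Q P₀) (hQ' : IsOver Q' P₀) (b : k)
    (hb : Q.1 (y - algebraMap k K b) < 1) (hb' : Q'.1 (y - algebraMap k K b) < 1) {r : K}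
    (hr : r ∈ Algebra.adjoin P₀.O ({y} : Set K)) :
    ∃ c : k, Q.1 (r - algebraMap k K c) < 1 ∧ Q'.1 (r - algebraMap k K c) < 1 := by
  obtain ⟨e, he⟩ := hQ
  obtain ⟨e', he'⟩ := hQ'
  induction hr using Algebra.adjoin_induction with
  | mem z hz =>
    rw [Set.mem_singleton_iff] at hz
    subst hz
    exact ⟨b, hb, hb'⟩
  | algebraMap g =>
    obtain ⟨c, hc⟩ := exists_residue_const hK₀ P₀ g.2
    refine ⟨c, ?_, ?_⟩
    · have : algebraMap P₀.O K g - algebraMap k K c =
          algebraMap k⟮x⟯ K ((g : k⟮x⟯) - algebraMap k k⟮x⟯ c) := by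
        rw [map_sub, ← IsScalarTower.algebraMap_apply k k⟮x⟯ K]
        rfl
      rw [this, lt_one_iff he]
      exact hc
    · have : algebraMap P₀.O K g - algebraMap k K c =
          algebraMap k⟮x⟯ K ((g : k⟮x⟯) - algebraMap k k⟮x⟯ c) := by
        rw [map_sub, ← IsScalarTower.algebraMap_apply k k⟮x⟯ K]
        rfl
      rw [this, lt_one_iff he']
      exact hc
  | add z w _ _ hz hw =>
    obtain ⟨c₁, h1, h1'⟩ := hz
    obtain ⟨c₂, h2, h2'⟩ := hw
    refine ⟨c₁ + c₂, ?_, ?_⟩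
    · have : z + w - algebraMap k K (c₁ + c₂) =
          (z - algebraMap k K c₁) + (w - algebraMap k K c₂) := by rw [map_add]; ring
      rw [this]
      exact lt_of_le_of_lt (Q.1.map_add _ _) (max_lt h1 h2)
    · have : z + w - algebraMap k K (c₁ + c₂) =
          (z - algebraMap k K c₁) + (w - algebraMap k K c₂) := by rw [map_add]; ring
      rw [this]
      exact lt_of_le_of_lt (Q'.1.map_add _ _) (max_lt h1' h2')
  | mul z w _ hwmem hz hw =>
    obtain ⟨c₁, h1, h1'⟩ := hz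
    obtain ⟨c₂, h2, h2'⟩ := hw
    have hwQ : Q.1 w ≤ 1 := Cond.val_le_one_of_mem_adjoin P₀ y hy hwmem ⟨e, he⟩
    have hwQ' : Q'.1 w ≤ 1 := Cond.val_le_one_of_mem_adjoin P₀ y hy hwmem ⟨e', he'⟩
    refine ⟨c₁ * c₂, ?_, ?_⟩
    · have : z * w - algebraMap k K (c₁ * c₂) =
          (z - algebraMap k K c₁) * w + algebraMap k K c₁ * (w - algebraMap k K c₂) := by
        rw [map_mul]; ring
      rw [this]
      refine lt_of_le_of_lt (Q.1.map_add _ _) (max_lt ?_ ?_)
      · rw [map_mul]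
        exact lt_of_le_of_lt (mul_le_mul_right hwQ _) (by rwa [mul_one])
      · rw [map_mul]
        exact lt_of_le_of_lt (mul_le_mul_left (val_algebraMap_le Q c₁) _) (by rwa [one_mul])
    · have : z * w - algebraMap k K (c₁ * c₂) =
          (z - algebraMap k K c₁) * w + algebraMap k K c₁ * (w - algebraMap k K c₂) := by
        rw [map_mul]; ring
      rw [this]
      refine lt_of_le_of_lt (Q'.1.map_add _ _) (max_lt ?_ ?_)
      · rw [map_mul]
        exact lt_of_le_of_lt (mul_le_mul_right hwQ' _) (by rwa [mul_one])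
      · rw [map_mul]
        exact lt_of_le_of_lt (mul_le_mul_left (val_algebraMap_le Q' c₁) _) (by rwa [one_mul])

include hK₀ hy in
/-- Elements of `O_{P₀}[y]` are congruent to a constant modulo `(x - a, y - b)`, in valuation. -/
theorem exists_residue_le {Q : Place k K} (hQ : IsOver Q P₀) (a b : k) (μ : ℤᵐ⁰)
    (ha : Q.1 (x - algebraMap k K a) ≤ μ) (hb : Q.1 (y - algebraMap k K b) ≤ μ)
    (hP₀a : P₀.1 (AdjoinSimple.gen k x - algebraMap k k⟮x⟯ a) < 1) {r : K}
    (hr : r ∈ Algebra.adjoin P₀.O ({y} : Set K)) :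
    ∃ c : k, Q.1 (r - algebraMap k K c) ≤ μ := by
  obtain ⟨e, he⟩ := hQ
  have hunif := val_gen_sub_eq hK₀ (AdjoinSimple.gen k x) (adjoin_gen_eq_top x) a P₀ hP₀a
  have hxa : algebraMap k⟮x⟯ K (AdjoinSimple.gen k x - algebraMap k k⟮x⟯ a) =
      x - algebraMap k K a := by
    rw [map_sub, ← IsScalarTower.algebraMap_apply k k⟮x⟯ K]
    rfl
  induction hr using Algebra.adjoin_induction with
  | mem z hz =>
    rw [Set.mem_singleton_iff] at hz
    subst hz
    exact ⟨b, hb⟩
  | algebraMap g =>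
    obtain ⟨c, hc⟩ := exists_residue_const hK₀ P₀ g.2
    refine ⟨c, ?_⟩
    have : algebraMap P₀.O K g - algebraMap k K c =
        algebraMap k⟮x⟯ K ((g : k⟮x⟯) - algebraMap k k⟮x⟯ c) := by
      rw [map_sub, ← IsScalarTower.algebraMap_apply k k⟮x⟯ K]
      rfl
    rw [this]
    refine le_trans ?_ ha
    rw [← hxa, he, he]
    apply pow_le_pow_left₀ zero_le
    rw [hunif]
    by_cases h0 : (g : k⟮x⟯) - algebraMap k k⟮x⟯ c = 0
    · rw [h0, map_zero]; exact zero_le
    · rw [val_le_exp_iff P₀ h0]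
      have := (val_lt_one_iff P₀ h0).1 hc
      omega
  | add z w _ _ hz hw =>
    obtain ⟨c₁, h1⟩ := hz
    obtain ⟨c₂, h2⟩ := hw
    refine ⟨c₁ + c₂, ?_⟩
    have : z + w - algebraMap k K (c₁ + c₂) =
        (z - algebraMap k K c₁) + (w - algebraMap k K c₂) := by rw [map_add]; ring
    rw [this]
    exact (Q.1.map_add _ _).trans (max_le h1 h2)
  | mul z w _ hwmem hz hw =>
    obtain ⟨c₁, h1⟩ := hz
    obtain ⟨c₂, h2⟩ := hw
    have hwQ : Q.1 w ≤ 1 := Cond.val_le_one_of_mem_adjoin P₀ y hy hwmem ⟨e, he⟩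
    refine ⟨c₁ * c₂, ?_⟩
    have : z * w - algebraMap k K (c₁ * c₂) =
        (z - algebraMap k K c₁) * w + algebraMap k K c₁ * (w - algebraMap k K c₂) := by
      rw [map_mul]; ring
    rw [this]
    refine (Q.1.map_add _ _).trans (max_le ?_ ?_)
    · rw [map_mul]
      exact (mul_le_mul_right hwQ _).trans (by rw [mul_one]; exact h1)
    · rw [map_mul]
      exact (mul_le_mul_left (val_algebraMap_le Q c₁) _).trans (by rw [one_mul]; exact h2)

include hK hK₀ hy in
/-- A conductor element that is a unit at `Q` forces nonsingularity at `Q`. -/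
theorem nonsingular_of_conductor (hx0 : x ≠ 0) (hy0 : y ≠ 0)
    (hxy : adjoin k ({x, y} : Set K) = ⊤)
    (hP₀ : P₀.1 (AdjoinSimple.gen k x) ≤ 1) (Q : Place k K) (hQ : IsOver Q P₀)
    (z : K) (hz : z ∈ Algebra.adjoin P₀.O ({y} : Set K)) (hz1 : Q.1 z = 1)
    (hzu : ∀ u : K, (∀ Q' : Place k K, IsOver Q' P₀ → Q'.1 u ≤ 1) →
      z * u ∈ Algebra.adjoin P₀.O ({y} : Set K)) :
    IsNonsingularAt ![(1 : K), x, y] Q := by
  classical
  obtain ⟨e, he⟩ := hQ
  have hQx : Q.1 x ≤ 1 := (le_one_iff he (AdjoinSimple.gen k x)).2 hP₀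
  have hQy : Q.1 y ≤ 1 := val_le_one_of_isIntegral he hy
  have hφ0 : ∀ i, ![(1 : K), x, y] i ≠ 0 := by
    intro i
    fin_cases i
    · exact one_ne_zero
    · exact hx0
    · exact hy0
  have hPj : ∀ i, Q.1 (![(1 : K), x, y] i) ≤ Q.1 (![(1 : K), x, y] 0) := by
    intro i
    fin_cases i
    · exact le_rfl
    · simpa using hQx
    · simpa using hQy
  have hbir : adjoin k (Set.range fun i => ![(1 : K), x, y] i / ![(1 : K), x, y] 0) = ⊤ := by
    rw [eq_top_iff, ← hxy, adjoin_le_iff]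
    rintro w (rfl | rfl)
    · exact subset_adjoin k _ ⟨1, by simp⟩
    · exact subset_adjoin k _ ⟨2, by simp⟩
  rw [isNonsingularAt_iff_condA_condB hK hφ0 hPj hbir]
  set a := rhoK hK Q x with hadef
  set b := rhoK hK Q y with hbdef
  have ha : Q.1 (x - algebraMap k K a) < 1 := val_sub_rhoK_lt_one hK Q x hQx
  have hb : Q.1 (y - algebraMap k K b) < 1 := val_sub_rhoK_lt_one hK Q y hQy
  have hyR1 : yR hK ![(1 : K), x, y] Q 0 1 = x - algebraMap k K a := by
    simp only [yR, alphaR, Matrix.cons_val_one, Matrix.cons_val_zero, _root_.div_one, hadef]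
  have hyR2 : yR hK ![(1 : K), x, y] Q 0 2 = y - algebraMap k K b := by
    simp only [yR, alphaR, Matrix.cons_val_two, Matrix.tail_cons, Matrix.head_cons,
      Matrix.cons_val_zero, _root_.div_one, hbdef]
  have hxa : algebraMap k⟮x⟯ K (AdjoinSimple.gen k x - algebraMap k k⟮x⟯ a) =
      x - algebraMap k K a := by
    rw [map_sub, ← IsScalarTower.algebraMap_apply k k⟮x⟯ K]
    rfl
  have hP₀a : P₀.1 (AdjoinSimple.gen k x - algebraMap k k⟮x⟯ a) < 1 :=
    (lt_one_iff he _).1 (by rw [hxa]; exact ha)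
  set S := (finite_isOver (K' := K) P₀).toFinset with hS
  have hmemS : ∀ Q', Q' ∈ S ↔ IsOver Q' P₀ := fun Q' => by
    rw [hS, Set.Finite.mem_toFinset]; rfl
  constructor
  · -- condition (a')
    intro Q' hne hQ'j
    by_contra hcon
    push Not at hcon
    have hQ'x : Q'.1 x ≤ 1 := by simpa using hQ'j 1
    have hQ'y : Q'.1 y ≤ 1 := by simpa using hQ'j 2
    have h1 : Q'.1 (x - algebraMap k K a) < 1 := by
      refine lt_of_le_of_ne ((Q'.1.map_sub _ _).trans (max_le hQ'x (val_algebraMap_le Q' a))) ?_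
      rw [← hyR1]; exact hcon 1
    have h2 : Q'.1 (y - algebraMap k K b) < 1 := by
      refine lt_of_le_of_ne ((Q'.1.map_sub _ _).trans (max_le hQ'y (val_algebraMap_le Q' b))) ?_
      rw [← hyR2]; exact hcon 2
    obtain ⟨P₁, e', he'⟩ := exists_isOverWith_below (K := k⟮x⟯) Q'
    have hP₁a : P₁.1 (AdjoinSimple.gen k x - algebraMap k k⟮x⟯ a) < 1 :=
      (lt_one_iff he' _).1 (by rw [hxa]; exact h1)
    have hP : P₀ = P₁ := place_eq_of_gen_sub hK₀ (AdjoinSimple.gen k x) (adjoin_gen_eq_top x) a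
      P₀ P₁ hP₀a hP₁a
    subst hP
    have hQ'over : IsOver Q' P₀ := ⟨e', he'⟩
    obtain ⟨cz, hcz, hcz'⟩ := exists_common_residue x y hK₀ P₀ hy ⟨e, he⟩ hQ'over b hb h2 hz
    obtain ⟨u, hu⟩ := weak_approx (fun Q'' : ↥S => (Q'' : Place k K)) Subtype.val_injective
      (fun Q'' => if (Q'' : Place k K) = Q' then 1 else 0) 0
    have hu' : ∀ Q'', IsOver Q'' P₀ → Q''.1 (u - if Q'' = Q' then 1 else 0) < 1 := by
      intro Q'' hQ''
      have := hu ⟨Q'', (hmemS Q'').2 hQ''⟩
      rwa [exp_zero] at this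
    have hu1 : ∀ Q'' : Place k K, IsOver Q'' P₀ → Q''.1 u ≤ 1 := by
      intro Q'' hQ''
      have h := hu' Q'' hQ''
      by_cases hq : Q'' = Q'
      · rw [if_pos hq] at h
        have : u = (u - 1) + 1 := by ring
        rw [this]
        exact (Q''.1.map_add _ _).trans (max_le h.le (by rw [map_one]))
      · rw [if_neg hq, sub_zero] at h
        exact h.le
    have hQu : Q.1 u < 1 := by
      have h := hu' Q ⟨e, he⟩
      rwa [if_neg (Ne.symm hne), sub_zero] at h
    have hQ'u : Q'.1 (u - 1) < 1 := by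
      have h := hu' Q' hQ'over
      rwa [if_pos rfl] at h
    obtain ⟨c, hc, hc'⟩ := exists_common_residue x y hK₀ P₀ hy ⟨e, he⟩ hQ'over b hb h2
      (hzu u hu1)
    have hc0 : c = 0 := by
      rw [← val_algebraMap_lt_one_iff Q]
      have : algebraMap k K c = z * u - (z * u - algebraMap k K c) := by ring
      rw [this]
      refine lt_of_le_of_lt (Q.1.map_sub _ _) (max_lt ?_ hc)
      rw [map_mul, hz1, one_mul]
      exact hQu
    rw [hc0, map_zero, sub_zero] at hc'
    have hzQ' : Q'.1 z ≤ 1 := Cond.val_le_one_of_mem_adjoin P₀ y hy hz hQ'over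
    have hz' : Q'.1 z < 1 := by
      have : z = z * u - z * (u - 1) := by ring
      rw [this]
      refine lt_of_le_of_lt (Q'.1.map_sub _ _) (max_lt hc' ?_)
      rw [map_mul]
      exact lt_of_le_of_lt (mul_le_mul_left hzQ' _) (by rwa [one_mul])
    have hcz0 : cz = 0 := by
      rw [← val_algebraMap_lt_one_iff Q']
      have : algebraMap k K cz = z - (z - algebraMap k K cz) := by ring
      rw [this]
      exact lt_of_le_of_lt (Q'.1.map_sub _ _) (max_lt hz' hcz')
    rw [hcz0, map_zero, sub_zero, hz1] at hcz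
    exact lt_irrefl _ hcz
  · -- condition (b')
    set μ := max (Q.1 (x - algebraMap k K a)) (Q.1 (y - algebraMap k K b)) with hμ
    have hμ1 : μ < 1 := max_lt ha hb
    obtain ⟨π, hπ⟩ := Cond.exists_val_eq (fun Q'' : ↥S => (Q'' : Place k K)) Subtype.val_injective
      (fun Q'' => if (Q'' : Place k K) = Q then -1 else 0)
    have hπQ : Q.1 π = exp (-1 : ℤ) := by
      have := hπ ⟨Q, (hmemS Q).2 ⟨e, he⟩⟩
      rwa [if_pos rfl] at this
    have hπ1 : ∀ Q'' : Place k K, IsOver Q'' P₀ → Q''.1 π ≤ 1 := by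
      intro Q'' hQ''
      have := hπ ⟨Q'', (hmemS Q'').2 hQ''⟩
      change Q''.1 π = _ at this
      rw [this, ← exp_zero, exp_le_exp]
      split_ifs <;> norm_num
    obtain ⟨c, hc⟩ := exists_residue_le x y hK₀ P₀ hy ⟨e, he⟩ a b μ (le_max_left _ _)
      (le_max_right _ _) hP₀a (hzu π hπ1)
    have hzπ : Q.1 (z * π) = exp (-1 : ℤ) := by rw [map_mul, hz1, one_mul, hπQ]
    have hexp1 : (exp (-1 : ℤ) : ℤᵐ⁰) < 1 := by
      rw [← exp_zero, exp_lt_exp]; norm_num
    have hc0 : c = 0 := by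
      rw [← val_algebraMap_lt_one_iff Q]
      have : algebraMap k K c = z * π - (z * π - algebraMap k K c) := by ring
      rw [this]
      refine lt_of_le_of_lt (Q.1.map_sub _ _) (max_lt ?_ (lt_of_le_of_lt hc hμ1))
      rw [hzπ]; exact hexp1
    rw [hc0, map_zero, sub_zero, hzπ] at hc
    have hμ0 : μ ≠ 0 := fun h0 => by
      rw [h0] at hc
      exact exp_ne_zero (le_antisymm hc zero_le)
    have hμexp : μ = exp (log μ) := (exp_log hμ0).symm
    have hμle : μ ≤ exp (-1 : ℤ) := by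
      rw [hμexp, ← exp_zero, exp_lt_exp] at hμ1
      rw [hμexp, exp_le_exp]
      omega
    have hμeq : μ = exp (-1 : ℤ) := le_antisymm hμle hc
    rcases max_choice (Q.1 (x - algebraMap k K a)) (Q.1 (y - algebraMap k K b)) with h | h
    · exact ⟨1, by rw [hyR1, ← h, ← hμ, hμeq]⟩
    · exact ⟨2, by rw [hyR2, ← h, ← hμ, hμeq]⟩

include hK hK₀ hy in
/-- The same without assuming `y ≠ 0`. -/
theorem nonsingular_of_conductor' (hx0 : x ≠ 0)
    (hxy : adjoin k ({x, y} : Set K) = ⊤)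
    (hP₀ : P₀.1 (AdjoinSimple.gen k x) ≤ 1) (Q : Place k K) (hQ : IsOver Q P₀)
    (z : K) (hz : z ∈ Algebra.adjoin P₀.O ({y} : Set K)) (hz1 : Q.1 z = 1)
    (hzu : ∀ u : K, (∀ Q' : Place k K, IsOver Q' P₀ → Q'.1 u ≤ 1) →
      z * u ∈ Algebra.adjoin P₀.O ({y} : Set K)) :
    IsNonsingularAt ![(1 : K), x, y] Q := by
  by_cases hy0 : y = 0
  · subst hy0
    have hle : Algebra.adjoin P₀.O ({0} : Set K) ≤ Algebra.adjoin P₀.O ({x} : Set K) :=
      Algebra.adjoin_le (by
        rw [Set.singleton_subset_iff]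
        exact zero_mem _)
    have hxint : IsIntegral P₀.O x :=
      isIntegral_algebraMap (R := P₀.O) (A := K) (x := (⟨AdjoinSimple.gen k x, hP₀⟩ : P₀.O))
    have hxx : adjoin k ({x, x} : Set K) = ⊤ := by
      rw [eq_top_iff, ← hxy, adjoin_le_iff]
      rintro w (rfl | rfl)
      · exact subset_adjoin k _ (by simp)
      · exact zero_mem _
    have h := nonsingular_of_conductor hK x x hK₀ P₀ hxint hx0 hx0 hxx hP₀ Q hQ z (hle hz) hz1
      (fun u hu => hle (hzu u hu))
    refine (isNonsingularAt_iff_of_span_eq ![(1 : K), x, 0] ![(1 : K), x, x] ?_ Q).1 h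
    apply le_antisymm
    · rw [Submodule.span_le]
      rintro _ ⟨i, rfl⟩
      fin_cases i
      · exact Submodule.subset_span ⟨0, rfl⟩
      · exact Submodule.subset_span ⟨1, rfl⟩
      · exact Submodule.subset_span ⟨1, rfl⟩
    · rw [Submodule.span_le]
      rintro _ ⟨i, rfl⟩
      fin_cases i
      · exact Submodule.subset_span ⟨0, rfl⟩
      · exact Submodule.subset_span ⟨1, rfl⟩
      · exact zero_mem _
  · exact nonsingular_of_conductor hK x y hK₀ P₀ hy hx0 hy0 hxy hP₀ Q hQ z hz hz1 hzu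

end Backward

section LT
variable [IsAlgClosed k]

/-- **The local adjoint theorem** for a plane model in good position, at a finite place. -/
theorem adjoint_local (hK : IsFunctionField k K) (x y : K)
    (hxy : adjoin k ({x, y} : Set K) = ⊤)
    (F : MvPolynomial (Fin 3) k) {n : ℕ} (hF : F.IsHomogeneous n)
    (hc : F.coeff (Finsupp.single 2 n) ≠ 0) (hFxy : aeval ![(1 : K), x, y] F = 0)
    (he : (mapDiv k ![(1 : K), x, y]).deg = n)
    (hdx : KaehlerDifferential.D k K x ≠ 0)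
    (hFy : aeval ![(1 : K), x, y] (pderiv 2 F) ≠ 0)
    (Q : Place k K) (hQx : Q.1 x ≤ 1)
    (ΦQ : K →ₐ[k] LaurentSeries k) (hΦQ : LocRes.IsExpansionAt Q.1 ΦQ) :
    1 ≤ LocRes.vDiff ΦQ (aeval ![(1 : K), x, y] (pderiv 2 F))⁻¹ x ∧
    (LocRes.vDiff ΦQ (aeval ![(1 : K), x, y] (pderiv 2 F))⁻¹ x = 1 ↔
      IsNonsingularAt ![(1 : K), x, y] Q) := by
  classical
  have hgeo : IsGeometric k K := isGeometric_of_perfectField hK
  have hx : Transcendental k x := transcendental_of_good hK F hF hc x y hFxy hxy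
  have hx0 : x ≠ 0 := fun h0 => hx (h0 ▸ isAlgebraic_zero)
  haveI hfin : FiniteDimensional k⟮x⟯ K := finite_adjoin_of_transcendental hK hx
  haveI hsep : Algebra.IsSeparable k⟮x⟯ K := isSeparable_of_D_ne_zero hK hgeo hdx
  have hK₀ : IsFunctionField k k⟮x⟯ :=
    isFunctionField_intermediateField hK k⟮x⟯ ⟨x, mem_adjoin_simple_self k x, hx⟩
  have hg₀ : IsGeometric k k⟮x⟯ := isGeometric_of_perfectField hK₀
  set x₀ := AdjoinSimple.gen k x with hx₀def
  have hrank : Module.finrank k⟮x⟯ K = n := by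
    have := deg_mapDiv_eq_finrank F hF hc x y hFxy hK hx
    rw [he] at this
    exact_mod_cast this.symm
  set c₀ := F.coeff (Finsupp.single 2 n) with hc₀
  -- the polynomial `F(1, x, Y)`
  set q := polyY F x₀ with hqdef
  have hqroot : Polynomial.aeval y q = 0 := by
    rw [hqdef, aeval_polyY]
    exact hFxy
  have hqcoeff : q.coeff n = algebraMap k k⟮x⟯ c₀ := coeff_polyY F hF x₀
  have ha0 : algebraMap k k⟮x⟯ c₀ ≠ 0 := by
    rw [Ne, map_eq_zero]; exact hc
  have hqdeg : q.natDegree = n := by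
    apply le_antisymm (natDegree_polyY_le F hF x₀)
    apply Polynomial.le_natDegree_of_ne_zero
    rw [hqcoeff]; exact ha0
  have hq0 : q ≠ 0 := by
    intro h0
    rw [h0, Polynomial.coeff_zero] at hqcoeff
    exact ha0 hqcoeff.symm
  have hint : IsIntegral k⟮x⟯ y := Algebra.IsIntegral.isIntegral y
  have htop := adjoin_simple_eq_top_of_adjoin_pair hxy
  have hmdeg : (minpoly k⟮x⟯ y).natDegree = n := by
    have h1 := IntermediateField.adjoin.finrank hint
    rw [htop, IntermediateField.finrank_top'] at h1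
    rw [← h1, hrank]
  have hq : q = Polynomial.C (algebraMap k k⟮x⟯ c₀) * minpoly k⟮x⟯ y := by
    obtain ⟨r, hr⟩ := minpoly.dvd k⟮x⟯ y hqroot
    have hr0 : r ≠ 0 := by
      rintro rfl
      rw [mul_zero] at hr
      exact hq0 hr
    have hm0 : minpoly k⟮x⟯ y ≠ 0 := minpoly.ne_zero hint
    have hdeg := Polynomial.natDegree_mul hm0 hr0
    rw [← hr, hqdeg, hmdeg] at hdeg
    have hrdeg : r.natDegree = 0 := by omega
    have hrC := Polynomial.eq_C_of_natDegree_eq_zero hrdeg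
    have hlc : q.leadingCoeff = r.coeff 0 := by
      rw [hr, Polynomial.leadingCoeff_mul, (minpoly.monic hint).leadingCoeff, one_mul, hrC,
        Polynomial.leadingCoeff_C, Polynomial.coeff_C_zero]
    have hlc' : q.leadingCoeff = algebraMap k k⟮x⟯ c₀ := by
      rw [Polynomial.leadingCoeff, hqdeg, hqcoeff]
    rw [hr, hrC, ← hlc, hlc', mul_comm]
  set F2 := aeval ![(1 : K), x, y] (pderiv 2 F) with hF2
  have hδ : Polynomial.aeval y (Polynomial.derivative (minpoly k⟮x⟯ y)) =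
      (algebraMap k K c₀)⁻¹ * F2 := by
    have h1 : Polynomial.aeval y (Polynomial.derivative q) = F2 := by
      rw [hqdef, derivative_polyY, aeval_polyY]
      rfl
    rw [hq, Polynomial.derivative_C_mul, map_mul, Polynomial.aeval_C,
      ← IsScalarTower.algebraMap_apply k k⟮x⟯ K] at h1
    rw [← h1, inv_mul_cancel_left₀]
    rw [Ne, map_eq_zero]; exact hc
  have hgen : Algebra.adjoin k⟮x⟯ ({y} : Set K) = ⊤ := by
    have h1 := IntermediateField.adjoin_simple_toSubalgebra_of_isAlgebraic hint.isAlgebraic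
    rw [← h1, htop, IntermediateField.top_toSubalgebra]
  obtain ⟨P₀, e, heQ⟩ := exists_isOverWith_below (K := k⟮x⟯) Q
  have hP₀ : P₀.1 x₀ ≤ 1 := (le_one_iff heQ x₀).1 hQx
  have hyint : ∀ Q' : Place k K, IsOver Q' P₀ → Q'.1 y ≤ 1 := by
    rintro Q' ⟨e', he'⟩
    exact val_y_le_one F hF hc x y hFxy Q' ((le_one_iff he' x₀).2 hP₀)
  have hy : IsIntegral P₀.O y := isIntegral_of_val_le_one hK₀ P₀ hyint
  obtain ⟨Φ₀, hΦ₀⟩ := exists_expansion_family hK₀
  obtain ⟨Ψ, hΨ⟩ := exists_expansion_family hK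
  set ψ := Function.update Ψ Q ΦQ with hψdef
  have hψQ : ψ Q = ΦQ := Function.update_self _ _ _
  have hψ : ∀ Q' : Place k K, LocRes.IsExpansionAt Q'.1 (ψ Q') := by
    intro Q'
    by_cases hQ' : Q' = Q
    · subst hQ'
      rw [hψQ]; exact hΦQ
    · rw [hψdef, Function.update_of_ne hQ']
      exact hΨ Q'
  have hx₀ := val_D_gen_eq_one hK₀ x₀ (adjoin_gen_eq_top x) P₀ hP₀ (Φ₀ P₀) (hΦ₀ P₀)
  have hD : ∀ Q' : Place k K, IsOver Q' P₀ → Cond.cv ψ x₀ Q' ≠ 0 := fun Q' _ =>
    (Valuation.ne_zero_iff _).2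
      (ResW.D_expansion_ne_zero_of_D_ne_zero hK hgeo hdx Q'.1 (ψ Q') (hψ Q'))
  have hcore := Cond.adjoint_core hK₀ hg₀ hK P₀ (Φ₀ P₀) (hΦ₀ P₀) ψ (fun Q' _ => hψ Q') x₀ hx₀ hD
    y hy hgen Q ⟨e, heQ⟩
  have hval : LocRes.vDiff ΦQ F2⁻¹ x =
      (Q.1 (Polynomial.aeval y (Polynomial.derivative (minpoly k⟮x⟯ y))))⁻¹ * Cond.cv ψ x₀ Q := by
    unfold LocRes.vDiff Cond.cv
    rw [hψQ, hδ, map_mul, hΦQ.1, map_mul, map_inv₀, map_inv₀, val_algebraMap Q hc, inv_one,
      one_mul]
    rfl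
  rw [hval]
  refine ⟨hcore.1, hcore.2.trans ⟨?_, ?_⟩⟩
  · rintro ⟨z, hz, hz1, hzu⟩
    exact nonsingular_of_conductor' hK x y hK₀ P₀ hy hx0 hxy hP₀ Q ⟨e, heQ⟩ z hz hz1 hzu
  · intro hns
    exact exists_conductor_of_nonsingular x y hK₀ P₀ hP₀ hyint Q ⟨e, heQ⟩ hns

end LT

end Groth.Agent.H57.Plane
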