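import Groth.Agent.H57.PlaneAdjoint
import Groth.Agent.FunFld.SepVar
import Groth.Agent.FunFld.KerD
import Groth.Agent.S10992
import Groth.Agent.FunFld.ConormDeg

/-!
# The irreducible relation of a plane model and the genus formula
-/

set_option autoImplicit false

namespace Groth.Agent.H57.Plane

open FunFld Groth.Agent.FF Groth.Agent.FF.Ext WithZero MvPolynomial Groth.Agent.H57 IntermediateField

universe u v
variable {k : Type u} {K : Type v} [Field k] [Field K] [Algebra k K]

section Relation

theorem not_algebraicIndependent_pair (hK : IsFunctionField k K) (x y : K) :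
    ¬ AlgebraicIndependent k ![x, y] := by
  intro h
  have h1 := trdeg_le_one_of_isFunctionField hK
  have h2 := h.lift_cardinalMk_le_trdeg
  rw [Cardinal.mk_fin] at h2
  have h3 : Cardinal.lift.{0, v} (Algebra.trdeg k K) ≤ 1 := by
    have := Cardinal.lift_le.{0, v}.2 h1
    simpa using this
  have := h2.trans h3
  norm_num at this

/-- Two functions of a function field of one variable satisfy an irreducible relation. -/
theorem exists_irreducible_relation (hK : IsFunctionField k K) (x y : K) :
    ∃ f : MvPolynomial (Fin 2) k, Irreducible f ∧ aeval ![x, y] f = 0 := by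
  classical
  have hni := not_algebraicIndependent_pair hK x y
  rw [algebraicIndependent_iff] at hni
  push Not at hni
  obtain ⟨g, hg, hg0⟩ := hni
  obtain ⟨fs, hprime, hassoc⟩ := UniqueFactorizationMonoid.exists_prime_factors g hg0
  obtain ⟨w, hw⟩ := hassoc
  rw [← hw, map_mul] at hg
  have hunit : aeval ![x, y] (w : MvPolynomial (Fin 2) k) ≠ 0 :=
    (w.isUnit.map (aeval ![x, y] : MvPolynomial (Fin 2) k →ₐ[k] K)).ne_zero
  have hprod : aeval ![x, y] fs.prod = 0 := (mul_eq_zero.1 hg).resolve_right hunit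
  rw [map_multiset_prod, Multiset.prod_eq_zero_iff] at hprod
  obtain ⟨b, hb, hb0⟩ := Multiset.mem_map.1 hprod
  exact ⟨b, (hprime b hb).irreducible, hb0⟩

theorem polyY_homog_eq (f : MvPolynomial (Fin 2) k) (x : K) :
    polyY (homog f) (AdjoinSimple.gen k x) = (toPP 0 f).map (evalGen x) := by
  rw [map_toPP_homog]
  unfold polyY
  congr 2
  funext i
  fin_cases i <;> simp

/-- For a separating `x`, the `y`-derivative of the irreducible relation does not vanish on the
curve. -/
theorem aeval_pderiv_ne_zero [PerfectField k] (hK : IsFunctionField k K) (x y : K)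
    (hdx : KaehlerDifferential.D k K x ≠ 0) (f : MvPolynomial (Fin 2) k) (hf : Irreducible f)
    (hfxy : aeval ![x, y] f = 0) : aeval ![x, y] (pderiv 1 f) ≠ 0 := by
  have hgeo : IsGeometric k K := isGeometric_of_perfectField hK
  have hx : Transcendental k x := by
    intro halg
    obtain ⟨c, hc⟩ := hK.2 x halg
    apply hdx
    rw [← hc]
    exact (KaehlerDifferential.D k K).map_algebraMap c
  haveI hfin : FiniteDimensional k⟮x⟯ K := finite_adjoin_of_transcendental hK hx
  haveI hsep : Algebra.IsSeparable k⟮x⟯ K := isSeparable_of_D_ne_zero hK hgeo hdx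
  set x₀ := AdjoinSimple.gen k x with hx₀
  set q := polyY (homog f) x₀ with hq
  have hqeq : q = (toPP 0 f).map (evalGen x) := polyY_homog_eq f x
  have hroot : Polynomial.aeval y q = 0 := by
    rw [hq, aeval_polyY]
    have : algebraMap k⟮x⟯ K x₀ = x := rfl
    rw [this, aeval_homog_one, hfxy]
  have hdeg : (toPP (0 : k) f).natDegree ≠ 0 := by
    intro h0
    have hC := Polynomial.eq_C_of_natDegree_eq_zero h0
    rw [hqeq, hC, Polynomial.map_C, Polynomial.aeval_C] at hroot
    have h1 : evalGen x ((toPP (0 : k) f).coeff 0) = 0 :=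
      (map_eq_zero (algebraMap k⟮x⟯ K)).1 hroot
    have h2 : (toPP (0 : k) f).coeff 0 = 0 :=
      (evalGen_injective hx) (by rw [h1, map_zero])
    rw [h2, Polynomial.C_0] at hC
    have h3 : equivPP (0 : k) f = 0 := hC
    rw [map_eq_zero_iff _ (equivPP (0 : k)).injective] at h3
    exact hf.ne_zero h3
  have hirr := irreducible_map_evalGen hx (irreducible_toPP 0 hf) hdeg
  rw [← hqeq] at hirr
  have hmin := minpoly.eq_of_irreducible hirr hroot
  have hlc : q.leadingCoeff⁻¹ ≠ 0 :=
    inv_ne_zero (Polynomial.leadingCoeff_ne_zero.2 hirr.ne_zero)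
  have hsepy : (minpoly k⟮x⟯ y).Separable := Algebra.IsSeparable.isSeparable k⟮x⟯ y
  have hder := hsepy.aeval_derivative_ne_zero (minpoly.aeval k⟮x⟯ y)
  rw [← hmin, Polynomial.derivative_mul, Polynomial.derivative_C, mul_zero, add_zero, map_mul,
    Polynomial.aeval_C] at hder
  have hder' : Polynomial.aeval y (Polynomial.derivative q) ≠ 0 := left_ne_zero_of_mul hder
  rw [hq, derivative_polyY, aeval_polyY] at hder'
  have : algebraMap k⟮x⟯ K x₀ = x := rfl
  rw [this, aeval_pderiv_homog] at hder'
  exact hder'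

end Relation

section Genus
variable [IsAlgClosed k]

/-- The divisor of a nonzero differential has degree `2g - 2`. -/
theorem deg_divDiff_general (hK : IsFunctionField k K)
    (Φ : Place k K → (K →ₐ[k] LaurentSeries k))
    (hΦ : ∀ P : Place k K, LocRes.IsExpansionAt P.1 (Φ P)) (g v : K) (hg : g ≠ 0)
    (hv : KaehlerDifferential.D k K v ≠ 0) :
    (divDiff Φ g v).deg = 2 * (genus k K : ℤ) - 2 := by
  have hgeo : IsGeometric k K := isGeometric_of_perfectField hK
  have hD : ∀ P : Place k K, LocRes.D k (Φ P v) ≠ 0 := fun P =>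
    ResW.D_expansion_ne_zero_of_D_ne_zero hK hgeo hv P.1 (Φ P) (hΦ P)
  have hT : ∀ _P : Place k K, ∃ β : k, Algebra.trace k k β ≠ 0 := fun _ =>
    ⟨1, by rw [Algebra.trace_self_apply]; exact one_ne_zero⟩
  have hdiv := ResW.resW_divisor hK (fun _ => k) Φ hΦ g v hg hD hT
  have hne := ResW.resW_ne_zero hK (fun _ => k) Φ hΦ g v hg hD hT
  have hcanon : IsCanonical k K (divDiff Φ g v) :=
    ⟨_, hne, hdiv.2 _ fun P => divDiff_apply hK Φ hΦ g v hg hv P⟩
  exact ((Groth.Agent.S10992.result k K hK _).1 hcanon).2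

/-- An effective divisor of degree zero vanishes. -/
theorem eq_zero_of_nonneg_of_deg_eq_zero (hK : IsFunctionField k K) (E : Divisor k K)
    (hE : ∀ P, 0 ≤ E P) (hdeg : E.deg = 0) (P : Place k K) : E P = 0 := by
  by_contra hne
  have hpos : 1 ≤ E P := by
    have := hE P
    omega
  have hle : (Finsupp.single P 1 : Divisor k K) ≤ E := by
    intro Q
    by_cases hQ : Q = P
    · subst hQ
      rw [Finsupp.single_eq_same]; exact hpos
    · rw [Finsupp.single_eq_of_ne hQ]; exact hE Q
  have h1 := deg_mono hle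
  rw [deg_single, hdeg, one_mul] at h1
  have h2 := deg_pos hK P
  omega

/-- **The genus formula for plane models**, for a separating first coordinate. -/
theorem genus_iff_of_dx (hK : IsFunctionField k K) (x y : K)
    (hxy : adjoin k ({x, y} : Set K) = ⊤) (hdx : KaehlerDifferential.D k K x ≠ 0) :
    2 * (genus k K : ℤ) =
        ((mapDiv k ![(1 : K), x, y]).deg - 1) * ((mapDiv k ![(1 : K), x, y]).deg - 2) ↔
      ∀ P : Place k K, IsNonsingularAt ![(1 : K), x, y] P := by
  obtain ⟨f, hf, hfxy⟩ := exists_irreducible_relation hK x y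
  have hfy := aeval_pderiv_ne_zero hK x y hdx f hf hfxy
  obtain ⟨Φ, hΦ⟩ := exists_expansion_family hK
  have he := deg_mapDiv_eq_totalDegree hK x y hxy f hf hfxy
  set n := f.totalDegree with hn
  have hF := homog_isHomogeneous f
  have hF0 : homog f ≠ 0 := by
    intro h0
    apply hf.ne_zero
    rw [← dehom_homog f, h0, map_zero]
  have hFxy : aeval ![(1 : K), x, y] (homog f) = 0 := by rw [aeval_homog_one, hfxy]
  have hfyeq := aeval_pderiv_homog f x y
  have hFy : aeval ![(1 : K), x, y] (pderiv 2 (homog f)) ≠ 0 := by rw [hfyeq]; exact hfy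
  have hadj := fun Q : Place k K =>
    adjoint_hom hK x y hxy (homog f) hF hF0 hFxy he hdx hFy Q (Φ Q) (hΦ Q)
  set F2 := aeval ![(1 : K), x, y] (pderiv 2 (homog f)) with hF2
  set Δ : Divisor k K := ((n : ℤ) - 3) • mapDiv k ![(1 : K), x, y] - divDiff Φ F2⁻¹ x with hΔ
  have hΔapp : ∀ Q, Δ Q = ((n : ℤ) - 3) * mapDiv k ![(1 : K), x, y] Q -
      LocRes.ordDiff (Φ Q) F2⁻¹ x := by
    intro Q
    rw [hΔ, Finsupp.sub_apply, Finsupp.smul_apply, smul_eq_mul,
      divDiff_apply hK Φ hΦ _ x (inv_ne_zero hFy) hdx Q]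
  have hΔdeg : Δ.deg = ((n : ℤ) - 3) * n - (2 * (genus k K : ℤ) - 2) := by
    rw [hΔ, deg_sub, Ext.deg_zsmul, he, deg_divDiff_general hK Φ hΦ _ x (inv_ne_zero hFy) hdx]
  rw [he]
  constructor
  · intro hg Q
    have hdeg0 : Δ.deg = 0 := by
      rw [hΔdeg]
      linarith
    have := eq_zero_of_nonneg_of_deg_eq_zero hK Δ (fun P => by rw [hΔapp]; exact (hadj P).1)
      hdeg0 Q
    rw [hΔapp] at this
    exact (hadj Q).2.1 this
  · intro hns
    have hΔ0 : Δ = 0 := by
      ext Q
      rw [hΔapp, Finsupp.zero_apply]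
      exact (hadj Q).2.2 (hns Q)
    rw [hΔ0, deg_zero] at hΔdeg
    linarith

/-- One of the two coordinates of a plane model is separating. -/
theorem D_ne_zero_or (hK : IsFunctionField k K) (x y : K)
    (hxy : adjoin k ({x, y} : Set K) = ⊤) :
    KaehlerDifferential.D k K x ≠ 0 ∨ KaehlerDifferential.D k K y ≠ 0 := by
  by_contra hcon
  push Not at hcon
  have hgeo : IsGeometric k K := isGeometric_of_perfectField hK
  obtain ⟨s, hs, hsep⟩ := exists_separating hK hgeo
  have hDs := D_ne_zero_of_separating (k := k) (K := K) hs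
  have hle : adjoin k ({x, y} : Set K) ≤ kerD k K := by
    rw [adjoin_le_iff]
    rintro w (rfl | rfl)
    · exact hcon.1
    · exact hcon.2
  have hmem : s ∈ adjoin k ({x, y} : Set K) := by rw [hxy]; trivial
  exact hDs (hle hmem)

theorem mapDiv_swap (hK : IsFunctionField k K) (x y : K) :
    mapDiv k ![(1 : K), y, x] = mapDiv k ![(1 : K), x, y] := by
  ext P
  apply mapDiv_eq_of_val hK _ ⟨0, rfl⟩ P
  · intro i
    fin_cases i
    · exact val_le_exp_mapDiv hK ![(1 : K), x, y] P 0
    · exact val_le_exp_mapDiv hK ![(1 : K), x, y] P 2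
    · exact val_le_exp_mapDiv hK ![(1 : K), x, y] P 1
  · obtain ⟨i, hi⟩ := exists_val_eq_exp_mapDiv hK ![(1 : K), x, y] ⟨0, rfl⟩ P
    fin_cases i
    · exact ⟨0, hi⟩
    · exact ⟨2, hi⟩
    · exact ⟨1, hi⟩

theorem span_swap (x y : K) :
    Submodule.span k (Set.range ![(1 : K), y, x]) = Submodule.span k (Set.range ![(1 : K), x, y]) := by
  apply le_antisymm
  · rw [Submodule.span_le]
    rintro _ ⟨i, rfl⟩
    fin_cases i
    · exact Submodule.subset_span ⟨0, rfl⟩
    · exact Submodule.subset_span ⟨2, rfl⟩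
    · exact Submodule.subset_span ⟨1, rfl⟩
  · rw [Submodule.span_le]
    rintro _ ⟨i, rfl⟩
    fin_cases i
    · exact Submodule.subset_span ⟨0, rfl⟩
    · exact Submodule.subset_span ⟨2, rfl⟩
    · exact Submodule.subset_span ⟨1, rfl⟩

/-- **The genus formula for plane models.** -/
theorem genus_iff (hK : IsFunctionField k K) (x y : K)
    (hxy : adjoin k ({x, y} : Set K) = ⊤) :
    2 * (genus k K : ℤ) =
        ((mapDiv k ![(1 : K), x, y]).deg - 1) * ((mapDiv k ![(1 : K), x, y]).deg - 2) ↔
      ∀ P : Place k K, IsNonsingularAt ![(1 : K), x, y] P := by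
  rcases D_ne_zero_or hK x y hxy with hdx | hdy
  · exact genus_iff_of_dx hK x y hxy hdx
  · have hyx : adjoin k ({y, x} : Set K) = ⊤ := by rw [Set.pair_comm]; exact hxy
    have h := genus_iff_of_dx hK y x hyx hdy
    rw [mapDiv_swap hK x y] at h
    rw [h]
    refine forall_congr' fun P => ?_
    exact isNonsingularAt_iff_of_span_eq ![(1 : K), x, y] ![(1 : K), y, x] (span_swap x y) P

end Genus

end Groth.Agent.H57.Plane
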