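import Mathlib
import Groth.Prelude.Def_DCoh3
import Groth.Agent.H57.RpushBound2

/-!
# The sharp bound: `n` affine opens in a separated scheme over an affine base (helper57)

If `Y` is separated, covered by `n ≥ 1` affine opens and `S` is affine, then
`H^m(Rg_* E) = 0` for `E ∈ D_QCoh^{≤ 0}` and `m ≥ n`.
-/

set_option autoImplicit false
universe u
open CategoryTheory CategoryTheory.Limits AlgebraicGeometry TopologicalSpace
attribute [local instance] HasDerivedCategory.standard

namespace Groth.Agent.H57.RpushBoundCount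

open Groth.Agent.H57.RpushBound Groth.Agent.H57.QcqsInduction

variable {S : Scheme.{u}} [IsAffine S]

lemma isAffine_of_top {Y : Scheme.{u}} (h : IsAffineOpen (⊤ : Y.Opens)) : IsAffine Y := by
  haveI : IsAffine ((⊤ : Y.Opens) : Scheme.{u}) := h
  exact IsAffine.of_isIso (Scheme.topIso Y).inv

theorem bound_of_card : ∀ (n : ℕ) (Y : Scheme.{u}) [Y.IsSeparated] (g : Y ⟶ S)
    (s : Finset Y.Opens), s.card ≤ n → (∀ U ∈ s, IsAffineOpen U) → (⨆ U ∈ s, U) = ⊤ →
    Bound g (max (n : ℤ) 1) := by
  classical
  intro n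
  induction n with
  | zero =>
    intro Y _ g s hs _ hcov
    have : s = ∅ := Finset.card_eq_zero.mp (Nat.le_zero.mp hs)
    subst this
    have hbt : (⊥ : Y.Opens) = ⊤ := by simpa using hcov
    have : IsEmpty Y := by
      refine ⟨fun y => ?_⟩
      have hy : y ∈ (⊤ : Y.Opens) := trivial
      rw [← hbt] at hy
      exact hy
    exact (bound_of_isAffineHom g).mono g (le_max_right _ _)
  | succ n ih =>
    intro Y _ g s hs haff hcov
    rcases s.eq_empty_or_nonempty with rfl | ⟨U₀, hU₀⟩
    · have hbt : (⊥ : Y.Opens) = ⊤ := by simpa using hcov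
      have : IsEmpty Y := by
        refine ⟨fun y => ?_⟩
        have hy : y ∈ (⊤ : Y.Opens) := trivial
        rw [← hbt] at hy
        exact hy
      exact (bound_of_isAffineHom g).mono g (le_max_right _ _)
    set s' := s.erase U₀ with hs'
    have hcard : s'.card ≤ n := by
      rw [hs', Finset.card_erase_of_mem hU₀]; omega
    have haff' : ∀ U ∈ s', IsAffineOpen U := fun U hU => haff U (Finset.mem_of_mem_erase hU)
    have hcov' : (⨆ U ∈ s', U) ⊔ U₀ = ⊤ := by
      rw [← hcov, ← Finset.insert_erase hU₀, Finset.iSup_insert, sup_comm]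
    rcases s'.eq_empty_or_nonempty with hemp | hne
    · -- `Y = U₀` is affine
      rw [hemp] at hcov'
      have hU₀top : U₀ = ⊤ := by simpa using hcov'
      haveI : IsAffine Y := isAffine_of_top (hU₀top ▸ haff U₀ hU₀)
      exact (bound_of_isAffineHom g).mono g (le_max_right _ _)
    · have hn1 : 1 ≤ n := by
        have := Finset.card_pos.mpr hne
        omega
      set W' : Y.Opens := ⨆ U ∈ s', U with hW'
      have h1 : Bound (W'.ι ≫ g) (max (n : ℤ) 1) := by
        have : (W' : Scheme.{u}).IsSeparated := isSeparated_of_isOpenImmersion W'.ι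
        obtain ⟨t, ht, htaff, htcov⟩ := preimage_cover W' s' id haff'
          (fun U hU => le_biSup (fun U => U) hU) le_rfl
        exact ih W' (W'.ι ≫ g) t (ht.trans hcard) htaff htcov
      have h2 : Bound (U₀.ι ≫ g) 1 := by
        haveI : IsAffine (U₀ : Scheme.{u}) := haff U₀ hU₀
        exact bound_of_isAffineHom _
      have h3 : Bound ((W' ⊓ U₀).ι ≫ g) (max (n : ℤ) 1) := by
        have : ((W' ⊓ U₀ : Y.Opens) : Scheme.{u}).IsSeparated :=
          isSeparated_of_isOpenImmersion (W' ⊓ U₀).ι
        obtain ⟨t, ht, htaff, htcov⟩ := preimage_cover (W' ⊓ U₀) s' (fun U => U ⊓ U₀)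
          (fun U hU => (haff' U hU).inf (haff U₀ hU₀))
          (fun U hU => inf_le_inf_right _ (le_biSup (fun U => U) hU)) (by
            rw [hW']
            simp only [iSup_inf_eq]
            exact le_rfl)
        exact ih _ ((W' ⊓ U₀).ι ≫ g) t (ht.trans hcard) htaff htcov
      have h := bound_of_mv g W' U₀ hcov' h1 h2 h3
      refine h.mono g ?_
      have hn1' : (1 : ℤ) ≤ n := by exact_mod_cast hn1
      push_cast
      omega

end Groth.Agent.H57.RpushBoundCount
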