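import Mathlib
import Groth.Prelude.Def_DCoh3
import Groth.Prelude.Def_CohB1
import Groth.Agent.H57.RpushBoundCount
import Groth.Agent.Lib.Helper17.ProjSpaceProper
import Groth.Agent.Lib.Helper96.ProjSpaceGlobal
import Groth.Agent.Lib.Helper30.PCQCoh

/-!
# `R f_*` for `f : P^r_Y ⟶ Y`, `Y` affine, has cohomological dimension `≤ r` on `D_QCoh` (helper57)
-/

set_option autoImplicit false
universe u
open CategoryTheory CategoryTheory.Limits AlgebraicGeometry TopologicalSpace MvPolynomial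
attribute [local instance] HasDerivedCategory.standard

namespace Groth.Agent.H57.PnBound

open Groth.Agent.H57.RpushBound Groth.Agent.H57.RpushBound2 Groth.Agent.H57.RpushBoundCount
  Groth.Agent.Lib.Helper96.ProjSpaceGlobal

variable (r : ℕ) (Y : Scheme.{u})

/-- the projection `P^r_Y ⟶ P^r_ℤ`. -/
noncomputable def fstP : CohB1.ProjSpaceOver r Y ⟶ CohB1.ProjSpace r (ULift.{u} ℤ) :=
  pullback.fst (CohB1.ProjSpace.toSpec r (ULift.{u} ℤ)) (specULiftZIsTerminal.from Y)

instance isAffineHom_fstP [IsAffine Y] : IsAffineHom (fstP r Y) := by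
  haveI : IsAffineHom (specULiftZIsTerminal.from Y) := inferInstance
  exact MorphismProperty.pullback_fst (P := @IsAffineHom) _ _ inferInstance

/-- the standard opens of `P^r_Y`. -/
noncomputable def stdOpen (i : Fin (r + 1)) : (CohB1.ProjSpaceOver r Y).Opens :=
  (fstP r Y) ⁻¹ᵁ
    (show (CohB1.ProjSpace r (ULift.{u} ℤ)).Opens from
      Proj.basicOpen (CohB1.polyGrading r (ULift.{u} ℤ)) (X i))

lemma iSup_stdOpen : (⨆ i, stdOpen r Y i) = ⊤ := by
  have h : (⨆ i : Fin (r + 1), (show (CohB1.ProjSpace r (ULift.{u} ℤ)).Opens from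
      Proj.basicOpen (CohB1.polyGrading r (ULift.{u} ℤ)) (X i))) = ⊤ :=
    Proj.iSup_basicOpen_eq_top (CohB1.polyGrading r (ULift.{u} ℤ))
      (fun i : Fin (r + 1) => (X i : MvPolynomial (Fin (r + 1)) (ULift.{u} ℤ)))
      (irrelevant_le_span r (ULift.{u} ℤ))
  unfold stdOpen
  rw [← Scheme.Hom.preimage_iSup, h]
  rfl

lemma isAffineOpen_stdOpen [IsAffine Y] (i : Fin (r + 1)) : IsAffineOpen (stdOpen r Y i) := by
  have h : IsAffineOpen (show (CohB1.ProjSpace r (ULift.{u} ℤ)).Opens from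
      Proj.basicOpen (CohB1.polyGrading r (ULift.{u} ℤ)) (X i)) :=
    Proj.isAffineOpen_basicOpen (CohB1.polyGrading r (ULift.{u} ℤ)) (X i) (X_mem i) one_pos
  exact h.preimage (fstP r Y)

instance isSeparated_projSpaceOver [IsAffine Y] : (CohB1.ProjSpaceOver r Y).IsSeparated := by
  haveI : IsProper (CohB1.ProjSpaceOver.toBase r Y) :=
    Groth.Agent.Lib.Helper17.ProjSpaceProper.isProper_toBase r Y
  refine ⟨?_⟩
  have h : terminal.from (CohB1.ProjSpaceOver r Y) =
      CohB1.ProjSpaceOver.toBase r Y ≫ terminal.from Y := Subsingleton.elim _ _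
  rw [h]
  infer_instance

/-- **the sharp bound for projective space over an affine base.** -/
theorem bound_toBase [IsAffine Y] : Bound (CohB1.ProjSpaceOver.toBase r Y) ((r : ℤ) + 1) := by
  classical
  have h := bound_of_card (S := Y) (r + 1) (CohB1.ProjSpaceOver r Y)
    (CohB1.ProjSpaceOver.toBase r Y) (Finset.univ.image (stdOpen r Y))
    (Finset.card_image_le.trans (by simp))
    (fun U hU => by
      obtain ⟨i, -, rfl⟩ := Finset.mem_image.mp hU
      exact isAffineOpen_stdOpen r Y i)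
    (by rw [Finset.iSup_finset_image]; simpa using iSup_stdOpen r Y)
  refine h.mono _ ?_
  push_cast
  omega

/-- **S4265.** -/
theorem isLE_Rpush_toBase [IsAffine Y] (E : DCoh.D (CohB1.ProjSpaceOver r Y))
    (hE : ∀ m : ℤ, DCoh.IsPseudoCoherentD m E) (a : ℤ) (ha : E.IsLE a) :
    ((DCoh.Rpush (CohB1.ProjSpaceOver.toBase r Y)).obj E).IsLE (a + r) :=
  isLE_Rpush _ (bound_toBase r Y) E
    (Groth.Agent.Lib.Helper30.PCQCoh.isQCohD_of_isPseudoCoherentD E hE) a ha (a + r) (by omega)

end Groth.Agent.H57.PnBound
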