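import Groth.Agent.FunFld.PlaceExt
import Groth.Agent.FunFld.Chain
import Groth.Agent.FunFld.Geometric

/-!
# Rational functions regular away from infinity are polynomials
-/

set_option autoImplicit false

namespace Groth.Agent.H57.PolyRing

open FunFld Groth.Agent.FF WithZero IntermediateField Polynomial

universe u v
variable {k : Type u} {F : Type v} [Field k] [Field F] [Algebra k F]

/-- In a function field over an algebraically closed field, an element of `k(x₀)` that is regular at
every place where `x₀` is regular is a polynomial in `x₀`. -/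
theorem exists_aeval_eq_of_forall_val_le_one [IsAlgClosed k] (hF : IsFunctionField k F) (x₀ : F)
    (hx₀ : Transcendental k x₀) (f : F) (hf : f ∈ k⟮x₀⟯)
    (h : ∀ P : Place k F, P.1 x₀ ≤ 1 → P.1 f ≤ 1) : ∃ q : k[X], f = aeval x₀ q := by
  classical
  have hex : ∃ n : ℕ, ∃ r s : k[X], s.natDegree = n ∧ aeval x₀ s ≠ 0 ∧
      f * aeval x₀ s = aeval x₀ r := by
    obtain ⟨r, s, hrs⟩ := (IntermediateField.mem_adjoin_simple_iff k f).1 hf
    by_cases hs : aeval x₀ s = 0
    · refine ⟨0, 0, 1, by simp, by simp, ?_⟩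
      rw [hrs, hs, div_zero]
      simp
    · exact ⟨s.natDegree, r, s, rfl, hs, by rw [hrs, div_mul_cancel₀ _ hs]⟩
  obtain ⟨r, s, hdeg, hs0, hfs⟩ := Nat.find_spec hex
  have hmin := fun m hm => Nat.find_min hex (m := m) hm
  by_cases hd : s.natDegree = 0
  · obtain ⟨c, hc⟩ := natDegree_eq_zero.1 hd
    have hc0 : algebraMap k F c ≠ 0 := by
      intro h0
      apply hs0
      rw [← hc, aeval_C, h0]
    refine ⟨C c⁻¹ * r, ?_⟩
    rw [map_mul, aeval_C, ← hfs, ← hc, aeval_C, map_inv₀]
    field_simp
  · exfalso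
    have hdeg' : s.degree ≠ 0 := by
      intro h0
      exact hd (natDegree_eq_of_degree_eq_some h0)
    obtain ⟨a, ha⟩ := IsAlgClosed.exists_root s hdeg'
    obtain ⟨s₁, hs₁⟩ := dvd_iff_isRoot.2 ha
    have htr : Transcendental k (x₀ - algebraMap k F a) := by
      intro halg
      apply hx₀
      have := halg.add (isAlgebraic_algebraMap (R := k) (A := F) a)
      rwa [sub_add_cancel] at this
    have hne : x₀ - algebraMap k F a ≠ 0 := by
      intro h0
      exact htr (h0 ▸ isAlgebraic_zero)
    obtain ⟨P, hP⟩ := exists_zero_of_transcendental hF htr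
    have hPlt : P.1 (x₀ - algebraMap k F a) < 1 := (val_lt_one_iff P hne).2 hP
    have hPx : P.1 x₀ ≤ 1 := by
      have : x₀ = (x₀ - algebraMap k F a) + algebraMap k F a := by ring
      rw [this]
      exact (P.1.map_add _ _).trans (max_le hPlt.le (P.2.1 a))
    have hPf := h P hPx
    have hev : ∀ q : k[X], P.1 (aeval x₀ q) ≤ 1 := fun q => gval_aeval_le_one P.1 P.2.1 hPx q
    have hXa : aeval x₀ (X - C a : k[X]) = x₀ - algebraMap k F a := by
      rw [map_sub, aeval_X, aeval_C]
    -- `r` vanishes at `a`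
    have hra : r.eval a = 0 := by
      by_contra hra
      have hdecomp : r = C (r.eval a) + (X - C a) * (r /ₘ (X - C a)) := by
        have := modByMonic_add_div r (X - C a)
        rw [modByMonic_X_sub_C_eq_C_eval] at this
        exact this.symm
      have h1 : P.1 (aeval x₀ r) = 1 := by
        rw [hdecomp, map_add, map_mul, aeval_C, hXa]
        have hlt : P.1 ((x₀ - algebraMap k F a) * aeval x₀ (r /ₘ (X - C a))) <
            P.1 (algebraMap k F (r.eval a)) := by
          rw [val_algebraMap P hra, map_mul]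
          calc P.1 (x₀ - algebraMap k F a) * P.1 (aeval x₀ (r /ₘ (X - C a)))
              ≤ P.1 (x₀ - algebraMap k F a) * 1 := mul_le_mul_right (hev _) _
            _ < 1 := by rwa [mul_one]
        rw [Valuation.map_add_eq_of_lt_left _ hlt, val_algebraMap P hra]
      have h2 : P.1 (aeval x₀ r) < 1 := by
        rw [← hfs, hs₁, map_mul, map_mul, hXa, map_mul]
        calc P.1 f * (P.1 (x₀ - algebraMap k F a) * P.1 (aeval x₀ s₁))
            ≤ 1 * (P.1 (x₀ - algebraMap k F a) * 1) :=
              mul_le_mul' hPf (mul_le_mul_right (hev _) _)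
          _ < 1 := by rwa [one_mul, mul_one]
      rw [h1] at h2
      exact lt_irrefl _ h2
    obtain ⟨r₁, hr₁⟩ := dvd_iff_isRoot.2 hra
    have hs₁0 : aeval x₀ s₁ ≠ 0 := by
      intro h0
      apply hs0
      rw [hs₁, map_mul, h0, mul_zero]
    have hs₁ne : s₁ ≠ 0 := by
      rintro rfl
      exact hs₁0 (map_zero _)
    have hlt : s₁.natDegree < Nat.find hex := by
      rw [← hdeg, hs₁, natDegree_mul (X_sub_C_ne_zero a) hs₁ne, natDegree_X_sub_C]
      omega
    apply hmin _ hlt
    refine ⟨r₁, s₁, rfl, hs₁0, ?_⟩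
    have := hfs
    rw [hs₁, hr₁, map_mul, map_mul, hXa] at this
    apply mul_left_cancel₀ hne
    rw [← this]
    ring

end Groth.Agent.H57.PolyRing
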