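import Groth.Agent.H57.PolyRing
import Groth.Agent.H57.PlaneLT
import Mathlib.FieldTheory.Minpoly.IsIntegrallyClosed
import Mathlib.RingTheory.Polynomial.Subring

/-!
# `k[x, y]` is the intersection of the rings `O_P[y]` over the finite places `P` of `k(x)`
-/

set_option autoImplicit false

namespace Groth.Agent.H57.PolyRing

open FunFld Groth.Agent.FF Groth.Agent.H57 WithZero IntermediateField Polynomial
open IntermediateField.algebraAdjoinAdjoin

universe u v
variable {k : Type u} {K : Type v} [Field k] [Field K] [Algebra k K]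

theorem main [IsAlgClosed k] (hK : IsFunctionField k K) (x y : K) (hx : Transcendental k x)
    (hxy : IntermediateField.adjoin k ({x, y} : Set K) = ⊤)
    (hy : IsIntegral (Algebra.adjoin k ({x} : Set K)) y) :
    (Algebra.adjoin k ({x, y} : Set K) : Set K) =
      ⋂ (P : Place k k⟮x⟯) (_ : P.1 ⟨x, mem_adjoin_simple_self k x⟩ ≤ 1),
        (Subring.closure ((algebraMap k⟮x⟯ K '' (P.O : Set _)) ∪ {y}) : Set K) := by
  classical
  set x₀ : k⟮x⟯ := ⟨x, mem_adjoin_simple_self k x⟩ with hx₀
  have hK₀ : IsFunctionField k k⟮x⟯ :=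
    isFunctionField_intermediateField hK k⟮x⟯ ⟨x, mem_adjoin_simple_self k x, hx⟩
  have hx₀tr : Transcendental k x₀ := by
    rw [← transcendental_algebraMap_iff (algebraMap k⟮x⟯ K).injective]
    exact hx
  have htop₀ : k⟮x₀⟯ = ⊤ := Plane.adjoin_gen_eq_top x
  have hIC : IsIntegrallyClosed (Algebra.adjoin k ({x} : Set K)) :=
    IsIntegrallyClosed.of_equiv (Polynomial.algEquivOfTranscendental k x hx).toRingEquiv
  have hyF : IsIntegral k⟮x⟯ y := hy.tower_top
  set g := minpoly k⟮x⟯ y with hg
  have hgmap : g = (minpoly (Algebra.adjoin k ({x} : Set K)) y).map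
      (algebraMap (Algebra.adjoin k ({x} : Set K)) k⟮x⟯) :=
    minpoly.isIntegrallyClosed_eq_field_fractions' k⟮x⟯ hy
  have hgmonic : g.Monic := minpoly.monic hyF
  have hgroot : aeval y g = 0 := minpoly.aeval k⟮x⟯ y
  set n := g.natDegree with hn
  have hnpos : 0 < n := minpoly.natDegree_pos hyF
  have hg1 : g ≠ 1 := by
    intro h1
    rw [hn, h1, natDegree_one] at hnpos
    exact lt_irrefl _ hnpos
  -- the coefficients of `g` are polynomials in `x₀`
  have hgcoef : ∀ i, ∃ q : k[X], g.coeff i = aeval x₀ q := by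
    intro i
    rw [hgmap, coeff_map]
    set a := (minpoly (Algebra.adjoin k ({x} : Set K)) y).coeff i with ha
    have haK : (a : K) ∈ (aeval x : k[X] →ₐ[k] K).range := by
      rw [← Algebra.adjoin_singleton_eq_range_aeval]
      exact a.2
    obtain ⟨q, hq⟩ := haK
    refine ⟨q, ?_⟩
    apply (algebraMap k⟮x⟯ K).injective
    rw [← aeval_algebraMap_apply]
    exact hq.symm
  -- global representation
  have hrepr : ∀ z : K, ∃ c : Fin n → k⟮x⟯, z = ∑ i, algebraMap k⟮x⟯ K (c i) * y ^ (i : ℕ) := by
    intro z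
    have hz : z ∈ (k⟮x⟯)⟮y⟯ := by
      have h := IntermediateField.adjoin_adjoin_left k ({x} : Set K) ({y} : Set K)
      have : z ∈ ((k⟮x⟯)⟮y⟯).restrictScalars k := by
        rw [h, Set.singleton_union, hxy]
        trivial
      exact this
    rw [← IntermediateField.mem_toSubalgebra,
      IntermediateField.adjoin_simple_toSubalgebra_of_isAlgebraic hyF.isAlgebraic,
      Algebra.adjoin_singleton_eq_range_aeval] at hz
    obtain ⟨p, hp⟩ := hz
    have hmod : aeval y (p %ₘ g) = z := by
      rw [← hp]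
      exact aeval_modByMonic_eq_self_of_root hgroot
    have hlt : (p %ₘ g).natDegree < n := natDegree_modByMonic_lt p hgmonic hg1
    refine ⟨fun i => (p %ₘ g).coeff i, ?_⟩
    rw [← hmod, aeval_eq_sum_range' hlt, Finset.sum_range]
    refine Finset.sum_congr rfl fun i _ => ?_
    rw [Algebra.smul_def]
  -- local representation
  have hlocal : ∀ P : Place k k⟮x⟯, P.1 x₀ ≤ 1 →
      ∀ z ∈ Subring.closure ((algebraMap k⟮x⟯ K '' (P.O : Set _)) ∪ {y}),
      ∃ c : Fin n → k⟮x⟯, (∀ i, P.1 (c i) ≤ 1) ∧
        z = ∑ i, algebraMap k⟮x⟯ K (c i) * y ^ (i : ℕ) := by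
    intro P hP z hz
    set O : Subring k⟮x⟯ := P.O.toSubring with hO
    have hcoefO : (↑g.coeffs : Set k⟮x⟯) ⊆ O := by
      intro a ha
      rw [Finset.mem_coe, mem_coeffs_iff] at ha
      obtain ⟨i, -, rfl⟩ := ha
      obtain ⟨q, hq⟩ := hgcoef i
      rw [hq]
      exact gval_aeval_le_one P.1 P.2.1 hP q
    set g' := g.toSubring O hcoefO with hg'
    have hg'monic : g'.Monic := (monic_toSubring g O hcoefO).2 hgmonic
    have hg'deg : g'.natDegree = n := natDegree_toSubring g O hcoefO
    set ι : O →+* K := (algebraMap k⟮x⟯ K).comp O.subtype with hι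
    have hg'root : eval₂ ι y g' = 0 := by
      have hmap : g'.map O.subtype = g := map_toSubring g O hcoefO
      rw [hι, ← eval₂_map, hmap]
      exact hgroot
    have hrange : Subring.closure ((algebraMap k⟮x⟯ K '' (P.O : Set _)) ∪ {y}) ≤
        (eval₂RingHom ι y).range := by
      rw [Subring.closure_le]
      rintro w (⟨c, hc, rfl⟩ | hw)
      · refine ⟨C ⟨c, hc⟩, ?_⟩
        rw [coe_eval₂RingHom, eval₂_C]
        rfl
      · rw [Set.mem_singleton_iff] at hw
        refine ⟨X, ?_⟩
        rw [coe_eval₂RingHom, eval₂_X, hw]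
    obtain ⟨p, hp⟩ := hrange hz
    rw [coe_eval₂RingHom] at hp
    have hmod : eval₂ ι y (p %ₘ g') = z := by
      rw [← hp]
      exact eval₂_modByMonic_eq_self_of_root hg'root
    have hg'1 : g' ≠ 1 := by
      intro h1
      rw [h1, natDegree_one] at hg'deg
      omega
    have hlt : (p %ₘ g').natDegree < n := by
      rw [← hg'deg]
      exact natDegree_modByMonic_lt p hg'monic hg'1
    refine ⟨fun i => (((p %ₘ g').coeff i : O) : k⟮x⟯), fun i => ((p %ₘ g').coeff i).2, ?_⟩
    rw [← hmod, eval₂_eq_sum_range' ι hlt, Finset.sum_range]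
    rfl
  have hli : LinearIndependent k⟮x⟯ fun i : Fin n => y ^ (i : ℕ) := linearIndependent_pow y
  ext z
  rw [Set.mem_iInter₂]
  constructor
  · intro hz P hP
    rw [SetLike.mem_coe] at hz ⊢
    induction hz using Algebra.adjoin_induction with
    | mem w hw =>
      rcases hw with rfl | hw
      · exact Subring.subset_closure (Or.inl ⟨x₀, hP, rfl⟩)
      · exact Subring.subset_closure (Or.inr hw)
    | algebraMap c =>
      refine Subring.subset_closure (Or.inl ⟨algebraMap k k⟮x⟯ c, P.2.1 c, ?_⟩)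
      rw [← IsScalarTower.algebraMap_apply]
    | add a b _ _ ha hb => exact add_mem ha hb
    | mul a b _ _ ha hb => exact mul_mem ha hb
  · intro hz
    obtain ⟨c, hc⟩ := hrepr z
    have hcpoly : ∀ i, ∃ q : k[X], c i = aeval x₀ q := by
      intro i
      apply exists_aeval_eq_of_forall_val_le_one hK₀ x₀ hx₀tr (c i) (by rw [htop₀]; trivial)
      intro P hP
      obtain ⟨c', hc'1, hc'⟩ := hlocal P hP z (hz P hP)
      have hsum : ∑ j, (c j - c' j) • y ^ (j : ℕ) = 0 := by
        have : ∑ j, (c j - c' j) • y ^ (j : ℕ) =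
            ∑ j, algebraMap k⟮x⟯ K (c j) * y ^ (j : ℕ) -
              ∑ j, algebraMap k⟮x⟯ K (c' j) * y ^ (j : ℕ) := by
          rw [← Finset.sum_sub_distrib]
          refine Finset.sum_congr rfl fun j _ => ?_
          rw [Algebra.smul_def, map_sub, sub_mul]
        rw [this, ← hc, ← hc', sub_self]
      have := Fintype.linearIndependent_iff.1 hli (fun j => c j - c' j) hsum i
      rw [sub_eq_zero] at this
      rw [this]
      exact hc'1 i
    choose q hq using hcpoly
    rw [SetLike.mem_coe, hc]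
    refine sum_mem fun i _ => mul_mem ?_ (pow_mem (Algebra.subset_adjoin (by simp)) _)
    rw [hq i, ← aeval_algebraMap_apply]
    have hle : Algebra.adjoin k ({x} : Set K) ≤ Algebra.adjoin k ({x, y} : Set K) :=
      Algebra.adjoin_mono (by simp)
    exact hle (aeval_mem_adjoin_singleton k x)

end Groth.Agent.H57.PolyRing
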