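import Groth.Agent.H57.TateLocal
import Groth.Agent.FunFld.LocResFF

/-!
# Local computations with residues read through expansions
-/

set_option autoImplicit false

namespace Groth.Agent.H57.ResW

open WithZero Groth.Agent.H57.Tate

universe u v w
variable {k : Type u} {K : Type v} [Field k] [Field K] [Algebra k K]
variable {F : Type w} [Field F] [Algebra k F]

theorem coeff_neg_one_eq_zero_of_val_le {f : LaurentSeries F} (hf : Valued.v f ≤ (1 : ℤᵐ⁰)) :
    f.coeff (-1) = 0 :=
  coeff_of_val_le_exp (m := 0) (by simpa using hf) (-1) (by norm_num)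

theorem val_single_neg_one_le (β : F) :
    Valued.v (HahnSeries.single (-1 : ℤ) β : LaurentSeries F) ≤ (exp (1 : ℤ) : ℤᵐ⁰) := by
  apply val_le_exp_of_coeff
  intro n hn
  rw [HahnSeries.coeff_single_of_ne (by omega)]

/-- `locRes` is additive in the function. -/
theorem locRes_add (φ : K →ₐ[k] LaurentSeries F) (x y v : K) :
    LocRes.locRes φ (x + y) v = LocRes.locRes φ x v + LocRes.locRes φ y v := by
  unfold LocRes.locRes LocRes.resExp
  rw [map_add, add_mul, map_add, map_add]

/-- `locRes` is homogeneous in the function. -/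
theorem locRes_smul (φ : K →ₐ[k] LaurentSeries F) (c : k) (x v : K) :
    LocRes.locRes φ (c • x) v = c • LocRes.locRes φ x v := by
  unfold LocRes.locRes LocRes.resExp
  rw [Algebra.smul_def, map_mul φ, LocRes.map_algebraMap, mul_assoc, HahnSeries.C_mul_eq_smul,
    map_smul, smul_eq_mul, ← Algebra.smul_def, map_smul]

theorem locRes_zero (φ : K →ₐ[k] LaurentSeries F) (v : K) : LocRes.locRes φ 0 v = 0 := by
  unfold LocRes.locRes LocRes.resExp
  rw [map_zero, zero_mul, map_zero, map_zero]

theorem locRes_mul_eq (φ : K →ₐ[k] LaurentSeries F) (a u v : K) :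
    LocRes.locRes φ (a * u) v =
      Algebra.trace k F ((φ a * (φ u * LocRes.D F (φ v))).coeff (-1)) := by
  unfold LocRes.locRes LocRes.resExp
  rw [map_mul φ, mul_assoc, LocRes.res_apply]

variable (w : Valuation K ℤᵐ⁰) (φ : K →ₐ[k] LaurentSeries F) (hφ : LocRes.IsExpansionAt w φ)
include hφ

/-- Density of the expansions, with precision. -/
theorem exists_val_sub_le (h : LaurentSeries F) (N : ℤ) :
    ∃ a : K, Valued.v (h - φ a) ≤ (exp (-N) : ℤᵐ⁰) := by
  obtain ⟨t, ht⟩ := hφ.2.2
  have hT : Valued.v (φ t) = (exp (-1 : ℤ) : ℤᵐ⁰) := by rw [hφ.1 t, ht]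
  have hT0 : φ t ≠ 0 := by
    intro h0
    rw [h0, map_zero] at hT
    exact exp_ne_zero hT.symm
  obtain ⟨a', ha'⟩ := exists_sub_mem_Apos (k := k) w φ hφ (h * (φ t) ^ (-N))
  rw [mem_Apos_iff] at ha'
  refine ⟨a' * t ^ N, ?_⟩
  have : h - φ (a' * t ^ N) = (h * (φ t) ^ (-N) - φ a') * (φ t) ^ N := by
    rw [map_mul, map_zpow₀, sub_mul, mul_assoc, ← zpow_add₀ hT0, neg_add_cancel, zpow_zero,
      mul_one]
  rw [this, map_mul, map_zpow₀, hT, ← exp_zsmul, smul_eq_mul, mul_neg_one]
  calc Valued.v (h * (φ t) ^ (-N) - φ a') * exp (-N) ≤ 1 * exp (-N) := mul_le_mul_left ha' _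
    _ = exp (-N) := one_mul _

/-- Vanishing of the residue at a place where the differential `a g` is regular. -/
theorem coeff_eq_zero_of_le (g : LaurentSeries F) (n : ℤ) (hg : Valued.v g = (exp (-n) : ℤᵐ⁰))
    (a : K) (ha : w a ≤ exp n) : (φ a * g).coeff (-1) = 0 := by
  apply coeff_neg_one_eq_zero_of_val_le
  rw [map_mul, hφ.1 a, hg]
  calc w a * exp (-n) ≤ exp n * exp (-n) := mul_le_mul_left ha _
    _ = 1 := by rw [← exp_add, add_neg_cancel, exp_zero]

/-- Prescribing the residue of `a g` with a pole of order one more than the order of `g`. -/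
theorem exists_coeff_eq (g : LaurentSeries F) (n : ℤ) (hg : Valued.v g = (exp (-n) : ℤᵐ⁰))
    (β : F) : ∃ a : K, w a ≤ exp (n + 1) ∧ (φ a * g).coeff (-1) = β := by
  have hg0 : g ≠ 0 := by
    intro h0
    rw [h0, map_zero] at hg
    exact exp_ne_zero hg.symm
  set h : LaurentSeries F := HahnSeries.single (-1 : ℤ) β * g⁻¹ with hh
  obtain ⟨a, ha⟩ := exists_val_sub_le w φ hφ h (-n)
  rw [neg_neg] at ha
  refine ⟨a, ?_, ?_⟩
  · rw [← hφ.1 a]
    have hsub : φ a = h - (h - φ a) := by abel
    rw [hsub]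
    refine (Valuation.map_sub _ _ _).trans (max_le ?_ (ha.trans ?_))
    · rw [hh, map_mul, map_inv₀, hg, ← exp_neg, neg_neg, add_comm, exp_add]
      exact mul_le_mul_left (val_single_neg_one_le β) _
    · rw [exp_le_exp]
      omega
  · have h1 : φ a * g = h * g - (h - φ a) * g := by ring
    have h2 : h * g = HahnSeries.single (-1 : ℤ) β := by
      rw [hh, mul_assoc, inv_mul_cancel₀ hg0, mul_one]
    have h3 : ((h - φ a) * g).coeff (-1) = 0 := by
      apply coeff_neg_one_eq_zero_of_val_le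
      rw [map_mul, hg]
      calc Valued.v (h - φ a) * exp (-n) ≤ exp n * exp (-n) := mul_le_mul_left ha _
        _ = 1 := by rw [← exp_add, add_neg_cancel, exp_zero]
    rw [h1, HahnSeries.coeff_sub, h2, h3, sub_zero, HahnSeries.coeff_single_same]

end Groth.Agent.H57.ResW
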