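import Groth.Agent.H57.TateAdele
import Groth.Agent.FunFld.DegUpper

/-!
# Tate residues on the adele space of a function field: the residue theorem
-/

set_option autoImplicit false

namespace Groth.Agent.H57.Tate

open LinearMap Module WithZero FunFld Groth.Agent.FF

universe u v w
variable {k : Type u} {K : Type v} [Field k] [Field K] [Algebra k K]

theorem inE_mulA (hK : IsFunctionField k K) (x : K) : InE (A0 k K) (mulA hK x) := by
  set D := poleDiv k x with hD
  obtain ⟨n, hn, -⟩ := relLen_AD_of_le hK (poleDiv_nonneg x : 0 ≤ D)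
  have hfin : FiniteDimensional k (↥(AD D) ⧸ (AD (0 : Divisor k K)).submoduleOf (AD D)) := by
    unfold relLen at hn
    exact ((length_eq_natCast_iff n).1 hn).1
  obtain ⟨F, hFfin, hFle, hsup⟩ := exists_finiteDimensional_sup hfin
  have hFad : F ≤ adele k K := hFle.trans (AD_le_adele D)
  refine ⟨F.submoduleOf (adele k K), ?_, ?_⟩
  · exact (Submodule.submoduleOfEquivOfLe hFad).symm.finiteDimensional
  · rintro _ ⟨a, ha, rfl⟩
    have hmem : (mulA hK x a : Place k K → K) ∈ AD D := by
      intro P
      rw [mulA_apply, map_mul]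
      calc P.1 x * P.1 ((a : Place k K → K) P) ≤ exp (D P) * 1 :=
            mul_le_mul' (mem_L_poleDiv hK x P) ((mem_A0_iff a).1 ha P)
        _ = exp (D P) := mul_one _
    obtain ⟨b, hb, c, hc, hsum⟩ := Submodule.mem_sup.1 (hsup hmem)
    have : mulA hK x a = ⟨b, AD_le_adele _ hb⟩ + ⟨c, hFad hc⟩ := Subtype.ext hsum.symm
    rw [this]
    exact Submodule.add_mem_sup hb hc

theorem mulA_mem_Kdiag (hK : IsFunctionField k K) (x : K) (a : adele k K) (ha : a ∈ Kdiag k K) :
    mulA hK x a ∈ Kdiag k K := by
  rw [mem_Kdiag_iff] at ha ⊢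
  obtain ⟨y, hy⟩ := ha
  exact ⟨x * y, fun P => by rw [mulA_apply, hy P]⟩

/-- **Global vanishing of the Tate residue on the adeles.** -/
theorem tres_mulA_eq_zero (hK : IsFunctionField k K) {π : End k (adele k K)}
    (hπ : LinearMap.IsProj (A0 k K) π) (u v : K) : tres π (mulA hK u) (mulA hK v) = 0 := by
  have := finiteDimensional_A0_inf_Kdiag hK
  obtain ⟨F₀, hF₀, htop⟩ := exists_finiteDimensional_sup_eq_top hK
  exact tres_eq_zero_of_stable (A0 k K) (Kdiag k K) F₀ htop hπ (inE_mulA hK u) (inE_mulA hK v)
    (mulA_comm hK u v) (fun b hb => mulA_mem_Kdiag hK u b hb) (fun b hb => mulA_mem_Kdiag hK v b hb)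

open Classical in
/-- The adele supported at `P` with value `x`. -/
noncomputable def iotaP (P : Place k K) : K →ₗ[k] adele k K where
  toFun x := ⟨Pi.single P x, by
    rw [mem_adele]
    apply (Set.finite_singleton P).subset
    intro Q hQ
    rw [Set.mem_ofPred_eq] at hQ
    by_contra hne
    rw [Set.mem_singleton_iff] at hne
    apply hQ
    rw [Pi.single_apply, if_neg hne, map_zero]
    exact zero_le_one⟩
  map_add' x y := by
    apply Subtype.ext
    funext Q
    show (Pi.single P (x + y) : Place k K → K) Q =
      (Pi.single P x : Place k K → K) Q + (Pi.single P y : Place k K → K) Q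
    simp only [Pi.single_apply]
    split_ifs <;> simp
  map_smul' c x := by
    apply Subtype.ext
    funext Q
    show (Pi.single P (c • x) : Place k K → K) Q = c • (Pi.single P x : Place k K → K) Q
    simp only [Pi.single_apply]
    split_ifs <;> simp

/-- The component at `P`. -/
def prP (P : Place k K) : adele k K →ₗ[k] K where
  toFun a := (a : Place k K → K) P
  map_add' _ _ := rfl
  map_smul' _ _ := rfl

theorem iotaP_apply_same (P : Place k K) (x : K) : (iotaP P x : Place k K → K) P = x := by
  classical
  show (Pi.single P x : Place k K → K) P = x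
  rw [Pi.single_apply, if_pos rfl]

theorem iotaP_apply_of_ne {P Q : Place k K} (h : Q ≠ P) (x : K) :
    (iotaP P x : Place k K → K) Q = 0 := by
  classical
  show (Pi.single P x : Place k K → K) Q = 0
  rw [Pi.single_apply, if_neg h]

/-- The product of local projections, a projection onto the integral adeles. -/
noncomputable def prodProj (πP : ∀ P : Place k K, End k K)
    (h : ∀ (P : Place k K) (x : K), P.1 (πP P x) ≤ 1) : End k (adele k K) where
  toFun a := ⟨fun Q => πP Q ((a : Place k K → K) Q), AD_le_adele (0 : Divisor k K) (by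
    intro Q
    simpa using h Q _)⟩
  map_add' a b := by
    apply Subtype.ext
    funext Q
    exact map_add (πP Q) _ _
  map_smul' c a := by
    apply Subtype.ext
    funext Q
    exact map_smul (πP Q) c _

theorem isProj_prodProj (πP : ∀ P : Place k K, End k K)
    (hπ : ∀ P : Place k K, LinearMap.IsProj (valSub (k := k) P.1 P.2.1) (πP P)) :
    LinearMap.IsProj (A0 k K)
      (prodProj πP fun (P : Place k K) (x : K) =>
        show P.1 (πP P x) ≤ 1 from (hπ P).map_mem x) := by
  constructor
  · intro a
    rw [mem_A0_iff]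
    intro Q
    exact (hπ Q).map_mem _
  · intro a ha
    rw [mem_A0_iff] at ha
    apply Subtype.ext
    funext Q
    exact (hπ Q).map_id _ (ha Q)

theorem theta_prodProj_apply (hK : IsFunctionField k K) (πP : ∀ P : Place k K, End k K)
    (h : ∀ (P : Place k K) (x : K), P.1 (πP P x) ≤ 1) (u v : K) (a : adele k K) (Q : Place k K) :
    (theta (prodProj πP h) (mulA hK u) (mulA hK v) a : Place k K → K) Q =
      theta (πP Q) (mulK k u) (mulK k v) ((a : Place k K → K) Q) := rfl

end Groth.Agent.H57.Tate
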