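import Groth.Agent.H57.TateAdele2

/-!
# Locality of the Tate residue on the adeles: the sum of the local residues vanishes
-/

set_option autoImplicit false

namespace Groth.Agent.H57.Tate

open LinearMap Module WithZero FunFld Groth.Agent.FF

universe u v w
variable {k : Type u} {K : Type v} [Field k] [Field K] [Algebra k K]

section abstract
variable {V : Type*} [AddCommGroup V] [Module k V] {A : Submodule k V}

theorem theta_theta_eq_zero_of_map_le {π f g : End k V} (hπ : LinearMap.IsProj A π)
    (hfA : ∀ a ∈ A, f a ∈ A) (hgA : ∀ a ∈ A, g a ∈ A)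
    (hfg : f * g = g * f) (x : V) : theta π f g (theta π f g x) = 0 := by
  have hA0 : ∀ a ∈ A, theta π f g a = 0 := by
    intro a ha
    unfold theta
    rw [LinearMap.sub_apply, Module.End.mul_apply, Module.End.mul_apply, Module.End.mul_apply,
      Module.End.mul_apply, hπ.map_id _ (hfA _ (hgA a ha)), hπ.map_id _ (hfA a ha),
      ← Module.End.mul_apply f g, hfg, Module.End.mul_apply, sub_self]
  have hrange : ∀ v, theta π f g v ∈ A := by
    intro v
    unfold theta
    rw [LinearMap.sub_apply, Module.End.mul_apply, Module.End.mul_apply, Module.End.mul_apply,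
      Module.End.mul_apply]
    exact A.sub_mem (hπ.map_mem _) (hgA _ (hπ.map_mem _))
  exact hA0 _ (hrange x)

end abstract

theorem mulK_comm (x y : K) : mulK k x * mulK k y = mulK k y * mulK k x := by
  ext z
  simp only [Module.End.mul_apply, mulK_apply]
  ring

theorem mulK_mem_valSub (P : Place k K) {x : K} (hx : P.1 x ≤ 1) (a : K)
    (ha : a ∈ valSub (k := k) P.1 P.2.1) : mulK k x a ∈ valSub (k := k) P.1 P.2.1 := by
  change P.1 (x * a) ≤ 1
  rw [map_mul]
  exact mul_le_one' hx ha

/-- The idempotent of the adeles cutting out the component at `P`. -/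
noncomputable def eP (P : Place k K) : End k (adele k K) := iotaP P ∘ₗ prP P

open Classical in
theorem eP_apply (P : Place k K) (a : adele k K) (Q : Place k K) :
    (eP P a : Place k K → K) Q = if Q = P then (a : Place k K → K) P else 0 := by
  unfold eP
  rw [LinearMap.comp_apply]
  split_ifs with h
  · subst h
    exact iotaP_apply_same Q _
  · exact iotaP_apply_of_ne h _

theorem inE_eP (P : Place k K) : InE (A0 k K) (eP P) := by
  classical
  apply AlmostLE.of_le
  rintro _ ⟨a, ha, rfl⟩
  rw [SetLike.mem_coe, mem_A0_iff] at ha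
  rw [mem_A0_iff]
  intro Q
  rw [eP_apply]
  split_ifs with hQ
  · subst hQ
    exact ha Q
  · rw [map_zero]; exact zero_le_one

theorem prP_comp_iotaP (P : Place k K) : prP P ∘ₗ iotaP P = LinearMap.id := by
  ext x
  exact iotaP_apply_same P x

/-- **Sum of local Tate residues.** -/
theorem sum_fpTrace_eq_zero (hK : IsFunctionField k K) (πP : ∀ P : Place k K, End k K)
    (hπ : ∀ P : Place k K, LinearMap.IsProj (valSub (k := k) P.1 P.2.1) (πP P))
    (u v : K) (S : Finset (Place k K)) (hS : ∀ Q : Place k K, Q ∉ S → Q.1 u ≤ 1 ∧ Q.1 v ≤ 1) :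
    ∑ P ∈ S, fpTrace (theta (πP P) (mulK k u) (mulK k v)) = 0 := by
  classical
  set h : ∀ (P : Place k K) (x : K), P.1 (πP P x) ≤ 1 :=
    fun (P : Place k K) (x : K) => show P.1 (πP P x) ≤ 1 from (hπ P).map_mem x with hh
  set π : End k (adele k K) := prodProj πP h with hπdef
  have hπA : LinearMap.IsProj (A0 k K) π := isProj_prodProj πP hπ
  set θ : End k (adele k K) := theta π (mulA hK u) (mulA hK v) with hθ
  have hθ0 : fpTrace θ = 0 := tres_mulA_eq_zero hK hπA u v
  have hθE0 : InE0 (A0 k K) θ :=
    inE0_theta hπA (inE_mulA hK u) (inE_mulA hK v) (mulA_comm hK u v)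
  set θl : ∀ P : Place k K, End k K := fun P => theta (πP P) (mulK k u) (mulK k v) with hθl
  have hθapp : ∀ (a : adele k K) (Q : Place k K),
      (θ a : Place k K → K) Q = θl Q ((a : Place k K → K) Q) := fun a Q => rfl
  set T : Place k K → End k (adele k K) := fun P => eP P * θ with hT
  have hTE0 : ∀ P, InE0 (A0 k K) (T P) := fun P => hθE0.mul_left (inE_eP P)
  have hTapp : ∀ (P : Place k K) (a : adele k K) (Q : Place k K),
      (T P a : Place k K → K) Q = if Q = P then θl P ((a : Place k K → K) P) else 0 := by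
    intro P a Q
    rw [hT]
    change (eP P (θ a) : Place k K → K) Q = _
    rw [eP_apply, hθapp]
  -- the local traces
  have hTtr : ∀ P, fpTrace (T P) = fpTrace (θl P) := by
    intro P
    have h1 : T P = iotaP P ∘ₗ (θl P ∘ₗ prP P) := by
      apply LinearMap.ext
      intro a
      apply Subtype.ext
      funext Q
      rw [hTapp]
      rw [LinearMap.comp_apply, LinearMap.comp_apply]
      split_ifs with hQ
      · subst hQ
        rw [iotaP_apply_same]
        rfl
      · rw [iotaP_apply_of_ne hQ]
    have h2 : (θl P ∘ₗ prP P) ∘ₗ iotaP P = θl P := by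
      rw [LinearMap.comp_assoc, prP_comp_iotaP, LinearMap.comp_id]
    have hfp : IsFP (iotaP P ∘ₗ (θl P ∘ₗ prP P) : End k (adele k K)) := by
      rw [← h1]
      exact (hTE0 P).isFP
    have := fpTrace_comp_comm (iotaP P) (θl P ∘ₗ prP P) hfp
    rw [h2, ← h1] at this
    exact this
  -- the remainder
  set θS : End k (adele k K) := θ - ∑ P ∈ S, T P with hθS
  have hsumE0 : InE0 (A0 k K) (∑ P ∈ S, T P) := InE0.sum S T (fun P _ => hTE0 P)
  have hθSE0 : InE0 (A0 k K) θS := hθE0.sub hsumE0
  have hsumapp : ∀ (a : adele k K) (Q : Place k K),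
      ((∑ P ∈ S, T P) a : Place k K → K) Q =
        if Q ∈ S then θl Q ((a : Place k K → K) Q) else 0 := by
    intro a Q
    rw [LinearMap.sum_apply]
    have : ((∑ P ∈ S, T P a : adele k K) : Place k K → K) Q =
        ∑ P ∈ S, (T P a : Place k K → K) Q := by
      rw [Submodule.coe_sum, Finset.sum_apply]
    rw [this]
    simp only [hTapp]
    rw [Finset.sum_ite_eq]
  have hθSapp : ∀ (a : adele k K) (Q : Place k K),
      (θS a : Place k K → K) Q = if Q ∈ S then 0 else θl Q ((a : Place k K → K) Q) := by
    intro a Q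
    rw [hθS, LinearMap.sub_apply]
    change (θ a : Place k K → K) Q - ((∑ P ∈ S, T P) a : Place k K → K) Q = _
    rw [hθapp, hsumapp]
    split_ifs
    · rw [sub_self]
    · rw [sub_zero]
  have hθSsq : θS ^ 2 = 0 := by
    apply LinearMap.ext
    intro a
    apply Subtype.ext
    funext Q
    rw [pow_two, Module.End.mul_apply, hθSapp, LinearMap.zero_apply]
    split_ifs with hQ
    · rfl
    · rw [hθSapp, if_neg hQ]
      exact theta_theta_eq_zero_of_map_le (hπ Q)
        (fun a ha => mulK_mem_valSub Q (hS Q hQ).1 a ha)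
        (fun a ha => mulK_mem_valSub Q (hS Q hQ).2 a ha) (mulK_comm u v) _
  have hθStr : fpTrace θS = 0 := fpTrace_eq_zero_of_pow_eq_zero θS 2 hθSsq
  have hdecomp : θ = θS + ∑ P ∈ S, T P := by rw [hθS]; abel
  have := fpTrace_add_of_inE0 hθSE0 hsumE0
  rw [← hdecomp, hθ0, hθStr, zero_add, fpTrace_sum_of_inE0 S T (fun P _ => hTE0 P)] at this
  rw [this]
  exact Finset.sum_congr rfl (fun P _ => (hTtr P).symm)

end Groth.Agent.H57.Tate
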