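import Groth.Agent.H57.ResLocal
import Groth.Agent.H57.TateAdele2
import Groth.Agent.S12579
import Groth.Agent.FunFld.Weil

/-!
# The residue functional of a differential is a Weil differential with the expected divisor
-/

set_option autoImplicit false

namespace Groth.Agent.H57.ResW

open WithZero FunFld Groth.Agent.FF Groth.Agent.H57.Tate

universe u v w
variable {k : Type u} {K : Type v} [Field k] [Field K] [Algebra k K]
variable (hK : IsFunctionField k K)
variable (F : Place k K → Type w) [∀ P, Field (F P)] [∀ P, Algebra k (F P)]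
variable (φ : ∀ P, K →ₐ[k] LaurentSeries (F P)) (hφ : ∀ P, LocRes.IsExpansionAt P.1 (φ P))
variable (u v : K)

include hK hφ in
/-- Finiteness of the set of places with nonzero residue. -/
theorem finite_support_locRes (a : adele k K) :
    (Function.support fun P => LocRes.locRes (φ P) ((a : Place k K → K) P * u) v).Finite := by
  have hmem : u • (a : Place k K → K) ∈ adele k K := adele_smul_mem hK u _ a.2
  have h := (resExp_vanishing hK F φ hφ).2 (u • (a : Place k K → K)) hmem v
  apply h.subset
  intro P hP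
  rw [Function.mem_support] at hP
  rw [Set.mem_ofPred_eq]
  intro h0
  apply hP
  unfold LocRes.locRes
  rw [mul_comm]
  change Algebra.trace k (F P) (LocRes.resExp (φ P) ((u • (a : Place k K → K)) P) v) = 0
  rw [h0, map_zero]

/-- The residue functional `a ↦ ∑_P Res_P (a_P u dv)`. -/
noncomputable def resW : Module.Dual k (adele k K) where
  toFun a := ∑ᶠ P, LocRes.locRes (φ P) ((a : Place k K → K) P * u) v
  map_add' a b := by
    rw [← finsum_add_distrib (finite_support_locRes hK F φ hφ u v a)
      (finite_support_locRes hK F φ hφ u v b)]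
    apply finsum_congr
    intro P
    change LocRes.locRes (φ P) (((a : Place k K → K) P + (b : Place k K → K) P) * u) v = _
    rw [add_mul, locRes_add]
  map_smul' c a := by
    rw [RingHom.id_apply, smul_finsum' c (finite_support_locRes hK F φ hφ u v a)]
    apply finsum_congr
    intro P
    change LocRes.locRes (φ P) ((c • (a : Place k K → K) P) * u) v = _
    rw [smul_mul_assoc, locRes_smul]

theorem resW_apply (a : adele k K) :
    resW hK F φ hφ u v a = ∑ᶠ P, LocRes.locRes (φ P) ((a : Place k K → K) P * u) v := rfl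

/-- The value of the residue functional on an adele supported at one place. -/
theorem resW_iotaP (P : Place k K) (x : K) :
    resW hK F φ hφ u v (iotaP P x) = LocRes.locRes (φ P) (x * u) v := by
  rw [resW_apply, finsum_eq_single _ P, iotaP_apply_same]
  intro Q hQ
  rw [iotaP_apply_of_ne hQ, zero_mul, locRes_zero]

variable [∀ P, FiniteDimensional k (F P)]

/-- The residue functional kills the principal adeles. -/
theorem resW_diag (a : adele k K) (x : K) (hx : ∀ P, (a : Place k K → K) P = x) :
    resW hK F φ hφ u v a = 0 := by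
  rw [resW_apply]
  simp only [hx]
  exact (Groth.Agent.S12579.result k K hK F φ hφ (x * u) v).2

variable (hu : u ≠ 0) (hD : ∀ P, LocRes.D (F P) (φ P v) ≠ 0)

include hu hD hφ in
theorem vDiff_eq_exp (P : Place k K) :
    Valued.v (φ P u * LocRes.D (F P) (φ P v)) = (exp (-(LocRes.ordDiff (φ P) u v)) : ℤᵐ⁰) := by
  unfold LocRes.ordDiff LocRes.vDiff
  rw [neg_neg, exp_log]
  rw [Valuation.ne_zero_iff]
  exact mul_ne_zero ((map_ne_zero_iff _ (φ P).toRingHom.injective).2 hu) (hD P)

include hu hD in
/-- The residue functional vanishes on `A(E) + K` when `E` is bounded by the orders of `u dv`. -/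
theorem resW_mem_WD (E : Divisor k K) (hE : ∀ P, E P ≤ LocRes.ordDiff (φ P) u v) :
    resW hK F φ hφ u v ∈ WD E := by
  rw [mem_WD_iff]
  intro a ha
  obtain ⟨b, hb, c, hc, hsum⟩ := Submodule.mem_sup.1 ha
  obtain ⟨x, rfl⟩ := hc
  have hbad : b ∈ adele k K := AD_le_adele E hb
  have hcad : diag k K x ∈ adele k K := Kd_le_adele hK ⟨x, rfl⟩
  have : a = ⟨b, hbad⟩ + ⟨diag k K x, hcad⟩ := Subtype.ext hsum.symm
  rw [this, map_add, resW_diag hK F φ hφ u v ⟨diag k K x, hcad⟩ x (fun P => rfl), add_zero,
    resW_apply]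
  apply finsum_eq_zero_of_forall_eq_zero
  intro P
  change LocRes.locRes (φ P) (b P * u) v = 0
  rw [locRes_mul_eq, coeff_eq_zero_of_le P.1 (φ P) (hφ P) _ _ (vDiff_eq_exp F φ hφ u v hu hD P)
    (b P) ((hb P).trans (exp_le_exp.2 (hE P))), map_zero]

variable (hT : ∀ P, ∃ β : F P, Algebra.trace k (F P) β ≠ 0)

include hu hD hT in
/-- Characterisation of the divisors `E` with `ω ∈ W(E)`. -/
theorem resW_mem_WD_iff (E : Divisor k K) :
    resW hK F φ hφ u v ∈ WD E ↔ ∀ P, E P ≤ LocRes.ordDiff (φ P) u v := by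
  refine ⟨fun h P => ?_, resW_mem_WD hK F φ hφ u v hu hD E⟩
  by_contra hlt
  rw [not_le] at hlt
  obtain ⟨β, hβ⟩ := hT P
  obtain ⟨a₀, ha₀, hcoeff⟩ := exists_coeff_eq P.1 (φ P) (hφ P) _ _
    (vDiff_eq_exp F φ hφ u v hu hD P) β
  rw [mem_WD_iff] at h
  have hmem : ((iotaP P a₀ : adele k K) : Place k K → K) ∈ AD E ⊔ Kd k K := by
    apply Submodule.mem_sup_left
    intro Q
    by_cases hQ : Q = P
    · subst hQ
      rw [iotaP_apply_same]
      exact ha₀.trans (exp_le_exp.2 (by omega))
    · rw [iotaP_apply_of_ne hQ, map_zero]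
      exact zero_le'
  have h0 := h _ hmem
  rw [resW_iotaP, locRes_mul_eq, hcoeff] at h0
  exact hβ h0

include hu hD hT in
theorem resW_ne_zero : resW hK F φ hφ u v ≠ 0 := by
  intro h0
  obtain ⟨P⟩ := exists_place hK
  have h1 : resW hK F φ hφ u v ∈
      WD (Finsupp.single P (LocRes.ordDiff (φ P) u v + 1) : Divisor k K) := by
    rw [h0]
    exact Submodule.zero_mem _
  have h2 := (resW_mem_WD_iff hK F φ hφ u v hu hD hT _).1 h1 P
  rw [Finsupp.single_eq_same] at h2
  omega

include hu hD in
theorem isWeil_resW : IsWeil (resW hK F φ hφ u v) := by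
  classical
  have hfin : {P : Place k K | ¬ (P.1 u ≤ 1 ∧ P.1 v ≤ 1)}.Finite := by
    apply ((finite_not_val_le_one hK u).union (finite_not_val_le_one hK v)).subset
    intro P hP
    rw [Set.mem_ofPred_eq, not_and_or] at hP
    exact hP
  let E : Divisor k K := Finsupp.onFinset hfin.toFinset
    (fun P => if P ∈ hfin.toFinset then LocRes.ordDiff (φ P) u v else 0)
    (fun P hP => by
      by_contra hne
      exact hP (if_neg hne))
  refine ⟨E, resW_mem_WD hK F φ hφ u v hu hD E (fun P => ?_)⟩
  change (if P ∈ hfin.toFinset then LocRes.ordDiff (φ P) u v else 0) ≤ _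
  split_ifs with hP
  · exact le_refl _
  · rw [Set.Finite.mem_toFinset, Set.mem_ofPred_eq, not_not] at hP
    -- the differential is regular at `P`
    have h1 : Valued.v (φ P u) ≤ (1 : ℤᵐ⁰) := by rw [(hφ P).1 u]; exact hP.1
    have h2 : Valued.v (φ P v) ≤ (1 : ℤᵐ⁰) := by rw [(hφ P).1 v]; exact hP.2
    obtain ⟨U, hU⟩ := (LaurentSeries.val_le_one_iff_eq_coe (F P) (φ P u)).mp h1
    obtain ⟨V, hV⟩ := (LaurentSeries.val_le_one_iff_eq_coe (F P) (φ P v)).mp h2
    have h3 : Valued.v (φ P u * LocRes.D (F P) (φ P v)) ≤ (1 : ℤᵐ⁰) := by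
      rw [← hU, ← hV, LocRes.D_coe, ← PowerSeries.coe_mul]
      exact (LaurentSeries.val_le_one_iff_eq_coe (F P) _).mpr ⟨_, rfl⟩
    rw [vDiff_eq_exp F φ hφ u v hu hD P, ← exp_zero, exp_le_exp] at h3
    omega

include hu hD hT in
/-- **The divisor of the residue functional.** -/
theorem resW_divisor :
    (Function.support fun P => LocRes.ordDiff (φ P) u v).Finite ∧
      ∀ C : Divisor k K, (∀ P, C P = LocRes.ordDiff (φ P) u v) →
        IsDivOf (resW hK F φ hφ u v) C := by
  classical
  obtain ⟨C', hC'⟩ := exists_isDivOf hK _ (isWeil_resW hK F φ hφ u v hu hD)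
    (resW_ne_zero hK F φ hφ u v hu hD hT)
  have hiff := resW_mem_WD_iff hK F φ hφ u v hu hD hT
  have hle : ∀ P, C' P ≤ LocRes.ordDiff (φ P) u v := (hiff C').1 ((hC' C').2 le_rfl)
  have hge : ∀ P, LocRes.ordDiff (φ P) u v ≤ C' P := by
    intro P
    set E : Divisor k K := C' + Finsupp.single P (LocRes.ordDiff (φ P) u v - C' P) with hE
    have hEle : ∀ Q, E Q ≤ LocRes.ordDiff (φ Q) u v := by
      intro Q
      rw [hE, Finsupp.add_apply]
      by_cases hQ : Q = P
      · subst hQ
        rw [Finsupp.single_eq_same]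
        omega
      · rw [Finsupp.single_eq_of_ne hQ, add_zero]
        exact hle Q
    have h1 : E ≤ C' := (hC' E).1 ((hiff E).2 hEle)
    have h2 := h1 P
    rw [hE, Finsupp.add_apply, Finsupp.single_eq_same] at h2
    omega
  have heq : ∀ P, C' P = LocRes.ordDiff (φ P) u v := fun P => le_antisymm (hle P) (hge P)
  refine ⟨?_, fun C hC => ?_⟩
  · apply (C'.support.finite_toSet).subset
    intro P hP
    rw [Function.mem_support, ← heq P] at hP
    exact Finsupp.mem_support_iff.2 hP
  · have : C = C' := Finsupp.ext (fun P => by rw [hC P, heq P])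
    rw [this]
    exact hC'

end Groth.Agent.H57.ResW
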