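import Mathlib
import Groth.Prelude.Def_DCoh3
import Groth.Agent.H57.FinFacAdj
import Groth.Agent.H57.QCohLpull
import Groth.Agent.Lib.Helper30.ShriekD
import Groth.Agent.Lib.Helper32.RGammaPush
import Groth.Agent.Lib.Helper32.RGammaColoc
import Groth.Agent.Lib.Helper32.PushAcyclic
import Groth.Agent.Lib.Helper32.AffineDetect
import Groth.Agent.Lib.Helper5.LpullRpushAdj
import Groth.Agent.Lib.Helper28.LpullCompute
import Groth.Agent.Lib.Helper28.LocFreeLocus
import Groth.Agent.Lib.Helper11.CounitEpi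

/-!
# Ingredients for `Rf_*` commuting with direct sums (helper57)

* `unitN X n`: the structure sheaf placed in degree `n`, as an object of `D(O_X)`.
* `lpullUnitIso g n : Lg^* (O_Y[-n]) ≅ O_X[-n]`.
* `finFac_unitN_of_isQCohD`, `finFac_unitN_of_isGE`: `O_X[-n]` is compact relative to `D_QCoh` and to
  uniformly bounded below families.
* `isZero_of_hom_unitN_eq_zero`: detection of zero objects of `D_QCoh` on an affine scheme.
* `isZero_of_forall_restrictD`: an object of `D(O_X)` which is locally zero is zero.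
-/

set_option autoImplicit false
universe u
open CategoryTheory CategoryTheory.Limits AlgebraicGeometry TopologicalSpace Opposite
attribute [local instance] HasDerivedCategory.standard

namespace Groth.Agent.H57.RpushCoprodA

open Groth.Agent.H57.CoprodFin Groth.Agent.H57.CoprodFinQ Groth.Agent.H57.FinFacAdj
  DerivedCategory Pretriangulated Groth.Agent.Lib.Helper28.LpullCompute

/-- the structure sheaf in degree `n` -/
noncomputable abbrev unitN (X : Scheme.{u}) (n : ℤ) : DCoh.D X :=
  (DerivedCategory.singleFunctor X.Modules n).obj (Coh.structureModule X)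

/-- `O_X[0][k] ≅ O_X` in degree `-k` -/
noncomputable def unitShiftIso (X : Scheme.{u}) (k n : ℤ) (h : k + n = 0) :
    (DCoh.inD X (Coh.structureModule X))⟦k⟧ ≅ unitN X n :=
  ((DerivedCategory.singleFunctors X.Modules).shiftIso k n 0 h).app (Coh.structureModule X)

/-- **`Lg^* (O_Y[-n]) ≅ O_X[-n]`.** -/
noncomputable def lpullUnitIso {X Y : Scheme.{u}} (g : X ⟶ Y) [DCoh.HasLpull g] (n : ℤ) :
    (DCoh.Lpull g).obj (unitN Y n) ≅ unitN X n :=
  lpullIso g _ (Groth.Agent.Lib.Helper32.PushAcyclic.pf_single Y n) ≪≫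
    DerivedCategory.Q.mapIso
      ((HomologicalComplex.singleMapHomologicalComplex (Scheme.Modules.pullback g)
        (ComplexShape.up ℤ) n).app (Coh.structureModule Y) ≪≫
        (HomologicalComplex.single X.Modules (ComplexShape.up ℤ) n).mapIso
          (Groth.Agent.Lib.Helper11.CounitEpi.pullbackUnitIso g))

/-- **`O_X[-n]` is compact relative to `D_QCoh(O_X)`** (`X` quasi-compact quasi-separated). -/
theorem finFac_unitN_of_isQCohD (X : Scheme.{u}) [CompactSpace X] [QuasiSeparatedSpace X]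
    {I : Type u} (K : I → DCoh.D X) (hK : ∀ i, DCoh.IsQCohD (K i))
    (c : Cofan K) (hc : IsColimit c) (n : ℤ) : FinFac (unitN X n) c :=
  FinFac.of_iso_left (unitShiftIso X (-n) n (by omega)) (finFac_shift_of_isQCohD X K hK c hc (-n))

/-- **`O_X[-n]` is compact relative to uniformly bounded below families.** -/
theorem finFac_unitN_of_isGE (X : Scheme.{u}) [CompactSpace X] [QuasiSeparatedSpace X]
    {I : Type u} (M : I → DCoh.D X) (a : ℤ) (hM : ∀ i, (M i).IsGE a)
    (c : Cofan M) (hc : IsColimit c) (n : ℤ) : FinFac (unitN X n) c :=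
  FinFac.of_iso_left (unitShiftIso X (-n) n (by omega)) (finFac_shift_of_isGE X M a hM c hc (-n))

/-- an object of `D(O_Y)` which is locally zero is zero. -/
theorem isZero_of_forall_restrictD {Y : Scheme.{u}} (C : DCoh.D Y)
    (h : ∀ y : Y, ∃ V : Y.Opens, y ∈ V ∧ IsZero ((DCoh.restrictD V.ι).obj C)) : IsZero C := by
  apply Groth.Agent.Lib.Helper32.OpenSupp.isZero_of_homology
  intro m
  apply Groth.Agent.Lib.Helper28.LocFreeLocus.isZero_of_forall_restrict
  intro y
  obtain ⟨V, hy, hV⟩ := h y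
  refine ⟨V, hy, ?_⟩
  exact IsZero.of_iso (Functor.map_isZero (DerivedCategory.homologyFunctor _ m) hV)
    (Groth.Agent.Lib.Helper28.LocFreeLocus.hdRestrictIso V C m).symm

/-- **Detection of zero objects** of `D_QCoh(O_Y)` on an affine scheme `Y` by the maps from the
shifted structure sheaves. -/
theorem isZero_of_hom_unitN_eq_zero {Y : Scheme.{u}} [IsAffine Y] (C : DCoh.D Y)
    (hC : DCoh.IsQCohD C) (h : ∀ (n : ℤ) (φ : unitN Y n ⟶ C), φ = 0) : IsZero C := by
  apply Groth.Agent.Lib.Helper32.OpenSupp.isZero_of_homology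
  intro m
  -- all maps `O_Y[0] ⟶ C[m]` vanish
  have hB : ∀ φ : DCoh.inD Y (Coh.structureModule Y) ⟶ C⟦m⟧, φ = 0 := by
    intro φ
    let e : (C⟦m⟧)⟦-m⟧ ≅ C := (shiftFunctorCompIsoId (DCoh.D Y) m (-m) (add_neg_cancel m)).app C
    have h1 : φ⟦-m⟧' = 0 := by
      have h2 := h m ((unitShiftIso Y (-m) m (by omega)).inv ≫ φ⟦-m⟧' ≫ e.hom)
      have h4 : φ⟦-m⟧' ≫ e.hom = 0 := by
        rw [← cancel_epi (unitShiftIso Y (-m) m (by omega)).inv, h2, comp_zero]
      rw [← cancel_mono e.hom, h4, zero_comp]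
    exact (shiftFunctor (DCoh.D Y) (-m)).map_injective (by rw [h1, Functor.map_zero])
  have hCb := Groth.Agent.Lib.Helper30.DQC.h0Bij_unit_shift C hC m
  have hD : ∀ ψ : Coh.structureModule Y ⟶
      (DerivedCategory.homologyFunctor Y.Modules 0).obj (C⟦m⟧), ψ = 0 := by
    intro ψ
    obtain ⟨φ, rfl⟩ := hCb.2 ψ
    rw [hB φ, Groth.Agent.Lib.Helper83.SingleHom.h0_zero]
  let eH : (DerivedCategory.homologyFunctor Y.Modules 0).obj (C⟦m⟧) ≅
      (DerivedCategory.homologyFunctor Y.Modules m).obj C :=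
    ((DerivedCategory.homologyFunctor Y.Modules 0).shiftIso m 0 m (by simp)).app C
  haveI : ((DerivedCategory.homologyFunctor Y.Modules m).obj C).IsQuasicoherent := hC m
  apply Groth.Agent.Lib.Helper32.AffineDetect.isZero_of_hom_unit_eq_zero
  intro ψ
  have h6 := hD (ψ ≫ eH.inv)
  rw [← cancel_mono eH.inv, h6, zero_comp]

end Groth.Agent.H57.RpushCoprodA
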