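import Mathlib
import Groth.Prelude.Def_DCoh3
import Groth.Agent.H57.RpushAffineC
import Groth.Agent.H57.QcqsInduction
import Groth.Agent.S6508

/-!
# `Rf_*` preserves `D_QCoh` for quasi-compact quasi-separated `f` (helper57)
-/

set_option autoImplicit false
universe u
open CategoryTheory CategoryTheory.Limits AlgebraicGeometry
attribute [local instance] HasDerivedCategory.standard

namespace Groth.Agent.H57.RpushQcqs

open Groth.Agent.H57.QCohSerre Groth.Agent.H57.RpushMV Groth.Agent.H57.RpushAffineC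
  Groth.Agent.H57.QcqsInduction Groth.Agent.Lib.Helper49 Groth.Agent.Lib.Helper6
  Groth.Agent.Lib.Helper30.PerfRestrict

/-- the case of an affine base. -/
theorem good_of_affine_base {X S : Scheme.{u}} [IsAffine S] (f : X ⟶ S) [QuasiCompact f]
    [QuasiSeparated f] : Good f := by
  haveI : CompactSpace X := QuasiCompact.compactSpace_of_compactSpace f
  haveI : QuasiSeparatedSpace X := quasiSeparatedSpace_of_quasiSeparated f
  exact qcqs_induction (fun Y => ∀ g : Y ⟶ S, Good g)
    (fun Y hY g => by haveI := hY; exact good_of_isAffineHom g)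
    (fun Y U V hUV hU hV hW g => good_of_mv g U V hUV (hU _) (hV _) (hW _)) X f

/-- **`Rf_*` preserves `D_QCoh` for quasi-compact quasi-separated `f`.** -/
theorem good_of_qcqs {X S : Scheme.{u}} (f : X ⟶ S) [QuasiCompact f] [QuasiSeparated f] :
    Good f := by
  intro K hK i
  refine isQuasicoherent_of_forall_restrict _ (fun V : S.affineOpens => (V.1 : Scheme.{u}))
    (fun V => V.1.ι) (fun x => ?_) (fun V => ?_)
  · obtain ⟨_, ⟨V, hV, rfl⟩, hxV, -⟩ :=
      S.isBasis_affineOpens.exists_subset_of_mem_open (Set.mem_univ x) isOpen_univ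
    exact ⟨⟨V, hV⟩, ⟨⟨x, hxV⟩, rfl⟩⟩
  · obtain ⟨e⟩ := Groth.Agent.S6508.result f V.1
    haveI : IsAffine (V.1 : Scheme.{u}) := V.2
    haveI : QuasiCompact (f ∣_ V.1) := IsZariskiLocalAtTarget.restrict ‹_› V.1
    haveI : QuasiSeparated (f ∣_ V.1) := IsZariskiLocalAtTarget.restrict ‹_› V.1
    have h1 := good_of_affine_base (f ∣_ V.1) _
      (Groth.Agent.H57.QCohLpull.isQCohD_restrictD (f ⁻¹ᵁ V.1).ι K hK) i
    have e2 : DCoh.HD ((DCoh.restrictD V.1.ι).obj ((DCoh.Rpush f).obj K)) i ≅
        DCoh.HD ((DCoh.Rpush (f ∣_ V.1)).obj ((DCoh.restrictD (f ⁻¹ᵁ V.1).ι).obj K)) i :=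
      (DerivedCategory.homologyFunctor _ i).mapIso (e.app K)
    exact isQuasicoherent_of_iso
      (e2.symm ≪≫ (ExactDC.homologyIso (Scheme.Modules.restrictFunctor V.1.ι) i).app _) h1

end Groth.Agent.H57.RpushQcqs
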