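import Mathlib
import Groth.Prelude.Def_DCoh3
import Groth.Agent.H57.RpushCoprodA
import Groth.Agent.Lib.Helper32.QCohTri
import Groth.Agent.S0998

/-!
# `Rf_*` commutes with direct sums on `D_QCoh` (helper57)

`f : X ⟶ S` quasi-compact and quasi-separated, `K i ∈ D_QCoh(O_X)`: the canonical map
`∐ Rf_* K i ⟶ Rf_* (∐ K i)` is an isomorphism.
-/

set_option autoImplicit false
universe u
open CategoryTheory CategoryTheory.Limits AlgebraicGeometry TopologicalSpace Opposite
attribute [local instance] HasDerivedCategory.standard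

namespace Groth.Agent.H57.RpushCoprod

open Groth.Agent.H57.CoprodFin Groth.Agent.H57.CoprodFinQ Groth.Agent.H57.FinFacAdj
  Groth.Agent.H57.RpushCoprodA DerivedCategory Pretriangulated
  Groth.Agent.Lib.Helper30.ShriekD Groth.Agent.Lib.Helper30.PerfRestrict
  Groth.Agent.Lib.Helper32.OpenKInj Groth.Agent.Lib.Helper32.KInjDerived

/-- `Rf_*` is additive (it is a right adjoint). -/
lemma additive_Rpush {X Y : Scheme.{u}} (f : X ⟶ Y) [DCoh.HasRpush f] :
    (DCoh.Rpush f).Additive := by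
  have : DCoh.HasLpull f := Groth.Agent.Lib.Helper28.LpullCompute.hasLpull f
  have : (DCoh.Rpush f).IsRightAdjoint :=
    (Groth.Agent.Lib.Helper5.LpullRpushAdj.adj f).isRightAdjoint
  have : PreservesLimitsOfShape (Discrete WalkingPair) (DCoh.Rpush f) :=
    ((Groth.Agent.Lib.Helper5.LpullRpushAdj.adj f).rightAdjoint_preservesLimits).preservesLimitsOfShape
  have : PreservesBinaryBiproducts (DCoh.Rpush f) :=
    preservesBinaryBiproducts_of_preservesBinaryProducts _
  exact Functor.additive_of_preservesBinaryBiproducts _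

/-- `Lf^*` is additive (it is a left adjoint of an additive functor). -/
lemma additive_Lpull {X Y : Scheme.{u}} (f : X ⟶ Y) [DCoh.HasRpush f] [DCoh.HasLpull f] :
    (DCoh.Lpull f).Additive := by
  haveI := additive_Rpush f
  exact (Groth.Agent.Lib.Helper5.LpullRpushAdj.adj f).left_adjoint_additive

lemma hasRpush {X Y : Scheme.{u}} (f : X ⟶ Y) : DCoh.HasRpush f :=
  Groth.Agent.Lib.Helper32.OpenSupp.hasRightDerivedFunctor (hasKInjRes X) _

/-- restriction to an open preserves coproducts -/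
lemma preservesColimit_restrictD {S : Scheme.{u}} (V : S.Opens) {ι : Type*} (M : ι → DCoh.D S) :
    PreservesColimit (Discrete.functor M) (DCoh.restrictD V.ι) := by
  haveI := hasRpush V.ι
  have := (Groth.Agent.Lib.Helper32.RGammaColoc.adjR V.ι).leftAdjoint_preservesColimits
  infer_instance

/-- the test objects `j_! O_V[-n]`, `V ⊆ S` affine open -/
def Test (S : Scheme.{u}) (G : DCoh.D S) : Prop :=
  ∃ (V : S.Opens) (_ : IsAffineOpen V) (n : ℤ), G = (shD V).obj (unitN (V : Scheme.{u}) n)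

/-- the test objects detect zero objects of `D_QCoh(O_S)` -/
theorem isZero_of_test {S : Scheme.{u}} (C : DCoh.D S) (hC : DCoh.IsQCohD C)
    (h : ∀ G, Test S G → ∀ φ : G ⟶ C, φ = 0) : IsZero C := by
  apply isZero_of_forall_restrictD
  intro y
  obtain ⟨V, hV, hy⟩ : ∃ V : S.Opens, IsAffineOpen V ∧ y ∈ V := by
    obtain ⟨_, ⟨V, hV, rfl⟩, hy, -⟩ :=
      (S.isBasis_affineOpens).exists_subset_of_mem_open (Set.mem_univ y) isOpen_univ
    exact ⟨V, hV, hy⟩
  refine ⟨V, hy, ?_⟩
  haveI : IsAffine (V : Scheme.{u}) := hV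
  apply isZero_of_hom_unitN_eq_zero _ (Groth.Agent.H57.QCohLpull.isQCohD_restrictD V.ι C hC)
  intro n φ
  have h1 := h _ ⟨V, hV, n, rfl⟩ (((adjD V).homEquiv _ _).symm φ)
  have h2 : φ = (adjD V).homEquiv _ _ (((adjD V).homEquiv _ _).symm φ) :=
    (Equiv.apply_symm_apply _ _).symm
  rw [h2, h1]
  exact (adjD V).homAddEquiv_zero _ _

/-- the test objects have the finite factorization property for coproducts in `D_QCoh(O_S)`,
shifted by an additive auto-equivalence preserving `D_QCoh`. -/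
theorem finFac_test_shift {S : Scheme.{u}} {ι : Type u} (M : ι → DCoh.D S)
    (hM : ∀ i, DCoh.IsQCohD (M i)) (cM : Cofan M) (hcM : IsColimit cM) (G : DCoh.D S)
    (hG : Test S G) : FinFac G (mapCofan (shiftFunctor (DCoh.D S) (1 : ℤ)) cM) := by
  obtain ⟨V, hV, n, rfl⟩ := hG
  haveI : IsAffine (V : Scheme.{u}) := hV
  apply FinFac.of_adj (adjD V)
  haveI := preservesColimit_restrictD V (fun i => (M i)⟦(1 : ℤ)⟧)
  exact finFac_unitN_of_isQCohD (V : Scheme.{u}) _
    (fun i => Groth.Agent.H57.QCohLpull.isQCohD_restrictD V.ι _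
      (Groth.Agent.Lib.Helper32.WayOut2.cohIn_shift (Groth.Agent.H57.QCohSerre.qcP S) 1 (hM i))) _
    (isColimitMapCofan (DCoh.restrictD V.ι) _
      (isColimitMapCofan (shiftFunctor (DCoh.D S) (1 : ℤ)) cM hcM)) n

/-- the test objects have the finite factorization property for `Rf_*` of a coproduct in
`D_QCoh(O_X)`. -/
theorem finFac_test_rpush {X S : Scheme.{u}} (f : X ⟶ S) [QuasiCompact f] [QuasiSeparated f]
    [DCoh.HasRpush f] {ι : Type u} (K : ι → DCoh.D X) (hK : ∀ i, DCoh.IsQCohD (K i))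
    (cK : Cofan K) (hcK : IsColimit cK) (G : DCoh.D S) (hG : Test S G) :
    FinFac G (mapCofan (DCoh.Rpush f) cK) := by
  obtain ⟨V, hV, n, rfl⟩ := hG
  haveI : IsAffine (V : Scheme.{u}) := hV
  haveI : DCoh.HasRpush (f ∣_ V) := hasRpush _
  haveI : DCoh.HasLpull (f ∣_ V) := Groth.Agent.Lib.Helper28.LpullCompute.hasLpull _
  haveI : CompactSpace ((f ⁻¹ᵁ V : X.Opens) : Scheme.{u}) :=
    QuasiCompact.compactSpace_of_compactSpace (f ∣_ V)
  haveI : QuasiSeparatedSpace ((f ⁻¹ᵁ V : X.Opens) : Scheme.{u}) :=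
    quasiSeparatedSpace_of_quasiSeparated (f ∣_ V)
  haveI := additive_Lpull (f ∣_ V)
  apply FinFac.of_adj (adjD V)
  obtain ⟨e⟩ := Groth.Agent.Lib.Helper32.RGammaPush.nonempty_rpushRestrictIso f V
  haveI := preservesColimit_restrictD (f ⁻¹ᵁ V) K
  have h1 : FinFac (unitN (V : Scheme.{u}) n)
      (mapCofan (DCoh.restrictD (f ⁻¹ᵁ V).ι ⋙ DCoh.Rpush (f ∣_ V)) cK) := by
    show FinFac (unitN (V : Scheme.{u}) n)
      (mapCofan (DCoh.Rpush (f ∣_ V)) (mapCofan (DCoh.restrictD (f ⁻¹ᵁ V).ι) cK))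
    apply FinFac.of_adj' (Groth.Agent.Lib.Helper5.LpullRpushAdj.adj (f ∣_ V))
    apply FinFac.of_iso_left (lpullUnitIso (f ∣_ V) n).symm
    exact finFac_unitN_of_isQCohD _ _
      (fun i => Groth.Agent.H57.QCohLpull.isQCohD_restrictD (f ⁻¹ᵁ V).ι _ (hK i)) _
      (isColimitMapCofan (DCoh.restrictD (f ⁻¹ᵁ V).ι) cK hcK) n
  exact FinFac.of_natIso e.symm h1

/-- **`Rf_*` commutes with direct sums on `D_QCoh`.** -/
theorem isIso_desc_rpush {X S : Scheme.{u}} (f : X ⟶ S) [QuasiCompact f] [QuasiSeparated f]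
    [DCoh.HasRpush f] {ι : Type u} (K : ι → DCoh.D X) (hK : ∀ i, DCoh.IsQCohD (K i))
    [HasCoproduct K] [HasCoproduct (fun i => (DCoh.Rpush f).obj (K i))] :
    IsIso (Sigma.desc (fun i => (DCoh.Rpush f).map (Sigma.ι K i))) := by
  haveI := additive_Rpush f
  let cK : Cofan K := Cofan.mk (∐ K) (Sigma.ι K)
  have hcK : IsColimit cK := coproductIsCoproduct K
  let cFK : Cofan (fun i => (DCoh.Rpush f).obj (K i)) := Cofan.mk _ (Sigma.ι _)
  have hcFK : IsColimit cFK := coproductIsCoproduct _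
  have hFK : ∀ i, DCoh.IsQCohD ((DCoh.Rpush f).obj (K i)) := fun i =>
    Groth.Agent.S0998.result f (K i) (hK i)
  have hA : DCoh.IsQCohD cFK.pt := isQCohD_pt S _ hFK cFK hcFK
  have hB : DCoh.IsQCohD ((DCoh.Rpush f).obj cK.pt) :=
    Groth.Agent.S0998.result f _ (isQCohD_pt X K hK cK hcK)
  have key := isIso_desc_of_finFac (DCoh.Rpush f) cK hcK cFK hcFK (Test S)
    (fun C g h hT hz => isZero_of_test C
      (Groth.Agent.Lib.Helper32.QCohTri.isQCohD_obj₃ _ hT hA hB) hz)
    (fun G hG => finFac_test_rpush f K hK cK hcK G hG)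
    (fun G hG => finFac_test_shift _ hFK cFK hcFK G hG)
  have heq : Sigma.desc (fun i => (DCoh.Rpush f).map (Sigma.ι K i)) =
      Cofan.IsColimit.desc hcFK (fun i => (DCoh.Rpush f).map (cK.inj i)) := by
    apply Sigma.hom_ext
    intro i
    rw [Sigma.ι_desc]
    exact (Cofan.IsColimit.fac hcFK (fun i => (DCoh.Rpush f).map (cK.inj i)) i).symm
  rw [heq]
  exact key

end Groth.Agent.H57.RpushCoprod
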