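import Mathlib
import Groth.Prelude.Def_DCoh3
import Groth.Agent.H57.RpushQcqs

/-!
# Objects of `D_QCoh(U)` extend to `D_QCoh(X)` for a quasi-compact open `U` (helper57)
-/

set_option autoImplicit false
universe u
open CategoryTheory CategoryTheory.Limits AlgebraicGeometry
attribute [local instance] HasDerivedCategory.standard

namespace Groth.Agent.H57.RpushExtend

open Groth.Agent.H57.QCohSerre Groth.Agent.H57.RpushMV Groth.Agent.H57.RpushQcqs
  Groth.Agent.Lib.Helper32 Groth.Agent.Lib.Helper32.OpenKInj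
  Groth.Agent.Lib.Helper5.LpullRpushAdj DerivedCategory Scheme.Modules

theorem exists_extension (X : Scheme.{u}) (U : X.Opens) [QuasiCompact U.ι]
    (F : DCoh.D (U : Scheme.{u})) (hF : DCoh.IsQCohD F) :
    ∃ G : CochainComplex X.Modules ℤ, DCoh.IsQCohD (DCoh.toD X G) ∧
      Nonempty (DerivedCategory.Q.obj ((DCoh.restrictCx U).obj G) ≅ F) := by
  obtain ⟨I, hI, ⟨e0⟩⟩ := TriRF.exists_kInj_rep (hasKInjRes (U : Scheme.{u})) F
  refine ⟨((pushforward U.ι).mapHomologicalComplex (ComplexShape.up ℤ)).obj I, ?_, ⟨?_⟩⟩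
  · haveI := TriRF.isIso_β (pushforward U.ι) (DCoh.Rpush U.ι) (β U.ι)
      (hasKInjRes (U : Scheme.{u})) I
    have e : Q.obj (((pushforward U.ι).mapHomologicalComplex (ComplexShape.up ℤ)).obj I) ≅
        (DCoh.Rpush U.ι).obj F :=
      asIso (TriRF.β (pushforward U.ι) (DCoh.Rpush U.ι) (β U.ι) I) ≪≫
        (DCoh.Rpush U.ι).mapIso e0
    exact isQCohD_of_iso e.symm (good_of_qcqs U.ι F hF)
  · have e1 : (DCoh.restrictCx U).obj
        (((pushforward U.ι).mapHomologicalComplex (ComplexShape.up ℤ)).obj I) ≅ I :=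
      HomologicalComplex.Hom.isoOfComponents
        (fun n => (restrictFunctorAdjCounitIso U.ι).app (I.X n))
        (fun i j _ => ((restrictFunctorAdjCounitIso U.ι).hom.naturality (I.d i j)).symm)
    exact Q.mapIso e1 ≪≫ e0

end Groth.Agent.H57.RpushExtend
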