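import Mathlib
import Groth.Prelude.Def_DCoh3
import Groth.Agent.H57.RpushBound2
import Groth.Agent.Lib.Helper58.WayOut

/-!
# Pseudo-coherence of `Rf_*` from the bounded case (helper57)
-/

set_option autoImplicit false
universe u
open CategoryTheory CategoryTheory.Limits AlgebraicGeometry
attribute [local instance] HasDerivedCategory.standard

namespace Groth.Agent.H57.RpushPC

open Groth.Agent.Lib.Helper32.KInjDerived Groth.Agent.Lib.Helper32.OpenKInj
  Groth.Agent.Lib.Helper32 Groth.Agent.H57.QCohSerre Groth.Agent.H57.RpushMV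
  Groth.Agent.H57.RpushBound Groth.Agent.H57.RpushBound2 Groth.Agent.Lib.Helper5.LpullRpushAdj
  Groth.Agent.Lib.Helper30.PCNoeth Groth.Agent.Lib.Helper30.PCTriangle
  Groth.Agent.Lib.Helper30.PCQCoh
  DerivedCategory DerivedCategory.TStructure Pretriangulated Scheme.Modules

theorem pc_Rpush {X Y : Scheme.{u}} (f : X ⟶ Y) [QuasiCompact f]
    [QuasiSeparated f] [CompactSpace Y] (k : ℤ)
    (hK : ∀ (F : DCoh.D X) (n a b : ℤ), F.IsGE a → F.IsLE b → DCoh.IsPseudoCoherentD n F →
      DCoh.IsPseudoCoherentD (n + k) ((DCoh.Rpush f).obj F))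
    (F : DCoh.D X) (hF : ∀ m : ℤ, DCoh.IsPseudoCoherentD m F) (m : ℤ) :
    DCoh.IsPseudoCoherentD m ((DCoh.Rpush f).obj F) := by
  haveI : CompactSpace X := QuasiCompact.compactSpace_of_compactSpace f
  obtain ⟨b, hb⟩ := exists_isLE_of_isPseudoCoherentD F m (hF m)
  have hQ : DCoh.IsQCohD F := isQCohD_of_isPseudoCoherentD F hF
  obtain ⟨N, hN⟩ := exists_bound f
  have hP0 : ∀ Z : X.Modules, IsZero Z → qcP X Z := fun Z hZ => (qcP X).prop_of_isZero hZ
  -- the truncation level
  obtain ⟨a, ha1, ha2⟩ : ∃ a : ℤ, a ≤ m - k ∧ a + N ≤ m + 1 :=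
    ⟨min (m - k) (m + 1 - N), min_le_left _ _, by have := min_le_right (m - k) (m + 1 - N); omega⟩
  have hT := t.triangleLEGE_distinguished (a - 1) a (by omega) F
  -- the truncation below
  have hLE : ((t.truncLE (a - 1)).obj F).IsLE (a - 1) :=
    inferInstanceAs (t.IsLE ((t.truncLE (a - 1)).obj F) _)
  have hLQ : DCoh.IsQCohD ((t.truncLE (a - 1)).obj F) :=
    Groth.Agent.Lib.Helper58.prop_homology_truncLE (qcP X) hP0 F _ hQ
  -- the truncation above
  haveI hGE : ((t.truncGE a).obj F).IsGE a := inferInstanceAs (t.IsGE ((t.truncGE a).obj F) _)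
  haveI hGLE : ((t.truncGE a).obj F).IsLE b := by
    haveI : t.IsLE F b := hb
    exact inferInstanceAs (t.IsLE ((t.truncGE a).obj F) b)
  have hGPC : DCoh.IsPseudoCoherentD (m - k) ((t.truncGE a).obj F) := by
    refine isPseudoCoherentD_obj₃ _ hT (m - k) ?_ (hF _)
    haveI := hLE
    exact isPseudoCoherentD_of_isLE ((t.truncLE (a - 1)).obj F) (a - 1) (m - k + 1) (by omega)
  have hRG : DCoh.IsPseudoCoherentD m ((DCoh.Rpush f).obj ((t.truncGE a).obj F)) := by
    have := hK _ (m - k) a b hGE hGLE hGPC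
    have hmk : m - k + k = m := by omega
    rwa [hmk] at this
  -- the image triangle
  obtain ⟨h, hh⟩ := TriRF.exists_distinguished (pushforward f) (DCoh.Rpush f) (β f)
    (hasKInjRes X) _ hT
  have hh' := inv_rot_of_distTriang _ hh
  refine isPseudoCoherentD_obj₃ _ hh' m ?_ ?_
  · have := isPseudoCoherentD_shift _ m (-1) hRG
    have hm1 : m - (-1) = m + 1 := by omega
    rw [hm1] at this
    exact this
  · haveI : ((DCoh.Rpush f).obj ((t.truncLE (a - 1)).obj F)).IsLE (m - 1) :=
      isLE_Rpush f hN _ hLQ (a - 1) hLE (m - 1) (by omega)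
    exact isPseudoCoherentD_of_isLE ((DCoh.Rpush f).obj ((t.truncLE (a - 1)).obj F)) (m - 1) m
      (by omega)

end Groth.Agent.H57.RpushPC
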