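import Mathlib
import Groth.Prelude.Def_DCoh3
import Groth.Agent.H57.RpushAffineC
import Groth.Agent.Lib.Helper28.LocFreeLocus
import Groth.Agent.Lib.Helper45.ModulesBasic
import Groth.Agent.Lib.Helper32.OpenSupp

/-!
# `Rf_*` reflects isomorphisms on `D_QCoh` for affine `f` (helper57)
-/

set_option autoImplicit false
universe u
open CategoryTheory CategoryTheory.Limits AlgebraicGeometry
attribute [local instance] HasDerivedCategory.standard

namespace Groth.Agent.H57.RpushReflect

open Groth.Agent.H57.QCohSerre Groth.Agent.H57.RpushMV Groth.Agent.H57.RpushAffineA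
  Groth.Agent.H57.RpushAffineB Groth.Agent.H57.RpushAffineC Groth.Agent.Lib.Helper32
  Groth.Agent.Lib.Helper32.OpenKInj
  Groth.Agent.Lib.Helper5.LpullRpushAdj DerivedCategory DerivedCategory.TStructure Scheme.Modules
  Pretriangulated

/-- a quasi-coherent module on `Spec R` without global sections is zero. -/
lemma isZero_of_subsingleton_sections_spec (R : CommRingCat.{u}) (M : (Spec R).Modules)
    [M.IsQuasicoherent] (h : Subsingleton Γ(M, ⊤)) : IsZero M := by
  have hz : IsZero ((modulesSpecToSheaf.obj M).presheaf.obj (.op ⊤)) := by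
    haveI : Subsingleton ↑((modulesSpecToSheaf.obj M).presheaf.obj (.op ⊤)) := h
    exact ModuleCat.isZero_of_subsingleton _
  exact IsZero.of_iso ((tilde.functor R).map_isZero hz) (asIso M.fromTildeΓ).symm

/-- for an affine morphism `f`, a quasi-coherent module with `f_* M = 0` is zero. -/
theorem isZero_of_isZero_push {X S : Scheme.{u}} (f : X ⟶ S) [IsAffineHom f] (M : X.Modules)
    (hM : M.IsQuasicoherent) (h : IsZero ((pushforward f).obj M)) : IsZero M := by
  rw [Groth.Agent.Lib.Helper45.isZero_iff_stalk_subsingleton]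
  intro x
  obtain ⟨_, ⟨V, hV, rfl⟩, hxV, -⟩ :=
    S.isBasis_affineOpens.exists_subset_of_mem_open (Set.mem_univ (f x)) isOpen_univ
  have hW : IsAffineOpen (f ⁻¹ᵁ V) := IsAffineOpen.preimage hV f
  have hsub : Subsingleton Γ(M, f ⁻¹ᵁ V) :=
    (Groth.Agent.Lib.Helper45.isZero_iff_sections_subsingleton _).mp h V
  haveI : (M.restrict hW.fromSpec).IsQuasicoherent :=
    Scheme.Modules.isQuasicoherent_restrictFunctor _ _
  have hz : IsZero (M.restrict hW.fromSpec) := by
    apply isZero_of_subsingleton_sections_spec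
    show Subsingleton Γ(M, hW.fromSpec ''ᵁ ⊤)
    rw [Scheme.Hom.image_top_eq_opensRange, hW.opensRange_fromSpec]
    exact hsub
  obtain ⟨z, rfl⟩ : ∃ z, hW.fromSpec z = x := by
    have hx : x ∈ hW.fromSpec.opensRange := by
      rw [hW.opensRange_fromSpec]
      exact hxV
    exact hx
  exact Groth.Agent.Lib.Helper28.LocFreeLocus.subsingleton_stalk_of_restrict hW.fromSpec M z
    ((Groth.Agent.Lib.Helper45.isZero_iff_stalk_subsingleton _).mp hz z)

variable {Y S : Scheme.{u}} (g : Y ⟶ S)

/-- `H^j(Rg_* K) ≅ g_*(H^j K)` for affine `g` and `K ∈ D_QCoh`. -/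
theorem nonempty_homology_Rpush_iso [IsAffineHom g] (K : DCoh.D Y) (hK : DCoh.IsQCohD K) (j : ℤ) :
    Nonempty ((homologyFunctor S.Modules j).obj ((DCoh.Rpush g).obj K) ≅
      (pushforward g).obj ((homologyFunctor Y.Modules j).obj K)) := by
  haveI := isIso_homology_Rpush_truncGEπ g K hK j j le_rfl
  let e1 := asIso ((homologyFunctor S.Modules j).map ((DCoh.Rpush g).map ((t.truncGEπ j).app K)))
  haveI : ((t.truncGE j).obj K).IsGE j := inferInstanceAs (t.IsGE ((t.truncGE j).obj K) _)
  haveI : PreservesFiniteLimits (pushforward g) := by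
    have := (pullbackPushforwardAdjunction g).rightAdjoint_preservesLimits
    infer_instance
  obtain ⟨e2⟩ := nonempty_iso_lowest (pushforward g) (DCoh.Rpush g) (β g) (hasKInjRes Y)
    ((t.truncGE j).obj K) j
  haveI := Groth.Agent.Lib.Helper58.isIso_homology_truncGEπ K j j le_rfl
  let e3 := asIso ((homologyFunctor Y.Modules j).map ((t.truncGEπ j).app K))
  exact ⟨e1 ≪≫ e2 ≪≫ (pushforward g).mapIso e3.symm⟩

/-- `Rg_* C = 0` implies `C = 0` for `C ∈ D_QCoh`, `g` affine. -/
theorem isZero_of_isZero_Rpush [IsAffineHom g] (C : DCoh.D Y) (hC : DCoh.IsQCohD C)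
    (h : IsZero ((DCoh.Rpush g).obj C)) : IsZero C := by
  apply Groth.Agent.Lib.Helper32.OpenSupp.isZero_of_homology
  intro j
  obtain ⟨e⟩ := nonempty_homology_Rpush_iso g C hC j
  exact isZero_of_isZero_push g _ (hC j)
    (IsZero.of_iso ((homologyFunctor S.Modules j).map_isZero h) e.symm)

/-- **`Rg_*` reflects isomorphisms on `D_QCoh`, `g` affine.** -/
theorem isIso_of_isIso_Rpush [IsAffineHom g] {E F : DCoh.D Y} (hE : DCoh.IsQCohD E)
    (hF : DCoh.IsQCohD F) (α : E ⟶ F) (hα : IsIso ((DCoh.Rpush g).map α)) : IsIso α := by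
  obtain ⟨C, b, c, hT⟩ := distinguished_cocone_triangle α
  have hC : DCoh.IsQCohD C :=
    WayOut2.cohIn_ext₂ (qcP Y) _ (rot_of_distTriang _ hT) hF (WayOut2.cohIn_shift (qcP Y) 1 hE)
  obtain ⟨h, hh⟩ := TriRF.exists_distinguished (pushforward g) (DCoh.Rpush g) (β g)
    (hasKInjRes Y) _ hT
  have hz : IsZero ((DCoh.Rpush g).obj C) := (Triangle.isZero₃_iff_isIso₁ _ hh).2 hα
  exact (Triangle.isZero₃_iff_isIso₁ _ hT).1 (isZero_of_isZero_Rpush g C hC hz)

end Groth.Agent.H57.RpushReflect
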