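import Groth.Agent.FunFld.PlaceOfVal
import Groth.Agent.FunFld.PlaceExt
import Groth.Agent.FunFld.ExtPlaces

/-!
# Places above and below along an algebraic extension with extension of constants
-/

set_option autoImplicit false

namespace Groth.Agent.H57.Split

open FunFld WithZero Groth.Agent.FF

universe u v w

/-- A valuation subring containing a subfield contains all elements integral over it. -/
theorem mem_valuationSubring_of_isIntegral {F E : Type*} [Field F] [Field E] [Algebra F E]
    (V : ValuationSubring E) (hV : ∀ c : F, algebraMap F E c ∈ V) {x : E} (hx : IsIntegral F x) :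
    x ∈ V := by
  set W := V.valuation.valuationSubring with hW
  have hWV : W = V := ValuationSubring.valuationSubring_valuation V
  letI : Algebra F W := RingHom.toAlgebra ((algebraMap F E).codRestrict W.toSubring
    (fun c => by rw [ValuationSubring.mem_toSubring, hWV]; exact hV c))
  haveI : IsScalarTower F W E := IsScalarTower.of_algebraMap_eq (fun _ => rfl)
  have hint : IsIntegral W x := hx.tower_top
  have h1 := (Valuation.valuationSubring.integers V.valuation).mem_of_integral hint
  rw [← ValuationSubring.valuation_le_one_iff]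
  exact h1

variable {k' kbar : Type u} {K' : Type v} {Kbar : Type w} [Field k'] [Field kbar] [Field K']
  [Field Kbar] [Algebra k' kbar] [Algebra k' K'] [Algebra K' Kbar] [Algebra kbar Kbar]
  [Algebra k' Kbar] [IsScalarTower k' kbar Kbar] [IsScalarTower k' K' Kbar]

/-- Every place of `K'/k'` extends to a place of `Kbar/kbar`. -/
theorem exists_place_above [Algebra.IsAlgebraic k' kbar] (hKbar : IsFunctionField kbar Kbar)
    (Q : Place k' K') :
    ∃ (Qb : Place kbar Kbar) (e : ℕ), ∀ z : K', Qb.1 (algebraMap K' Kbar z) = Q.1 z ^ e := by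
  classical
  set ι := algebraMap K' Kbar with hι
  have hιinj : Function.Injective ι := (algebraMap K' Kbar).injective
  set A : Subring Kbar := Q.O.toSubring.map ι with hA
  obtain ⟨t, ht⟩ := exists_uniformizer Q
  have ht0 : t ≠ 0 := by
    rintro rfl
    rw [map_zero] at ht
    exact exp_ne_zero ht.symm
  have ht1 : Q.1 t < 1 := by
    rw [ht, ← exp_zero, exp_lt_exp]; omega
  have htO : t ∈ Q.O.toSubring := ht1.le
  let tA : A := ⟨ι t, ⟨t, htO, rfl⟩⟩
  have hI : Ideal.span {tA} ≠ ⊤ := by
    intro htop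
    rw [Ideal.span_singleton_eq_top] at htop
    obtain ⟨⟨b, hb⟩, hmul⟩ := htop.exists_right_inv
    obtain ⟨z, hz, rfl⟩ := hb
    have hmul' : ι t * ι z = 1 := congrArg Subtype.val hmul
    rw [← map_mul, ← map_one ι] at hmul'
    have h1 := hιinj hmul'
    have h2 := congrArg Q.1 h1
    rw [map_mul, map_one] at h2
    have hz1 : Q.1 z ≤ 1 := hz
    have : Q.1 t * Q.1 z < 1 := by
      calc Q.1 t * Q.1 z ≤ Q.1 t * 1 := mul_le_mul' le_rfl hz1
        _ = Q.1 t := mul_one _
        _ < 1 := ht1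
    rw [h2] at this
    exact lt_irrefl _ this
  obtain ⟨V, hAV, hIV⟩ := Ideal.image_subset_nonunits_valuationSubring (Ideal.span {tA}) hI
  have hk'V : ∀ c : k', algebraMap k' Kbar c ∈ V := by
    intro c
    apply hAV
    refine ⟨algebraMap k' K' c, Q.2.1 c, ?_⟩
    exact (IsScalarTower.algebraMap_apply k' K' Kbar c).symm
  have hkV : ∀ c : kbar, algebraMap kbar Kbar c ∈ V := by
    intro c
    have hc : IsIntegral k' c := Algebra.IsIntegral.isIntegral c
    exact mem_valuationSubring_of_isIntegral V hk'V hc.algebraMap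
  have hιt0 : ι t ≠ 0 := (map_ne_zero_iff _ hιinj).2 ht0
  have htnon : ι t ∈ V.nonunits := hIV ⟨tA, Ideal.subset_span rfl, rfl⟩
  have hVtop : V ≠ ⊤ := by
    rintro rfl
    rw [ValuationSubring.mem_nonunits_iff_or] at htnon
    rcases htnon with h | h
    · exact hιt0 h
    · exact h (ValuationSubring.mem_top _)
  obtain ⟨Qb, hQb⟩ := exists_place_of_valuationSubring V hkV hKbar hVtop
  have h1 : ∀ z : K', Q.1 z ≤ 1 → Qb.1 (ι z) ≤ 1 := by
    intro z hz
    have : ι z ∈ Qb.O := by
      rw [hQb]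
      exact hAV ⟨z, hz, rfl⟩
    exact this
  have h2 : Qb.1 (ι t) < 1 := by
    rw [ValuationSubring.mem_nonunits_iff_or] at htnon
    rcases htnon with h | h
    · exact absurd h hιt0
    · by_contra hge
      push Not at hge
      apply h
      have : (ι t)⁻¹ ∈ Qb.O := by
        rw [mem_O_iff, map_inv₀]
        exact inv_le_one_of_one_le₀ hge
      rwa [hQb] at this
  have hepos : 0 < Qb.ord (ι t) := (val_lt_one_iff Qb hιt0).1 h2
  have hunit : ∀ u : K', u ≠ 0 → Q.1 u = 1 → Qb.1 (ι u) = 1 := by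
    intro u hu0 hu
    have hιu0 : ι u ≠ 0 := (map_ne_zero_iff _ hιinj).2 hu0
    have ha := h1 u hu.le
    have hb := h1 u⁻¹ (by rw [map_inv₀, hu, inv_one])
    rw [map_inv₀, map_inv₀] at hb
    have hpos : 0 < Qb.1 (ι u) := zero_lt_iff.2 (by rw [Ne, map_eq_zero]; exact hιu0)
    exact le_antisymm ha ((inv_le_one₀ hpos).1 hb)
  have hordt : Q.ord t = 1 := by
    rw [Place.ord, ht, log_exp]; ring
  have hord : ∀ z : K', z ≠ 0 → Qb.ord (ι z) = Q.ord z * Qb.ord (ι t) := by
    intro z hz0
    have hιz0 : ι z ≠ 0 := (map_ne_zero_iff _ hιinj).2 hz0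
    set m := Q.ord z with hm
    have hu0 : z * t ^ (-m) ≠ 0 := mul_ne_zero hz0 (zpow_ne_zero _ ht0)
    have hu1 : Q.1 (z * t ^ (-m)) = 1 := by
      rw [val_eq_one_iff Q hu0, ord_mul Q hz0 (zpow_ne_zero _ ht0), ord_zpow, hordt, ← hm]
      ring
    have h3 := hunit _ hu0 hu1
    rw [map_mul, map_zpow₀,
      val_eq_one_iff Qb (mul_ne_zero hιz0 (zpow_ne_zero _ hιt0)),
      ord_mul Qb hιz0 (zpow_ne_zero _ hιt0), ord_zpow] at h3
    linarith
  refine ⟨Qb, (Qb.ord (ι t)).toNat, fun z => ?_⟩
  by_cases hz0 : z = 0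
  · rw [hz0, map_zero, map_zero, map_zero, zero_pow]
    omega
  · have hιz0 : ι z ≠ 0 := (map_ne_zero_iff _ hιinj).2 hz0
    rw [val_eq_exp_neg_ord Qb hιz0, val_eq_exp_neg_ord Q hz0, hord z hz0, ← exp_nsmul]
    congr 1
    rw [nsmul_eq_mul, Int.toNat_of_nonneg hepos.le]
    ring

/-- Every place of `Kbar/kbar` restricts to a place of `K'/k'`. -/
theorem exists_place_below [Algebra.IsAlgebraic K' Kbar] (Rb : Place kbar Kbar) :
    ∃ (R : Place k' K') (e : ℕ), ∀ z : K', Rb.1 (algebraMap K' Kbar z) = R.1 z ^ e := by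
  let Rb' : Place k' Kbar := ⟨Rb.1, ⟨fun c => by
    rw [IsScalarTower.algebraMap_apply k' kbar Kbar]; exact Rb.2.1 _, Rb.2.2⟩⟩
  obtain ⟨R, e, he⟩ := Ext.exists_isOverWith_below (K := K') Rb'
  exact ⟨R, e, he⟩

end Groth.Agent.H57.Split
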