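import Groth.Agent.H57.SplitLI
import Groth.Agent.H57.SplitPlaces
import Groth.Agent.H57.Gaps
import Groth.Agent.FunFld.Riemann

/-!
# A place with a unique unramified degree-one extension to the algebraic closure of the constants
has degree one
-/

set_option autoImplicit false

namespace Groth.Agent.H57.Split

open FunFld WithZero Groth.Agent.FF Groth.Agent.H57

universe u v w

variable {k' kbar : Type u} {K' : Type v} {Kbar : Type w} [Field k'] [Field kbar] [Field K']
  [Field Kbar] [Algebra k' kbar] [Algebra k' K'] [Algebra K' Kbar] [Algebra kbar Kbar]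
  [Algebra k' Kbar] [IsScalarTower k' kbar Kbar] [IsScalarTower k' K' Kbar]

theorem deg_eq_one_of_defined [Algebra.IsAlgebraic k' kbar] [IsAlgClosed kbar]
    [Algebra.IsAlgebraic K' Kbar]
    (hK' : IsFunctionField k' K') (hg' : IsGeometric k' K') (hKbar : IsFunctionField kbar Kbar)
    (Q : Place k' K') (Qb : Place kbar Kbar)
    (hQb : ∀ z : K', Qb.1 (algebraMap K' Kbar z) = Q.1 z)
    (huniq : ∀ Qb' : Place kbar Kbar,
      (∃ e : ℕ, ∀ z : K', Qb'.1 (algebraMap K' Kbar z) = Q.1 z ^ e) → Qb' = Qb) :
    Q.deg = 1 := by
  classical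
  set g := genus k' K' with hg
  set n : ℕ := g + 1 with hn
  set D : Divisor k' K' := Finsupp.single Q (n : ℤ) with hD
  set Db : Divisor kbar Kbar := Finsupp.single Qb (n : ℤ) with hDb
  have h1 := delta_le_genus hK' D
  unfold delta at h1
  rw [hD, deg_single] at h1
  have hDb0 : (0 : Divisor kbar Kbar) ≤ Db := by
    rw [hDb]
    intro R
    rw [Finsupp.zero_apply, Finsupp.single_apply]
    split_ifs
    · exact Int.natCast_nonneg n
    · exact le_rfl
  have h2 := ell_le_add hKbar hDb0
  rw [ell_zero hKbar, deg_zero, hDb, deg_single, deg_eq_one_of_isAlgClosed hKbar Qb] at h2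
  -- comparison of the two spaces
  have h3 : ell D ≤ ell Db := by
    haveI := finite_L hK' D
    haveI := finite_L hKbar Db
    let b := Module.finBasis k' (L D)
    let v : Fin (Module.finrank k' (L D)) → K' := fun i => ((b i : L D) : K')
    have hv : LinearIndependent k' v :=
      b.linearIndependent.map' (L D).subtype (Submodule.ker_subtype _)
    have hli := linearIndependent_of_isGeometric (Fbar := kbar) (E := Kbar) hg' v hv
    have hmem : ∀ i, algebraMap K' Kbar (v i) ∈ L Db := by
      intro i Rb
      obtain ⟨R, e, he⟩ := exists_place_below (k' := k') (K' := K') Rb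
      have hvi : ∀ P : Place k' K', P.1 (v i) ≤ exp (D P) := (b i).2
      by_cases hR : R = Q
      · subst hR
        have hRb : Rb = Qb := huniq Rb ⟨e, he⟩
        rw [hRb, hQb, hDb, Finsupp.single_eq_same]
        have := hvi R
        rwa [hD, Finsupp.single_eq_same] at this
      · have h4 := hvi R
        rw [hD, Finsupp.single_apply, if_neg (Ne.symm hR), exp_zero] at h4
        rw [he]
        have h5 : R.1 (v i) ^ e ≤ 1 := pow_le_one₀ zero_le h4
        refine h5.trans ?_
        rw [← exp_zero, exp_le_exp]
        exact hDb0 Rb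
    let w : Fin (Module.finrank k' (L D)) → L Db := fun i => ⟨algebraMap K' Kbar (v i), hmem i⟩
    have hw : LinearIndependent kbar w := by
      apply LinearIndependent.of_comp (L Db).subtype
      exact hli
    have := hw.fintype_card_le_finrank
    rw [Fintype.card_fin] at this
    exact this
  have hpos := deg_pos hK' Q
  have h3' : (ell D : ℤ) ≤ ell Db := by exact_mod_cast h3
  have hn' : (n : ℤ) = g + 1 := by rw [hn]; push_cast; ring
  by_contra hne
  have hd2 : (2 : ℤ) ≤ Q.deg := by
    have : 2 ≤ Q.deg := by omega
    exact_mod_cast this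
  have h6 : (n : ℤ) * 2 ≤ n * Q.deg := by
    apply mul_le_mul_of_nonneg_left hd2
    exact Int.natCast_nonneg n
  rw [Nat.cast_one, mul_one] at h2
  linarith

end Groth.Agent.H57.Split
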