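import Groth.Agent.H57.SplitMain

/-!
# A field generated by an algebraic closure of the constants and the function field
-/

set_option autoImplicit false

namespace Groth.Agent.H57.Split

open FunFld TensorProduct

universe u v

theorem exists_Kbar (k : Type u) (K : Type v) [Field k] [Field K] [Algebra k K] :
    ∃ (Kbar : Type (max u v)) (_ : Field Kbar) (_ : Algebra K Kbar)
      (_ : Algebra (AlgebraicClosure k) Kbar) (_ : Algebra k Kbar)
      (_ : IsScalarTower k (AlgebraicClosure k) Kbar) (_ : IsScalarTower k K Kbar),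
      Function.Surjective (Algebra.TensorProduct.productMap
        (IsScalarTower.toAlgHom k (AlgebraicClosure k) Kbar)
        (IsScalarTower.toAlgHom k K Kbar)) := by
  obtain ⟨M, hM⟩ := Ideal.exists_maximal (AlgebraicClosure k ⊗[k] K)
  letI : Field ((AlgebraicClosure k ⊗[k] K) ⧸ M) := Ideal.Quotient.field M
  let q : (AlgebraicClosure k ⊗[k] K) →ₐ[k] (AlgebraicClosure k ⊗[k] K) ⧸ M :=
    Ideal.Quotient.mkₐ k M
  let f₁ : AlgebraicClosure k →ₐ[k] (AlgebraicClosure k ⊗[k] K) ⧸ M :=
    q.comp Algebra.TensorProduct.includeLeft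
  let f₂ : K →ₐ[k] (AlgebraicClosure k ⊗[k] K) ⧸ M :=
    q.comp Algebra.TensorProduct.includeRight
  letI : Algebra K ((AlgebraicClosure k ⊗[k] K) ⧸ M) := f₂.toRingHom.toAlgebra
  have : IsScalarTower k K ((AlgebraicClosure k ⊗[k] K) ⧸ M) :=
    IsScalarTower.of_algebraMap_eq (fun c => (f₂.commutes c).symm)
  refine ⟨(AlgebraicClosure k ⊗[k] K) ⧸ M, inferInstance, inferInstance, inferInstance,
    inferInstance, inferInstance, inferInstance, ?_⟩
  have hq : Algebra.TensorProduct.productMap
      (IsScalarTower.toAlgHom k (AlgebraicClosure k) ((AlgebraicClosure k ⊗[k] K) ⧸ M))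
      (IsScalarTower.toAlgHom k K ((AlgebraicClosure k ⊗[k] K) ⧸ M)) = q := by
    apply Algebra.TensorProduct.ext'
    intro a b
    rw [Algebra.TensorProduct.productMap_apply_tmul]
    change q (a ⊗ₜ 1) * q (1 ⊗ₜ b) = q (a ⊗ₜ b)
    rw [← map_mul, Algebra.TensorProduct.tmul_mul_tmul, mul_one, one_mul]
  rw [hq]
  exact Ideal.Quotient.mkₐ_surjective k M

end Groth.Agent.H57.Split
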