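import Groth.Agent.H57.SplitDeg
import Groth.Agent.H57.AlgClosedExtU
import Groth.Agent.H57.FFBasic
import Groth.Agent.FunFld.ScalarExt

/-!
# Every place of a geometric function field has a splitting field of finite degree
-/

set_option autoImplicit false

namespace Groth.Agent.H57.Split

open FunFld WithZero Groth.Agent.FF Groth.Agent.H57 TensorProduct

universe u v w

section Iota

variable {k kbar : Type u} {K : Type v} {Kbar : Type w} [Field k] [Field kbar] [Field K]
  [Field Kbar] [Algebra k kbar] [Algebra k K] [Algebra K Kbar] [Algebra kbar Kbar] [Algebra k Kbar]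
  [IsScalarTower k kbar Kbar] [IsScalarTower k K Kbar]
  (k' : IntermediateField k kbar) {K' : Type v} [Field K'] [Algebra K K'] [Algebra k' K']
  [Algebra k K'] [IsScalarTower k k' K'] [IsScalarTower k K K']
  (hbij : Function.Bijective (Algebra.TensorProduct.productMap
    (IsScalarTower.toAlgHom k k' K') (IsScalarTower.toAlgHom k K K')))

/-- The embedding of `K' = k' ⊗ K` into `Kbar`. -/
noncomputable def iota : K' →ₐ[k] Kbar :=
  (Algebra.TensorProduct.productMap ((IsScalarTower.toAlgHom k kbar Kbar).comp k'.val)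
    (IsScalarTower.toAlgHom k K Kbar)).comp (AlgEquiv.ofBijective _ hbij).symm.toAlgHom

theorem iota_algebraMap_K (w : K) :
    iota (Kbar := Kbar) k' hbij (algebraMap K K' w) = algebraMap K Kbar w := by
  have h1 : (AlgEquiv.ofBijective _ hbij).symm (algebraMap K K' w) = (1 : k') ⊗ₜ[k] w := by
    rw [AlgEquiv.symm_apply_eq, AlgEquiv.coe_ofBijective,
      Algebra.TensorProduct.productMap_apply_tmul, map_one, one_mul]
    rfl
  change Algebra.TensorProduct.productMap ((IsScalarTower.toAlgHom k kbar Kbar).comp k'.val)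
    (IsScalarTower.toAlgHom k K Kbar)
      ((AlgEquiv.ofBijective _ hbij).symm (algebraMap K K' w)) = _
  rw [h1, Algebra.TensorProduct.productMap_apply_tmul, map_one, one_mul]
  rfl

theorem iota_algebraMap_k' (c : k') :
    iota (Kbar := Kbar) k' hbij (algebraMap k' K' c) = algebraMap kbar Kbar (c : kbar) := by
  have h1 : (AlgEquiv.ofBijective _ hbij).symm (algebraMap k' K' c) = c ⊗ₜ[k] (1 : K) := by
    rw [AlgEquiv.symm_apply_eq, AlgEquiv.coe_ofBijective,
      Algebra.TensorProduct.productMap_apply_tmul, map_one, mul_one]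
    rfl
  change Algebra.TensorProduct.productMap ((IsScalarTower.toAlgHom k kbar Kbar).comp k'.val)
    (IsScalarTower.toAlgHom k K Kbar)
      ((AlgEquiv.ofBijective _ hbij).symm (algebraMap k' K' c)) = _
  rw [h1, Algebra.TensorProduct.productMap_apply_tmul, map_one, mul_one]
  rfl

end Iota

variable {k kbar : Type u} {K : Type v} {Kbar : Type w} [Field k] [Field kbar] [Field K]
  [Field Kbar] [Algebra k kbar] [Algebra k K] [Algebra K Kbar] [Algebra kbar Kbar] [Algebra k Kbar]
  [IsScalarTower k kbar Kbar] [IsScalarTower k K Kbar]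

theorem exists_splitting [Algebra.IsAlgebraic k kbar] [IsAlgClosed kbar]
    (hsurj : Function.Surjective (Algebra.TensorProduct.productMap
      (IsScalarTower.toAlgHom k kbar Kbar) (IsScalarTower.toAlgHom k K Kbar)))
    (hK : IsFunctionField k K) (hg : IsGeometric k K) (P : Place k K) :
    ∃ k' : IntermediateField k kbar, FiniteDimensional k k' ∧
      ∀ (K' : Type v) [Field K'] [Algebra K K'] [Algebra k' K'] [Algebra k K']
        [IsScalarTower k k' K'] [IsScalarTower k K K'],
        Function.Bijective (Algebra.TensorProduct.productMap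
          (IsScalarTower.toAlgHom k k' K') (IsScalarTower.toAlgHom k K K')) →
        ∀ Q : Place k' K', P.1.HasExtension Q.1 → Q.deg = 1 := by
  classical
  have hKbar : IsFunctionField kbar Kbar :=
    AlgClosedExtU.isFunctionField_of_isAlgClosed hsurj hK
  obtain ⟨t₀, ht₀⟩ := exists_uniformizer P
  have ht₀0 : t₀ ≠ 0 := by
    rintro rfl
    rw [map_zero] at ht₀
    exact exp_ne_zero ht₀.symm
  have ht₀1 : P.1 t₀ < 1 := by
    rw [ht₀, ← exp_zero, exp_lt_exp]; omega
  set T₀ : Kbar := algebraMap K Kbar t₀ with hT₀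
  have hT₀0 : T₀ ≠ 0 := by rw [hT₀, Ne, map_eq_zero]; exact ht₀0
  have hfin := finite_val_lt_one hKbar hT₀0
  choose kdef hkdef_fin hkdef_t hkdef_uniq using
    fun Qb : Place kbar Kbar => AlgClosedExtU.exists_finite_definition hsurj hK Qb
  set k' : IntermediateField k kbar := ⨆ Qb ∈ hfin.toFinset, kdef Qb with hk'
  have : ∀ Qb, FiniteDimensional k (kdef Qb) := hkdef_fin
  refine ⟨k', inferInstance, ?_⟩
  intro K' _ _ _ _ _ _ hbij Q hPQ
  letI : Algebra K' Kbar := (iota (Kbar := Kbar) k' hbij).toRingHom.toAlgebra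
  haveI : IsScalarTower K K' Kbar :=
    IsScalarTower.of_algebraMap_eq (fun w => (iota_algebraMap_K k' hbij w).symm)
  haveI : IsScalarTower k' K' Kbar :=
    IsScalarTower.of_algebraMap_eq (fun c => (iota_algebraMap_k' k' hbij c).symm)
  obtain ⟨hK', hg'⟩ := scalar_extension hbij hK hg
  haveI : Algebra.IsAlgebraic K Kbar := AlgClosedExtU.isAlgebraic_over hsurj
  haveI : Algebra.IsAlgebraic K' Kbar := Algebra.IsAlgebraic.tower_top (K := K) K'
  obtain ⟨Qb, e, he⟩ := exists_place_above hKbar Q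
  have he0 : e ≠ 0 := by
    intro h0
    have := he 0
    rw [h0, map_zero, map_zero, pow_zero] at this
    exact zero_ne_one this
  have hQt : Q.1 (algebraMap K K' t₀) < 1 :=
    (hPQ.val_isEquiv_comap.lt_one_iff_lt_one).1 ht₀1
  have hQbT : Qb.1 T₀ < 1 := by
    rw [hT₀, IsScalarTower.algebraMap_apply K K' Kbar, he]
    exact pow_lt_one₀ zero_le hQt he0
  have hmem : Qb ∈ hfin.toFinset := by
    rw [Set.Finite.mem_toFinset]
    exact hQbT
  have hle : kdef Qb ≤ k' := le_iSup₂_of_le Qb hmem le_rfl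
  have hsub : ∀ z ∈ AlgClosedExtU.sub (K := K) (Kbar := Kbar) k',
      ∃ z' : K', algebraMap K' Kbar z' = z := by
    intro z hz
    have hle' : AlgClosedExtU.sub (K := K) (Kbar := Kbar) k' ≤
        (IsScalarTower.toAlgHom K K' Kbar).range := by
      apply Algebra.adjoin_le
      rintro _ ⟨c, rfl⟩
      exact ⟨algebraMap k' K' c, iota_algebraMap_k' k' hbij c⟩
    exact hle' hz
  obtain ⟨tQ, htQmem, htQ⟩ := hkdef_t Qb
  obtain ⟨z', rfl⟩ := hsub tQ (AlgClosedExtU.sub_mono hle htQmem)
  have he1 : e = 1 := by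
    rw [he] at htQ
    have hz'0 : z' ≠ 0 := by
      rintro rfl
      rw [map_zero, zero_pow he0] at htQ
      exact exp_ne_zero htQ.symm
    rw [val_eq_exp_neg_ord Q hz'0, ← exp_nsmul, exp_inj, nsmul_eq_mul] at htQ
    have h1 : (e : ℤ) * Q.ord z' = 1 := by linarith
    have h2 : (e : ℤ) ∣ 1 := Dvd.intro _ h1
    have h3 := Int.natCast_dvd_natCast.1 (by simpa using h2 : ((e : ℕ) : ℤ) ∣ ((1 : ℕ) : ℤ))
    exact Nat.dvd_one.1 h3
  have hQb1 : ∀ z, Qb.1 (algebraMap K' Kbar z) = Q.1 z := by
    intro z; rw [he, he1, pow_one]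
  have huniq : ∀ Qb' : Place kbar Kbar,
      (∃ e' : ℕ, ∀ z : K', Qb'.1 (algebraMap K' Kbar z) = Q.1 z ^ e') → Qb' = Qb := by
    rintro Qb' ⟨e', he'⟩
    apply hkdef_uniq Qb Qb'
    refine ⟨e', fun z hz => ?_⟩
    obtain ⟨z'', rfl⟩ := hsub z (AlgClosedExtU.sub_mono hle hz)
    rw [he', hQb1]
  exact deg_eq_one_of_defined hK' hg' hKbar Q Qb hQb1 huniq

end Groth.Agent.H57.Split
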