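import Groth.Agent.H57.WDivInvar

set_option autoImplicit false

namespace Groth.Agent.H57

open FunFld Groth.Agent.FF WithZero

universe u v
variable {k : Type u} {K : Type v} [Field k] [Field K] [Algebra k K]

/-- A matrix with integral entries and one column in the maximal ideal has determinant in the
maximal ideal. -/
theorem val_det_lt_one {R : Type*} [CommRing R] (w : Valuation R ℤᵐ⁰) {m : ℕ}
    (M : Matrix (Fin m) (Fin m) R) (hM : ∀ i j, w (M i j) ≤ 1) (c₀ : Fin m)
    (hc : ∀ i, w (M i c₀) < 1) : w M.det < 1 := by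
  classical
  rw [Matrix.det_apply]
  refine w.map_sum_lt one_ne_zero fun σ _ => ?_
  have hsign : w (Equiv.Perm.sign σ • ∏ i, M (σ i) i) = w (∏ i, M (σ i) i) := by
    rcases Int.units_eq_one_or (Equiv.Perm.sign σ) with h | h
    · rw [h, one_smul]
    · rw [h, Units.neg_smul, one_smul, Valuation.map_neg]
  rw [hsign, map_prod, ← Finset.mul_prod_erase _ _ (Finset.mem_univ c₀)]
  calc w (M (σ c₀) c₀) * ∏ x ∈ Finset.univ.erase c₀, w (M (σ x) x)
      ≤ w (M (σ c₀) c₀) * 1 := by
        refine mul_le_mul' le_rfl (Finset.prod_le_one' fun i _ => hM _ _)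
    _ < 1 := by rw [mul_one]; exact hc _

/-- A local parameter at a place is a separating variable: it carries a total Hasse derivative as
soon as some variable does. -/
theorem exists_local_hasse (hK : IsFunctionField k K) (s : K) (Hs : K →ₐ[k] PowerSeries K)
    (hHs : LocRes.IsHasseFamily s Hs) (P : Place k K) (φ : K →ₐ[k] LaurentSeries k)
    (hφ : LocRes.IsExpansionAt P.1 φ) (t : K) (ht : P.1 t = exp (-1 : ℤ)) :
    ∃ Ht : K →ₐ[k] PowerSeries K, LocRes.IsHasseFamily t Ht := by
  apply exists_isHasseFamily s Hs hHs t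
  intro h0
  have h1 := vDiff_one_uniformizer P.1 φ hφ t ht
  rw [D_expansion_eq' hK φ s Hs hHs t, h0, map_zero, zero_mul, map_zero] at h1
  exact zero_ne_one h1

section
variable [IsAlgClosed k]

/-- At a fixed point `P` of `τ`, a Wronskian matrix of a tuple integral at `P`, taken with a local
parameter at `P` and containing the column of `0`-th derivatives, has determinant vanishing at
`P`. -/
theorem val_det_wrMat_lt_one (hK : IsFunctionField k K) (P : Place k K) (τ : K →ₐ[k] K)
    (hP : IsFixedPt τ P) {n : ℕ} (φ : Fin (n + 1) → K) (hnorm : ∀ i, P.1 (φ i) ≤ 1)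
    (t : K) (ht : P.1 t = exp (-1 : ℤ)) (Ht : K →ₐ[k] PowerSeries K)
    (hHt : LocRes.IsHasseFamily t Ht) (J : Fin n → ℕ) (l₀ : Fin n) (hl₀ : J l₀ = 0) :
    P.1 (wrMat τ Ht φ J).det < 1 := by
  classical
  set M := wrMat τ Ht φ J with hM
  have hne : (0 : Fin (n + 1)) ≠ Fin.succ l₀ := (Fin.succ_ne_zero l₀).symm
  rw [← Matrix.det_updateCol_add_smul_self M hne (-1 : K)]
  have h00 : ∀ i, M i 0 = τ (φ i) := fun i => rfl
  have h0l : ∀ i (l : Fin n), M i (Fin.succ l) = LocRes.hasseD Ht (J l) (φ i) := fun i l => rfl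
  have hD0 : ∀ x, LocRes.hasseD Ht 0 x = x := by
    intro x
    rw [LocRes.hasseD_apply, PowerSeries.coeff_zero_eq_constantCoeff_apply]
    exact hHt.2 x
  have hcol0 : ∀ i, P.1 (M i 0 + (-1 : K) • M i (Fin.succ l₀)) < 1 := by
    intro i
    rw [h00, h0l, hl₀, hD0, smul_eq_mul, neg_one_mul, ← sub_eq_add_neg]
    have hzmem : φ i ∈ P.O := (Valuation.mem_valuationSubring_iff _ _).2 (hnorm i)
    set c := rho hK P ⟨φ i, hzmem⟩ with hc
    have h1 : P.1 (φ i - algebraMap k K c) < 1 := val_sub_rho_lt_one hK P ⟨φ i, hzmem⟩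
    have h2 := hP _ h1
    rw [map_sub, AlgHom.commutes] at h2
    have : τ (φ i) - φ i = (τ (φ i) - algebraMap k K c) - (φ i - algebraMap k K c) := by ring
    rw [this]
    exact (P.1.map_sub _ _).trans_lt (max_lt h2 h1)
  refine val_det_lt_one P.1 _ ?_ 0 ?_
  · intro i j
    by_cases hj : j = 0
    · subst hj
      rw [Matrix.updateCol_self]
      exact (hcol0 i).le
    · rw [Matrix.updateCol_ne hj]
      obtain ⟨l, rfl⟩ := Fin.exists_succ_eq.2 hj
      rw [h0l]
      exact val_hasseD_le_one hK P t ht Ht hHt _ (hnorm i) _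
  · intro i
    rw [Matrix.updateCol_self]
    exact hcol0 i

end

end Groth.Agent.H57
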