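import Groth.Agent.H57.GapSum
import Groth.Agent.H57.Gaps
import Groth.Agent.H57.ExpandAt
import Groth.Agent.H57.Classical
import Groth.Agent.H57.WDivPos
import Groth.Agent.S12606
import Groth.Agent.S12607
import Groth.Agent.S12597
import Groth.Agent.S12598

/-!
# The bound on the sum of the `τ`-orders at a strong fixed point
-/

set_option autoImplicit false

namespace Groth.Agent.H57

open FunFld Groth.Agent.FF WithZero

universe u v
variable {k : Type u} {K : Type v} [Field k] [Field K] [Algebra k K]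

section
variable [IsAlgClosed k]

/-- A nonzero function with poles only at `P₀` does not vanish at `P₀`. -/
theorem ord_nonpos_of_mem_L_single (hK : IsFunctionField k K) (P₀ : Place k K) (N : ℤ) {f : K}
    (hf : f ∈ L (Finsupp.single P₀ N : Divisor k K)) (hf0 : f ≠ 0) : P₀.ord f ≤ 0 := by
  classical
  by_contra hpos
  rw [not_le] at hpos
  have hmem : f ∈ L (Finsupp.single P₀ (-1 : ℤ) : Divisor k K) := by
    intro Q
    by_cases hQ : Q = P₀
    · subst hQ
      rw [Finsupp.single_eq_same, val_le_exp_iff Q hf0]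
      omega
    · have := hf Q
      rw [Finsupp.single_eq_of_ne hQ] at this ⊢
      exact this
  have hbot : L (Finsupp.single P₀ (-1 : ℤ) : Divisor k K) = ⊥ := by
    apply L_eq_bot_of_deg_neg hK
    rw [deg_single, deg_eq_one_of_isAlgClosed hK P₀]
    norm_num
  rw [hbot, Submodule.mem_bot] at hmem
  exact hf0 hmem

/-- **The sum of the `τ`-orders of the complete linear system `|(n+g)P₀|` at a strong fixed
point `P₀`.** -/
theorem two_mul_sum_tauOrders_le (hK : IsFunctionField k K) (τ : K →ₐ[k] K) (P : Place k K)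
    (hP : IsStrongFixedPt τ P) (n : ℕ) (hn : genus k K < n)
    (φ : Fin (n + 1) → K) (hφ : LinearIndependent k φ)
    (hspan : Submodule.span k (Set.range φ) =
      L (Finsupp.single P ((n + genus k K : ℕ) : ℤ) : Divisor k K))
    (hτφ : ¬ ∃ y : K, ∀ i, τ (φ i) = y * φ i)
    (s : K) (H : K →ₐ[k] PowerSeries K) (hH : LocRes.IsHasseFamily s H)
    (J : Fin n → ℕ) (hJ : IsOrders K (hcol τ H φ) J) :
    2 * ∑ l, (J l : ℤ) ≤ n * ((n : ℤ) - 1) + 2 * (genus k K : ℤ) ^ 2 := by
  classical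
  set g := genus k K with hg
  have hn0 : 0 < n := by omega
  obtain ⟨Φ, hΦ⟩ := exists_expansion_family hK
  have hPfix : IsFixedPt τ P := by
    intro z hz
    refine (hP z hz).trans_lt ?_
    rw [← exp_zero, exp_lt_exp]
    norm_num
  obtain ⟨t, ht⟩ := P.2.2 (exp (-1 : ℤ))
  obtain ⟨Ht, hHt⟩ := exists_local_hasse hK s H hH P (Φ P) (hΦ P) t ht
  obtain ⟨i₀, hi₀⟩ := Finite.exists_max (fun i => P.1 (φ i))
  have hφ0 : ∀ i, φ i ≠ 0 := fun i => hφ.ne_zero i
  set y : K := (φ i₀)⁻¹ with hy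
  have hy0 : y ≠ 0 := inv_ne_zero (hφ0 i₀)
  set φ' : Fin (n + 1) → K := y • φ with hφ'def
  have hnorm : ∀ i, P.1 (φ' i) ≤ 1 := by
    intro i
    change P.1 (y * φ i) ≤ 1
    rw [hy, map_mul, map_inv₀, inv_mul_le_iff₀ (zero_lt_iff.2 ((P.1.ne_zero_iff).2 (hφ0 i₀))),
      mul_one]
    exact hi₀ i
  have hone : φ' i₀ = 1 := by
    change y * φ i₀ = 1
    rw [hy, inv_mul_cancel₀ (hφ0 i₀)]
  have heff : (1 : K) ∈ Submodule.span k (Set.range φ') :=
    Submodule.subset_span ⟨i₀, hone⟩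
  have hunit : P.1 (φ' i₀) = 1 := by rw [hone, map_one]
  have hφ'li : LinearIndependent k φ' := by
    have hker : LinearMap.ker (LinearMap.mulLeft k y) = ⊥ := by
      rw [LinearMap.ker_eq_bot]
      intro a b hab
      exact mul_left_cancel₀ hy0 hab
    exact hφ.map' (LinearMap.mulLeft k y) hker
  have hJt : IsOrders K (hcol τ Ht φ) J :=
    ((Groth.Agent.S12598.result k K hK φ hφ τ s H hH t Ht hHt).1 J).2 hJ
  have hJt' : IsOrders K (hcol τ Ht φ') J :=
    ((Groth.Agent.S12597.result k K hK φ hφ τ t Ht hHt y hy0).1 J).2 hJt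
  have hτφ' : ¬ ∃ z : K, ∀ i, τ (φ' i) = z * φ' i := by
    rintro ⟨z, hz⟩
    apply hτφ
    have hτy : τ y ≠ 0 := fun h0 => hy0 ((map_eq_zero τ).1 h0)
    refine ⟨z * y / τ y, fun i => ?_⟩
    have := hz i
    change τ (y * φ i) = z * (y * φ i) at this
    rw [map_mul] at this
    field_simp
    rw [mul_comm (τ (φ i)), this]
    ring
  obtain ⟨J', hJ'⟩ := exists_isOrders_hcolAt hK P φ' hφ'li hnorm i₀ hunit t ht Ht hHt
  have hpos : ∀ l, 0 < J' l := by
    intro l
    by_contra h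
    have h0 : J' l = 0 := by omega
    have hj := (hJ'.2 0).1 ⟨l, h0⟩
    apply hj
    rw [zero_add, ← hcolAt_zero_eq_one P t φ' Ht hHt]
    exact Submodule.subset_span ⟨0, by simp, rfl⟩
  have h606 := Groth.Agent.S12606.result k K hK τ P hP hn0 φ' hφ'li heff hnorm hτφ' t ht Ht hHt
    J hJt' J' hJ'
  have h607 := (Groth.Agent.S12607.result k K hK P φ' hφ'li heff hnorm t ht Ht hHt J' hJ').2
  -- the largest pole order
  set D : Divisor k K := Finsupp.single P ((n + g : ℕ) : ℤ) with hD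
  have hmemD : ∀ i, φ i ∈ L D := fun i => by
    rw [← hspan]; exact Submodule.subset_span ⟨i, rfl⟩
  have hord0 : P.ord (φ i₀) ≤ 0 := ord_nonpos_of_mem_L_single hK P _ (hmemD i₀) (hφ0 i₀)
  have hordD : -((n + g : ℕ) : ℤ) ≤ P.ord (φ i₀) := by
    have := hmemD i₀ P
    rw [hD, Finsupp.single_eq_same, val_le_exp_iff P (hφ0 i₀)] at this
    exact this
  set M : ℕ := (-P.ord (φ i₀)).toNat with hMdef
  have hMz : (M : ℤ) = -P.ord (φ i₀) := Int.toNat_of_nonneg (by omega)
  have hM : M ≤ n + g := by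
    have : (M : ℤ) ≤ ((n + g : ℕ) : ℤ) := by omega
    exact_mod_cast this
  have hordy : P.ord y = M := by rw [hy, ord_inv, hMz]
  -- each local order comes from a function of the linear system
  have hfun : ∀ l : Fin n, ∃ f₀ : K, f₀ ∈ L D ∧ f₀ ≠ 0 ∧ P.ord f₀ = (J' l : ℤ) - M := by
    intro l
    obtain ⟨f, hf, hfv⟩ := (h607 (J' l)).1 (Or.inr ⟨l, rfl⟩)
    have hf0 : f ≠ 0 := by
      rintro rfl
      rw [map_zero] at hfv
      exact exp_ne_zero hfv.symm
    have hord : P.ord f = J' l := by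
      unfold Place.ord
      rw [hfv, log_exp, neg_neg]
    have hmem : y⁻¹ * f ∈ Submodule.span k (Set.range φ) := by
      have hmap : (Submodule.span k (Set.range φ')).map (LinearMap.mulLeft k y⁻¹) =
          Submodule.span k (Set.range φ) := by
        rw [Submodule.map_span, ← Set.range_comp]
        congr 1
        ext i
        constructor
        · rintro ⟨j, rfl⟩
          refine ⟨j, ?_⟩
          change φ j = y⁻¹ * (y * φ j)
          rw [inv_mul_cancel_left₀ hy0]
        · rintro ⟨j, rfl⟩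
          refine ⟨j, ?_⟩
          change y⁻¹ * (y * φ j) = φ j
          rw [inv_mul_cancel_left₀ hy0]
      rw [← hmap]
      exact ⟨f, hf, rfl⟩
    rw [hspan] at hmem
    refine ⟨y⁻¹ * f, hmem, mul_ne_zero (inv_ne_zero hy0) hf0, ?_⟩
    rw [ord_mul P (inv_ne_zero hy0) hf0, ord_inv, hordy, hord]
    ring
  have hle : ∀ l, J' l ≤ M := by
    intro l
    obtain ⟨f₀, hf₀, hf₀0, hordf⟩ := hfun l
    have := ord_nonpos_of_mem_L_single hK P _ hf₀ hf₀0
    omega
  have hnon : ∀ l, 1 ≤ M - J' l → ¬ IsGapAt P (M - J' l) := by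
    intro l hl hgap
    obtain ⟨f₀, hf₀, hf₀0, hordf⟩ := hfun l
    have hcast : ((M - J' l : ℕ) : ℤ) = (M : ℤ) - J' l := by
      have := hle l
      omega
    have h1 : f₀ ∈ L (Finsupp.single P ((M - J' l : ℕ) : ℤ) : Divisor k K) := by
      intro Q
      by_cases hQ : Q = P
      · rw [hQ, Finsupp.single_eq_same, val_le_exp_iff P hf₀0, hcast]
        omega
      · have := hf₀ Q
        rw [hD, Finsupp.single_eq_of_ne hQ] at this
        rw [Finsupp.single_eq_of_ne hQ]
        exact this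
    unfold IsGapAt at hgap
    rw [hgap] at h1
    have h2 := h1 P
    rw [Finsupp.single_eq_same, val_le_exp_iff P hf₀0, hcast] at h2
    omega
  have hcount : gapCount (IsGapAt P) (n + g - 1) = g :=
    gapCount_eq_genus hK P (n + g - 1) (by omega)
  have hmain := two_mul_sum_orders_le (IsGapAt P)
    (fun m m' h1 h2 h3 h4 => not_isGapAt_add P m m' h1 h2 h3 h4) n g M hM hcount J' hJ'.1
    (fun l => hpos l) hle hnon
  -- comparison of `J` with `J'`
  have hJ'0 : (1 : ℤ) ≤ J' ⟨0, hn0⟩ := by exact_mod_cast hpos ⟨0, hn0⟩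
  have hsum : ∑ l, (J l : ℤ) + n ≤ ∑ l, (J' l : ℤ) := by
    have h1 : ∀ l : Fin n, (J l : ℤ) + 1 ≤ J' l := by
      intro l
      have := h606 l
      have h2 : ((J l + J' ⟨0, hn0⟩ : ℕ) : ℤ) ≤ J' l := by exact_mod_cast this
      push_cast at h2
      omega
    calc ∑ l, (J l : ℤ) + n = ∑ l : Fin n, ((J l : ℤ) + 1) := by
          rw [Finset.sum_add_distrib]; simp
      _ ≤ ∑ l, (J' l : ℤ) := Finset.sum_le_sum fun l _ => h1 l
  have hg0 : (0 : ℤ) ≤ g := Nat.cast_nonneg g
  nlinarith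

end

end Groth.Agent.H57
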