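import Groth.Agent.H57.TateRes2

/-!
# Abstract residues (after Tate): the global vanishing theorem
-/

set_option autoImplicit false

namespace Groth.Agent.H57.Tate

open LinearMap Module

variable {k : Type*} [Field k] {V : Type*} [AddCommGroup V] [Module k V]

theorem exists_le_compl {I B : Submodule k V} (h : I ≤ B) :
    ∃ B' : Submodule k V, B' ≤ B ∧ I ⊓ B' = ⊥ ∧ I ⊔ B' = B := by
  obtain ⟨B'', hB''⟩ := exists_isCompl (⟨I, h⟩ : Set.Iic B)
  refine ⟨B''.1, B''.2, ?_, ?_⟩
  · have := hB''.inf_eq_bot
    have h2 := congrArg Subtype.val this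
    simpa using h2
  · have := hB''.sup_eq_top
    have h2 := congrArg Subtype.val this
    simpa using h2

/-- Finite-rank operators lie in `E₀` of every subspace. -/
theorem inE0_of_finiteDimensional_range (A : Submodule k V) {ρ : End k V}
    (h : FiniteDimensional k (LinearMap.range ρ)) : InE0 A ρ := by
  refine ⟨⟨LinearMap.range ρ, h, le_sup_right⟩, ?_⟩
  refine Submodule.finiteDimensional_of_le (S₂ := LinearMap.range ρ) ?_
  rintro _ ⟨a, _, rfl⟩
  exact ⟨a, rfl⟩

/-- Projections onto two subspaces which are complementary up to finite dimension. -/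
theorem exists_proj_pair (A B : Submodule k V) [FiniteDimensional k ↥(A ⊓ B)]
    (F₀ : Submodule k V) [FiniteDimensional k F₀] (h : A ⊔ B ⊔ F₀ = ⊤) :
    ∃ πA πB ρ : End k V, LinearMap.IsProj A πA ∧ LinearMap.IsProj B πB ∧ πA + πB + ρ = 1 ∧
      FiniteDimensional k (LinearMap.range ρ) := by
  set I := A ⊓ B with hI
  obtain ⟨B', hB'B, hIB', hIB'sup⟩ := exists_le_compl (inf_le_right : I ≤ B)
  have hAB' : A ⊓ B' = ⊥ := by
    rw [eq_bot_iff, ← hIB']
    exact le_inf (le_inf inf_le_left (inf_le_right.trans hB'B)) inf_le_right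
  have hAB'sup : A ⊔ B' = A ⊔ B := by
    apply le_antisymm (sup_le_sup_left hB'B A)
    rw [← hIB'sup]
    exact sup_le le_sup_left (sup_le (inf_le_left.trans le_sup_left) le_sup_right)
  obtain ⟨F, hF⟩ := Submodule.exists_isCompl (A ⊔ B')
  -- `F` is finite-dimensional
  have hFfin : FiniteDimensional k F := by
    have hsurj : F ≤ F₀.map (F.projection (A ⊔ B') hF.symm) := by
      intro x hx
      have hx' : x ∈ A ⊔ B ⊔ F₀ := by rw [h]; trivial
      rw [← hAB'sup, Submodule.mem_sup] at hx'
      obtain ⟨y, hy, z, hz, hyz⟩ := hx'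
      refine ⟨z, hz, ?_⟩
      have h1 : F.projection (A ⊔ B') hF.symm x = x :=
        Submodule.projection_apply_of_mem_left hF.symm hx
      have h2 : F.projection (A ⊔ B') hF.symm y = 0 :=
        Submodule.projection_apply_of_mem_right hF.symm hy
      rw [← hyz, map_add, h2, zero_add] at h1
      rw [h1, hyz]
    exact Submodule.finiteDimensional_of_le hsurj
  -- `A` and `B' ⊔ F` are complementary
  have hAC : IsCompl A (B' ⊔ F) := by
    constructor
    · rw [disjoint_iff, eq_bot_iff]
      intro x hx
      rw [Submodule.mem_inf] at hx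
      obtain ⟨hxA, hxC⟩ := hx
      rw [Submodule.mem_sup] at hxC
      obtain ⟨b, hb, φ, hφ, hsum⟩ := hxC
      have hφ0 : φ ∈ (A ⊔ B') ⊓ F := by
        refine ⟨?_, hφ⟩
        have : φ = x - b := by rw [← hsum]; abel
        rw [this]
        exact Submodule.sub_mem _ (Submodule.mem_sup_left hxA) (Submodule.mem_sup_right hb)
      rw [hF.inf_eq_bot, Submodule.mem_bot] at hφ0
      rw [hφ0, add_zero] at hsum
      have : x ∈ A ⊓ B' := ⟨hxA, hsum ▸ hb⟩
      rw [hAB'] at this
      exact this
    · rw [codisjoint_iff, ← sup_assoc]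
      exact hF.sup_eq_top
  -- `B'` and `A ⊔ F` are complementary
  have hBC : IsCompl B' (A ⊔ F) := by
    constructor
    · rw [disjoint_iff, eq_bot_iff]
      intro x hx
      rw [Submodule.mem_inf] at hx
      obtain ⟨hxB, hxC⟩ := hx
      rw [Submodule.mem_sup] at hxC
      obtain ⟨a, ha, φ, hφ, hsum⟩ := hxC
      have hφ0 : φ ∈ (A ⊔ B') ⊓ F := by
        refine ⟨?_, hφ⟩
        have : φ = x - a := by rw [← hsum]; abel
        rw [this]
        exact Submodule.sub_mem _ (Submodule.mem_sup_right hxB) (Submodule.mem_sup_left ha)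
      rw [hF.inf_eq_bot, Submodule.mem_bot] at hφ0
      rw [hφ0, add_zero] at hsum
      have : x ∈ A ⊓ B' := ⟨hsum ▸ ha, hxB⟩
      rw [hAB'] at this
      exact this
    · rw [codisjoint_iff, ← sup_assoc, sup_comm B' A]
      exact hF.sup_eq_top
  set πA : End k V := A.projection (B' ⊔ F) hAC with hπA
  set q : End k V := B'.projection (A ⊔ F) hBC with hq
  obtain ⟨lam, hlam⟩ := exists_isProj I
  set πB : End k V := q + lam * (1 - q) with hπB
  set ρ : End k V := 1 - πA - πB with hρ
  have hπAproj : LinearMap.IsProj A πA :=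
    ⟨fun v => Submodule.projection_apply_mem hAC v,
      fun a ha => Submodule.projection_apply_of_mem_left hAC ha⟩
  have hπBproj : LinearMap.IsProj B πB := by
    constructor
    · intro v
      rw [hπB, LinearMap.add_apply, Module.End.mul_apply]
      exact B.add_mem (hB'B (Submodule.projection_apply_mem hBC v))
        (inf_le_right (a := A) (hlam.map_mem _))
    · intro b hb
      rw [← hIB'sup, Submodule.mem_sup] at hb
      obtain ⟨i, hi, b', hb', rfl⟩ := hb
      have hqi : q i = 0 :=
        Submodule.projection_apply_of_mem_right hBC (Submodule.mem_sup_left (inf_le_left (a := A) hi))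
      have hqb : q b' = b' := Submodule.projection_apply_of_mem_left hBC hb'
      rw [hπB, LinearMap.add_apply, Module.End.mul_apply, LinearMap.sub_apply,
        Module.End.one_apply, map_add, hqi, hqb, zero_add, add_sub_cancel_right, hlam.map_id i hi,
        add_comm]
  refine ⟨πA, πB, ρ, hπAproj, hπBproj, by rw [hρ]; abel, ?_⟩
  -- `ρ` has finite rank
  have hρrange : LinearMap.range ρ ≤ F ⊔ I := by
    rintro _ ⟨x, rfl⟩
    have hx : x ∈ A ⊔ (B' ⊔ F) := by rw [hAC.sup_eq_top]; trivial
    rw [Submodule.mem_sup] at hx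
    obtain ⟨a, ha, c, hc, rfl⟩ := hx
    rw [Submodule.mem_sup] at hc
    obtain ⟨b', hb', φ, hφ, rfl⟩ := hc
    have e1 : πA (a + (b' + φ)) = a := by
      rw [map_add, Submodule.projection_apply_of_mem_left hAC ha,
        Submodule.projection_apply_of_mem_right hAC
          (Submodule.add_mem _ (Submodule.mem_sup_left hb') (Submodule.mem_sup_right hφ)),
        add_zero]
    have e2 : q (a + (b' + φ)) = b' := by
      have : a + (b' + φ) = b' + (a + φ) := by abel
      rw [this, map_add, Submodule.projection_apply_of_mem_left hBC hb',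
        Submodule.projection_apply_of_mem_right hBC
          (Submodule.add_mem _ (Submodule.mem_sup_left ha) (Submodule.mem_sup_right hφ)),
        add_zero]
    have e3 : ρ (a + (b' + φ)) = φ - lam (a + φ) := by
      rw [hρ, hπB, LinearMap.sub_apply, LinearMap.sub_apply, LinearMap.add_apply,
        Module.End.mul_apply, LinearMap.sub_apply, Module.End.one_apply, e1, e2]
      have : a + (b' + φ) - b' = a + φ := by abel
      rw [this]
      abel
    rw [e3]
    exact Submodule.sub_mem _ (Submodule.mem_sup_left hφ) (Submodule.mem_sup_right (hlam.map_mem _))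
  exact Submodule.finiteDimensional_of_le hρrange

/-- **Global vanishing.** If `B` is stable under `f` and `g`, meets `A` in a finite-dimensional
subspace and spans `V` together with `A` up to finite dimension, the residue of `f dg` relative
to `A` vanishes. -/
theorem tres_eq_zero_of_stable (A B : Submodule k V) [FiniteDimensional k ↥(A ⊓ B)]
    (F₀ : Submodule k V) [FiniteDimensional k F₀] (h : A ⊔ B ⊔ F₀ = ⊤)
    {π f g : End k V} (hπ : LinearMap.IsProj A π) (hf : InE A f) (hg : InE A g)
    (hfg : f * g = g * f) (hfB : ∀ b ∈ B, f b ∈ B) (hgB : ∀ b ∈ B, g b ∈ B) :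
    tres π f g = 0 := by
  obtain ⟨πA, πB, ρ, hπA, hπB, hsum, hρ⟩ := exists_proj_pair A B F₀ h
  rw [← tres_eq_of_isProj hπ hπA hf hg hfg]
  have hθA := inE0_theta hπA hf hg hfg
  have hρ0 : InE0 A ρ := inE0_of_finiteDimensional_range A hρ
  have hρf : InE0 A (ρ * f) := hρ0.mul_right hf
  have hc0 : InE0 A (ρ * f * g - g * (ρ * f)) := (hρf.mul_right hg).sub (hρf.mul_left hg)
  have hc : fpTrace (ρ * f * g - g * (ρ * f)) = 0 := fpTrace_commutator_eq_zero hρf hg
  have hB0 : fpTrace (theta πB f g) = 0 := tres_eq_zero_of_map_le hπB hfB hgB hfg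
  have hrel : theta πA f g = -(theta πB f g) - (ρ * f * g - g * (ρ * f)) := by
    have h1 : πA = 1 - πB - ρ := by rw [← hsum]; abel
    unfold theta
    rw [h1]
    have : (1 - πB - ρ) * f * g - g * ((1 - πB - ρ) * f) =
        -(πB * f * g - g * (πB * f)) - (ρ * f * g - g * (ρ * f)) + (f * g - g * f) := by
      noncomm_ring
    rw [this, hfg, sub_self, add_zero]
  have hθB : InE0 A (theta πB f g) := by
    have : theta πB f g = -(theta πA f g) - (ρ * f * g - g * (ρ * f)) := by
      rw [hrel]; abel
    rw [this]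
    exact hθA.neg.sub hc0
  unfold tres
  rw [hrel, fpTrace_sub_of_inE0 hθB.neg hc0, fpTrace_neg _ hθB.isFP, hB0, hc, neg_zero, sub_zero]

end Groth.Agent.H57.Tate
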