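import Groth.Agent.H57.TateRes2

/-!
# Tate residues on Laurent series: setup
-/

set_option autoImplicit false

namespace Groth.Agent.H57.Tate

open LinearMap Module WithZero

variable {k : Type*} [Field k] {F : Type*} [Field F] [Algebra k F]

/-- The lattice of power series inside Laurent series. -/
def Apos (k : Type*) [Field k] (F : Type*) [Field F] [Algebra k F] :
    Submodule k (LaurentSeries F) where
  carrier := {f | ∀ n : ℤ, n < 0 → f.coeff n = 0}
  add_mem' {f g} hf hg n hn := by
    rw [HahnSeries.coeff_add, hf n hn, hg n hn, add_zero]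
  zero_mem' n _ := rfl
  smul_mem' c f hf n hn := by
    rw [HahnSeries.coeff_smul, hf n hn, smul_zero]

theorem mem_Apos_iff (f : LaurentSeries F) : f ∈ Apos k F ↔ Valued.v f ≤ (1 : ℤᵐ⁰) := by
  have := LaurentSeries.valuation_le_iff_coeff_lt_eq_zero F (D := 0) (f := f)
  rw [neg_zero, exp_zero] at this
  rw [this]
  rfl

theorem mul_mem_Apos {f g : LaurentSeries F} (hf : f ∈ Apos k F) (hg : g ∈ Apos k F) :
    f * g ∈ Apos k F := by
  rw [mem_Apos_iff] at hf hg ⊢
  rw [map_mul]
  exact mul_le_one' hf hg

theorem smul_eq_C_mul (c : k) (v : LaurentSeries F) :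
    c • v = HahnSeries.C (algebraMap k F c) * v := by
  ext n
  rw [HahnSeries.coeff_smul, HahnSeries.C_mul_eq_smul, HahnSeries.coeff_smul, Algebra.smul_def,
    smul_eq_mul]

/-- Multiplication by a Laurent series as a `k`-linear operator. -/
noncomputable def mulOp (k : Type*) [Field k] {F : Type*} [Field F] [Algebra k F]
    (h : LaurentSeries F) : End k (LaurentSeries F) where
  toFun v := h * v
  map_add' := mul_add h
  map_smul' c v := by
    rw [RingHom.id_apply, smul_eq_C_mul, smul_eq_C_mul, mul_left_comm]

@[simp] theorem mulOp_apply (h v : LaurentSeries F) : mulOp k h v = h * v := rfl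

theorem mulOp_mul (h h' : LaurentSeries F) : mulOp k (h * h') = mulOp k h * mulOp k h' := by
  ext v
  simp [mul_assoc]

theorem mulOp_comm (h h' : LaurentSeries F) : mulOp k h * mulOp k h' = mulOp k h' * mulOp k h := by
  rw [← mulOp_mul, ← mulOp_mul, mul_comm]

theorem mulOp_add (h h' : LaurentSeries F) : mulOp k (h + h') = mulOp k h + mulOp k h' := by
  ext v
  simp [add_mul]

theorem mulOp_sub (h h' : LaurentSeries F) : mulOp k (h - h') = mulOp k h - mulOp k h' := by
  ext v
  simp [sub_mul]

theorem mulOp_one : mulOp k (1 : LaurentSeries F) = 1 := by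
  ext v
  simp

/-- The principal parts with poles of order at most `m`. -/
def Fm (k : Type*) [Field k] (F : Type*) [Field F] [Algebra k F] (m : ℕ) :
    Submodule k (LaurentSeries F) where
  carrier := {f | ∀ n : ℤ, (n < -(m : ℤ) ∨ 0 ≤ n) → f.coeff n = 0}
  add_mem' {f g} hf hg n hn := by
    rw [HahnSeries.coeff_add, hf n hn, hg n hn, add_zero]
  zero_mem' n _ := rfl
  smul_mem' c f hf n hn := by
    rw [HahnSeries.coeff_smul, hf n hn, smul_zero]

instance finiteDimensional_Fm [FiniteDimensional k F] (m : ℕ) : FiniteDimensional k (Fm k F m) := by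
  let ev : Fm k F m →ₗ[k] (Fin m → F) :=
    { toFun := fun f i => (f : LaurentSeries F).coeff (-((i : ℕ) + 1 : ℤ))
      map_add' := fun f g => by
        funext i
        simp [HahnSeries.coeff_add]
      map_smul' := fun c f => by
        funext i
        simp [HahnSeries.coeff_smul] }
  have hinj : Function.Injective ev := by
    intro f g hfg
    apply Subtype.ext
    ext n
    by_cases hn : n < -(m : ℤ) ∨ 0 ≤ n
    · rw [f.2 n hn, g.2 n hn]
    · push Not at hn
      obtain ⟨i, hi⟩ : ∃ i : Fin m, n = -((i : ℕ) + 1 : ℤ) := by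
        refine ⟨⟨(-n - 1).toNat, by omega⟩, ?_⟩
        simp only
        omega
      have := congrFun hfg i
      simp only [ev, LinearMap.coe_mk, AddHom.coe_mk] at this
      rw [hi]
      exact this
  exact FiniteDimensional.of_injective ev hinj

/-- The projection onto the power series: removal of the principal part. -/
noncomputable def piPos (k : Type*) [Field k] (F : Type*) [Field F] [Algebra k F] :
    End k (LaurentSeries F) := 1 - HahnSeries.truncLTLinearMap k (0 : ℤ)

theorem coeff_piPos (f : LaurentSeries F) (n : ℤ) :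
    (piPos k F f).coeff n = if 0 ≤ n then f.coeff n else 0 := by
  unfold piPos
  rw [LinearMap.sub_apply, Module.End.one_apply, HahnSeries.coeff_sub, HahnSeries.coe_truncLTLinearMap,
    HahnSeries.coeff_truncLT]
  by_cases hn : 0 ≤ n
  · rw [if_pos hn, if_neg (not_lt.2 hn), sub_zero]
  · rw [if_neg hn, if_pos (not_le.1 hn), sub_self]

theorem isProj_piPos : LinearMap.IsProj (Apos k F) (piPos k F) := by
  constructor
  · intro f n hn
    rw [coeff_piPos, if_neg (not_le.2 hn)]
  · intro f hf
    ext n
    rw [coeff_piPos]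
    by_cases hn : 0 ≤ n
    · rw [if_pos hn]
    · rw [if_neg hn, hf n (not_le.1 hn)]

theorem exists_nat_coeff_eq_zero (h : LaurentSeries F) :
    ∃ m : ℕ, ∀ n : ℤ, n < -(m : ℤ) → h.coeff n = 0 := by
  by_cases h0 : h = 0
  · exact ⟨0, fun n _ => by rw [h0]; rfl⟩
  · refine ⟨(-h.order).toNat, fun n hn => HahnSeries.coeff_eq_zero_of_lt_order ?_⟩
    omega

theorem val_le_exp_of_coeff {h : LaurentSeries F} {m : ℤ}
    (hm : ∀ n : ℤ, n < -m → h.coeff n = 0) : Valued.v h ≤ exp m := by
  have := (LaurentSeries.valuation_le_iff_coeff_lt_eq_zero F (D := -m) (f := h)).2 hm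
  rwa [neg_neg] at this

theorem coeff_of_val_le_exp {h : LaurentSeries F} {m : ℤ} (hv : Valued.v h ≤ exp m)
    (n : ℤ) (hn : n < -m) : h.coeff n = 0 := by
  have := (LaurentSeries.valuation_le_iff_coeff_lt_eq_zero F (D := -m) (f := h)).1
    (by rwa [neg_neg]) n hn
  exact this

/-- Multiplication operators lie in the algebra `E` of the power series lattice. -/
theorem inE_mulOp [FiniteDimensional k F] (h : LaurentSeries F) : InE (Apos k F) (mulOp k h) := by
  obtain ⟨m, hm⟩ := exists_nat_coeff_eq_zero h
  refine ⟨Fm k F m, inferInstance, ?_⟩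
  rintro _ ⟨a, ha, rfl⟩
  have hv : Valued.v (h * a) ≤ exp (m : ℤ) := by
    rw [map_mul]
    calc Valued.v h * Valued.v a ≤ exp (m : ℤ) * 1 :=
          mul_le_mul' (val_le_exp_of_coeff hm) ((mem_Apos_iff a).1 ha)
      _ = exp (m : ℤ) := mul_one _
  have hdec : mulOp k h a = piPos k F (h * a) + (h * a - piPos k F (h * a)) := by
    rw [mulOp_apply]; abel
  rw [hdec]
  refine Submodule.add_mem_sup (isProj_piPos.map_mem _) ?_
  intro n hn
  rw [HahnSeries.coeff_sub, coeff_piPos]
  rcases hn with hn | hn
  · rw [if_neg (by omega), sub_zero]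
    exact coeff_of_val_le_exp hv n hn
  · rw [if_pos hn, sub_self]

/-- The Tate residue on Laurent series with respect to the power series lattice. -/
noncomputable def lres (k : Type*) [Field k] {F : Type*} [Field F] [Algebra k F]
    (f g : LaurentSeries F) : k := tres (piPos k F) (mulOp k f) (mulOp k g)

section
variable [FiniteDimensional k F]

theorem lres_add_left (f f' g : LaurentSeries F) :
    lres k (f + f') g = lres k f g + lres k f' g := by
  unfold lres
  rw [mulOp_add]
  exact tres_add_left isProj_piPos (inE_mulOp f) (inE_mulOp f') (inE_mulOp g) (mulOp_comm f g)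
    (mulOp_comm f' g)

theorem lres_add_right (f g g' : LaurentSeries F) :
    lres k f (g + g') = lres k f g + lres k f g' := by
  unfold lres
  rw [mulOp_add]
  exact tres_add_right isProj_piPos (inE_mulOp f) (inE_mulOp g) (inE_mulOp g') (mulOp_comm f g)
    (mulOp_comm f g')

theorem lres_mul_right (f g h : LaurentSeries F) :
    lres k f (g * h) = lres k (f * g) h + lres k (h * f) g := by
  unfold lres
  rw [mulOp_mul, mulOp_mul, mulOp_mul]
  exact tres_mul_right isProj_piPos (inE_mulOp f) (inE_mulOp g) (inE_mulOp h) (mulOp_comm f g)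
    (mulOp_comm f h) (mulOp_comm g h)

omit [FiniteDimensional k F] in
theorem lres_eq_zero_of_mem {f g : LaurentSeries F} (hf : f ∈ Apos k F) (hg : g ∈ Apos k F) :
    lres k f g = 0 := by
  unfold lres
  exact tres_eq_zero_of_map_le isProj_piPos (fun a ha => mul_mem_Apos hf ha)
    (fun a ha => mul_mem_Apos hg ha) (mulOp_comm f g)

omit [FiniteDimensional k F] in
theorem lres_one_right (f : LaurentSeries F) : lres k f 1 = 0 := by
  unfold lres tres theta
  rw [mulOp_one, mul_one, one_mul, sub_self]
  exact fpTrace_eq_zero_of_pow_eq_zero 0 1 (by simp)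

omit [FiniteDimensional k F] in
/-- Constants have zero differential. -/
theorem lres_C_right (f : LaurentSeries F) (b : F) : lres k f (HahnSeries.C b) = 0 := by
  unfold lres tres
  have hcomm : piPos k F * mulOp k (HahnSeries.C b) = mulOp k (HahnSeries.C b) * piPos k F := by
    ext v n
    simp only [Module.End.mul_apply, mulOp_apply, coeff_piPos, HahnSeries.C_mul_eq_smul,
      HahnSeries.coeff_smul]
    by_cases hn : 0 ≤ n
    · rw [if_pos hn, if_pos hn]
    · rw [if_neg hn, if_neg hn, smul_zero]
  have : theta (piPos k F) (mulOp k f) (mulOp k (HahnSeries.C b)) = 0 := by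
    unfold theta
    rw [mul_assoc, mulOp_comm f (HahnSeries.C b), ← mul_assoc, hcomm, mul_assoc, sub_self]
  rw [this]
  exact fpTrace_eq_zero_of_pow_eq_zero 0 1 (by simp)

end

end Groth.Agent.H57.Tate
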