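import Groth.Agent.H57.TateLaurent
import Groth.Prelude.Def_LocRes

/-!
# Tate residues on Laurent series: the residue is the coefficient of `X⁻¹`
-/

set_option autoImplicit false

namespace Groth.Agent.H57.Tate

open LinearMap Module WithZero

variable {k : Type*} [Field k] {F : Type*} [Field F] [Algebra k F]

/-- On a finite-dimensional space the finite potent trace is the trace. -/
theorem fpTrace_eq_trace {V : Type*} [AddCommGroup V] [Module k V] [FiniteDimensional k V]
    (θ : End k V) : fpTrace θ = LinearMap.trace k V θ := by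
  rw [fpTrace_eq θ ⊤ (fun w _ => Submodule.mem_top) 0 le_top]
  unfold trOn
  set e : (⊤ : Submodule k V) ≃ₗ[k] V := LinearEquiv.ofTop ⊤ rfl with he
  rw [← LinearMap.trace_conj' (θ.restrict (p := (⊤ : Submodule k V)) (q := ⊤)
    fun w _ => Submodule.mem_top) e]
  congr 1

variable [FiniteDimensional k F]

omit [FiniteDimensional k F] in
/-- The operator of the residue of `c X⁻ʲ dX`. -/
theorem theta_single_X (c : F) (j : ℕ) (v : LaurentSeries F) :
    theta (piPos k F) (mulOp k (HahnSeries.single (-(j : ℤ)) c))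
      (mulOp k (HahnSeries.single (1 : ℤ) (1 : F))) v =
      HahnSeries.single (0 : ℤ) (c * v.coeff ((j : ℤ) - 1)) := by
  ext n
  unfold theta
  simp only [LinearMap.sub_apply, Module.End.mul_apply, mulOp_apply, HahnSeries.coeff_sub,
    coeff_piPos, HahnSeries.coeff_single_mul, one_mul, HahnSeries.coeff_single]
  by_cases h0 : n = 0
  · subst h0
    rw [if_pos le_rfl, if_neg (by omega), if_pos rfl, sub_zero]
    congr 2
    ring
  · rw [if_neg h0]
    by_cases hn : 0 ≤ n
    · rw [if_pos hn, if_pos (by omega)]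
      have : n - -(j : ℤ) - 1 = n - 1 - -(j : ℤ) := by ring
      rw [this, sub_self]
    · rw [if_neg hn, if_neg (by omega), sub_zero]

theorem lres_single_X (c : F) (j : ℕ) :
    lres k (HahnSeries.single (-(j : ℤ)) c) (HahnSeries.single (1 : ℤ) (1 : F)) =
      if j = 1 then Algebra.trace k F c else 0 := by
  unfold lres tres
  set θ := theta (piPos k F) (mulOp k (HahnSeries.single (-(j : ℤ)) c))
      (mulOp k (HahnSeries.single (1 : ℤ) (1 : F))) with hθ
  let lam : LaurentSeries F →ₗ[k] F :=
    { toFun := fun v => c * v.coeff ((j : ℤ) - 1)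
      map_add' := fun v w => by rw [HahnSeries.coeff_add, mul_add]
      map_smul' := fun a v => by
        rw [HahnSeries.coeff_smul, RingHom.id_apply, mul_smul_comm] }
  let ι : F →ₗ[k] LaurentSeries F := HahnSeries.single.linearMap (0 : ℤ)
  have hθeq : θ = ι ∘ₗ lam := by
    ext1 v
    rw [hθ, theta_single_X]
    rfl
  have hfp : IsFP (ι ∘ₗ lam : End k (LaurentSeries F)) := by
    refine ⟨1, ?_⟩
    rw [pow_one]
    refine Submodule.finiteDimensional_of_le (S₂ := LinearMap.range ι) ?_
    rintro _ ⟨v, rfl⟩
    exact ⟨lam v, rfl⟩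
  rw [hθeq, fpTrace_comp_comm ι lam hfp, fpTrace_eq_trace]
  by_cases hj : j = 1
  · rw [if_pos hj, Algebra.trace_apply]
    congr 1
    ext a
    change c * (HahnSeries.single (0 : ℤ) a).coeff ((j : ℤ) - 1) = c * a
    rw [hj]
    simp
  · rw [if_neg hj]
    have : (lam ∘ₗ ι : End k F) = 0 := by
      ext a
      change c * (HahnSeries.single (0 : ℤ) a).coeff ((j : ℤ) - 1) = 0
      rw [HahnSeries.coeff_single_of_ne (by omega), mul_zero]
    rw [this, map_zero]

/-- `Res(f dX)` is the trace of the coefficient of `X⁻¹`. -/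
theorem lres_X (f : LaurentSeries F) :
    lres k f (HahnSeries.single (1 : ℤ) (1 : F)) = Algebra.trace k F (f.coeff (-1)) := by
  obtain ⟨m, hm⟩ := exists_nat_coeff_eq_zero f
  induction m generalizing f with
  | zero =>
    have hf : f ∈ Apos k F := fun n hn => hm n (by simpa using hn)
    have hX : HahnSeries.single (1 : ℤ) (1 : F) ∈ Apos k F := fun n hn =>
      HahnSeries.coeff_single_of_ne (by omega)
    rw [lres_eq_zero_of_mem hf hX, hf (-1) (by norm_num), map_zero]
  | succ m ih =>
    set c := f.coeff (-((m + 1 : ℕ) : ℤ)) with hc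
    set f' := f - HahnSeries.single (-((m + 1 : ℕ) : ℤ)) c with hf'
    have hf'm : ∀ n : ℤ, n < -(m : ℤ) → f'.coeff n = 0 := by
      intro n hn
      rw [hf', HahnSeries.coeff_sub]
      by_cases h1 : n = -((m + 1 : ℕ) : ℤ)
      · rw [h1, HahnSeries.coeff_single_same, sub_self]
      · rw [HahnSeries.coeff_single_of_ne h1, sub_zero]
        apply hm
        push_cast at h1 ⊢
        omega
    have hdec : f = HahnSeries.single (-((m + 1 : ℕ) : ℤ)) c + f' := by rw [hf']; abel
    rw [hdec, lres_add_left, ih f' hf'm, lres_single_X, HahnSeries.coeff_add, map_add]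
    congr 1
    by_cases hm1 : m + 1 = 1
    · rw [if_pos hm1, hm1]
      simp
    · rw [if_neg hm1, HahnSeries.coeff_single_of_ne (by push_cast; omega), map_zero]

end Groth.Agent.H57.Tate
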