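import Groth.Agent.H57.TateLaurent2

/-!
# Tate residues on Laurent series: the general formula
-/

set_option autoImplicit false

namespace Groth.Agent.H57.Tate

open LinearMap Module WithZero

variable {k : Type*} [Field k] {F : Type*} [Field F] [Algebra k F] [FiniteDimensional k F]

local notation "Xp" n => (HahnSeries.single (n : ℤ) (1 : F) : LaurentSeries F)

omit [FiniteDimensional k F] in
theorem Xp_mul (a b : ℤ) :
    (HahnSeries.single a (1 : F) : LaurentSeries F) * HahnSeries.single b (1 : F) =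
      HahnSeries.single (a + b) (1 : F) := by
  rw [HahnSeries.single_mul_single, mul_one]

omit [FiniteDimensional k F] in
theorem coeff_mul_Xp (f : LaurentSeries F) (a n : ℤ) :
    (f * HahnSeries.single a (1 : F)).coeff n = f.coeff (n - a) := by
  rw [HahnSeries.coeff_mul_single, mul_one]

omit [FiniteDimensional k F] in
theorem coeff_Xp_mul (f : LaurentSeries F) (a n : ℤ) :
    (HahnSeries.single a (1 : F) * f).coeff n = f.coeff (n - a) := by
  rw [HahnSeries.coeff_single_mul, one_mul]

/-- `Res(f d(Xⁿ)) = n Tr(f₋ₙ)` for natural `n`. -/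
theorem lres_Xp_nat (n : ℕ) (f : LaurentSeries F) :
    lres k f (HahnSeries.single (n : ℤ) (1 : F)) = (n : ℤ) • Algebra.trace k F (f.coeff (-(n : ℤ))) := by
  induction n generalizing f with
  | zero =>
    rw [Nat.cast_zero, HahnSeries.single_zero_one, lres_one_right, zero_smul]
  | succ n ih =>
    have h1 : (HahnSeries.single ((n + 1 : ℕ) : ℤ) (1 : F) : LaurentSeries F) =
        HahnSeries.single (n : ℤ) (1 : F) * HahnSeries.single (1 : ℤ) (1 : F) := by
      rw [Xp_mul]; push_cast; rfl
    rw [h1, lres_mul_right, lres_X, ih, coeff_mul_Xp, coeff_Xp_mul]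
    have e1 : (-1 : ℤ) - (n : ℤ) = -((n + 1 : ℕ) : ℤ) := by push_cast; ring
    have e2 : -(n : ℤ) - 1 = -((n + 1 : ℕ) : ℤ) := by push_cast; ring
    rw [e1, e2]
    push_cast
    rw [add_smul, one_smul, add_comm]

/-- `Res(f d(X⁻¹)) = -Tr(f₁)`. -/
theorem lres_Xp_neg_one (f : LaurentSeries F) :
    lres k f (HahnSeries.single (-1 : ℤ) (1 : F)) = -Algebra.trace k F (f.coeff 1) := by
  set f' := f * HahnSeries.single (-1 : ℤ) (1 : F) with hf'
  have h0 : lres k f' (HahnSeries.single (1 : ℤ) (1 : F) * HahnSeries.single (-1 : ℤ) (1 : F)) = 0 := by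
    rw [Xp_mul]
    have : (1 : ℤ) + -1 = 0 := by norm_num
    rw [this, HahnSeries.single_zero_one, lres_one_right]
  rw [lres_mul_right, lres_X] at h0
  have hf1 : f' * HahnSeries.single (1 : ℤ) (1 : F) = f := by
    rw [hf', mul_assoc, Xp_mul]
    have : (-1 : ℤ) + 1 = 0 := by norm_num
    rw [this, HahnSeries.single_zero_one, mul_one]
  rw [hf1, hf', coeff_Xp_mul, coeff_mul_Xp] at h0
  have : (-1 : ℤ) - -1 - -1 = 1 := by norm_num
  rw [this] at h0
  exact eq_neg_of_add_eq_zero_left h0

/-- `Res(f d(X⁻ⁿ)) = -n Tr(fₙ)` for natural `n`. -/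
theorem lres_Xp_neg (n : ℕ) (f : LaurentSeries F) :
    lres k f (HahnSeries.single (-(n : ℤ)) (1 : F)) =
      (-(n : ℤ)) • Algebra.trace k F (f.coeff (n : ℤ)) := by
  induction n generalizing f with
  | zero =>
    rw [Nat.cast_zero, neg_zero, HahnSeries.single_zero_one, lres_one_right, zero_smul]
  | succ n ih =>
    have h1 : (HahnSeries.single (-((n + 1 : ℕ) : ℤ)) (1 : F) : LaurentSeries F) =
        HahnSeries.single (-(n : ℤ)) (1 : F) * HahnSeries.single (-1 : ℤ) (1 : F) := by
      rw [Xp_mul]; push_cast; ring_nf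
    rw [h1, lres_mul_right, lres_Xp_neg_one, ih, coeff_mul_Xp, coeff_Xp_mul]
    have e1 : (1 : ℤ) - -(n : ℤ) = ((n + 1 : ℕ) : ℤ) := by push_cast; ring
    have e2 : (n : ℤ) - -1 = ((n + 1 : ℕ) : ℤ) := by push_cast; ring
    rw [e1, e2]
    push_cast
    rw [neg_add, add_smul, neg_one_smul, add_comm]

/-- `Res(f d(Xⁿ)) = n Tr(f₋ₙ)` for every integer `n`. -/
theorem lres_Xp (n : ℤ) (f : LaurentSeries F) :
    lres k f (HahnSeries.single n (1 : F)) = n • Algebra.trace k F (f.coeff (-n)) := by
  obtain ⟨m, rfl | rfl⟩ := Int.eq_nat_or_neg n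
  · exact lres_Xp_nat m f
  · rw [lres_Xp_neg, neg_neg]

omit [FiniteDimensional k F] in
theorem single_eq_C_mul (n : ℤ) (b : F) :
    (HahnSeries.single n b : LaurentSeries F) = HahnSeries.C b * HahnSeries.single n (1 : F) := by
  rw [HahnSeries.C_apply, HahnSeries.single_mul_single, zero_add, mul_one]

/-- `Res(f d(b Xⁿ)) = n Tr(f₋ₙ b)`. -/
theorem lres_single (n : ℤ) (b : F) (f : LaurentSeries F) :
    lres k f (HahnSeries.single n b) = n • Algebra.trace k F (f.coeff (-n) * b) := by
  rw [single_eq_C_mul, mul_comm, lres_mul_right, lres_C_right, zero_add, lres_Xp,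
    HahnSeries.C_mul_eq_smul, HahnSeries.coeff_smul, smul_eq_mul, mul_comm]

omit [FiniteDimensional k F] in
theorem D_single (n : ℤ) (b : F) :
    LocRes.D F (HahnSeries.single n b) = HahnSeries.single (n - 1) (n • b) := by
  ext m
  rw [LocRes.D_coeff, HahnSeries.coeff_single, HahnSeries.coeff_single]
  by_cases h : m + 1 = n
  · rw [if_pos h, if_pos (by omega), h]
  · rw [if_neg h, if_neg (by omega), smul_zero]

/-- The coefficient formula on monomials. -/
theorem lres_single_eq (n : ℤ) (b : F) (f : LaurentSeries F) :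
    lres k f (HahnSeries.single n b) =
      Algebra.trace k F ((f * LocRes.D F (HahnSeries.single n b)).coeff (-1)) := by
  rw [lres_single, D_single, HahnSeries.coeff_mul_single]
  have : (-1 : ℤ) - (n - 1) = -n := by ring
  rw [this, mul_smul_comm, map_zsmul]

/-- Far enough to the right the residue vanishes. -/
theorem lres_eq_zero_of_coeff {f g : LaurentSeries F} {m : ℕ}
    (hf : ∀ n : ℤ, n < -(m : ℤ) → f.coeff n = 0) (hg : ∀ n : ℤ, n < (m : ℤ) + 1 → g.coeff n = 0) :
    lres k f g = 0 := by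
  set N : ℤ := (m : ℤ) + 1 with hN
  set g₁ := HahnSeries.single (-N) (1 : F) * g with hg₁
  have hg₁A : g₁ ∈ Apos k F := by
    intro n hn
    rw [hg₁, coeff_Xp_mul]
    exact hg _ (by omega)
  have hgeq : g = HahnSeries.single N (1 : F) * g₁ := by
    rw [hg₁, ← mul_assoc, Xp_mul, add_neg_cancel, HahnSeries.single_zero_one, one_mul]
  have hfX : f * HahnSeries.single N (1 : F) ∈ Apos k F := by
    intro n hn
    rw [coeff_mul_Xp]
    exact hf _ (by omega)
  rw [hgeq, lres_mul_right, lres_eq_zero_of_mem hfX hg₁A, zero_add, lres_Xp]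
  have hv : Valued.v (g₁ * f) ≤ exp (m : ℤ) := by
    rw [map_mul]
    calc Valued.v g₁ * Valued.v f ≤ 1 * exp (m : ℤ) :=
          mul_le_mul' ((mem_Apos_iff g₁).1 hg₁A) (val_le_exp_of_coeff hf)
      _ = exp (m : ℤ) := one_mul _
  rw [coeff_of_val_le_exp hv (-N) (by omega), map_zero, smul_zero]

omit [FiniteDimensional k F] in
theorem coeff_mul_D_eq_zero {f g : LaurentSeries F} {m : ℕ}
    (hf : ∀ n : ℤ, n < -(m : ℤ) → f.coeff n = 0) (hg : ∀ n : ℤ, n < (m : ℤ) + 1 → g.coeff n = 0) :
    (f * LocRes.D F g).coeff (-1) = 0 := by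
  have hD : ∀ n : ℤ, n < -(-(m : ℤ)) → (LocRes.D F g).coeff n = 0 := by
    intro n hn
    rw [LocRes.D_coeff, hg _ (by omega), smul_zero]
  have hv : Valued.v (f * LocRes.D F g) ≤ exp (0 : ℤ) := by
    rw [map_mul]
    calc Valued.v f * Valued.v (LocRes.D F g) ≤ exp (m : ℤ) * exp (-(m : ℤ)) :=
          mul_le_mul' (val_le_exp_of_coeff hf) (val_le_exp_of_coeff hD)
      _ = exp (0 : ℤ) := by rw [← exp_add, add_neg_cancel]
  exact coeff_of_val_le_exp hv (-1) (by norm_num)

/-- **The Tate residue on Laurent series is the trace of the coefficient of `X⁻¹` of `f g'`.** -/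
theorem lres_eq (f g : LaurentSeries F) :
    lres k f g = Algebra.trace k F ((f * LocRes.D F g).coeff (-1)) := by
  obtain ⟨m, hm⟩ := exists_nat_coeff_eq_zero f
  obtain ⟨m', hm'⟩ := exists_nat_coeff_eq_zero g
  -- induction on the number of low terms of `g`
  have key : ∀ (j : ℕ) (g : LaurentSeries F), (∀ n : ℤ, n < (m : ℤ) + 1 - j → g.coeff n = 0) →
      lres k f g = Algebra.trace k F ((f * LocRes.D F g).coeff (-1)) := by
    intro j
    induction j with
    | zero =>
      intro g hg
      have hg' : ∀ n : ℤ, n < (m : ℤ) + 1 → g.coeff n = 0 := fun n hn => hg n (by simpa using hn)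
      rw [lres_eq_zero_of_coeff hm hg', coeff_mul_D_eq_zero hm hg', map_zero]
    | succ j ih =>
      intro g hg
      set n₀ : ℤ := (m : ℤ) + 1 - ((j + 1 : ℕ) : ℤ) with hn₀
      set b := g.coeff n₀ with hb
      set g' := g - HahnSeries.single n₀ b with hg'
      have hg'j : ∀ n : ℤ, n < (m : ℤ) + 1 - j → g'.coeff n = 0 := by
        intro n hn
        rw [hg', HahnSeries.coeff_sub]
        by_cases h1 : n = n₀
        · rw [h1, HahnSeries.coeff_single_same, sub_self]
        · rw [HahnSeries.coeff_single_of_ne h1, sub_zero]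
          apply hg
          push_cast at hn₀ ⊢
          omega
      have hdec : g = HahnSeries.single n₀ b + g' := by rw [hg']; abel
      rw [hdec, lres_add_right, ih g' hg'j, lres_single_eq, map_add, mul_add, HahnSeries.coeff_add,
        map_add]
  refine key (m + 1 + m') g ?_
  intro n hn
  apply hm'
  push_cast at hn
  omega

end Groth.Agent.H57.Tate
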