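import Groth.Agent.H57.TateTrace2

/-!
# Abstract residues (after Tate): operator classes relative to a subspace
-/

set_option autoImplicit false

namespace Groth.Agent.H57.Tate

open LinearMap Module

variable {k : Type*} [Field k] {V : Type*} [AddCommGroup V] [Module k V]

/-- `X ≺ A`: `X` is contained in `A` up to a finite-dimensional subspace. -/
def AlmostLE (X A : Submodule k V) : Prop :=
  ∃ F : Submodule k V, FiniteDimensional k F ∧ X ≤ A ⊔ F

theorem AlmostLE.of_le {X A : Submodule k V} (h : X ≤ A) : AlmostLE X A :=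
  ⟨⊥, inferInstance, h.trans le_sup_left⟩

theorem AlmostLE.mono_left {X Y A : Submodule k V} (h : AlmostLE Y A) (hXY : X ≤ Y) :
    AlmostLE X A := by
  obtain ⟨F, hF, hle⟩ := h
  exact ⟨F, hF, hXY.trans hle⟩

theorem AlmostLE.sup {X Y A : Submodule k V} (hX : AlmostLE X A) (hY : AlmostLE Y A) :
    AlmostLE (X ⊔ Y) A := by
  obtain ⟨F, hF, hle⟩ := hX
  obtain ⟨G, hG, hle'⟩ := hY
  refine ⟨F ⊔ G, inferInstance, sup_le ?_ ?_⟩
  · exact hle.trans (sup_le_sup_left le_sup_left A)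
  · exact hle'.trans (sup_le_sup_left le_sup_right A)

theorem AlmostLE.map {X A : Submodule k V} (h : AlmostLE X A) (θ : End k V) :
    AlmostLE (X.map θ) (A.map θ) := by
  obtain ⟨F, hF, hle⟩ := h
  refine ⟨F.map θ, inferInstance, ?_⟩
  rw [← Submodule.map_sup]
  exact Submodule.map_mono hle

theorem AlmostLE.trans {X Y A : Submodule k V} (h : AlmostLE X Y) (h' : AlmostLE Y A) :
    AlmostLE X A := by
  obtain ⟨F, hF, hle⟩ := h
  obtain ⟨G, hG, hle'⟩ := h'
  refine ⟨G ⊔ F, inferInstance, hle.trans ?_⟩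
  rw [← sup_assoc]
  exact sup_le_sup_right hle' F

theorem AlmostLE.finiteDimensional {X : Submodule k V} (h : AlmostLE X ⊥) :
    FiniteDimensional k X := by
  obtain ⟨F, hF, hle⟩ := h
  rw [bot_sup_eq] at hle
  exact Submodule.finiteDimensional_of_le hle

theorem almostLE_bot_of_finiteDimensional (X : Submodule k V) [FiniteDimensional k X] :
    AlmostLE X ⊥ := ⟨X, inferInstance, le_sup_right⟩

variable (A : Submodule k V)

/-- Operators mapping `A` into `A` up to finite dimension. -/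
def InE (θ : End k V) : Prop := AlmostLE (A.map θ) A

/-- Operators mapping `V` into `A` up to finite dimension. -/
def InE1 (θ : End k V) : Prop := AlmostLE (LinearMap.range θ) A

/-- Operators mapping `A` into a finite-dimensional subspace. -/
def InE2 (θ : End k V) : Prop := FiniteDimensional k (A.map θ)

/-- Operators in `E₁ ∩ E₂`. -/
def InE0 (θ : End k V) : Prop := InE1 A θ ∧ InE2 A θ

variable {A}

theorem InE1.inE {θ : End k V} (h : InE1 A θ) : InE A θ :=
  AlmostLE.mono_left h (by rintro _ ⟨a, _, rfl⟩; exact ⟨a, rfl⟩)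

theorem InE2.inE {θ : End k V} (h : InE2 A θ) : InE A θ := by
  have : FiniteDimensional k (A.map θ) := h
  exact ⟨A.map θ, inferInstance, le_sup_right⟩

theorem InE.add {θ ψ : End k V} (h : InE A θ) (h' : InE A ψ) : InE A (θ + ψ) := by
  refine AlmostLE.mono_left (h.sup h') ?_
  rintro _ ⟨a, ha, rfl⟩
  rw [LinearMap.add_apply]
  exact Submodule.add_mem_sup (Submodule.mem_map_of_mem ha) (Submodule.mem_map_of_mem ha)

theorem InE.neg {θ : End k V} (h : InE A θ) : InE A (-θ) := by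
  refine AlmostLE.mono_left h ?_
  rintro _ ⟨a, ha, rfl⟩
  rw [LinearMap.neg_apply]
  exact ⟨-a, A.neg_mem ha, by simp⟩

theorem InE.sub {θ ψ : End k V} (h : InE A θ) (h' : InE A ψ) : InE A (θ - ψ) := by
  rw [sub_eq_add_neg]
  exact h.add h'.neg

theorem InE.mul {θ ψ : End k V} (h : InE A θ) (h' : InE A ψ) : InE A (θ * ψ) := by
  have h1 : (A.map (θ * ψ)) = (A.map ψ).map θ := by
    rw [Module.End.mul_eq_comp, Submodule.map_comp]
  unfold InE
  rw [h1]
  exact (h'.map θ).trans h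

theorem InE1.add {θ ψ : End k V} (h : InE1 A θ) (h' : InE1 A ψ) : InE1 A (θ + ψ) := by
  refine AlmostLE.mono_left (h.sup h') ?_
  rintro _ ⟨v, rfl⟩
  rw [LinearMap.add_apply]
  exact Submodule.add_mem_sup ⟨v, rfl⟩ ⟨v, rfl⟩

theorem InE1.neg {θ : End k V} (h : InE1 A θ) : InE1 A (-θ) := by
  refine AlmostLE.mono_left h ?_
  rintro _ ⟨v, rfl⟩
  exact ⟨-v, by simp⟩

theorem InE1.sub {θ ψ : End k V} (h : InE1 A θ) (h' : InE1 A ψ) : InE1 A (θ - ψ) := by
  rw [sub_eq_add_neg]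
  exact h.add h'.neg

theorem InE1.mul_right {θ : End k V} (h : InE1 A θ) (ψ : End k V) : InE1 A (θ * ψ) := by
  refine AlmostLE.mono_left h ?_
  rintro _ ⟨v, rfl⟩
  exact ⟨ψ v, rfl⟩

theorem InE1.mul_left {θ ψ : End k V} (h : InE1 A θ) (h' : InE A ψ) : InE1 A (ψ * θ) := by
  have h1 : LinearMap.range (ψ * θ) = (LinearMap.range θ).map ψ := by
    rw [Module.End.mul_eq_comp, LinearMap.range_comp]
  unfold InE1
  rw [h1]
  exact (h.map ψ).trans h'

theorem InE2.add {θ ψ : End k V} (h : InE2 A θ) (h' : InE2 A ψ) : InE2 A (θ + ψ) := by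
  have : FiniteDimensional k (A.map θ) := h
  have : FiniteDimensional k (A.map ψ) := h'
  refine Submodule.finiteDimensional_of_le (S₂ := A.map θ ⊔ A.map ψ) ?_
  rintro _ ⟨a, ha, rfl⟩
  rw [LinearMap.add_apply]
  exact Submodule.add_mem_sup (Submodule.mem_map_of_mem ha) (Submodule.mem_map_of_mem ha)

theorem InE2.neg {θ : End k V} (h : InE2 A θ) : InE2 A (-θ) := by
  have : FiniteDimensional k (A.map θ) := h
  refine Submodule.finiteDimensional_of_le (S₂ := A.map θ) ?_
  rintro _ ⟨a, ha, rfl⟩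
  rw [LinearMap.neg_apply]
  exact ⟨-a, A.neg_mem ha, by simp⟩

theorem InE2.sub {θ ψ : End k V} (h : InE2 A θ) (h' : InE2 A ψ) : InE2 A (θ - ψ) := by
  rw [sub_eq_add_neg]
  exact h.add h'.neg

theorem InE2.mul_left {θ : End k V} (h : InE2 A θ) (ψ : End k V) : InE2 A (ψ * θ) := by
  have : FiniteDimensional k (A.map θ) := h
  have h1 : (A.map (ψ * θ)) = (A.map θ).map ψ := by
    rw [Module.End.mul_eq_comp, Submodule.map_comp]
  unfold InE2
  rw [h1]
  infer_instance

theorem InE2.mul_right {θ ψ : End k V} (h : InE2 A θ) (h' : InE A ψ) : InE2 A (θ * ψ) := by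
  have : FiniteDimensional k (A.map θ) := h
  have h1 : (A.map (θ * ψ)) = (A.map ψ).map θ := by
    rw [Module.End.mul_eq_comp, Submodule.map_comp]
  obtain ⟨F, hF, hle⟩ := h'
  unfold InE2
  rw [h1]
  refine Submodule.finiteDimensional_of_le (S₂ := A.map θ ⊔ F.map θ) ?_
  rw [← Submodule.map_sup]
  exact Submodule.map_mono hle

theorem InE0.add {θ ψ : End k V} (h : InE0 A θ) (h' : InE0 A ψ) : InE0 A (θ + ψ) :=
  ⟨h.1.add h'.1, h.2.add h'.2⟩

theorem InE0.neg {θ : End k V} (h : InE0 A θ) : InE0 A (-θ) := ⟨h.1.neg, h.2.neg⟩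

theorem InE0.sub {θ ψ : End k V} (h : InE0 A θ) (h' : InE0 A ψ) : InE0 A (θ - ψ) :=
  ⟨h.1.sub h'.1, h.2.sub h'.2⟩

theorem InE0.mul_right {θ ψ : End k V} (h : InE0 A θ) (h' : InE A ψ) : InE0 A (θ * ψ) :=
  ⟨h.1.mul_right ψ, h.2.mul_right h'⟩

theorem InE0.mul_left {θ ψ : End k V} (h : InE0 A θ) (h' : InE A ψ) : InE0 A (ψ * θ) :=
  ⟨h.1.mul_left h', h.2.mul_left ψ⟩

theorem inE0_mul_of_inE1_of_inE2 {θ ψ : End k V} (h : InE1 A θ) (h' : InE2 A ψ) :
    InE0 A (θ * ψ) := ⟨h.mul_right ψ, h'.mul_left θ⟩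

theorem inE0_mul_of_inE2_of_inE1 {θ ψ : End k V} (h : InE2 A θ) (h' : InE1 A ψ) :
    InE0 A (θ * ψ) := ⟨h'.mul_left h.inE, h.mul_right h'.inE⟩

/-- Two operators of `E₀` span a finite potent subspace. -/
theorem finiteDimensional_wordRange_two {θ ψ : End k V} (h : InE0 A θ) (h' : InE0 A ψ) :
    FiniteDimensional k (wordRange θ ψ 2) := by
  obtain ⟨F, hF, hle⟩ := h.1
  obtain ⟨G, hG, hle'⟩ := h'.1
  have : FiniteDimensional k (A.map θ) := h.2
  have : FiniteDimensional k (A.map ψ) := h'.2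
  have h1 : wordRange θ ψ 1 ≤ A ⊔ (F ⊔ G) := by
    change (⊤ : Submodule k V).map θ ⊔ (⊤ : Submodule k V).map ψ ≤ _
    rw [Submodule.map_top, Submodule.map_top]
    refine sup_le (hle.trans (sup_le_sup_left le_sup_left A))
      (hle'.trans (sup_le_sup_left le_sup_right A))
  have h2 : wordRange θ ψ 2 ≤
      (A.map θ ⊔ (F ⊔ G).map θ) ⊔ (A.map ψ ⊔ (F ⊔ G).map ψ) := by
    change (wordRange θ ψ 1).map θ ⊔ (wordRange θ ψ 1).map ψ ≤ _
    refine sup_le_sup ?_ ?_
    · rw [← Submodule.map_sup]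
      exact Submodule.map_mono h1
    · rw [← Submodule.map_sup]
      exact Submodule.map_mono h1
  exact Submodule.finiteDimensional_of_le h2

theorem InE0.isFP {θ : End k V} (h : InE0 A θ) : IsFP θ := by
  have := finiteDimensional_wordRange_two h h
  exact ⟨2, Submodule.finiteDimensional_of_le (range_pow_left_le θ θ 2)⟩

theorem fpTrace_add_of_inE0 {θ ψ : End k V} (h : InE0 A θ) (h' : InE0 A ψ) :
    fpTrace (θ + ψ) = fpTrace θ + fpTrace ψ :=
  fpTrace_add θ ψ 2 (finiteDimensional_wordRange_two h h')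

theorem fpTrace_sub_of_inE0 {θ ψ : End k V} (h : InE0 A θ) (h' : InE0 A ψ) :
    fpTrace (θ - ψ) = fpTrace θ - fpTrace ψ := by
  rw [sub_eq_add_neg, fpTrace_add_of_inE0 h h'.neg, fpTrace_neg ψ h'.isFP, sub_eq_add_neg]

/-- The trace of a commutator of an operator of `E₀` with one of `E` vanishes. -/
theorem fpTrace_commutator_eq_zero {θ ψ : End k V} (h : InE0 A θ) (h' : InE A ψ) :
    fpTrace (θ * ψ - ψ * θ) = 0 := by
  rw [fpTrace_sub_of_inE0 (h.mul_right h') (h.mul_left h')]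
  have := fpTrace_comp_comm θ ψ (h.mul_right h').isFP
  change fpTrace (θ * ψ) = fpTrace (ψ * θ) at this
  rw [this, sub_self]

/-- The trace of a commutator of an operator of `E₁` with one of `E₂` vanishes. -/
theorem fpTrace_commutator_eq_zero' {θ ψ : End k V} (h : InE1 A θ) (h' : InE2 A ψ) :
    fpTrace (θ * ψ - ψ * θ) = 0 := by
  rw [fpTrace_sub_of_inE0 (inE0_mul_of_inE1_of_inE2 h h') (inE0_mul_of_inE2_of_inE1 h' h)]
  have := fpTrace_comp_comm θ ψ (inE0_mul_of_inE1_of_inE2 h h').isFP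
  change fpTrace (θ * ψ) = fpTrace (ψ * θ) at this
  rw [this, sub_self]

end Groth.Agent.H57.Tate
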