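import Groth.Agent.H57.TateRes

/-!
# Abstract residues (after Tate): the residue and its formal properties
-/

set_option autoImplicit false

namespace Groth.Agent.H57.Tate

open LinearMap Module

variable {k : Type*} [Field k] {V : Type*} [AddCommGroup V] [Module k V]
variable {A : Submodule k V}

/-- The operator `[π f, g]` whose trace is the residue of `f dg`. -/
def theta (π f g : End k V) : End k V := π * f * g - g * (π * f)

/-- The abstract residue of `f dg` relative to the subspace onto which `π` projects. -/
noncomputable def tres (π f g : End k V) : k := fpTrace (theta π f g)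

theorem exists_isProj (A : Submodule k V) : ∃ π : End k V, LinearMap.IsProj A π := by
  obtain ⟨C, hC⟩ := Submodule.exists_isCompl A
  refine ⟨A.subtype ∘ₗ Submodule.projectionOnto A C hC, ⟨fun v => ?_, fun a ha => ?_⟩⟩
  · exact (Submodule.projectionOnto A C hC v).2
  · change ((Submodule.projectionOnto A C hC a : A) : V) = a
    rw [Submodule.projectionOnto_apply_of_mem_left hC ha]

section
variable {π f g : End k V} (hπ : LinearMap.IsProj A π)
include hπ

theorem inE1_proj_mul (f : End k V) : InE1 A (π * f) :=
  AlmostLE.of_le (by rintro _ ⟨v, rfl⟩; exact hπ.map_mem _)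

theorem inE2_proj_mul_sub (hf : InE A f) : InE2 A (π * f - f) := by
  obtain ⟨F, hF, hle⟩ := hf
  refine Submodule.finiteDimensional_of_le (S₂ := F.map (π - 1)) ?_
  rintro _ ⟨a, ha, rfl⟩
  have hfa : f a ∈ A ⊔ F := hle (Submodule.mem_map_of_mem ha)
  rw [Submodule.mem_sup] at hfa
  obtain ⟨a', ha', φ, hφ, hsum⟩ := hfa
  refine ⟨φ, hφ, ?_⟩
  rw [LinearMap.sub_apply, LinearMap.sub_apply, Module.End.mul_apply, Module.End.one_apply,
    ← hsum, map_add, hπ.map_id a' ha']
  abel

theorem inE0_theta (hf : InE A f) (hg : InE A g) (hfg : f * g = g * f) :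
    InE0 A (theta π f g) := by
  have h1 := inE1_proj_mul hπ f
  have h2 := inE2_proj_mul_sub hπ hf
  refine ⟨(h1.mul_right g).sub (h1.mul_left hg), ?_⟩
  have : theta π f g = (π * f - f) * g - g * (π * f - f) := by
    unfold theta
    have : (π * f - f) * g - g * (π * f - f) = π * f * g - g * (π * f) - (f * g - g * f) := by
      noncomm_ring
    rw [this, hfg, sub_self, sub_zero]
  rw [this]
  exact (h2.mul_right hg).sub (h2.mul_left g)

/-- Tate's theorem: the residue may be computed with any representatives. -/
theorem fpTrace_commutator_eq_tres (hf : InE A f) (hg : InE A g) (hfg : f * g = g * f)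
    {f₁ g₁ : End k V} (hf₁ : InE1 A f₁) (hf₁' : InE2 A (f₁ - f)) (hg₁ : InE A g₁)
    (hg₁' : InE2 A (g₁ - g)) : fpTrace (f₁ * g₁ - g₁ * f₁) = tres π f g := by
  have h1 := inE1_proj_mul hπ f
  have h2 := inE2_proj_mul_sub hπ hf
  have hθ := inE0_theta hπ hf hg hfg
  -- the two correction commutators
  set e₁ : End k V := f₁ - π * f with he₁
  have he₁0 : InE0 A e₁ := by
    refine ⟨hf₁.sub h1, ?_⟩
    have : e₁ = (f₁ - f) - (π * f - f) := by rw [he₁]; abel
    rw [this]
    exact hf₁'.sub h2
  have hc₁ : fpTrace (e₁ * g₁ - g₁ * e₁) = 0 := fpTrace_commutator_eq_zero he₁0 hg₁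
  have hc₁0 : InE0 A (e₁ * g₁ - g₁ * e₁) := (he₁0.mul_right hg₁).sub (he₁0.mul_left hg₁)
  have hc₂ : fpTrace (π * f * (g₁ - g) - (g₁ - g) * (π * f)) = 0 :=
    fpTrace_commutator_eq_zero' h1 hg₁'
  have hc₂0 : InE0 A (π * f * (g₁ - g) - (g₁ - g) * (π * f)) :=
    (inE0_mul_of_inE1_of_inE2 h1 hg₁').sub (inE0_mul_of_inE2_of_inE1 hg₁' h1)
  have hdecomp : f₁ * g₁ - g₁ * f₁ =
      theta π f g + (e₁ * g₁ - g₁ * e₁) + (π * f * (g₁ - g) - (g₁ - g) * (π * f)) := by
    unfold theta
    rw [he₁]
    noncomm_ring
  rw [hdecomp, fpTrace_add_of_inE0 (hθ.add hc₁0) hc₂0, fpTrace_add_of_inE0 hθ hc₁0, hc₁, hc₂,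
    add_zero, add_zero]
  rfl

/-- The residue does not depend on the projection. -/
theorem tres_eq_of_isProj {π' : End k V} (hπ' : LinearMap.IsProj A π') (hf : InE A f)
    (hg : InE A g) (hfg : f * g = g * f) : tres π' f g = tres π f g := by
  have h := fpTrace_commutator_eq_tres hπ hf hg hfg (inE1_proj_mul hπ' f)
    (inE2_proj_mul_sub hπ' hf) hg (by
      rw [sub_self]
      change FiniteDimensional k (A.map (0 : End k V))
      rw [Submodule.map_zero]
      infer_instance)
  exact h

theorem tres_add_left {f' : End k V} (hf : InE A f) (hf' : InE A f') (hg : InE A g)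
    (hfg : f * g = g * f) (hfg' : f' * g = g * f') :
    tres π (f + f') g = tres π f g + tres π f' g := by
  unfold tres
  have : theta π (f + f') g = theta π f g + theta π f' g := by
    unfold theta
    noncomm_ring
  rw [this]
  exact fpTrace_add_of_inE0 (inE0_theta hπ hf hg hfg) (inE0_theta hπ hf' hg hfg')

theorem tres_add_right {g' : End k V} (hf : InE A f) (hg : InE A g) (hg' : InE A g')
    (hfg : f * g = g * f) (hfg' : f * g' = g' * f) :
    tres π f (g + g') = tres π f g + tres π f g' := by
  unfold tres
  have : theta π f (g + g') = theta π f g + theta π f g' := by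
    unfold theta
    noncomm_ring
  rw [this]
  exact fpTrace_add_of_inE0 (inE0_theta hπ hf hg hfg) (inE0_theta hπ hf hg' hfg')

theorem tres_smul_left (c : k) (hf : InE A f) (hg : InE A g) (hfg : f * g = g * f) :
    tres π (c • f) g = c * tres π f g := by
  unfold tres
  have : theta π (c • f) g = c • theta π f g := by
    unfold theta
    rw [mul_smul_comm, smul_mul_assoc, mul_smul_comm, smul_sub]
  rw [this]
  exact fpTrace_smul c _ (inE0_theta hπ hf hg hfg).isFP

theorem tres_smul_right (c : k) (hf : InE A f) (hg : InE A g) (hfg : f * g = g * f) :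
    tres π f (c • g) = c * tres π f g := by
  unfold tres
  have : theta π f (c • g) = c • theta π f g := by
    unfold theta
    rw [mul_smul_comm, smul_mul_assoc, smul_sub]
  rw [this]
  exact fpTrace_smul c _ (inE0_theta hπ hf hg hfg).isFP

/-- Leibniz rule: `res(f d(gh)) = res(fg dh) + res(hf dg)`. -/
theorem tres_mul_right {h : End k V} (hf : InE A f) (hg : InE A g) (hh : InE A h)
    (hfg : f * g = g * f) (hfh : f * h = h * f) (hgh : g * h = h * g) :
    tres π f (g * h) = tres π (f * g) h + tres π (h * f) g := by
  have h1 := inE1_proj_mul hπ f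
  have h2 := inE2_proj_mul_sub hπ hf
  have hc1 : (f * g) * h = h * (f * g) := by
    rw [mul_assoc, hgh, ← mul_assoc, hfh, mul_assoc]
  have hc2 : (h * f) * g = g * (h * f) := by
    rw [mul_assoc, hfg, ← mul_assoc, ← hgh, mul_assoc]
  have e1 := fpTrace_commutator_eq_tres hπ (hf.mul hg) hh hc1 (f₁ := π * f * g) (g₁ := h)
    (h1.mul_right g) (by
      have : π * f * g - f * g = (π * f - f) * g := by noncomm_ring
      rw [this]
      exact h2.mul_right hg) hh (by
      rw [sub_self]
      change FiniteDimensional k (A.map (0 : End k V))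
      rw [Submodule.map_zero]
      infer_instance)
  have e2 := fpTrace_commutator_eq_tres hπ (hh.mul hf) hg hc2 (f₁ := h * (π * f)) (g₁ := g)
    (h1.mul_left hh) (by
      have : h * (π * f) - h * f = h * (π * f - f) := by noncomm_ring
      rw [this]
      exact h2.mul_left h) hg (by
      rw [sub_self]
      change FiniteDimensional k (A.map (0 : End k V))
      rw [Submodule.map_zero]
      infer_instance)
  rw [← e1, ← e2]
  unfold tres
  have hdecomp : theta π f (g * h) =
      (π * f * g * h - h * (π * f * g)) + (h * (π * f) * g - g * (h * (π * f))) := by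
    unfold theta
    have : g * h * (π * f) = g * (h * (π * f)) := by rw [mul_assoc]
    rw [this]
    noncomm_ring
  rw [hdecomp]
  refine fpTrace_add_of_inE0 (A := A) ?_ ?_
  · have hE1 : InE1 A (π * f * g) := h1.mul_right g
    have hE2 : InE2 A (π * f * g - f * g) := by
      have : π * f * g - f * g = (π * f - f) * g := by noncomm_ring
      rw [this]
      exact h2.mul_right hg
    refine ⟨(hE1.mul_right h).sub (hE1.mul_left hh), ?_⟩
    have : π * f * g * h - h * (π * f * g) =
        (π * f * g - f * g) * h - h * (π * f * g - f * g) := by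
      have : (π * f * g - f * g) * h - h * (π * f * g - f * g) =
          π * f * g * h - h * (π * f * g) - (f * g * h - h * (f * g)) := by noncomm_ring
      rw [this, hc1, sub_self, sub_zero]
    rw [this]
    exact (hE2.mul_right hh).sub (hE2.mul_left h)
  · have hE1 : InE1 A (h * (π * f)) := h1.mul_left hh
    have hE2 : InE2 A (h * (π * f) - h * f) := by
      have : h * (π * f) - h * f = h * (π * f - f) := by noncomm_ring
      rw [this]
      exact h2.mul_left h
    refine ⟨(hE1.mul_right g).sub (hE1.mul_left hg), ?_⟩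
    have : h * (π * f) * g - g * (h * (π * f)) =
        (h * (π * f) - h * f) * g - g * (h * (π * f) - h * f) := by
      have : (h * (π * f) - h * f) * g - g * (h * (π * f) - h * f) =
          h * (π * f) * g - g * (h * (π * f)) - (h * f * g - g * (h * f)) := by noncomm_ring
      rw [this, hc2, sub_self, sub_zero]
    rw [this]
    exact (hE2.mul_right hg).sub (hE2.mul_left g)

/-- The residue of `f dg` vanishes when `f` and `g` both preserve `A`. -/
theorem tres_eq_zero_of_map_le (hfA : ∀ a ∈ A, f a ∈ A) (hgA : ∀ a ∈ A, g a ∈ A)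
    (hfg : f * g = g * f) : tres π f g = 0 := by
  unfold tres
  apply fpTrace_eq_zero_of_pow_eq_zero _ 2
  have hA0 : ∀ a ∈ A, theta π f g a = 0 := by
    intro a ha
    unfold theta
    rw [LinearMap.sub_apply, Module.End.mul_apply, Module.End.mul_apply, Module.End.mul_apply,
      Module.End.mul_apply, hπ.map_id _ (hfA _ (hgA a ha)), hπ.map_id _ (hfA a ha),
      ← Module.End.mul_apply f g, hfg, Module.End.mul_apply, sub_self]
  have hrange : ∀ v, theta π f g v ∈ A := by
    intro v
    unfold theta
    rw [LinearMap.sub_apply, Module.End.mul_apply, Module.End.mul_apply, Module.End.mul_apply,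
      Module.End.mul_apply]
    exact A.sub_mem (hπ.map_mem _) (hgA _ (hπ.map_mem _))
  ext v
  rw [pow_two, Module.End.mul_apply, LinearMap.zero_apply]
  exact hA0 _ (hrange v)

end

end Groth.Agent.H57.Tate
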