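import Groth.Agent.H57.TateGlobal

/-!
# Abstract residues (after Tate): the sum formula for two subspaces spanning the space
-/

set_option autoImplicit false

namespace Groth.Agent.H57.Tate

open LinearMap Module

variable {k : Type*} [Field k] {V : Type*} [AddCommGroup V] [Module k V]

/-- If the image of `X` under `q` is finite-dimensional and `ker q ∩ X ≤ A`, then `X ≺ A`. -/
theorem AlmostLE.of_map_finiteDimensional {V'' : Type*} [AddCommGroup V''] [Module k V'']
    (q : V →ₗ[k] V'') (X A : Submodule k V) (hfin : FiniteDimensional k (X.map q))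
    (hker : LinearMap.ker q ⊓ X ≤ A) : AlmostLE X A := by
  classical
  -- a section of `q` over `X.map q`
  set qX : X →ₗ[k] X.map q := q.submoduleMap X with hqX
  have hsurj : Function.Surjective qX := q.submoduleMap_surjective X
  obtain ⟨s, hs⟩ := LinearMap.exists_rightInverse_of_surjective qX (LinearMap.range_eq_top.2 hsurj)
  set W : Submodule k V := (LinearMap.range s).map X.subtype with hW
  have hWfin : FiniteDimensional k W := inferInstance
  refine ⟨W, hWfin, ?_⟩
  intro x hx
  set x' : X := ⟨x, hx⟩
  set w : X := s (qX x') with hw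
  have hqw : qX w = qX x' := by
    have := LinearMap.congr_fun hs (qX x')
    simpa using this
  have hqw' : q (w : V) = q x := congrArg Subtype.val hqw
  have hdiff : x - (w : V) ∈ A := by
    apply hker
    refine ⟨?_, X.sub_mem hx w.2⟩
    change q (x - (w : V)) = 0
    rw [map_sub, hqw', sub_self]
  have hwW : (w : V) ∈ W := ⟨w, ⟨qX x', rfl⟩, rfl⟩
  have : x = (x - (w : V)) + (w : V) := by abel
  rw [this]
  exact Submodule.add_mem_sup hdiff hwW

/-- `X ≺ A` and `X ≺ B` imply `X ≺ A ⊓ B`. -/
theorem AlmostLE.inf {X A B : Submodule k V} (hA : AlmostLE X A) (hB : AlmostLE X B) :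
    AlmostLE X (A ⊓ B) := by
  obtain ⟨F₁, hF₁, hle₁⟩ := hA
  obtain ⟨F₂, hF₂, hle₂⟩ := hB
  set q : V →ₗ[k] (V ⧸ A) × (V ⧸ B) := A.mkQ.prod B.mkQ with hq
  apply AlmostLE.of_map_finiteDimensional q
  · set r : (F₁ × F₂) →ₗ[k] (V ⧸ A) × (V ⧸ B) :=
      (A.mkQ ∘ₗ F₁.subtype).prodMap (B.mkQ ∘ₗ F₂.subtype) with hr
    have hsub : X.map q ≤ LinearMap.range r := by
      rintro _ ⟨x, hx, rfl⟩
      have h1 := hle₁ hx
      have h2 := hle₂ hx
      rw [Submodule.mem_sup] at h1 h2
      obtain ⟨a, ha, f₁, hf₁, h1⟩ := h1
      obtain ⟨b, hb, f₂, hf₂, h2⟩ := h2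
      refine ⟨(⟨f₁, hf₁⟩, ⟨f₂, hf₂⟩), ?_⟩
      apply Prod.ext
      · change A.mkQ f₁ = A.mkQ x
        rw [← h1, map_add, (Submodule.mkQ_apply A a), (Submodule.Quotient.mk_eq_zero A).2 ha,
          zero_add]
      · change B.mkQ f₂ = B.mkQ x
        rw [← h2, map_add, (Submodule.mkQ_apply B b), (Submodule.Quotient.mk_eq_zero B).2 hb,
          zero_add]
    exact Submodule.finiteDimensional_of_le hsub
  · rintro x ⟨hx, -⟩
    have hx : q x = 0 := hx
    have h1 : A.mkQ x = 0 := congrArg Prod.fst hx
    have h2 : B.mkQ x = 0 := congrArg Prod.snd hx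
    exact ⟨(Submodule.Quotient.mk_eq_zero A).1 h1, (Submodule.Quotient.mk_eq_zero B).1 h2⟩

/-- An operator in `E(A)` and `E(B)` lies in `E(A ⊓ B)`. -/
theorem InE.inf {A B : Submodule k V} {f : End k V} (hA : InE A f) (hB : InE B f) :
    InE (A ⊓ B) f := by
  unfold InE at hA hB ⊢
  exact AlmostLE.inf (hA.mono_left (Submodule.map_mono inf_le_left))
    (hB.mono_left (Submodule.map_mono inf_le_right))

theorem theta_add_proj (π π' f g : End k V) :
    theta (π + π') f g = theta π f g + theta π' f g := by
  unfold theta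
  noncomm_ring

theorem theta_one (f g : End k V) (hfg : f * g = g * f) : theta 1 f g = 0 := by
  unfold theta
  rw [one_mul, hfg, sub_self]

/-- The residue relative to the whole space vanishes. -/
theorem tres_top {π f g : End k V} (hπ : LinearMap.IsProj (⊤ : Submodule k V) π)
    (hfg : f * g = g * f) : tres π f g = 0 := by
  have h1 : π = 1 := by
    ext v
    exact hπ.map_id v trivial
  unfold tres
  rw [h1, theta_one f g hfg]
  exact fpTrace_eq_zero_of_pow_eq_zero 0 1 (by simp)

/-- **Tate's sum formula** for two subspaces spanning the whole space: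
`res_{A ∩ B} = res_A + res_B`. -/
theorem tres_inf_eq_add (A B : Submodule k V) (hAB : A ⊔ B = ⊤) {f g : End k V}
    (hfA : InE A f) (hgA : InE A g) (hfB : InE B f) (hgB : InE B g) (hfg : f * g = g * f)
    {πA πB πI : End k V} (hπA : LinearMap.IsProj A πA) (hπB : LinearMap.IsProj B πB)
    (hπI : LinearMap.IsProj (A ⊓ B) πI) :
    tres πI f g = tres πA f g + tres πB f g := by
  classical
  set I := A ⊓ B with hI
  have hfI : InE I f := hfA.inf hfB
  have hgI : InE I g := hgA.inf hgB
  obtain ⟨B', hB'B, hIB', hIB'sup⟩ := exists_le_compl (inf_le_right : I ≤ B)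
  have hAB' : A ⊓ B' = ⊥ := by
    rw [eq_bot_iff, ← hIB']
    exact le_inf (le_inf inf_le_left (inf_le_right.trans hB'B)) inf_le_right
  have hAB'sup : A ⊔ B' = ⊤ := by
    rw [eq_top_iff, ← hAB, ← hIB'sup]
    exact sup_le le_sup_left (sup_le (inf_le_left.trans le_sup_left) le_sup_right)
  have hcompl : IsCompl A B' := ⟨disjoint_iff.2 hAB', codisjoint_iff.2 hAB'sup⟩
  set pA : End k V := A.projection B' hcompl with hpA
  obtain ⟨lam, hlam⟩ := exists_isProj I
  set pI : End k V := lam * pA with hpI
  set pB : End k V := 1 - pA + pI with hpB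
  have hpAproj : LinearMap.IsProj A pA :=
    ⟨fun v => Submodule.projection_apply_mem hcompl v,
      fun a ha => Submodule.projection_apply_of_mem_left hcompl ha⟩
  have hpIproj : LinearMap.IsProj I pI := by
    constructor
    · intro v
      exact hlam.map_mem _
    · intro i hi
      rw [hpI, Module.End.mul_apply,
        Submodule.projection_apply_of_mem_left hcompl (inf_le_left (a := A) hi)]
      exact hlam.map_id i hi
  have hpBproj : LinearMap.IsProj B pB := by
    constructor
    · intro v
      rw [hpB, LinearMap.add_apply, LinearMap.sub_apply, Module.End.one_apply]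
      refine B.add_mem ?_ (inf_le_right (a := A) (hpIproj.map_mem v))
      -- `v - pA v ∈ B'`
      have hv : v ∈ A ⊔ B' := by rw [hAB'sup]; trivial
      rw [Submodule.mem_sup] at hv
      obtain ⟨a, ha, b', hb', rfl⟩ := hv
      rw [map_add, Submodule.projection_apply_of_mem_left hcompl ha,
        Submodule.projection_apply_of_mem_right hcompl hb', add_zero, add_sub_cancel_left]
      exact hB'B hb'
    · intro b hb
      rw [← hIB'sup, Submodule.mem_sup] at hb
      obtain ⟨i, hi, b', hb', rfl⟩ := hb
      have h1 : pA (i + b') = i := by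
        rw [map_add, Submodule.projection_apply_of_mem_left hcompl (inf_le_left (a := A) hi),
          Submodule.projection_apply_of_mem_right hcompl hb', add_zero]
      rw [hpB, LinearMap.add_apply, LinearMap.sub_apply, Module.End.one_apply, hpI,
        Module.End.mul_apply, h1, hlam.map_id i hi]
      abel
  rw [tres_eq_of_isProj hpIproj hπI hfI hgI hfg, tres_eq_of_isProj hpAproj hπA hfA hgA hfg,
    tres_eq_of_isProj hpBproj hπB hfB hgB hfg]
  -- the operator identity
  have hsum : theta pA f g + theta pB f g = theta pI f g := by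
    rw [← theta_add_proj]
    have : pA + pB = 1 + pI := by rw [hpB]; abel
    rw [this, theta_add_proj, theta_one f g hfg, zero_add]
  set θA := theta pA f g with hθA
  set θB := theta pB f g with hθB
  set θI := theta pI f g with hθI
  have hθA0 : InE0 A θA := inE0_theta hpAproj hfA hgA hfg
  have hθB0 : InE0 B θB := inE0_theta hpBproj hfB hgB hfg
  have hθI0 : InE0 I θI := inE0_theta hpIproj hfI hgI hfg
  -- finite potency of the span of `θA`, `θB`
  have hfinA : FiniteDimensional k (A.map θA) := hθA0.2
  have hfinB : FiniteDimensional k (B.map θB) := hθB0.2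
  have hAA : AlmostLE (A.map θA) ⊥ := almostLE_bot_of_finiteDimensional _
  have hBB : AlmostLE (B.map θB) ⊥ := almostLE_bot_of_finiteDimensional _
  have hrI : AlmostLE (LinearMap.range θI) I := hθI0.1
  have hBA : AlmostLE (A.map θB) I := by
    have hle : A.map θB ≤ LinearMap.range θI ⊔ A.map θA := by
      rintro _ ⟨a, ha, rfl⟩
      have : θB a = θI a - θA a := by rw [← hsum]; simp
      rw [this]
      exact Submodule.sub_mem _ (Submodule.mem_sup_left ⟨a, rfl⟩)
        (Submodule.mem_sup_right (Submodule.mem_map_of_mem ha))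
    exact (AlmostLE.sup hrI (hAA.trans (AlmostLE.of_le bot_le))).mono_left hle
  have hAB : AlmostLE (B.map θA) I := by
    have hle : B.map θA ≤ LinearMap.range θI ⊔ B.map θB := by
      rintro _ ⟨b, hb, rfl⟩
      have : θA b = θI b - θB b := by rw [← hsum]; simp
      rw [this]
      exact Submodule.sub_mem _ (Submodule.mem_sup_left ⟨b, rfl⟩)
        (Submodule.mem_sup_right (Submodule.mem_map_of_mem hb))
    exact (AlmostLE.sup hrI (hBB.trans (AlmostLE.of_le bot_le))).mono_left hle
  have hrA : AlmostLE (LinearMap.range θA) A := hθA0.1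
  have hrB : AlmostLE (LinearMap.range θB) B := hθB0.1
  have hbotI : AlmostLE (⊥ : Submodule k V) I := AlmostLE.of_le bot_le
  -- level two
  have h2 : AlmostLE (wordRange θA θB 2) I := by
    change AlmostLE ((wordRange θA θB 1).map θA ⊔ (wordRange θA θB 1).map θB) I
    have h1 : wordRange θA θB 1 = LinearMap.range θA ⊔ LinearMap.range θB := by
      change (⊤ : Submodule k V).map θA ⊔ (⊤ : Submodule k V).map θB = _
      rw [Submodule.map_top, Submodule.map_top]
    rw [h1, Submodule.map_sup, Submodule.map_sup]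
    refine AlmostLE.sup (AlmostLE.sup ?_ ?_) (AlmostLE.sup ?_ ?_)
    · exact ((hrA.map θA).trans hAA).trans hbotI
    · exact (hrB.map θA).trans hAB
    · exact (hrA.map θB).trans hBA
    · exact ((hrB.map θB).trans hBB).trans hbotI
  have hIA : AlmostLE (I.map θA) ⊥ := hAA.mono_left (Submodule.map_mono inf_le_left)
  have hIB : AlmostLE (I.map θB) ⊥ := hBB.mono_left (Submodule.map_mono inf_le_right)
  have h3 : AlmostLE (wordRange θA θB 3) ⊥ := by
    change AlmostLE ((wordRange θA θB 2).map θA ⊔ (wordRange θA θB 2).map θB) ⊥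
    exact AlmostLE.sup ((h2.map θA).trans hIA) ((h2.map θB).trans hIB)
  have hfin3 : FiniteDimensional k (wordRange θA θB 3) := h3.finiteDimensional
  change fpTrace θI = fpTrace θA + fpTrace θB
  rw [← hsum]
  exact fpTrace_add θA θB 3 hfin3

end Groth.Agent.H57.Tate
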