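import Groth.Agent.H57.TateSum
import Groth.Agent.H57.TateLocal
import Groth.Agent.FunFld.Approx

/-!
# Tate residues at finitely many places of a function field
-/

set_option autoImplicit false

namespace Groth.Agent.H57.Tate

open LinearMap Module WithZero FunFld

section Local

variable {k : Type*} [Field k] {K : Type*} [Field K] [Algebra k K]
variable {F : Type*} [Field F] [Algebra k F]

/-- The elements of valuation at most `exp m`, as a `k`-subspace. -/
def valBall (w : Valuation K ℤᵐ⁰) (hw : ∀ c : k, w (algebraMap k K c) ≤ 1) (m : ℤ) :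
    Submodule k K where
  carrier := {x | w x ≤ exp m}
  add_mem' {x y} hx hy := (w.map_add x y).trans (max_le hx hy)
  zero_mem' := by simp
  smul_mem' c x hx := by
    change w (c • x) ≤ exp m
    rw [Algebra.smul_def, map_mul]
    calc w (algebraMap k K c) * w x ≤ 1 * exp m := mul_le_mul' (hw c) hx
      _ = exp m := one_mul _

variable (w : Valuation K ℤᵐ⁰) (φ : K →ₐ[k] LaurentSeries F) (hφ : LocRes.IsExpansionAt w φ)
include hφ

/-- A ball is contained in the valuation ring up to finite dimension. -/
theorem almostLE_valBall [FiniteDimensional k F] (hw : ∀ c : k, w (algebraMap k K c) ≤ 1)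
    (m : ℕ) : AlmostLE (valBall w hw (m : ℤ)) (valSub w hw) := by
  set q : K →ₗ[k] LaurentSeries F := (1 - piPos k F) ∘ₗ phiLin φ with hq
  apply AlmostLE.of_map_finiteDimensional q
  · have hsub : (valBall w hw (m : ℤ)).map q ≤ Fm k F m := by
      rintro _ ⟨x, hx, rfl⟩
      have hv : Valued.v (φ x) ≤ exp (m : ℤ) := by rw [hφ.1 x]; exact hx
      intro n hn
      change ((1 - piPos k F) (φ x)).coeff n = 0
      rw [LinearMap.sub_apply, Module.End.one_apply, HahnSeries.coeff_sub, coeff_piPos]
      rcases hn with hn | hn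
      · rw [if_neg (by omega), sub_zero]
        exact coeff_of_val_le_exp hv n hn
      · rw [if_pos hn, sub_self]
    exact Submodule.finiteDimensional_of_le hsub
  · rintro x ⟨hx, -⟩
    have hx : q x = 0 := hx
    change w x ≤ 1
    rw [← hφ.1 x, ← mem_Apos_iff (k := k)]
    have h1 : φ x = piPos k F (φ x) := by
      have : (1 - piPos k F) (φ x) = 0 := hx
      rw [LinearMap.sub_apply, Module.End.one_apply, sub_eq_zero] at this
      exact this
    rw [h1]
    exact isProj_piPos.map_mem _

/-- Multiplication operators lie in the algebra `E` of the valuation ring. -/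
theorem inE_mulK_valSub [FiniteDimensional k F] (hw : ∀ c : k, w (algebraMap k K c) ≤ 1)
    (u : K) : InE (valSub w hw) (mulK k u) := by
  obtain ⟨m, hm⟩ : ∃ m : ℕ, w u ≤ exp (m : ℤ) := by
    by_cases hu : u = 0
    · exact ⟨0, by rw [hu, map_zero]; exact zero_le⟩
    · have h0 : w u ≠ 0 := (Valuation.ne_zero_iff w).2 hu
      refine ⟨(log (w u)).toNat, ?_⟩
      conv_lhs => rw [← exp_log h0]
      rw [exp_le_exp]
      exact Int.self_le_toNat _
  have hle : (valSub w hw).map (mulK k u) ≤ valBall w hw (m : ℤ) := by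
    rintro _ ⟨a, ha, rfl⟩
    change w (u * a) ≤ exp (m : ℤ)
    rw [map_mul]
    calc w u * w a ≤ exp (m : ℤ) * 1 := mul_le_mul' hm ha
      _ = exp (m : ℤ) := mul_one _
  exact (almostLE_valBall w φ hφ hw m).mono_left hle

end Local

section Global

open Groth.Agent.FF

universe u v
variable {k : Type u} {K : Type v} [Field k] [Field K] [Algebra k K]

/-- `E` of the whole space is everything. -/
theorem inE_top {V : Type*} [AddCommGroup V] [Module k V] (f : End k V) :
    InE (⊤ : Submodule k V) f := AlmostLE.of_le le_top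

/-- **Sum formula over finitely many places**: the residue relative to the intersection of the
valuation rings of finitely many places is the sum of the residues at these places. -/
theorem tres_iInf_eq_sum (S : Finset (Place k K)) (y x : K)
    (hE : ∀ Q ∈ S, ∀ z : K, InE (valSub Q.1 Q.2.1) (mulK k z))
    (πQ : Place k K → End k K) (hπQ : ∀ Q ∈ S, LinearMap.IsProj (valSub Q.1 Q.2.1) (πQ Q)) :
    (∀ z : K, InE (⨅ Q ∈ S, valSub Q.1 Q.2.1) (mulK k z)) ∧
    ∀ π : End k K, LinearMap.IsProj (⨅ Q ∈ S, valSub Q.1 Q.2.1) π →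
      tres π (mulK k y) (mulK k x) = ∑ Q ∈ S, tres (πQ Q) (mulK k y) (mulK k x) := by
  classical
  have hcomm : mulK k y * mulK k x = mulK k x * mulK k y := by
    ext z
    change y * (x * z) = x * (y * z)
    ring
  induction S using Finset.induction_on with
  | empty =>
    simp only [Finset.notMem_empty, iInf_false, iInf_top, Finset.sum_empty]
    exact ⟨fun z => inE_top _, fun π hπ => tres_top hπ hcomm⟩
  | insert Q₀ S hQ₀ ih =>
    have hE' : ∀ Q ∈ S, ∀ z : K, InE (valSub Q.1 Q.2.1) (mulK k z) :=
      fun Q hQ => hE Q (Finset.mem_insert_of_mem hQ)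
    have hπQ' : ∀ Q ∈ S, LinearMap.IsProj (valSub Q.1 Q.2.1) (πQ Q) :=
      fun Q hQ => hπQ Q (Finset.mem_insert_of_mem hQ)
    obtain ⟨ihE, ihres⟩ := ih hE' hπQ'
    set B : Submodule k K := ⨅ Q ∈ S, valSub Q.1 Q.2.1 with hB
    set A : Submodule k K := valSub Q₀.1 Q₀.2.1 with hA
    have hinf : (⨅ Q ∈ insert Q₀ S, valSub Q.1 Q.2.1) = A ⊓ B := Finset.iInf_insert _ _ _
    rw [hinf]
    have hEA : ∀ z : K, InE A (mulK k z) := hE Q₀ (Finset.mem_insert_self _ _)
    -- `A ⊔ B = ⊤` by weak approximation
    have hsup : A ⊔ B = ⊤ := by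
      rw [eq_top_iff]
      intro z _
      let Pl : ↥(insert Q₀ S) → Place k K := Subtype.val
      have hinj : Function.Injective Pl := Subtype.val_injective
      obtain ⟨b, hb⟩ := weak_approx Pl hinj (fun i => if (i : Place k K) = Q₀ then z else 0) 0
      have hbA : z - b ∈ A := by
        have := hb ⟨Q₀, Finset.mem_insert_self _ _⟩
        simp only [Pl, if_true, exp_zero] at this
        change Q₀.1 (z - b) ≤ 1
        rw [← neg_sub, Valuation.map_neg]
        exact this.le
      have hbB : b ∈ B := by
        rw [hB, Submodule.mem_iInf]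
        intro Q
        rw [Submodule.mem_iInf]
        intro hQ
        have hne : Q ≠ Q₀ := fun h => hQ₀ (h ▸ hQ)
        have := hb ⟨Q, Finset.mem_insert_of_mem hQ⟩
        simp only [Pl, if_neg hne, sub_zero, exp_zero] at this
        exact this.le
      have : z = (z - b) + b := by abel
      rw [this]
      exact Submodule.add_mem_sup hbA hbB
    refine ⟨fun z => (hEA z).inf (ihE z), fun π hπ => ?_⟩
    obtain ⟨πB, hπB⟩ := exists_isProj B
    rw [tres_inf_eq_add A B hsup (hEA y) (hEA x) (ihE y) (ihE x) hcomm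
      (hπQ Q₀ (Finset.mem_insert_self _ _)) hπB hπ, Finset.sum_insert hQ₀, ihres πB hπB]

end Global

end Groth.Agent.H57.Tate
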