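import Mathlib

/-!
# Finite potent endomorphisms and their trace (after Tate)

An endomorphism `θ` of a vector space `V` is *finite potent* if some power has finite-dimensional
range.  Its trace is the trace of `θ` on the range of such a power.
-/

set_option autoImplicit false

namespace Groth.Agent.H57.Tate

open LinearMap Module

variable {k : Type*} [Field k] {V : Type*} [AddCommGroup V] [Module k V]

/-- The trace of the restriction of `θ` to a `θ`-stable subspace. -/
noncomputable def trOn (θ : End k V) (W : Submodule k V) (hW : ∀ w ∈ W, θ w ∈ W) : k :=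
  LinearMap.trace k W (θ.restrict hW)

theorem trOn_congr (θ : End k V) {W W' : Submodule k V} (h : W = W') (hW : ∀ w ∈ W, θ w ∈ W) :
    trOn θ W hW = trOn θ W' (fun w hw => h ▸ hW w (h ▸ hw)) := by
  subst h
  rfl

/-- If `θ` maps the finite-dimensional stable subspace `W` into the smaller stable subspace `W₁`,
the traces on `W` and `W₁` agree. -/
theorem trOn_eq_of_map_le (θ : End k V) {W₁ W : Submodule k V} [FiniteDimensional k W]
    (h : W₁ ≤ W) (hW : ∀ w ∈ W, θ w ∈ W₁) :
    trOn θ W (fun w hw => h (hW w hw)) = trOn θ W₁ (fun w hw => hW w (h hw)) := by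
  unfold trOn
  set f : W →ₗ[k] W := θ.restrict (fun w hw => h (hW w hw)) with hf
  set p : Submodule k W := W₁.comap W.subtype with hp
  have hfp : ∀ x, f x ∈ p := by
    intro x
    change θ x ∈ W₁
    exact hW x x.2
  have h1 := LinearMap.trace_restrict_eq_of_forall_mem p f hfp
  rw [← h1]
  set e : p ≃ₗ[k] W₁ := Submodule.comapSubtypeEquivOfLe h with he
  rw [← LinearMap.trace_conj' (f.restrict fun x _ => hfp x) e]
  congr 1

/-- If some power of `θ` maps the finite-dimensional stable subspace `W` into the stable subspace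
`U ≤ W`, the traces on `W` and `U` agree. -/
theorem trOn_eq_of_pow_map_le (θ : End k V) (j : ℕ) :
    ∀ (W U : Submodule k V) [FiniteDimensional k W] (_ : U ≤ W)
      (hW : ∀ w ∈ W, θ w ∈ W) (hU : ∀ u ∈ U, θ u ∈ U) (_ : ∀ w ∈ W, (θ ^ j) w ∈ U),
      trOn θ W hW = trOn θ U hU := by
  induction j with
  | zero =>
    intro W U _ hUW hW hU hj
    have hWU : W = U := le_antisymm (fun w hw => by simpa using hj w hw) hUW
    exact trOn_congr θ hWU hW
  | succ j ih =>
    intro W U _ hUW hW hU hj
    set W₁ : Submodule k V := U ⊔ W.map θ with hW₁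
    have hmapW : W.map θ ≤ W := by
      rintro _ ⟨w, hw, rfl⟩
      exact hW w hw
    have hW₁W : W₁ ≤ W := sup_le hUW hmapW
    have : FiniteDimensional k W₁ := Submodule.finiteDimensional_of_le hW₁W
    have hθW : ∀ w ∈ W, θ w ∈ W₁ := fun w hw =>
      Submodule.mem_sup_right (Submodule.mem_map_of_mem hw)
    have hW₁st : ∀ w ∈ W₁, θ w ∈ W₁ := fun w hw => hθW w (hW₁W hw)
    have hj₁ : ∀ w ∈ W₁, (θ ^ j) w ∈ U := by
      intro w hw
      rw [hW₁, Submodule.mem_sup] at hw
      obtain ⟨u, hu, w', hw', rfl⟩ := hw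
      obtain ⟨w'', hw'', rfl⟩ := hw'
      rw [map_add]
      refine U.add_mem ?_ ?_
      · have : ∀ (n : ℕ) (u : V), u ∈ U → (θ ^ n) u ∈ U := by
          intro n
          induction n with
          | zero => intro u hu; simpa using hu
          | succ n ihn =>
            intro u hu
            rw [pow_succ, Module.End.mul_apply]
            exact ihn _ (hU u hu)
        exact this j u hu
      · have := hj w'' hw''
        rwa [pow_succ, Module.End.mul_apply] at this
    have h1 : trOn θ W hW = trOn θ W₁ hW₁st := trOn_eq_of_map_le θ hW₁W hθW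
    rw [h1]
    exact ih W₁ U le_sup_left hW₁st hU hj₁

/-- `θ` is finite potent: some power has finite-dimensional range. -/
def IsFP (θ : End k V) : Prop := ∃ n : ℕ, FiniteDimensional k (LinearMap.range (θ ^ n))

theorem pow_apply_comm (θ : End k V) (n : ℕ) (v : V) : θ ((θ ^ n) v) = (θ ^ n) (θ v) := by
  rw [← Module.End.mul_apply, ← Module.End.mul_apply, ← pow_succ', ← pow_succ]

theorem range_pow_stable (θ : End k V) (n : ℕ) :
    ∀ w ∈ LinearMap.range (θ ^ n), θ w ∈ LinearMap.range (θ ^ n) := by
  rintro _ ⟨v, rfl⟩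
  exact ⟨θ v, (pow_apply_comm θ n v).symm⟩

theorem range_pow_anti (θ : End k V) {m n : ℕ} (h : m ≤ n) :
    LinearMap.range (θ ^ n) ≤ LinearMap.range (θ ^ m) := by
  rintro _ ⟨v, rfl⟩
  obtain ⟨d, rfl⟩ := Nat.exists_eq_add_of_le h
  exact ⟨(θ ^ d) v, by rw [pow_add, Module.End.mul_apply]⟩

open Classical in
/-- The trace of a finite potent endomorphism (`0` if not finite potent). -/
noncomputable def fpTrace (θ : End k V) : k :=
  if h : IsFP θ then
    haveI := Nat.find_spec h
    trOn θ (LinearMap.range (θ ^ Nat.find h)) (range_pow_stable θ _)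
  else 0

/-- The trace of a finite potent endomorphism can be computed on any finite-dimensional stable
subspace containing the range of some power. -/
theorem fpTrace_eq (θ : End k V) (W : Submodule k V) [FiniteDimensional k W]
    (hW : ∀ w ∈ W, θ w ∈ W) (m : ℕ) (hm : LinearMap.range (θ ^ m) ≤ W) :
    fpTrace θ = trOn θ W hW := by
  classical
  have hfp : IsFP θ := ⟨m, Submodule.finiteDimensional_of_le hm⟩
  unfold fpTrace
  rw [dif_pos hfp]
  set n := Nat.find hfp with hn
  have hfin : FiniteDimensional k (LinearMap.range (θ ^ n)) := Nat.find_spec hfp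
  set N := max m n with hN
  set U' : Submodule k V := LinearMap.range (θ ^ N) with hU'
  have hU'U : U' ≤ LinearMap.range (θ ^ n) := range_pow_anti θ (le_max_right m n)
  have hU'W : U' ≤ W := (range_pow_anti θ (le_max_left m n)).trans hm
  have hU'st := range_pow_stable θ N
  have h1 : trOn θ (LinearMap.range (θ ^ n)) (range_pow_stable θ n) = trOn θ U' hU'st :=
    trOn_eq_of_pow_map_le θ N _ U' hU'U _ hU'st (fun w _ => ⟨w, rfl⟩)
  have h2 : trOn θ W hW = trOn θ U' hU'st :=
    trOn_eq_of_pow_map_le θ N W U' hU'W hW hU'st (fun w _ => ⟨w, rfl⟩)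
  rw [h1, h2]

/-- A nilpotent endomorphism has trace zero. -/
theorem fpTrace_eq_zero_of_pow_eq_zero (θ : End k V) (m : ℕ) (h : θ ^ m = 0) : fpTrace θ = 0 := by
  have hm : LinearMap.range (θ ^ m) ≤ (⊥ : Submodule k V) := by
    rw [h]
    rintro _ ⟨v, rfl⟩
    simp
  rw [fpTrace_eq θ ⊥ (fun w hw => by rw [Submodule.mem_bot] at hw ⊢; rw [hw, map_zero]) m hm]
  unfold trOn
  have : θ.restrict (p := (⊥ : Submodule k V)) (q := ⊥)
      (fun w hw => by rw [Submodule.mem_bot] at hw ⊢; rw [hw, map_zero]) = 0 := by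
    ext x
  rw [this, map_zero]

end Groth.Agent.H57.Tate
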