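import Groth.Agent.H57.TateTrace

/-!
# Finite potent trace: commutation and additivity
-/

set_option autoImplicit false

namespace Groth.Agent.H57.Tate

open LinearMap Module

variable {k : Type*} [Field k] {V : Type*} [AddCommGroup V] [Module k V]
variable {V' : Type*} [AddCommGroup V'] [Module k V']

theorem comp_pow_comm (φ : V' →ₗ[k] V) (ψ : V →ₗ[k] V') (n : ℕ) (v : V) :
    ((ψ ∘ₗ φ : End k V') ^ n) (ψ v) = ψ (((φ ∘ₗ ψ : End k V) ^ n) v) := by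
  induction n generalizing v with
  | zero => simp
  | succ n ih =>
    rw [pow_succ, Module.End.mul_apply, pow_succ, Module.End.mul_apply]
    change ((ψ ∘ₗ φ : End k V') ^ n) (ψ (φ (ψ v))) = _
    rw [ih]
    rfl

/-- `Tr(φψ) = Tr(ψφ)` for finite potent `φψ`. -/
theorem fpTrace_comp_comm (φ : V' →ₗ[k] V) (ψ : V →ₗ[k] V') (h : IsFP (φ ∘ₗ ψ : End k V)) :
    fpTrace (φ ∘ₗ ψ : End k V) = fpTrace (ψ ∘ₗ φ : End k V') := by
  obtain ⟨n, hn⟩ := h
  set a : End k V := φ ∘ₗ ψ with ha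
  set b : End k V' := ψ ∘ₗ φ with hb
  set W : Submodule k V := LinearMap.range (a ^ n) with hW
  set W' : Submodule k V' := W.map ψ with hW'
  have : FiniteDimensional k W := hn
  have hWst := range_pow_stable a n
  have hW'st : ∀ w ∈ W', b w ∈ W' := by
    rintro _ ⟨w, hw, rfl⟩
    exact ⟨a w, hWst w hw, rfl⟩
  have hbpow : LinearMap.range (b ^ (n + 1)) ≤ W' := by
    rintro _ ⟨v', rfl⟩
    rw [pow_succ, Module.End.mul_apply]
    change (b ^ n) (ψ (φ v')) ∈ W'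
    rw [hb, comp_pow_comm φ ψ n (φ v')]
    exact ⟨_, ⟨φ v', rfl⟩, rfl⟩
  rw [fpTrace_eq a W hWst n le_rfl, fpTrace_eq b W' hW'st (n + 1) hbpow]
  unfold trOn
  have hφW : ∀ w' ∈ W', φ w' ∈ W := by
    rintro _ ⟨w, hw, rfl⟩
    exact hWst w hw
  set ψ' : W →ₗ[k] W' := ψ.restrict (fun w hw => Submodule.mem_map_of_mem hw) with hψ'
  set φ' : W' →ₗ[k] W := φ.restrict hφW with hφ'
  have h1 : a.restrict hWst = φ' ∘ₗ ψ' := by
    ext w
    rfl
  have h2 : b.restrict hW'st = ψ' ∘ₗ φ' := by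
    ext w
    rfl
  rw [h1, h2]
  exact LinearMap.trace_comp_comm' ψ' φ'

/-- The chain of subspaces `F^N V` for the subspace `F` spanned by `θ₁, θ₂`. -/
def wordRange (θ₁ θ₂ : End k V) : ℕ → Submodule k V
  | 0 => ⊤
  | N + 1 => (wordRange θ₁ θ₂ N).map θ₁ ⊔ (wordRange θ₁ θ₂ N).map θ₂

theorem wordRange_succ_le (θ₁ θ₂ : End k V) (N : ℕ) :
    wordRange θ₁ θ₂ (N + 1) ≤ wordRange θ₁ θ₂ N := by
  induction N with
  | zero => exact le_top
  | succ N ih =>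
    change (wordRange θ₁ θ₂ (N + 1)).map θ₁ ⊔ (wordRange θ₁ θ₂ (N + 1)).map θ₂ ≤
      (wordRange θ₁ θ₂ N).map θ₁ ⊔ (wordRange θ₁ θ₂ N).map θ₂
    exact sup_le_sup (Submodule.map_mono ih) (Submodule.map_mono ih)

theorem map_left_wordRange (θ₁ θ₂ : End k V) (N : ℕ) (w : V) (hw : w ∈ wordRange θ₁ θ₂ N) :
    θ₁ w ∈ wordRange θ₁ θ₂ (N + 1) :=
  Submodule.mem_sup_left (Submodule.mem_map_of_mem hw)

theorem map_right_wordRange (θ₁ θ₂ : End k V) (N : ℕ) (w : V) (hw : w ∈ wordRange θ₁ θ₂ N) :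
    θ₂ w ∈ wordRange θ₁ θ₂ (N + 1) :=
  Submodule.mem_sup_right (Submodule.mem_map_of_mem hw)

theorem range_pow_left_le (θ₁ θ₂ : End k V) (N : ℕ) :
    LinearMap.range (θ₁ ^ N) ≤ wordRange θ₁ θ₂ N := by
  induction N with
  | zero => exact le_top
  | succ N ih =>
    rintro _ ⟨v, rfl⟩
    rw [pow_succ', Module.End.mul_apply]
    exact map_left_wordRange θ₁ θ₂ N _ (ih ⟨v, rfl⟩)

theorem range_pow_right_le (θ₁ θ₂ : End k V) (N : ℕ) :
    LinearMap.range (θ₂ ^ N) ≤ wordRange θ₁ θ₂ N := by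
  induction N with
  | zero => exact le_top
  | succ N ih =>
    rintro _ ⟨v, rfl⟩
    rw [pow_succ', Module.End.mul_apply]
    exact map_right_wordRange θ₁ θ₂ N _ (ih ⟨v, rfl⟩)

theorem range_pow_add_le (θ₁ θ₂ : End k V) (N : ℕ) :
    LinearMap.range ((θ₁ + θ₂) ^ N) ≤ wordRange θ₁ θ₂ N := by
  induction N with
  | zero => exact le_top
  | succ N ih =>
    rintro _ ⟨v, rfl⟩
    rw [pow_succ', Module.End.mul_apply, LinearMap.add_apply]
    exact (wordRange θ₁ θ₂ (N + 1)).add_mem (map_left_wordRange θ₁ θ₂ N _ (ih ⟨v, rfl⟩))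
      (map_right_wordRange θ₁ θ₂ N _ (ih ⟨v, rfl⟩))

/-- Additivity of the trace on a finite potent subspace. -/
theorem fpTrace_add (θ₁ θ₂ : End k V) (N : ℕ) (h : FiniteDimensional k (wordRange θ₁ θ₂ N)) :
    fpTrace (θ₁ + θ₂) = fpTrace θ₁ + fpTrace θ₂ := by
  set W := wordRange θ₁ θ₂ N with hW
  have h1 : ∀ w ∈ W, θ₁ w ∈ W := fun w hw =>
    wordRange_succ_le θ₁ θ₂ N (map_left_wordRange θ₁ θ₂ N w hw)
  have h2 : ∀ w ∈ W, θ₂ w ∈ W := fun w hw =>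
    wordRange_succ_le θ₁ θ₂ N (map_right_wordRange θ₁ θ₂ N w hw)
  have h12 : ∀ w ∈ W, (θ₁ + θ₂) w ∈ W := fun w hw => W.add_mem (h1 w hw) (h2 w hw)
  rw [fpTrace_eq θ₁ W h1 N (range_pow_left_le θ₁ θ₂ N),
    fpTrace_eq θ₂ W h2 N (range_pow_right_le θ₁ θ₂ N),
    fpTrace_eq (θ₁ + θ₂) W h12 N (range_pow_add_le θ₁ θ₂ N)]
  unfold trOn
  rw [← map_add]
  congr 1

/-- Homogeneity of the trace. -/
theorem fpTrace_smul (c : k) (θ : End k V) (h : IsFP θ) : fpTrace (c • θ) = c * fpTrace θ := by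
  obtain ⟨n, hn⟩ := h
  set W := LinearMap.range (θ ^ n) with hW
  have : FiniteDimensional k W := hn
  have hst := range_pow_stable θ n
  have hst' : ∀ w ∈ W, (c • θ) w ∈ W := fun w hw => W.smul_mem c (hst w hw)
  have hpow : LinearMap.range ((c • θ) ^ n) ≤ W := by
    rintro _ ⟨v, rfl⟩
    rw [smul_pow, LinearMap.smul_apply]
    exact W.smul_mem _ ⟨v, rfl⟩
  rw [fpTrace_eq θ W hst n le_rfl, fpTrace_eq (c • θ) W hst' n hpow]
  unfold trOn
  rw [← smul_eq_mul, ← map_smul]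
  congr 1

theorem fpTrace_neg (θ : End k V) (h : IsFP θ) : fpTrace (-θ) = -fpTrace θ := by
  have := fpTrace_smul (-1 : k) θ h
  rwa [neg_one_smul, neg_one_mul] at this

end Groth.Agent.H57.Tate
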