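import Groth.Agent.H57.WLocal
import Groth.Agent.H57.HasseExist
import Groth.Agent.FunFld.SepVar
import Groth.Agent.FunFld.Perfect

/-!
# Finiteness of torsion in genus one (characteristic zero)
-/

set_option autoImplicit false

namespace Groth.Agent.H57

open FunFld Groth.Agent.FF WithZero

universe u v
variable {k : Type u} {K : Type v} [Field k] [Field K] [Algebra k K]

section
variable [IsAlgClosed k] [CharZero k]

/-- In genus one and characteristic zero, only finitely many places `Q` have `m (Q - P)`
principal. -/
theorem finite_setOf_div_eq (hK : IsFunctionField k K) (hg1 : genus k K = 1) (P : Place k K)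
    (m : ℕ) (hm : 1 ≤ m) :
    {Q : Place k K | Q ≠ P ∧ ∃ h : K, h ≠ 0 ∧
      FunFld.div k h = Finsupp.single Q (m : ℤ) - Finsupp.single P (m : ℤ)}.Finite := by
  classical
  have hordP : ∀ (Q : Place k K) (h : K), Q ≠ P →
      FunFld.div k h = Finsupp.single Q (m : ℤ) - Finsupp.single P (m : ℤ) →
      P.ord h = -(m : ℤ) ∧ Q.ord h = m ∧ ∀ R : Place k K, R ≠ P → 0 ≤ R.ord h := by
    intro Q h hQ hdiv
    have hR : ∀ R : Place k K, R.ord h =
        (Finsupp.single Q (m : ℤ) - Finsupp.single P (m : ℤ) : Divisor k K) R := by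
      intro R
      rw [← hdiv, div_apply hK]
    refine ⟨?_, ?_, ?_⟩
    · rw [hR, Finsupp.sub_apply, Finsupp.single_eq_same, Finsupp.single_eq_of_ne (Ne.symm hQ)]
      ring
    · rw [hR, Finsupp.sub_apply, Finsupp.single_eq_same, Finsupp.single_eq_of_ne hQ]
      ring
    · intro R hRP
      rw [hR, Finsupp.sub_apply, Finsupp.single_eq_of_ne hRP, sub_zero, Finsupp.single_apply]
      split_ifs
      · positivity
      · exact le_rfl
  rcases Nat.lt_or_ge m 2 with hm2 | hm2
  · -- `m = 1`: impossible in genus one
    have hm1 : m = 1 := by omega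
    subst hm1
    convert Set.finite_empty
    ext Q
    simp only [Set.mem_ofPred_eq, Set.mem_empty_iff_false, iff_false]
    rintro ⟨hQ, h, hh0, hdiv⟩
    obtain ⟨h1, -, h3⟩ := hordP Q h hQ hdiv
    have := genus_eq_zero_of_simplePoleAt hK (x := h) (P := P)
      ⟨deg_eq_one_of_isAlgClosed hK P, by simpa using h1, h3⟩
    omega
  · -- `m ≥ 2`
    obtain ⟨n, hn⟩ : ∃ n : ℕ, m = n + 1 := ⟨m - 1, by omega⟩
    have hn0 : 0 < n := by omega
    set D : Divisor k K := Finsupp.single P (m : ℤ) with hD
    have hdegD : D.deg = m := by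
      rw [hD, deg_single, deg_eq_one_of_isAlgClosed hK P]; simp
    have hellD : ell D = n + 1 := by
      have h1 := ell_eq_of_deg_ge hK D (by rw [hdegD, hg1]; push_cast; omega)
      rw [hdegD, hg1] at h1
      have : (ell D : ℤ) = (n : ℤ) + 1 := by rw [h1, hn]; push_cast; ring
      exact_mod_cast this
    have hfinL : Module.Finite k (L D) := finite_L hK D
    have hfr : Module.finrank k (L D) = n + 1 := hellD
    let b := Module.finBasisOfFinrankEq k (L D) hfr
    set φ : Fin (n + 1) → K := fun i => ((b i : L D) : K) with hφdef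
    have hφ : LinearIndependent k φ :=
      b.linearIndependent.map' (L D).subtype (Submodule.ker_subtype _)
    have hspan : Submodule.span k (Set.range φ) = L D := by
      have h1 : Set.range φ = (L D).subtype '' Set.range b := by
        rw [← Set.range_comp]; rfl
      rw [h1, Submodule.span_image, b.span_eq, Submodule.map_subtype_top]
    have hchar : ringChar k = 0 ∨ (mapDiv k φ).deg < ringChar k := Or.inl (ringChar.eq_zero)
    have hgeo : IsGeometric k K := isGeometric_of_perfectField hK
    obtain ⟨s, hst, hsep⟩ := exists_separating hK hgeo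
    obtain ⟨H, hH⟩ := exists_isHasseFamily_of_isSeparable s hst
    obtain ⟨Φ, hΦ⟩ := exists_expansion_family hK
    set W := wDiv (AlgHom.id k K) H Φ s φ (fun l : Fin n => (l : ℕ) + 1) with hW
    refine (W.support.finite_toSet).subset ?_
    rintro Q ⟨hQ, h, hh0, hdiv⟩
    obtain ⟨h1, h2, h3⟩ := hordP Q h hQ hdiv
    rw [Finset.mem_coe, Finsupp.mem_support_iff]
    intro hW0
    obtain ⟨J', hmono, hpos, hord, hzero⟩ :=
      wDiv_local_general hK φ hφ hchar s H hH Φ hΦ Q
    have hJ' := hzero.1 hW0
    -- `mapDiv φ Q = 0`
    have hone : (1 : K) ∈ L D := by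
      intro R
      rw [map_one, ← exp_zero, exp_le_exp, hD, Finsupp.single_apply]
      split_ifs
      · positivity
      · exact le_rfl
    have hmapQ : mapDiv k φ Q = 0 := by
      apply le_antisymm
      · obtain ⟨i, hi⟩ := exists_ord_eq_neg_mapDiv hK φ Q
        have hmem : φ i ∈ L D := by rw [← hspan]; exact Submodule.subset_span ⟨i, rfl⟩
        have := hmem Q
        rw [val_le_exp_iff Q (hφ.ne_zero i), hD, Finsupp.single_eq_of_ne hQ] at this
        omega
      · have h1' : (1 : K) ∈ Submodule.span k (Set.range φ) := by rw [hspan]; exact hone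
        have := span_le_L_mapDiv hK φ h1' Q
        rw [val_le_exp_iff Q one_ne_zero, ord_one] at this
        omega
    -- `h` lies in the linear system and vanishes to order `m` at `Q`
    have hhL : h ∈ L D := by
      intro R
      rw [val_le_exp_iff R hh0, hD]
      by_cases hR : R = P
      · subst hR
        rw [Finsupp.single_eq_same, h1]
      · rw [Finsupp.single_eq_of_ne hR]
        have := h3 R hR
        omega
    have hmem : (m = 0 ∨ m ∈ Set.range J') := by
      apply (hord m).2
      refine ⟨h, by rw [hspan]; exact hhL, hh0, ?_⟩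
      rw [h2, hmapQ, sub_zero]
    rcases hmem with h0 | ⟨l, hl⟩
    · omega
    · have := hJ' l
      have := l.2
      omega

end

end Groth.Agent.H57
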