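import Groth.Agent.H57.LocalTrace
import Groth.Agent.H57.ResSep
import Groth.Agent.H57.Conductor
import Groth.Agent.FunFld.DiffExpU
import Groth.Agent.FunFld.RHurwitz

/-!
# The trace dual of the integral closure at a place of residue degree one

`min_{y ∈ R^*} v_Q(y) = -d(Q|P)` via the local trace formula for residues.
-/

set_option autoImplicit false

namespace Groth.Agent.H57.TDual

open FunFld Groth.Agent.FF Groth.Agent.FF.Ext Groth.Agent.H57.Tate WithZero

universe u v w

section Series
variable {F : Type w} [Field F]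

/-- An integral Laurent series is a power series. -/
theorem eq_coe_of_val_le_one {f : LaurentSeries F} (hf : Valued.v f ≤ (1 : ℤᵐ⁰)) :
    ((PowerSeries.mk fun n : ℕ => f.coeff (n : ℤ) : PowerSeries F) : LaurentSeries F) = f := by
  ext i
  rw [PowerSeries.coeff_coe]
  split_ifs with hi
  · exact (coeff_of_val_le_exp (m := 0) (by simpa using hf) i (by simpa using hi)).symm
  · rw [PowerSeries.coeff_mk, Int.natAbs_of_nonneg (not_lt.1 hi)]

theorem coeff_zero_coe (g : PowerSeries F) :
    ((g : LaurentSeries F)).coeff 0 = PowerSeries.constantCoeff g := by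
  rw [PowerSeries.coeff_coe, if_neg (lt_irrefl 0)]
  simp

/-- The constant coefficient is multiplicative on integral series. -/
theorem coeff_zero_mul {f g : LaurentSeries F} (hf : Valued.v f ≤ (1 : ℤᵐ⁰))
    (hg : Valued.v g ≤ (1 : ℤᵐ⁰)) : (f * g).coeff 0 = f.coeff 0 * g.coeff 0 := by
  rw [← eq_coe_of_val_le_one hf, ← eq_coe_of_val_le_one hg]
  rw [← map_mul (HahnSeries.ofPowerSeries ℤ F), coeff_zero_coe, coeff_zero_coe, coeff_zero_coe,
    map_mul]

/-- Integral series with vanishing constant coefficient have valuation `< 1`. -/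
theorem val_lt_one_of_coeff_zero {f : LaurentSeries F} (hf : Valued.v f ≤ (1 : ℤᵐ⁰))
    (h0 : f.coeff 0 = 0) : Valued.v f < (1 : ℤᵐ⁰) := by
  have h1 : Valued.v f ≤ (exp (-1 : ℤ) : ℤᵐ⁰) := by
    apply val_le_exp_of_coeff
    intro n hn
    have hn' : n ≤ 0 := by omega
    rcases lt_or_eq_of_le hn' with h | h
    · exact coeff_of_val_le_exp (m := 0) (by simpa using hf) n (by simpa using h)
    · rw [h, h0]
  exact lt_of_le_of_lt h1 (by rw [← exp_zero, exp_lt_exp]; norm_num)

theorem coeff_zero_of_val_lt_one {f : LaurentSeries F} (hf : Valued.v f < (1 : ℤᵐ⁰)) :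
    f.coeff 0 = 0 := by
  have h1 : Valued.v f ≤ (exp (-1 : ℤ) : ℤᵐ⁰) := by
    by_cases h0 : f = 0
    · rw [h0, map_zero]; exact zero_le
    · have hv : Valued.v f ≠ 0 := (Valuation.ne_zero_iff _).2 h0
      rw [← exp_log hv] at hf ⊢
      rw [← exp_zero, exp_lt_exp] at hf
      rw [exp_le_exp]
      omega
  exact coeff_of_val_le_exp h1 0 (by norm_num)

end Series

section Coeff
variable {k : Type u} {K : Type v} [Field k] [Field K] [Algebra k K]
variable {F : Type w} [Field F] [Algebra k F]
variable (w : Valuation K ℤᵐ⁰) (φ : K →ₐ[k] LaurentSeries F) (hφ : LocRes.IsExpansionAt w φ)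
include hφ

/-- Constant coefficients of expansions commute with polynomial evaluation at integral elements. -/
theorem coeff_zero_aeval (hw : ∀ c : k, w (algebraMap k K c) ≤ 1) {z : K} (hz : w z ≤ 1)
    (p : Polynomial k) :
    w (Polynomial.aeval z p) ≤ 1 ∧
      (φ (Polynomial.aeval z p)).coeff 0 = Polynomial.aeval ((φ z).coeff 0) p := by
  induction p using Polynomial.induction_on with
  | C c =>
    rw [Polynomial.aeval_C, Polynomial.aeval_C, LocRes.map_algebraMap]
    refine ⟨hw c, ?_⟩
    rw [HahnSeries.C_apply, HahnSeries.coeff_single_same]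
  | add p q hp hq =>
    refine ⟨?_, ?_⟩
    · rw [map_add]
      exact (w.map_add _ _).trans (max_le hp.1 hq.1)
    · rw [map_add, map_add φ, HahnSeries.coeff_add, hp.2, hq.2, map_add]
  | monomial n c ih =>
    have h1 : Polynomial.aeval z (Polynomial.C c * Polynomial.X ^ (n + 1)) =
        Polynomial.aeval z (Polynomial.C c * Polynomial.X ^ n) * z := by
      rw [pow_succ, ← mul_assoc, map_mul, Polynomial.aeval_X]
    have h2 : Polynomial.aeval ((φ z).coeff 0) (Polynomial.C c * Polynomial.X ^ (n + 1)) =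
        Polynomial.aeval ((φ z).coeff 0) (Polynomial.C c * Polynomial.X ^ n) * (φ z).coeff 0 := by
      rw [pow_succ, ← mul_assoc, map_mul, Polynomial.aeval_X]
    rw [h1, h2, map_mul φ]
    refine ⟨?_, ?_⟩
    · rw [map_mul]
      exact mul_le_one' ih.1 hz
    · rw [coeff_zero_mul (by rw [hφ.1]; exact ih.1) (by rw [hφ.1]; exact hz), ih.2]

end Coeff

section Setting
variable {k : Type u} {K K' : Type v} [Field k] [Field K] [Field K'] [Algebra k K] [Algebra K K']
  [Algebra k K'] [IsScalarTower k K K']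
variable {F F' : Type w} [Field F] [Algebra k F] [Field F'] [Algebra k F']
variable (P : Place k K) (Q : Place k K') {e : ℕ} (he : IsOverWith Q P e)
variable (φ : K →ₐ[k] LaurentSeries F) (hφ : LocRes.IsExpansionAt P.1 φ)
variable (ψ : K' →ₐ[k] LaurentSeries F') (hψ : LocRes.IsExpansionAt Q.1 ψ)
variable [P.1.HasExtension Q.1]
  (hf : Function.Surjective
    (algebraMap (IsLocalRing.ResidueField P.O) (IsLocalRing.ResidueField Q.O)))

include hf in
/-- Residue degree one: integral elements above are approximated by integral elements below. -/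
theorem exists_approx {z' : K'} (hz' : Q.1 z' ≤ 1) :
    ∃ z : K, P.1 z ≤ 1 ∧ Q.1 (z' - algebraMap K K' z) < 1 := by
  obtain ⟨r, hr⟩ := hf (IsLocalRing.residue Q.O ⟨z', hz'⟩)
  obtain ⟨c, rfl⟩ := IsLocalRing.residue_surjective r
  rw [Valuation.HasExtension.algebraMap_residue_eq_residue_algebraMap] at hr
  refine ⟨(c : K), c.2, ?_⟩
  have h0 : res Q ((⟨z', hz'⟩ : Q.O) - algebraMap P.O Q.O c) = 0 := by
    rw [map_sub, sub_eq_zero]
    exact hr.symm
  rw [res_eq_zero_iff] at h0
  exact h0

include hψ hf in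
/-- Every element of the coefficient field above is a constant coefficient from below. -/
theorem exists_lift (a : F') : ∃ z : K, P.1 z ≤ 1 ∧ (ψ (algebraMap K K' z)).coeff 0 = a := by
  obtain ⟨z', hz'1, hz'2⟩ := hψ.2.1 a
  obtain ⟨z, hz1, hz2⟩ := exists_approx P Q hf hz'1
  refine ⟨z, hz1, ?_⟩
  have h1 : (ψ (z' - algebraMap K K' z)).coeff 0 = 0 :=
    coeff_zero_of_val_lt_one (by rw [hψ.1]; exact hz2)
  rw [map_sub, HahnSeries.coeff_sub, hz'2, sub_eq_zero] at h1
  exact h1.symm

include he hφ hψ in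
theorem coeff_zero_iff {z : K} (hz : P.1 z ≤ 1) :
    (ψ (algebraMap K K' z)).coeff 0 = 0 ↔ (φ z).coeff 0 = 0 := by
  have hz' : Q.1 (algebraMap K K' z) ≤ 1 := by
    rw [he z]; exact pow_le_one' hz e
  have hepos := isOverWith_pos he
  constructor
  · intro h
    have h1 := val_lt_one_of_coeff_zero (by rw [hψ.1]; exact hz') h
    rw [hψ.1, he z] at h1
    apply coeff_zero_of_val_lt_one
    rw [hφ.1]
    by_contra hcon
    have h2 : P.1 z = 1 := le_antisymm hz (not_lt.1 hcon)
    rw [h2, one_pow] at h1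
    exact lt_irrefl _ h1
  · intro h
    have h1 := val_lt_one_of_coeff_zero (by rw [hφ.1]; exact hz) h
    rw [hφ.1] at h1
    apply coeff_zero_of_val_lt_one
    rw [hψ.1, he z]
    exact pow_lt_one' h1 hepos.ne'

include he hφ hψ hf in
/-- The coefficient field above is finite over `k`. -/
theorem finiteDimensional_above [FiniteDimensional k F] : FiniteDimensional k F' := by
  classical
  rw [FiniteDimensional, ← Module.rank_lt_aleph0_iff]
  have hle : Module.rank k F' ≤ (Module.finrank k F : ℕ) := by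
    apply rank_le
    intro t ht
    choose z hz1 hz2 using exists_lift P Q ψ hψ hf
    have hli : LinearIndependent k (fun a : t => (φ (z (a : F'))).coeff 0) := by
      rw [Fintype.linearIndependent_iff]
      intro c hc
      set s : K := ∑ a : t, algebraMap k K (c a) * z (a : F') with hs
      have hs1 : P.1 s ≤ 1 := by
        rw [hs]
        apply Valuation.map_sum_le
        intro a _
        rw [map_mul]
        exact mul_le_one' (P.2.1 _) (hz1 _)
      have h1 : (φ s).coeff 0 = 0 := by
        rw [hs, map_sum, HahnSeries.coeff_sum, ← hc]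
        apply Finset.sum_congr rfl
        intro a _
        rw [map_mul, LocRes.map_algebraMap, HahnSeries.C_mul_eq_smul, HahnSeries.coeff_smul,
          smul_eq_mul, Algebra.smul_def]
      have h2 := (coeff_zero_iff P Q he φ hφ ψ hψ hs1).2 h1
      rw [hs, map_sum, map_sum, HahnSeries.coeff_sum] at h2
      have h3 : ∑ a : t, c a • (a : F') = 0 := by
        rw [← h2]
        apply Finset.sum_congr rfl
        intro a _
        rw [map_mul, ← IsScalarTower.algebraMap_apply, map_mul, LocRes.map_algebraMap,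
          HahnSeries.C_mul_eq_smul, HahnSeries.coeff_smul, hz2, smul_eq_mul, Algebra.smul_def]
      exact (Fintype.linearIndependent_iff.mp ht) c h3
    have := hli.fintype_card_le_finrank
    rw [Fintype.card_coe] at this
    exact_mod_cast this
  exact lt_of_le_of_lt hle Cardinal.natCast_lt_aleph0

include he hφ hψ hf in
/-- The coefficient field above is separable over `k`. -/
theorem isSeparable_above [FiniteDimensional k F] [Algebra.IsSeparable k F] :
    Algebra.IsSeparable k F' := by
  constructor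
  intro a
  obtain ⟨z, hz1, hz2⟩ := exists_lift P Q ψ hψ hf a
  set α : F := (φ z).coeff 0 with hα
  set m := minpoly k α with hm
  have hmsep : m.Separable := Algebra.IsSeparable.isSeparable k α
  have h1 := coeff_zero_aeval P.1 φ hφ P.2.1 hz1 m
  rw [← hα, hm, minpoly.aeval] at h1
  have hz' : Q.1 (algebraMap K K' z) ≤ 1 := by
    rw [he z]; exact pow_le_one' hz1 e
  have h2 := (coeff_zero_iff P Q he φ hφ ψ hψ h1.1).2 h1.2
  have h3 := coeff_zero_aeval Q.1 ψ hψ Q.2.1 hz' (minpoly k α)
  rw [hz2, Polynomial.aeval_algebraMap_apply, h2] at h3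
  have hdvd : minpoly k a ∣ m := minpoly.dvd k a h3.2.symm
  exact hmsep.of_dvd hdvd

end Setting

section Main
variable {k : Type u} {K K' : Type v} [Field k] [Field K] [Field K'] [Algebra k K] [Algebra K K']
  [Algebra k K'] [IsScalarTower k K K'] [FiniteDimensional K K']
variable {F F' : Type w} [Field F] [Algebra k F] [Field F'] [Algebra k F']
  [FiniteDimensional k F] [FiniteDimensional k F']

/-- `y` lies in the trace dual of the integral closure of `O_P`. -/
def IsDual (P : Place k K) (y : K') : Prop :=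
  ∀ z : K', (∀ Q' : Place k K', IsOver Q' P → Q'.1 z ≤ 1) → P.1 (Algebra.trace K K' (y * z)) ≤ 1

variable (hK : IsFunctionField k K) (P : Place k K) (Q : Place k K') (hQP : IsOver Q P)
variable (φ : K →ₐ[k] LaurentSeries F) (hφ : LocRes.IsExpansionAt P.1 φ)
variable (ψ : K' →ₐ[k] LaurentSeries F') (hψ : LocRes.IsExpansionAt Q.1 ψ)
variable {t : K} (ht1 : P.1 t ≤ 1) (hDt : Valued.v (LocRes.D F (φ t)) = (1 : ℤᵐ⁰))
  (hV : LocRes.D F' (ψ (algebraMap K K' t)) ≠ 0)

include hK hQP hφ hψ ht1 hDt hV in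
/-- Elements of the trace dual have `y dt` regular at `Q`. -/
theorem val_le_of_isDual [Algebra.IsSeparable k F'] {y : K'} (hy : IsDual P y) :
    Q.1 y * Valued.v (LocRes.D F' (ψ (algebraMap K K' t))) ≤ 1 := by
  classical
  by_contra hcon
  rw [not_le] at hcon
  set t' : K' := algebraMap K K' t with ht'
  set V := Valued.v (LocRes.D F' (ψ t')) with hVdef
  have hV0 : V ≠ 0 := (Valuation.ne_zero_iff _).2 hV
  have hy0 : y ≠ 0 := by
    rintro rfl
    rw [map_zero, zero_mul] at hcon
    exact not_lt.2 zero_le_one hcon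
  set g : LaurentSeries F' := ψ y * LocRes.D F' (ψ t') with hg
  have hgv0 : Valued.v g = Q.1 y * V := by rw [hg, map_mul, hψ.1]
  have hgne : Valued.v g ≠ 0 := by
    rw [hgv0]
    exact mul_ne_zero ((Valuation.ne_zero_iff _).2 hy0) hV0
  set n : ℤ := -log (Valued.v g) with hn
  have hgv : Valued.v g = exp (-n) := by rw [hn, neg_neg, exp_log hgne]
  have hn1 : n ≤ -1 := by
    rw [← hgv0, hgv, ← exp_zero, exp_lt_exp] at hcon
    omega
  obtain ⟨β, hβ⟩ : ∃ β : F', Algebra.trace k F' β ≠ 0 := by
    obtain ⟨β, hβ⟩ := Algebra.trace_surjective k F' 1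
    exact ⟨β, by rw [hβ]; exact one_ne_zero⟩
  obtain ⟨a, ha1, ha2⟩ := ResW.exists_coeff_eq Q.1 ψ hψ g n hgv β
  -- approximate `a` at `Q` and `0` at the other places over `P`
  set Qs : Finset (Place k K') := (finite_isOver (K' := K') P).toFinset with hQs
  have hQsmem : ∀ Q', Q' ∈ Qs ↔ IsOver Q' P := fun Q' => by
    rw [hQs, Set.Finite.mem_toFinset]; rfl
  obtain ⟨M, hM⟩ := Finset.exists_le (Qs.image fun Q' : Place k K' => log (Q'.1 y))
  set N : ℤ := max (max M (-n)) 0 with hN
  have hNle : ∀ Q' ∈ Qs, log (Q'.1 y) ≤ N := by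
    intro Q' hQ'
    have h1 := hM _ (Finset.mem_image_of_mem (fun Q' : Place k K' => log (Q'.1 y)) hQ')
    have h2 : M ≤ N := (le_max_left _ _).trans (le_max_left _ _)
    exact h1.trans h2
  have hNn : -N ≤ n := by
    have h2 : -n ≤ N := (le_max_right _ _).trans (le_max_left _ _)
    omega
  have hN0 : 0 ≤ N := le_max_right _ _
  let Pl : ↥Qs → Place k K' := Subtype.val
  have hinj : Function.Injective Pl := Subtype.val_injective
  obtain ⟨a', ha'⟩ := weak_approx Pl hinj (fun i => if (i : Place k K') = Q then a else 0)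
    (-N)
  have hQmem : Q ∈ Qs := (hQsmem Q).2 hQP
  have ha'Q : Q.1 (a' - a) ≤ exp n := by
    have := ha' ⟨Q, hQmem⟩
    simp only [Pl, if_true] at this
    exact this.le.trans (exp_le_exp.2 hNn)
  have ha'other : ∀ Q' : Place k K', IsOver Q' P → Q' ≠ Q → Q'.1 a' ≤ exp (-N) := by
    intro Q' hQ' hne
    have := ha' ⟨Q', (hQsmem Q').2 hQ'⟩
    simp only [Pl, if_neg hne, sub_zero] at this
    exact this.le
  have hexpN : (exp (-N) : ℤᵐ⁰) ≤ 1 := by
    rw [← exp_zero, exp_le_exp]; omega
  have ha'int : ∀ Q' : Place k K', IsOver Q' P → Q'.1 a' ≤ 1 := by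
    intro Q' hQ'
    by_cases hne : Q' = Q
    · rw [hne]
      have : a' = a + (a' - a) := by ring
      rw [this]
      refine (Q.1.map_add _ _).trans (max_le (ha1.trans ?_) (ha'Q.trans ?_))
      · rw [← exp_zero, exp_le_exp]; omega
      · rw [← exp_zero, exp_le_exp]; omega
    · exact (ha'other Q' hQ' hne).trans hexpN
  have hya' : ∀ Q' : Place k K', IsOver Q' P → Q' ≠ Q → Q'.1 (y * a') ≤ 1 := by
    intro Q' hQ' hne
    rw [map_mul]
    have hy' : Q'.1 y ≠ 0 := (Valuation.ne_zero_iff _).2 hy0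
    calc Q'.1 y * Q'.1 a' ≤ exp (log (Q'.1 y)) * exp (-N) := by
          rw [exp_log hy']
          exact mul_le_mul_right (ha'other Q' hQ' hne) _
      _ ≤ exp 0 := by
          rw [← exp_add, exp_le_exp]
          have := hNle Q' ((hQsmem Q').2 hQ')
          omega
      _ = 1 := exp_zero
  -- the residue below vanishes
  have hτ := hy a' ha'int
  have hbelow : LocRes.locRes φ (Algebra.trace K K' (y * a')) t = 0 := by
    unfold LocRes.locRes LocRes.resExp
    rw [Cond.res_eq_zero_of_val_le_one, map_zero]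
    rw [map_mul, hDt, mul_one, hφ.1]
    exact hτ
  have hLTF := LTrace.locRes_trace_eq hK P Q hQP φ hφ ψ hψ (y * a') t hya' ht1
  rw [hbelow] at hLTF
  -- the residue above does not
  apply hβ
  rw [hLTF]
  unfold LocRes.locRes LocRes.resExp
  congr 1
  rw [LocRes.res_apply]
  have h1 : ψ (y * a') * LocRes.D F' (ψ (algebraMap K K' t)) =
      ψ a * g + ψ (a' - a) * g := by
    rw [hg, map_mul, map_sub]
    ring
  rw [h1, HahnSeries.coeff_add, ha2, ResW.coeff_eq_zero_of_le Q.1 ψ hψ g n hgv (a' - a) ha'Q,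
    add_zero]

include hK hQP hφ hψ ht1 hDt in
/-- Conversely, if `y dt` is regular at `Q` and `y` is integral at the other places over `P`, then
`y` lies in the trace dual. -/
theorem isDual_of_val_le [Algebra.IsSeparable k F] {y : K'}
    (hy : Q.1 y * Valued.v (LocRes.D F' (ψ (algebraMap K K' t))) ≤ 1)
    (hy' : ∀ Q' : Place k K', IsOver Q' P → Q' ≠ Q → Q'.1 y ≤ 1) : IsDual P y := by
  classical
  intro z hz
  by_contra hcon
  rw [not_le] at hcon
  set τ := Algebra.trace K K' (y * z) with hτ
  have hτ0 : τ ≠ 0 := by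
    intro h0
    rw [h0, map_zero] at hcon
    exact not_lt.2 zero_le_one hcon
  set g : LaurentSeries F := φ τ * LocRes.D F (φ t) with hg
  have hgv0 : Valued.v g = P.1 τ := by rw [hg, map_mul, hφ.1, hDt, mul_one]
  have hgne : Valued.v g ≠ 0 := by
    rw [hgv0]
    exact (Valuation.ne_zero_iff _).2 hτ0
  set n : ℤ := -log (Valued.v g) with hn
  have hgv : Valued.v g = exp (-n) := by rw [hn, neg_neg, exp_log hgne]
  have hn1 : n ≤ -1 := by
    rw [← hgv0, hgv, ← exp_zero, exp_lt_exp] at hcon
    omega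
  obtain ⟨β, hβ⟩ : ∃ β : F, Algebra.trace k F β ≠ 0 := by
    obtain ⟨β, hβ⟩ := Algebra.trace_surjective k F 1
    exact ⟨β, by rw [hβ]; exact one_ne_zero⟩
  obtain ⟨a, ha1, ha2⟩ := ResW.exists_coeff_eq P.1 φ hφ g n hgv β
  have ha1' : P.1 a ≤ 1 := ha1.trans (by rw [← exp_zero, exp_le_exp]; omega)
  have haQ : ∀ Q' : Place k K', IsOver Q' P → Q'.1 (algebraMap K K' a) ≤ 1 := by
    rintro Q' ⟨e', he'⟩
    rw [he' a]
    exact pow_le_one' ha1' e'
  set y' : K' := algebraMap K K' a * (y * z) with hy'def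
  have htr : Algebra.trace K K' y' = a * τ := by
    rw [hy'def, ← Algebra.smul_def, map_smul, smul_eq_mul]
  have hy'int : ∀ Q' : Place k K', IsOver Q' P → Q' ≠ Q → Q'.1 y' ≤ 1 := by
    intro Q' hQ' hne
    rw [hy'def, map_mul, map_mul]
    exact mul_le_one' (haQ Q' hQ') (mul_le_one' (hy' Q' hQ' hne) (hz Q' hQ'))
  have hLTF := LTrace.locRes_trace_eq hK P Q hQP φ hφ ψ hψ y' t hy'int ht1
  have habove : LocRes.locRes ψ y' (algebraMap K K' t) = 0 := by
    unfold LocRes.locRes LocRes.resExp
    rw [Cond.res_eq_zero_of_val_le_one, map_zero]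
    rw [map_mul, hψ.1, hy'def, map_mul, map_mul]
    calc Q.1 (algebraMap K K' a) * (Q.1 y * Q.1 z) *
          Valued.v (LocRes.D F' (ψ (algebraMap K K' t)))
        = (Q.1 (algebraMap K K' a) * Q.1 z) *
          (Q.1 y * Valued.v (LocRes.D F' (ψ (algebraMap K K' t)))) := by
            rw [mul_comm (Q.1 y) (Q.1 z), ← mul_assoc, mul_assoc]
      _ ≤ 1 * 1 := mul_le_mul' (mul_le_one' (haQ Q hQP) (hz Q hQP)) hy
      _ = 1 := one_mul 1
  rw [habove, htr] at hLTF
  apply hβ
  rw [← ha2]
  have : LocRes.locRes φ (a * τ) t = Algebra.trace k F ((φ a * g).coeff (-1)) := by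
    unfold LocRes.locRes LocRes.resExp
    rw [LocRes.res_apply, hg, map_mul φ, mul_assoc]
  rw [← this, hLTF]

end Main

end Groth.Agent.H57.TDual
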