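import Groth.Agent.H57.FFBasic
import Groth.Agent.FunFld.PlaceExt

/-!
# Units of subrings of a function field of one variable: the valuation map at the bad places
-/

set_option autoImplicit false

namespace Groth.Agent.H57.UnitsFG

open FunFld Groth.Agent.FF WithZero

universe u v

variable {k₁ : Type u} {L : Type v} [Field k₁] [Field L] [Algebra k₁ L]

/-- a function without zeros and poles is a constant -/
theorem mem_range_of_forall_val_eq_one (hK : IsFunctionField k₁ L) {w : L}
    (h : ∀ P : Place k₁ L, P.1 w = 1) : w ∈ Set.range (algebraMap k₁ L) := by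
  by_contra hw
  have htr := transcendental_of_not_mem_range hK hw
  obtain ⟨P, hP⟩ := exists_pole_of_transcendental hK htr
  rw [Place.ord, h P, log_one] at hP
  omega

/-- the places at which some element of a finite set has a pole -/
def badPlaces (k₁ : Type u) {L : Type v} [Field k₁] [Field L] [Algebra k₁ L] (Y : Finset L) :
    Set (Place k₁ L) :=
  {P | ∃ y ∈ Y, 1 < P.1 y}

theorem finite_badPlaces (hK : IsFunctionField k₁ L) (Y : Finset L) :
    (badPlaces k₁ Y).Finite := by
  have : badPlaces k₁ Y = ⋃ y ∈ Y, {P : Place k₁ L | 1 < P.1 y} := by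
    ext P
    simp [badPlaces]
  rw [this]
  refine Set.Finite.biUnion Y.finite_toSet ?_
  intro y _
  by_cases hy : y = 0
  · subst hy
    have : {P : Place k₁ L | 1 < P.1 (0 : L)} = ∅ := by
      ext P
      simp
    rw [this]
    exact Set.finite_empty
  · exact finite_one_lt_val hK hy

/-- the valuation homomorphism of a place on units -/
noncomputable def valHom (P : Place k₁ L) : Lˣ →* Multiplicative ℤ :=
  (WithZero.unitsWithZeroEquiv (α := Multiplicative ℤ)).toMonoidHom.comp
    (Units.map (P.1 : L →* WithZero (Multiplicative ℤ)))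

theorem valHom_eq_one_iff (P : Place k₁ L) (w : Lˣ) : valHom P w = 1 ↔ P.1 (w : L) = 1 := by
  unfold valHom
  rw [MonoidHom.comp_apply, MulEquiv.coe_toMonoidHom, MulEquiv.map_eq_one_iff, Units.ext_iff]
  rfl

/-- the combined valuation homomorphism at a set of places -/
noncomputable def valHomAt (S : Set (Place k₁ L)) : Lˣ →* (S → Multiplicative ℤ) :=
  Pi.monoidHom fun P : S => valHom P.1

theorem valHomAt_eq_one_iff (S : Set (Place k₁ L)) (w : Lˣ) :
    valHomAt S w = 1 ↔ ∀ P ∈ S, P.1 (w : L) = 1 := by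
  constructor
  · intro h P hP
    have := congrFun h ⟨P, hP⟩
    exact (valHom_eq_one_iff P w).mp this
  · intro h
    funext P
    exact (valHom_eq_one_iff P.1 w).mpr (h P.1 P.2)

/-- If `w` and `w⁻¹` are integral at all places at which `Y` is integral, and `w` has trivial
valuation at the remaining places, then `w` is a constant. -/
theorem mem_range_of_valHomAt_eq_one (hK : IsFunctionField k₁ L) (Y : Finset L) (w : Lˣ)
    (hw : ∀ P : Place k₁ L, (∀ y ∈ Y, P.1 y ≤ 1) → P.1 (w : L) ≤ 1 ∧ P.1 ((w⁻¹ : Lˣ) : L) ≤ 1)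
    (h : valHomAt (badPlaces k₁ Y) w = 1) : (w : L) ∈ Set.range (algebraMap k₁ L) := by
  apply mem_range_of_forall_val_eq_one hK
  intro P
  by_cases hP : P ∈ badPlaces k₁ Y
  · exact (valHomAt_eq_one_iff _ w).mp h P hP
  · have hY : ∀ y ∈ Y, P.1 y ≤ 1 := by
      intro y hy
      by_contra hlt
      exact hP ⟨y, hy, not_le.mp hlt⟩
    obtain ⟨h1, h2⟩ := hw P hY
    have h3 : P.1 (w : L) * P.1 ((w⁻¹ : Lˣ) : L) = 1 := by
      rw [← map_mul, ← Units.val_mul, mul_inv_cancel, Units.val_one, map_one]
    apply le_antisymm h1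
    by_contra hlt
    have hlt' : P.1 (w : L) < 1 := not_le.mp hlt
    have : P.1 (w : L) * P.1 ((w⁻¹ : Lˣ) : L) < 1 := by
      calc P.1 (w : L) * P.1 ((w⁻¹ : Lˣ) : L) ≤ P.1 (w : L) * 1 := by gcongr
        _ = P.1 (w : L) := mul_one _
        _ < 1 := hlt'
    rw [h3] at this
    exact lt_irrefl _ this

end Groth.Agent.H57.UnitsFG
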