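import Mathlib

/-!
# An element algebraic over all coordinate hyperplanes of a transcendence basis is algebraic
-/

set_option autoImplicit false

namespace Groth.Agent.H57.UnitsFG

open Set

theorem matroid_mem_closure_empty {α : Type*} (M : Matroid α) {I : Set α} (hI : M.Indep I)
    {e : α} (he : ∀ f ∈ I, e ∈ M.closure (I \ {f})) :
    ∀ T : Set α, T.Finite → T ⊆ I → e ∈ M.closure T → e ∈ M.closure ∅ := by
  intro T hT
  induction T, hT using Set.Finite.induction_on with
  | empty => exact fun _ h => h
  | @insert f X hfX _ ih =>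
    intro hsub hcl
    have hXI : X ⊆ I := (subset_insert f X).trans hsub
    have hfI : f ∈ I := hsub (mem_insert f X)
    by_cases heX : e ∈ M.closure X
    · exact ih hXI heX
    · exfalso
      have h1 : f ∈ M.closure (insert e X) := Matroid.mem_closure_insert heX hcl
      have hXsub : X ⊆ I \ {f} := fun y hy => ⟨hXI hy, fun h => hfX (h ▸ hy)⟩
      have h2 : insert e X ⊆ M.closure (I \ {f}) := by
        intro y hy
        rcases hy with rfl | hy
        · exact he f hfI
        · exact M.mem_closure_of_mem' (hXsub hy) (hI.subset_ground (hXI hy))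
      have h3 := M.closure_subset_closure_of_subset_closure h2 h1
      exact hI.notMem_closure_sdiff_of_mem hfI h3

theorem isAlgebraic_of_forall_compl {k L : Type*} [Field k] [Field L] [Algebra k L]
    {ι : Type*} [Finite ι] [Nonempty ι] (x : ι → L) (hx : AlgebraicIndependent k x) (u : L)
    (h : ∀ i, IsAlgebraic (Algebra.adjoin k (x '' {i}ᶜ)) u) : IsAlgebraic k u := by
  have hinj : Function.Injective x := hx.injective
  let M := AlgebraicIndependent.matroid k L
  have hI : M.Indep (range x) := by
    rw [AlgebraicIndependent.matroid_indep_iff]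
    exact hx.to_subtype_range
  have hcompl : ∀ i, x '' {i}ᶜ = range x \ {x i} := by
    intro i
    rw [Set.image_compl_eq_range_sdiff_image hinj, image_singleton]
  have he : ∀ f ∈ range x, u ∈ M.closure (range x \ {f}) := by
    rintro _ ⟨i, rfl⟩
    rw [AlgebraicIndependent.matroid_closure_eq, ← hcompl]
    exact (Subalgebra.mem_algebraicClosure _ _).mpr (h i)
  obtain ⟨i₀⟩ := (inferInstance : Nonempty ι)
  have hfin : (range x \ {x i₀}).Finite := (Set.finite_range x).subset sdiff_subset
  have h0 := matroid_mem_closure_empty M hI he _ hfin sdiff_subset (he _ ⟨i₀, rfl⟩)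
  rw [AlgebraicIndependent.matroid_closure_eq, SetLike.mem_coe, Subalgebra.mem_algebraicClosure _ _,
    Algebra.adjoin_empty] at h0
  haveI : Algebra.IsAlgebraic k (⊥ : Subalgebra k L) := by
    refine ⟨fun y => ?_⟩
    obtain ⟨c, hc⟩ := Algebra.mem_bot.mp y.2
    have : y = algebraMap k (⊥ : Subalgebra k L) c := Subtype.ext hc.symm
    rw [this]
    exact isAlgebraic_algebraMap c
  exact h0.restrictScalars k

end Groth.Agent.H57.UnitsFG
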