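import Groth.Agent.H57.UnitsFF
import Groth.Agent.H57.UnitsMatroid

/-!
# Units of a finitely generated domain over a field: a homomorphism to a finite free abelian
group whose kernel consists of algebraic elements
-/

set_option autoImplicit false

namespace Groth.Agent.H57.UnitsFG

open FunFld IntermediateField

universe u

section Coord

variable {k A L : Type u} [Field k] [CommRing A] [IsDomain A] [Algebra k A] [Field L]
  [Algebra A L] [IsFractionRing A L] [Algebra k L] [IsScalarTower k A L]
  {s : ℕ} (g : MvPolynomial (Fin s) k →ₐ[k] A)

/-- the coordinates of a Noether normalization, in the fraction field -/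
noncomputable def coords : Fin s → L := fun i => algebraMap A L (g (MvPolynomial.X i))

theorem aeval_coords :
    MvPolynomial.aeval (coords (L := L) g) = (IsScalarTower.toAlgHom k A L).comp g := by
  apply MvPolynomial.algHom_ext
  intro i
  rw [MvPolynomial.aeval_X]
  rfl

theorem algebraicIndependent_coords (hg : Function.Injective g) :
    AlgebraicIndependent k (coords (L := L) g) := by
  unfold AlgebraicIndependent
  rw [aeval_coords]
  exact (IsFractionRing.injective A L).comp hg

/-- elements of `A` are integral over the polynomial subalgebra of the coordinates -/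
theorem isIntegral_adjoin_coords (hfin : g.Finite) (a : A) :
    IsIntegral (Algebra.adjoin k (Set.range (coords (L := L) g))) (algebraMap A L a) := by
  obtain ⟨p, hp, hpa⟩ := (RingHom.Finite.to_isIntegral hfin) a
  set R₀ := Algebra.adjoin k (Set.range (coords (L := L) g)) with hR₀
  let ψ : MvPolynomial (Fin s) k →ₐ[k] R₀ :=
    MvPolynomial.aeval (fun i => (⟨coords (L := L) g i, Algebra.subset_adjoin ⟨i, rfl⟩⟩ : R₀))
  have hcomp : (R₀.val).comp ψ = (IsScalarTower.toAlgHom k A L).comp g := by
    apply MvPolynomial.algHom_ext
    intro i
    show ((ψ (MvPolynomial.X i) : R₀) : L) = algebraMap A L (g (MvPolynomial.X i))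
    rw [MvPolynomial.aeval_X]
    rfl
  have hcomp' : (algebraMap R₀ L).comp (ψ : MvPolynomial (Fin s) k →+* R₀) =
      (algebraMap A L).comp (g : MvPolynomial (Fin s) k →+* A) :=
    RingHom.ext fun q => DFunLike.congr_fun hcomp q
  refine ⟨p.map (ψ : MvPolynomial (Fin s) k →+* R₀), hp.map _, ?_⟩
  rw [Polynomial.eval₂_map, hcomp', ← Polynomial.hom_eval₂]
  have : Polynomial.eval₂ (g : MvPolynomial (Fin s) k →+* A) a p = 0 := hpa
  rw [this, map_zero]

open scoped IntermediateField.algebraAdjoinAdjoin in
theorem isIntegral_fieldAdjoin_coords (hfin : g.Finite) (a : A) :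
    IsIntegral (IntermediateField.adjoin k (Set.range (coords (L := L) g))) (algebraMap A L a) :=
  (isIntegral_adjoin_coords (L := L) g hfin a).tower_top

theorem finiteDimensional_coords [Algebra.FiniteType k A] (hfin : g.Finite) :
    FiniteDimensional (IntermediateField.adjoin k (Set.range (coords (L := L) g))) L := by
  classical
  obtain ⟨Y, hY⟩ := (Algebra.FiniteType.out : (⊤ : Subalgebra k A).FG)
  set K₀ := IntermediateField.adjoin k (Set.range (coords (L := L) g)) with hK₀
  set S : Set L := (algebraMap A L) '' (Y : Set A) with hS
  haveI : Finite S := (Y.finite_toSet.image _).to_subtype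
  have hint : ∀ y ∈ S, IsIntegral K₀ y := by
    rintro _ ⟨a, -, rfl⟩
    exact isIntegral_fieldAdjoin_coords g hfin a
  haveI := IntermediateField.finiteDimensional_adjoin hint
  have hA : ∀ a : A, algebraMap A L a ∈ IntermediateField.adjoin K₀ S := by
    intro a
    have ha : a ∈ Algebra.adjoin k (Y : Set A) := by rw [hY]; trivial
    refine Algebra.adjoin_induction
      (p := fun a _ => algebraMap A L a ∈ IntermediateField.adjoin K₀ S) ?_ ?_ ?_ ?_ ha
    · intro y hy
      exact IntermediateField.subset_adjoin _ _ ⟨y, hy, rfl⟩
    · intro c
      rw [← IsScalarTower.algebraMap_apply k A L]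
      have : algebraMap k L c = algebraMap K₀ L (algebraMap k K₀ c) := rfl
      rw [this]
      exact IntermediateField.algebraMap_mem _ _
    · intro a b _ _ ha hb
      rw [map_add]
      exact add_mem ha hb
    · intro a b _ _ ha hb
      rw [map_mul]
      exact mul_mem ha hb
  have htop : IntermediateField.adjoin K₀ S = ⊤ := by
    rw [eq_top_iff]
    rintro z -
    obtain ⟨a, b, -, rfl⟩ := IsFractionRing.div_surjective (A := A) z
    exact div_mem (hA a) (hA b)
  rw [htop] at this
  exact Module.Finite.equiv (IntermediateField.topEquiv (F := K₀) (E := L)).toLinearEquiv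

end Coord

section Main

variable (k A : Type u) [Field k] [CommRing A] [IsDomain A] [Algebra k A]
  [Algebra.FiniteType k A]

/-- **Units of a finitely generated domain.**  There is a homomorphism from the units to a finite
free abelian group whose kernel consists of elements algebraic over the ground field. -/
theorem exists_valHom :
    ∃ (ι : Type u) (_ : Finite ι) (Ψ : Aˣ →* (ι → Multiplicative ℤ)),
      ∀ u : Aˣ, Ψ u = 1 → IsAlgebraic k (u : A) := by
  classical
  obtain ⟨s, g, hginj, hgfin⟩ := exists_finite_inj_algHom_of_fg k A
  obtain ⟨Y, hY⟩ := (Algebra.FiniteType.out : (⊤ : Subalgebra k A).FG)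
  have hxind := algebraicIndependent_coords (L := FractionRing A) g hginj
  haveI := finiteDimensional_coords (L := FractionRing A) g hgfin
  have hinjL : Function.Injective (algebraMap A (FractionRing A)) :=
    IsFractionRing.injective A (FractionRing A)
  rcases Nat.eq_zero_or_pos s with hs | hs
  · -- transcendence degree zero: everything is algebraic
    subst hs
    refine ⟨PEmpty, inferInstance, 1, fun u _ => ?_⟩
    have h1 := isIntegral_adjoin_coords (L := FractionRing A) g hgfin (u : A)
    have hempty : Set.range (coords (L := FractionRing A) g) = ∅ := Set.range_eq_empty _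
    rw [hempty, Algebra.adjoin_empty] at h1
    haveI : Algebra.IsIntegral k (⊥ : Subalgebra k (FractionRing A)) := by
      refine ⟨fun y => ?_⟩
      obtain ⟨c, hc⟩ := Algebra.mem_bot.mp y.2
      have : y = algebraMap k (⊥ : Subalgebra k (FractionRing A)) c := Subtype.ext hc.symm
      rw [this]
      exact isIntegral_algebraMap
    have h2 : IsIntegral k (algebraMap A (FractionRing A) (u : A)) := isIntegral_trans _ h1
    exact (isAlgebraic_algebraMap_iff hinjL).mp h2.isAlgebraic
  · haveI : Nonempty (Fin s) := ⟨⟨0, hs⟩⟩
    set x : Fin s → FractionRing A := coords (L := FractionRing A) g with hx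
    let YL : Finset (FractionRing A) := Y.image (algebraMap A (FractionRing A))
    have hK : ∀ i, IsFunctionField (constField (k := k) x i) (FractionRing A) :=
      fun i => isFunctionField_constField x i hxind
    have hbadfin : ∀ i, (badPlaces (constField (k := k) x i) YL).Finite :=
      fun i => finite_badPlaces (hK i) YL
    haveI : ∀ i, Finite ↥(badPlaces (constField (k := k) x i) YL) :=
      fun i => (hbadfin i).to_subtype
    -- integrality of `A` at the good places
    have hA : ∀ (i : Fin s) (a : A) (P : Place (constField (k := k) x i) (FractionRing A)),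
        (∀ y ∈ YL, P.1 y ≤ 1) → P.1 (algebraMap A (FractionRing A) a) ≤ 1 := by
      intro i a P hP
      have ha : a ∈ Algebra.adjoin k (Y : Set A) := by rw [hY]; trivial
      refine Algebra.adjoin_induction
        (p := fun a _ => P.1 (algebraMap A (FractionRing A) a) ≤ 1) ?_ ?_ ?_ ?_ ha
      · intro y hy
        exact hP _ (Finset.mem_image_of_mem _ hy)
      · intro c
        rw [← IsScalarTower.algebraMap_apply k A (FractionRing A)]
        have hmem : algebraMap k (FractionRing A) c ∈ constField (k := k) x i := by
          rw [mem_algebraicClosure_iff]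
          exact isAlgebraic_algebraMap (algebraMap k (coordField (k := k) x i) c)
        exact P.2.1 ⟨algebraMap k (FractionRing A) c, hmem⟩
      · intro a b _ _ ha hb
        rw [map_add]
        exact (P.1.map_add_le ha hb)
      · intro a b _ _ ha hb
        rw [map_mul, map_mul]
        exact mul_le_one' ha hb
    let toL : Aˣ →* (FractionRing A)ˣ := Units.map (algebraMap A (FractionRing A) : A →* FractionRing A)
    let Ψ : Aˣ →* ((Σ i : Fin s, ↥(badPlaces (constField (k := k) x i) YL)) → Multiplicative ℤ) :=
      Pi.monoidHom fun p =>
        (Pi.evalMonoidHom _ p.2).comp ((valHomAt (badPlaces (constField (k := k) x p.1) YL)).comp toL)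
    refine ⟨_, inferInstance, Ψ, fun u hu => ?_⟩
    have hi : ∀ i, IsAlgebraic (Algebra.adjoin k (x '' {i}ᶜ)) (algebraMap A (FractionRing A) (u : A)) := by
      intro i
      have h1 : valHomAt (badPlaces (constField (k := k) x i) YL) (toL u) = 1 := by
        funext P
        exact congrFun hu ⟨i, P⟩
      have h2 := mem_range_of_valHomAt_eq_one (hK i) YL (toL u)
        (fun P hP => ⟨hA i (u : A) P hP, hA i ((u⁻¹ : Aˣ) : A) P hP⟩) h1
      exact isAlgebraic_coordField_of_mem_range x i h2
    have h3 := isAlgebraic_of_forall_compl x hxind _ hi
    exact (isAlgebraic_algebraMap_iff hinjL).mp h3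

end Main

end Groth.Agent.H57.UnitsFG
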