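import Groth.Agent.H57.UnitsCurve

/-!
# A finitely generated field as a function field of one variable over the algebraic closure of
all but one coordinate
-/

set_option autoImplicit false

namespace Groth.Agent.H57.UnitsFG

open FunFld IntermediateField

universe u

variable {k L : Type u} [Field k] [Field L] [Algebra k L] {ι : Type*} (x : ι → L) (i : ι)

/-- the field generated by the coordinates other than `i` -/
abbrev coordField : IntermediateField k L := IntermediateField.adjoin k (x '' {i}ᶜ)

/-- the algebraic closure in `L` of the field generated by the coordinates other than `i` -/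
abbrev constField : IntermediateField (coordField (k := k) x i) L :=
  algebraicClosure (coordField (k := k) x i) L

theorem isAlgebraic_coordField_of_mem_range {y : L}
    (hy : y ∈ Set.range (algebraMap (constField (k := k) x i) L)) :
    IsAlgebraic (Algebra.adjoin k (x '' {i}ᶜ)) y := by
  obtain ⟨c, rfl⟩ := hy
  have h1 : IsAlgebraic (coordField (k := k) x i) (c : L) := (mem_algebraicClosure_iff).mp c.2
  exact (IntermediateField.isAlgebraic_adjoin_iff).mp h1

theorem isFunctionField_constField (hx : AlgebraicIndependent k x)
    [hfin : FiniteDimensional (IntermediateField.adjoin k (Set.range x)) L] :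
    IsFunctionField (constField (k := k) x i) L := by
  refine ⟨⟨x i, ?_, ?_⟩, ?_⟩
  · -- `x i` is transcendental
    intro halg
    have h1 : IsAlgebraic (coordField (k := k) x i) (x i) :=
      halg.restrictScalars (coordField (k := k) x i)
    have h2 : IsAlgebraic (Algebra.adjoin k (x '' {i}ᶜ)) (x i) :=
      (IntermediateField.isAlgebraic_adjoin_iff).mp h1
    exact hx.transcendental_adjoin (s := {i}ᶜ) (i := i) (by simp) h2
  · -- finiteness
    obtain ⟨T, hT⟩ := (Module.finite_def.mp hfin)
    set K₁ := IntermediateField.adjoin (constField (k := k) x i) ({x i} : Set L) with hK₁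
    have hsub : ∀ c ∈ IntermediateField.adjoin k (Set.range x), c ∈ K₁ := by
      intro c hc
      refine IntermediateField.adjoin_induction k (p := fun c _ => c ∈ K₁) ?_ ?_ ?_ ?_ ?_ hc
      · rintro _ ⟨j, rfl⟩
        by_cases hj : j = i
        · subst hj
          exact IntermediateField.mem_adjoin_simple_self _ _
        · have h1 : x j ∈ coordField (k := k) x i :=
            IntermediateField.subset_adjoin _ _ ⟨j, by simpa using hj, rfl⟩
          have h2 : x j ∈ constField (k := k) x i := by
            rw [mem_algebraicClosure_iff]
            exact isAlgebraic_algebraMap (⟨x j, h1⟩ : coordField (k := k) x i)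
          exact K₁.algebraMap_mem ⟨x j, h2⟩
      · intro c
        have h2 : algebraMap k L c ∈ constField (k := k) x i := by
          rw [mem_algebraicClosure_iff]
          exact isAlgebraic_algebraMap (algebraMap k (coordField (k := k) x i) c)
        exact K₁.algebraMap_mem ⟨algebraMap k L c, h2⟩
      · intro a b _ _ ha hb
        exact K₁.add_mem ha hb
      · intro a _ ha
        exact K₁.inv_mem ha
      · intro a b _ _ ha hb
        exact K₁.mul_mem ha hb
    refine Module.finite_def.mpr ⟨T, ?_⟩
    rw [eq_top_iff]
    rintro z -
    have hz : z ∈ Submodule.span (IntermediateField.adjoin k (Set.range x)) (T : Set L) := by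
      rw [hT]; trivial
    refine Submodule.span_induction (p := fun z _ => z ∈ Submodule.span K₁ (T : Set L))
      ?_ ?_ ?_ ?_ hz
    · intro t ht
      exact Submodule.subset_span ht
    · exact Submodule.zero_mem _
    · intro a b _ _ ha hb
      exact Submodule.add_mem _ ha hb
    · intro c w _ hw
      have : c • w = (⟨(c : L), hsub c c.2⟩ : K₁) • w := rfl
      rw [this]
      exact Submodule.smul_mem _ _ hw
  · intro y hy
    have h1 : IsAlgebraic (coordField (k := k) x i) y :=
      hy.restrictScalars (coordField (k := k) x i)
    exact ⟨⟨y, mem_algebraicClosure_iff.mpr h1⟩, rfl⟩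

end Groth.Agent.H57.UnitsFG
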