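import Mathlib

/-!
# A commutative group embedding into a finite free abelian group is finitely generated
-/

set_option autoImplicit false

namespace Groth.Agent.H57.UnitsFG

theorem group_fg_of_injective {G : Type*} [CommGroup G] {ι : Type*} [Finite ι]
    (φ : G →* (ι → Multiplicative ℤ)) (hφ : Function.Injective φ) : Group.FG G := by
  rw [GroupFG.iff_add_fg, ← Module.Finite.iff_addGroup_fg]
  let ψ : Additive G →+ (ι → ℤ) :=
    { toFun := fun a i => Multiplicative.toAdd (φ (Additive.toMul a) i)
      map_zero' := by
        funext i
        show Multiplicative.toAdd (φ 1 i) = 0
        rw [map_one]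
        rfl
      map_add' := by
        intro a b
        funext i
        show Multiplicative.toAdd (φ (Additive.toMul a * Additive.toMul b) i) = _
        rw [map_mul]
        rfl }
  have hψ : Function.Injective ψ := by
    intro a b hab
    have : φ (Additive.toMul a) = φ (Additive.toMul b) := by
      funext i
      have := congrFun hab i
      exact Multiplicative.toAdd.injective this
    exact Additive.toMul.injective (hφ this)
  exact Module.Finite.of_injective ψ.toIntLinearMap hψ

theorem group_fg_of_injective' {G : Type*} [inst : Group G] (hcomm : ∀ a b : G, a * b = b * a)
    {ι : Type*} [Finite ι]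
    (φ : G →* (ι → Multiplicative ℤ)) (hφ : Function.Injective φ) : Group.FG G := by
  letI : CommGroup G := { inst with mul_comm := hcomm }
  exact group_fg_of_injective φ hφ

end Groth.Agent.H57.UnitsFG
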