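import Groth.Agent.H57.UnitsDomain
import Groth.Agent.H57.UnitsGroup

/-!
# Units of a reduced scheme locally of finite type over a field, modulo constants
-/

set_option autoImplicit false

namespace Groth.Agent.H57.UnitsFG

open AlgebraicGeometry CategoryTheory TopologicalSpace Opposite

universe u

section Top

variable {T : Type*} [TopologicalSpace T]

/-- the complement of the other irreducible components -/
def compOpen (T : Type*) [TopologicalSpace T] (Z : Set T) : Set T :=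
  (⋃₀ (irreducibleComponents T \ {Z}))ᶜ

theorem isOpen_compOpen (hfin : (irreducibleComponents T).Finite) (Z : Set T) :
    IsOpen (compOpen T Z) := by
  unfold compOpen
  rw [isOpen_compl_iff, Set.sUnion_eq_biUnion]
  refine Set.Finite.isClosed_biUnion (hfin.subset Set.sdiff_subset) ?_
  intro Z' hZ'
  exact isClosed_of_mem_irreducibleComponents Z' hZ'.1

theorem compOpen_subset (Z : Set T) : compOpen T Z ⊆ Z := by
  intro x hx
  by_contra hxZ
  apply hx
  refine ⟨irreducibleComponent x, ⟨irreducibleComponent_mem_irreducibleComponents x, ?_⟩,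
    mem_irreducibleComponent⟩
  rintro (h : irreducibleComponent x = Z)
  exact hxZ (h ▸ mem_irreducibleComponent)

theorem compOpen_nonempty (hfin : (irreducibleComponents T).Finite) {Z : Set T}
    (hZ : Z ∈ irreducibleComponents T) : (compOpen T Z).Nonempty := by
  classical
  by_contra hempty
  rw [Set.not_nonempty_iff_eq_empty] at hempty
  have hcover : Z ⊆ ⋃₀ (irreducibleComponents T \ {Z}) := by
    intro x _
    by_contra hx
    have : x ∈ compOpen T Z := hx
    rw [hempty] at this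
    exact this
  have hZirr : IsIrreducible Z := hZ.1
  have hfin' : (irreducibleComponents T \ {Z}).Finite := hfin.subset Set.sdiff_subset
  have := (isIrreducible_iff_sUnion_isClosed.mp hZirr) hfin'.toFinset
    (fun z hz => isClosed_of_mem_irreducibleComponents z
      ((Set.Finite.mem_toFinset hfin').mp hz).1)
    (by rwa [Set.Finite.coe_toFinset])
  obtain ⟨Z', hZ', hsub⟩ := this
  rw [Set.Finite.mem_toFinset] at hZ'
  have hZ'irr : IsIrreducible Z' := hZ'.1.1
  have : Z' ⊆ Z := hZ.2 hZ'irr hsub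
  exact hZ'.2 (Set.Subset.antisymm this hsub)

end Top

section Sch

variable (X : Scheme.{u}) [IsReduced X]

theorem isDomain_of_isPreirreducible (U : X.Opens) (hU : IsPreirreducible (U : Set X))
    (hne : (U : Set X).Nonempty) : IsDomain Γ(X, U) := by
  haveI : Nonempty U := hne.to_subtype
  haveI : Nontrivial Γ(X, U) := inferInstance
  haveI : NoZeroDivisors Γ(X, U) := by
    refine ⟨fun {a b} e => ?_⟩
    simp_rw [← basicOpen_eq_bot_iff, ← Opens.not_nonempty_iff_eq_bot]
    by_contra! h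
    obtain ⟨x, hxa⟩ := h.1
    obtain ⟨y, hyb⟩ := h.2
    have hxU : x ∈ U := X.basicOpen_le a hxa
    have hyU : y ∈ U := X.basicOpen_le b hyb
    obtain ⟨z, hzU, hza, hzb⟩ := hU _ _ (X.basicOpen a).2 (X.basicOpen b).2
      ⟨x, hxU, hxa⟩ ⟨y, hyU, hyb⟩
    have : z ∈ X.basicOpen (a * b) := by
      rw [Scheme.basicOpen_mul]; exact ⟨hza, hzb⟩
    rw [e, Scheme.basicOpen_zero] at this
    exact this
  exact NoZeroDivisors.to_isDomain _

/-- a global function vanishing on nonempty opens inside every irreducible component vanishes -/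
theorem eq_zero_of_forall_res_eq_zero (U : irreducibleComponents X → X.Opens)
    (hUne : ∀ Z, ((U Z : X.Opens) : Set X).Nonempty)
    (hUsub : ∀ Z, ((U Z : X.Opens) : Set X) ⊆ Z.1)
    (h : Γ(X, ⊤)) (hres : ∀ Z, X.presheaf.map (homOfLE (le_top : U Z ≤ ⊤)).op h = 0) : h = 0 := by
  rw [← basicOpen_eq_bot_iff, ← Opens.not_nonempty_iff_eq_bot]
  rintro ⟨y, hy⟩
  let Z : irreducibleComponents X := ⟨irreducibleComponent y,
    irreducibleComponent_mem_irreducibleComponents y⟩
  have hZ : IsPreirreducible (Z.1 : Set X) := Z.2.1.isPreirreducible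
  obtain ⟨w, hw⟩ := hUne Z
  obtain ⟨z, hzZ, hzh, hzU⟩ := hZ _ _ (X.basicOpen h).2 (U Z).2
    ⟨y, mem_irreducibleComponent, hy⟩ ⟨w, hUsub Z hw, hw⟩
  have h1 : z ∈ X.basicOpen (X.presheaf.map (homOfLE (le_top : U Z ≤ ⊤)).op h) := by
    rw [Scheme.basicOpen_res]
    exact ⟨hzU, hzh⟩
  rw [hres Z, Scheme.basicOpen_zero] at h1
  exact h1

end Sch

section Main

variable (X : Scheme.{u}) [IsReduced X] [Nonempty X] (k : Type u) [Field k] (φ : k →+* Γ(X, ⊤))

/-- restriction of global sections to an open -/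
noncomputable abbrev res (U : X.Opens) : Γ(X, ⊤) →+* Γ(X, U) :=
  (X.presheaf.map (homOfLE (le_top : U ≤ ⊤)).op).hom

/-- **Units modulo constants are finitely generated.** -/
theorem units_quotient_fg (hirr : (irreducibleComponents X).Finite)
    (hft : ∀ U : X.affineOpens, ((res X U.1).comp φ).FiniteType)
    (hint : ∀ x : Γ(X, ⊤), φ.IsIntegralElem x → x ∈ Set.range φ)
    (N : Subgroup (Γ(X, ⊤))ˣ) (hN : ∀ c : kˣ, Units.map (φ : k →* Γ(X, ⊤)) c ∈ N) :
    Group.FG ((Γ(X, ⊤))ˣ ⧸ N) := by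
  classical
  haveI : Finite (irreducibleComponents X) := hirr.to_subtype
  haveI : Nonempty (⊤ : X.Opens) := ⟨⟨Classical.arbitrary X, trivial⟩⟩
  -- choose affine opens
  have hex : ∀ Z : irreducibleComponents X, ∃ U : X.affineOpens,
      ((U.1 : X.Opens) : Set X).Nonempty ∧ ((U.1 : X.Opens) : Set X) ⊆ Z.1 := by
    intro Z
    obtain ⟨x, hx⟩ := compOpen_nonempty hirr Z.2
    let W : X.Opens := ⟨compOpen X Z.1, isOpen_compOpen hirr Z.1⟩
    obtain ⟨U, hU, hxU, hUW⟩ :=
      Opens.isBasis_iff_nbhd.mp X.isBasis_affineOpens (show x ∈ W from hx)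
    exact ⟨⟨U, hU⟩, ⟨x, hxU⟩, fun y hy => compOpen_subset Z.1 (hUW hy)⟩
  choose U hUne hUsub using hex
  -- the units homomorphisms
  have key : ∀ Z : irreducibleComponents X, ∃ (ι : Type u) (_ : Finite ι)
      (Ψ : (Γ(X, (U Z).1))ˣ →* (ι → Multiplicative ℤ)),
      ∀ v : (Γ(X, (U Z).1))ˣ, Ψ v = 1 →
        ((res X (U Z).1).comp φ).IsIntegralElem (v : Γ(X, (U Z).1)) := by
    intro Z
    letI : Algebra k Γ(X, (U Z).1) := ((res X (U Z).1).comp φ).toAlgebra
    haveI : Algebra.FiniteType k Γ(X, (U Z).1) := hft (U Z)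
    haveI : IsDomain Γ(X, (U Z).1) := isDomain_of_isPreirreducible X (U Z).1
      (Z.2.1.isPreirreducible.open_subset (U Z).1.2 (hUsub Z)) (hUne Z)
    obtain ⟨ι, hι, Ψ, hΨ⟩ := exists_valHom k Γ(X, (U Z).1)
    refine ⟨ι, hι, Ψ, fun v hv => ?_⟩
    exact (hΨ v hv).isIntegral
  choose ι hι Ψ hΨ using key
  haveI : ∀ Z, Finite (ι Z) := hι
  let toU : ∀ Z : irreducibleComponents X, (Γ(X, ⊤))ˣ →* (Γ(X, (U Z).1))ˣ :=
    fun Z => Units.map ((res X (U Z).1 : Γ(X, ⊤) →+* Γ(X, (U Z).1)) : Γ(X, ⊤) →* Γ(X, (U Z).1))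
  let Ψtot : (Γ(X, ⊤))ˣ →* ((Σ Z : irreducibleComponents X, ι Z) → Multiplicative ℤ) :=
    Pi.monoidHom fun p => (Pi.evalMonoidHom _ p.2).comp ((Ψ p.1).comp (toU p.1))
  have hker : Ψtot.ker ≤ N := by
    intro u hu
    rw [MonoidHom.mem_ker] at hu
    have hZ : ∀ Z, ((res X (U Z).1).comp φ).IsIntegralElem (res X (U Z).1 (u : Γ(X, ⊤))) := by
      intro Z
      apply hΨ Z (toU Z u)
      funext j
      exact congrFun hu ⟨Z, j⟩
    choose p hpm hp0 using hZ
    haveI : Fintype (irreducibleComponents X) := Fintype.ofFinite _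
    have hintu : φ.IsIntegralElem (u : Γ(X, ⊤)) := by
      refine ⟨∏ Z, p Z, Polynomial.monic_prod_of_monic _ _ (fun Z _ => hpm Z), ?_⟩
      apply eq_zero_of_forall_res_eq_zero X (fun Z => (U Z).1) hUne hUsub
      intro Z
      show res X (U Z).1 (Polynomial.eval₂ φ (u : Γ(X, ⊤)) (∏ Z, p Z)) = 0
      rw [Polynomial.hom_eval₂, Polynomial.eval₂_finsetProd]
      exact Finset.prod_eq_zero (Finset.mem_univ Z) (hp0 Z)
    obtain ⟨c, hc⟩ := hint _ hintu
    have hc0 : c ≠ 0 := by
      rintro rfl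
      rw [map_zero] at hc
      have : IsUnit (0 : Γ(X, ⊤)) := hc ▸ u.isUnit
      exact not_isUnit_zero this
    have : u = Units.map (φ : k →* Γ(X, ⊤)) (Units.mk0 c hc0) := Units.ext hc.symm
    rw [this]
    exact hN _
  -- conclusion
  haveI : Group.FG ((Γ(X, ⊤))ˣ ⧸ Ψtot.ker) :=
    group_fg_of_injective' (fun a b => mul_comm a b) (QuotientGroup.kerLift Ψtot)
      (QuotientGroup.kerLift_injective Ψtot)
  let q : (Γ(X, ⊤))ˣ ⧸ Ψtot.ker →* (Γ(X, ⊤))ˣ ⧸ N :=
    QuotientGroup.map Ψtot.ker N (MonoidHom.id _) (by simpa using hker)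
  have hq : Function.Surjective q := by
    intro y
    obtain ⟨u, rfl⟩ := QuotientGroup.mk_surjective y
    exact ⟨QuotientGroup.mk u, rfl⟩
  exact Group.fg_of_surjective hq

end Main

end Groth.Agent.H57.UnitsFG
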