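import Mathlib.RingTheory.Unramified.LocalRing
import Mathlib.RingTheory.Unramified.Locus
import Mathlib.RingTheory.RegularLocalRing.Polynomial
import Mathlib.RingTheory.Ideal.KrullsHeightTheorem
import Mathlib.RingTheory.Ideal.GoingDown
import Mathlib.RingTheory.AdjoinRoot

/-!
# Regularity of `B[T]/(G)` at primes where `G'` is a unit, over a regular base
-/

set_option autoImplicit false

namespace Groth.Agent.H57.Weier

open Polynomial IsLocalRing

universe u
variable {B : Type u} [CommRing B] (G : B[X])

open scoped KaehlerDifferential in
/-- All Kähler differentials of `AdjoinRoot G` over `B` are killed by `G'(root)`. -/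
theorem derivative_smul_kaehler_eq_zero (ω : Ω[AdjoinRoot G⁄B]) :
    AdjoinRoot.mk G (derivative G) • ω = 0 := by
  have hω : ω ∈ Submodule.span (AdjoinRoot G)
      (Set.range (KaehlerDifferential.D B (AdjoinRoot G))) := by
    rw [KaehlerDifferential.span_range_derivation]; trivial
  have hroot : AdjoinRoot.mk G (derivative G) •
      KaehlerDifferential.D B (AdjoinRoot G) (AdjoinRoot.root G) = 0 := by
    rw [← AdjoinRoot.aeval_eq, ← Derivation.map_aeval, AdjoinRoot.aeval_eq, AdjoinRoot.mk_self,
      map_zero]
  induction hω using Submodule.span_induction with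
  | mem x hx =>
    obtain ⟨a, rfl⟩ := hx
    obtain ⟨q, rfl⟩ := AdjoinRoot.mk_surjective a
    rw [← AdjoinRoot.aeval_eq q, Derivation.map_aeval, smul_smul, mul_comm, ← smul_smul, hroot,
      smul_zero]
  | zero => rw [smul_zero]
  | add x y _ _ hx hy => rw [smul_add, hx, hy, add_zero]
  | smul a x _ hx => rw [smul_comm, hx, smul_zero]

/-- `AdjoinRoot G` is unramified over `B` at primes not containing `G'(root)`. -/
theorem isUnramifiedAt_of_derivative_notMem (P : Ideal (AdjoinRoot G)) [P.IsPrime]
    (hP : AdjoinRoot.mk G (derivative G) ∉ P) : Algebra.IsUnramifiedAt B P := by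
  have h : (⟨P, inferInstance⟩ : PrimeSpectrum (AdjoinRoot G)) ∈
      Algebra.unramifiedLocus B (AdjoinRoot G) := by
    rw [Algebra.unramifiedLocus_eq_compl_support, Set.mem_compl_iff, Module.notMem_support_iff']
    intro ω
    exact ⟨_, hP, derivative_smul_kaehler_eq_zero G ω⟩
  exact h

/-- Over a regular base ring `B`, the ring `B[T]/(G)` with `G` monic is regular at every prime
not containing `G'`. -/
theorem isRegularLocalRing_of_derivative_notMem [IsRegularRing B] (hG : G.Monic)
    (P : Ideal (AdjoinRoot G)) [P.IsPrime] (hP : AdjoinRoot.mk G (derivative G) ∉ P) :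
    IsRegularLocalRing (Localization.AtPrime P) := by
  have hunr : Algebra.IsUnramifiedAt B P := isUnramifiedAt_of_derivative_notMem G P hP
  have hfree : Module.Free B (AdjoinRoot G) := Module.Free.of_basis (AdjoinRoot.powerBasis' hG).basis
  have hfin : Module.Finite B (AdjoinRoot G) := (AdjoinRoot.powerBasis' hG).finite
  have hnoeth : IsNoetherianRing (AdjoinRoot G) := isNoetherianRing_of_surjective _ _
    (AdjoinRoot.mk G) AdjoinRoot.mk_surjective
  let p : Ideal B := P.under B
  let _ := Localization.AtPrime.algebraOfLiesOver p P
  have hmap := ((Algebra.isUnramifiedAt_iff_map_eq B p P).1 hunr).2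
  -- the maximal ideal upstairs is generated by the generators downstairs
  have hreg : IsRegularLocalRing (Localization.AtPrime p) := inferInstance
  have hfg := (maximalIdeal (Localization.AtPrime p)).fg_of_isNoetherianRing
  have hgfin := Submodule.FG.finite_generators hfg
  have hmax : maximalIdeal (Localization.AtPrime P) =
      Ideal.span (algebraMap (Localization.AtPrime p) (Localization.AtPrime P) ''
        (maximalIdeal (Localization.AtPrime p)).generators) := by
    rw [← Ideal.map_span]
    have h1 : Ideal.span (maximalIdeal (Localization.AtPrime p)).generators =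
        maximalIdeal (Localization.AtPrime p) :=
      (maximalIdeal (Localization.AtPrime p)).span_generators
    have h2 : maximalIdeal (Localization.AtPrime p) =
        p.map (algebraMap B (Localization.AtPrime p)) :=
      Localization.AtPrime.map_eq_maximalIdeal.symm
    rw [h1]
    conv_rhs => rw [h2, Ideal.map_map, ← IsScalarTower.algebraMap_eq]
    exact hmap.symm
  apply IsRegularLocalRing.of_spanFinrank_maximalIdeal_le
  rw [IsLocalization.AtPrime.ringKrullDim_eq_height P (Localization.AtPrime P)]
  have h1 : (maximalIdeal (Localization.AtPrime P)).spanFinrank ≤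
      (maximalIdeal (Localization.AtPrime p)).spanFinrank := by
    rw [hmax]
    refine (Submodule.spanFinrank_span_le_ncard_of_finite (hgfin.image _)).trans ?_
    rw [← Submodule.FG.generators_ncard hfg]
    exact Set.ncard_image_le hgfin
  have h2 : ((maximalIdeal (Localization.AtPrime p)).spanFinrank : WithBot ℕ∞) = p.height := by
    rw [hreg.spanFinrank_maximalIdeal,
      IsLocalization.AtPrime.ringKrullDim_eq_height p (Localization.AtPrime p)]
  have h3 : p.height ≤ P.height := by
    rw [Ideal.height_eq_height_add_of_liesOver_of_hasGoingDown p P]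
    exact le_self_add
  calc (((maximalIdeal (Localization.AtPrime P)).spanFinrank : ℕ) : WithBot ℕ∞)
      ≤ ((maximalIdeal (Localization.AtPrime p)).spanFinrank : WithBot ℕ∞) := by
        exact_mod_cast h1
    _ = p.height := h2
    _ ≤ P.height := WithBot.coe_le_coe.2 h3

end Groth.Agent.H57.Weier
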