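import Groth.Agent.H57.Nonsing
import Groth.Agent.H57.Gaps

set_option autoImplicit false

namespace Groth.Agent.H57

open FunFld Groth.Agent.FF WithZero IntermediateField

universe u v
variable {k : Type u} {K : Type v} [Field k] [Field K] [Algebra k K]

/-- A function in `L(D')` but not in `L(D' - Q)` has order exactly `-D'(Q)` at `Q`. -/
theorem ord_eq_neg_of_mem_of_not_mem (D' : Divisor k K) (Q : Place k K) {f : K}
    (hf : f ∈ L D') (hf' : f ∉ L (D' - Finsupp.single Q 1)) : f ≠ 0 ∧ Q.ord f = -D' Q := by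
  classical
  have hf0 : f ≠ 0 := by
    rintro rfl
    exact hf' (Submodule.zero_mem _)
  refine ⟨hf0, ?_⟩
  have h1 := hf Q
  rw [val_le_exp_iff Q hf0] at h1
  have h2 : ¬ Q.1 f ≤ exp (D' Q - 1) := by
    intro hP
    apply hf'
    intro Q'
    by_cases hQ : Q' = Q
    · subst hQ
      rw [Finsupp.sub_apply, Finsupp.single_eq_same]
      exact hP
    · have := hf Q'
      rw [Finsupp.sub_apply, Finsupp.single_eq_of_ne hQ, sub_zero]
      exact this
  rw [val_le_exp_iff Q hf0] at h2
  omega

/-- A generic element of a subspace avoids finitely many subspaces not containing it. -/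
theorem exists_mem_forall_not_mem [Infinite k] {ι : Type*} (V : Submodule k K) (S : Set ι)
    (hS : S.Finite) (W : ι → Submodule k K) (h : ∀ i ∈ S, ∃ v ∈ V, v ∉ W i) :
    ∃ v ∈ V, ∀ i ∈ S, v ∉ W i := by
  by_contra hcon
  push Not at hcon
  have := hS.to_subtype
  let p : S → Subspace k V := fun i => Submodule.comap V.subtype (W i.1)
  have hcov : ⋃ i, (p i : Set V) = Set.univ := by
    rw [Set.eq_univ_iff_forall]
    intro w
    obtain ⟨i, hi, hle⟩ := hcon w.1 w.2
    rw [Set.mem_iUnion]
    exact ⟨⟨i, hi⟩, hle⟩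
  obtain ⟨i, hi⟩ := Subspace.exists_eq_top_of_iUnion_eq_univ hcov
  obtain ⟨w, hw, hlt⟩ := h i.1 i.2
  have : (⟨w, hw⟩ : V) ∈ p i := by rw [hi]; trivial
  exact hlt this

/-- The pole divisor of a quotient `f / g` of elements of `L(D)` with `f` generic. -/
theorem poleDiv_div_eq (hK : IsFunctionField k K) {D D' B : Divisor k K} (hB0 : 0 ≤ B)
    (hD' : D' = D - B) {g : K} (hg0 : g ≠ 0) (hBE : B ≤ FunFld.div k g + D) {f : K}
    (hf : f ∈ L D') (hf0 : f ≠ 0)
    (hgen : ∀ Q, (FunFld.div k g + D) Q ≠ 0 → f ∉ L (D' - Finsupp.single Q 1)) :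
    poleDiv k (f / g) = FunFld.div k g + D - B := by
  ext Q
  rw [poleDiv_apply hK, ord_div Q hf0 hg0, Finsupp.sub_apply, Finsupp.add_apply, div_apply hK]
  have hB0Q : 0 ≤ B Q := hB0 Q
  have hBEQ : B Q ≤ Q.ord g + D Q := by
    have := hBE Q
    rwa [Finsupp.add_apply, div_apply hK] at this
  by_cases hQ : (FunFld.div k g + D) Q ≠ 0
  · obtain ⟨-, hord⟩ := ord_eq_neg_of_mem_of_not_mem D' Q hf (hgen Q hQ)
    rw [hord, hD', Finsupp.sub_apply]
    rw [max_eq_left (by omega)]
    ring
  · rw [not_not, Finsupp.add_apply, div_apply hK] at hQ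
    have h1 := hf Q
    rw [val_le_exp_iff Q hf0, hD', Finsupp.sub_apply] at h1
    rw [max_eq_right (by omega)]
    omega

theorem poleDiv_algebraMap (hK : IsFunctionField k K) (c : k) :
    poleDiv k (algebraMap k K c) = 0 := by
  ext Q
  rw [poleDiv_apply hK, ord_algebraMap]
  simp

section
variable [IsAlgClosed k]

/-- Birationality of a projective map given by a basis of `L(D)` separating points and tangents. -/
theorem adjoin_ratios_eq_top (hK : IsFunctionField k K) (D : Divisor k K) {n : ℕ}
    (φ : Fin (n + 1) → K) (hspan : Submodule.span k (Set.range φ) = L D) (hφ0 : ∀ i, φ i ≠ 0)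
    (H0 : ∀ P : Place k K, ∃ f ∈ L D, f ∉ L (D - Finsupp.single P 1))
    (H : ∀ P Q : Place k K, ∃ f ∈ L (D - Finsupp.single P 1),
      f ∉ L (D - Finsupp.single P 1 - Finsupp.single Q 1)) (j : Fin (n + 1)) :
    IntermediateField.adjoin k (Set.range fun i => φ i / φ j) = ⊤ := by
  classical
  have : Infinite k := IsAlgClosed.instInfinite
  set F' := IntermediateField.adjoin k (Set.range fun i => φ i / φ j) with hF'
  have hquot : ∀ f ∈ L D, f / φ j ∈ F' := by
    intro f hf
    rw [← hspan] at hf
    induction hf using Submodule.span_induction with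
    | mem x hx =>
      obtain ⟨i, rfl⟩ := hx
      exact IntermediateField.subset_adjoin k _ ⟨i, rfl⟩
    | zero => rw [zero_div]; exact zero_mem _
    | add x y _ _ hx hy => rw [add_div]; exact add_mem hx hy
    | smul c x _ hx =>
      rw [smul_div_assoc, Algebra.smul_def]
      exact mul_mem (F'.algebraMap_mem c) hx
  have hquot2 : ∀ f ∈ L D, ∀ g ∈ L D, g ≠ 0 → f / g ∈ F' := by
    intro f hf g hg hg0
    have : f / g = (f / φ j) / (g / φ j) := by
      have := hφ0 j
      field_simp
    rw [this]
    exact div_mem (hquot f hf) (hquot g hg)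
  obtain ⟨Q₀⟩ := exists_place hK
  have hsub : ∀ P : Place k K, L (D - Finsupp.single P 1) ≤ L D := by
    intro P
    apply L_mono
    intro Q
    rw [Finsupp.sub_apply]
    have : (0 : ℤ) ≤ (Finsupp.single P (1 : ℤ)) Q := by
      by_cases h : P = Q
      · subst h; simp
      · rw [Finsupp.single_eq_of_ne (Ne.symm h)]
    omega
  obtain ⟨g, hg, hg'⟩ := H Q₀ Q₀
  have hg0 : g ≠ 0 := by
    rintro rfl
    exact hg' (Submodule.zero_mem _)
  have hgD : g ∈ L D := hsub Q₀ hg
  set E : Divisor k K := FunFld.div k g + D with hE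
  have hQ₀E : Finsupp.single Q₀ 1 ≤ E := by
    have := (mem_L_iff_div hK _ hg0).1 hg
    intro Q
    have h2 := this Q
    rw [Finsupp.zero_apply, Finsupp.add_apply, Finsupp.sub_apply] at h2
    rw [hE, Finsupp.add_apply]
    omega
  have hEQ₀ : E Q₀ ≠ 0 := by
    have := hQ₀E Q₀
    rw [Finsupp.single_eq_same] at this
    omega
  set S : Set (Place k K) := {Q | E Q ≠ 0} with hS
  have hSfin : S.Finite := by
    have : S = (E.support : Set (Place k K)) := by
      ext Q; simp [hS]
    rw [this]
    exact Finset.finite_toSet _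
  have hdegE : E.deg = D.deg := by
    rw [hE, deg_add, deg_div_eq_zero hK g, zero_add]
  -- the function x
  obtain ⟨f, hf, hfgen⟩ := exists_mem_forall_not_mem (L D) S hSfin
    (fun Q => L (D - Finsupp.single Q 1)) (fun Q _ => H0 Q)
  have hf0 : f ≠ 0 := by
    rintro rfl
    exact hfgen Q₀ hEQ₀ (Submodule.zero_mem _)
  have hx : poleDiv k (f / g) = E := by
    have := poleDiv_div_eq hK (D := D) (D' := D) (B := 0) le_rfl (by rw [sub_zero]) hg0
      (by
        have := (mem_L_iff_div hK _ hg0).1 hgD
        rw [add_comm] at this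
        exact this) hf hf0 (fun Q hQ => hfgen Q hQ)
    rw [this, sub_zero]
  have hxtr : Transcendental k (f / g) := by
    intro halg
    obtain ⟨c, hc⟩ := hK.2 _ halg
    rw [← hc, poleDiv_algebraMap hK] at hx
    apply hEQ₀
    rw [← hx, Finsupp.zero_apply]
  have hxdeg := deg_poleDiv_eq hK hxtr
  rw [hx, hdegE] at hxdeg
  have hxdvd : Module.finrank F' K ∣ Module.finrank (adjoin k ({f / g} : Set K)) K := by
    apply IntermediateField.finrank_dvd_of_le_left
    rw [IntermediateField.adjoin_le_iff]
    rintro _ rfl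
    exact hquot2 f hf g hgD hg0
  -- the function y
  obtain ⟨f', hf', hfgen'⟩ := exists_mem_forall_not_mem (L (D - Finsupp.single Q₀ 1)) S hSfin
    (fun Q => L (D - Finsupp.single Q₀ 1 - Finsupp.single Q 1)) (fun Q _ => H Q₀ Q)
  have hf0' : f' ≠ 0 := by
    rintro rfl
    exact hfgen' Q₀ hEQ₀ (Submodule.zero_mem _)
  have hy : poleDiv k (f' / g) = E - Finsupp.single Q₀ 1 := by
    refine poleDiv_div_eq hK (D := D) (D' := D - Finsupp.single Q₀ 1) (B := Finsupp.single Q₀ 1)
      ?_ rfl hg0 hQ₀E hf' hf0' (fun Q hQ => hfgen' Q hQ)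
    intro Q
    by_cases h : Q₀ = Q
    · subst h; simp
    · rw [Finsupp.single_eq_of_ne (Ne.symm h)]; simp
  have hydeg0 : (poleDiv k (f' / g)).deg = D.deg - 1 := by
    rw [hy, deg_sub, hdegE, deg_single, deg_eq_one_of_isAlgClosed hK Q₀]
    simp
  rw [← IntermediateField.finrank_eq_one_iff_eq_top]
  by_cases hytr : Transcendental k (f' / g)
  · have hydeg := deg_poleDiv_eq hK hytr
    rw [hydeg0] at hydeg
    have hydvd : Module.finrank F' K ∣ Module.finrank (adjoin k ({f' / g} : Set K)) K := by
      apply IntermediateField.finrank_dvd_of_le_left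
      rw [IntermediateField.adjoin_le_iff]
      rintro _ rfl
      exact hquot2 f' (hsub Q₀ hf') g hgD hg0
    have hab : Module.finrank (adjoin k ({f / g} : Set K)) K =
        Module.finrank (adjoin k ({f' / g} : Set K)) K + 1 := by
      have : (Module.finrank (adjoin k ({f / g} : Set K)) K : ℤ) =
          Module.finrank (adjoin k ({f' / g} : Set K)) K + 1 := by
        rw [← hxdeg, ← hydeg]; ring
      exact_mod_cast this
    rw [hab] at hxdvd
    exact Nat.dvd_one.1 ((Nat.dvd_add_right hydvd).1 hxdvd)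
  · obtain ⟨c, hc⟩ := hK.2 _ (by
      by_contra h
      exact hytr h)
    rw [← hc, poleDiv_algebraMap hK, deg_zero] at hydeg0
    have : (Module.finrank (adjoin k ({f / g} : Set K)) K : ℤ) = 1 := by
      rw [← hxdeg]; linarith
    have h1 : Module.finrank (adjoin k ({f / g} : Set K)) K = 1 := by exact_mod_cast this
    rw [h1] at hxdvd
    exact Nat.dvd_one.1 hxdvd


/-- Embedding criterion: a basis of `L(D)` gives a projective map nonsingular at every place as soon
as `L(D - P - Q) ⊊ L(D - P) ⊊ L(D)` for all places `P`, `Q`. -/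
theorem isNonsingularAt_of_separates (hK : IsFunctionField k K) (D : Divisor k K) {n : ℕ}
    (φ : Fin (n + 1) → K) (hφ : LinearIndependent k φ)
    (hspan : Submodule.span k (Set.range φ) = L D)
    (H0 : ∀ P : Place k K, ∃ f ∈ L D, f ∉ L (D - Finsupp.single P 1))
    (H : ∀ P Q : Place k K, ∃ f ∈ L (D - Finsupp.single P 1),
      f ∉ L (D - Finsupp.single P 1 - Finsupp.single Q 1)) (P : Place k K) :
    IsNonsingularAt φ P := by
  classical
  have hφ0 : ∀ i, φ i ≠ 0 := fun i => hφ.ne_zero i
  have hbir := adjoin_ratios_eq_top hK D φ hspan hφ0 H0 H 0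
  have hφD : ∀ i, φ i ∈ L D := fun i => by
    rw [← hspan]; exact Submodule.subset_span ⟨i, rfl⟩
  have hquot : ∀ j, ∀ f ∈ L D, f / φ j ∈ ratioAlg k φ j := by
    intro j f hf
    rw [← hspan] at hf
    induction hf using Submodule.span_induction with
    | mem x hx =>
      obtain ⟨i, rfl⟩ := hx
      exact ratio_mem k φ j i
    | zero => rw [zero_div]; exact zero_mem _
    | add x y _ _ hx hy => rw [add_div]; exact add_mem hx hy
    | smul c x _ hx =>
      rw [smul_div_assoc]
      exact Subalgebra.smul_mem _ hx c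
  -- least order of the basis at any place is `-D`
  have hleast : ∀ (Q : Place k K) (j : Fin (n + 1)), (∀ i, Q.1 (φ i) ≤ Q.1 (φ j)) →
      Q.ord (φ j) = -D Q := by
    intro Q j hj
    -- a combination of the φ i has value at most that of φ j
    have hval : ∀ f ∈ L D, Q.1 f ≤ Q.1 (φ j) := by
      intro f hf
      rw [← hspan] at hf
      induction hf using Submodule.span_induction with
      | mem x hx =>
        obtain ⟨i, rfl⟩ := hx
        exact hj i
      | zero => rw [map_zero]; exact zero_le
      | add x y _ _ hx hy => exact (Q.1.map_add _ _).trans (max_le hx hy)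
      | smul c x _ hx => exact (val_smul_le Q c x).trans hx
    obtain ⟨f, hf, hf'⟩ := H0 Q
    obtain ⟨hf0, hord⟩ := ord_eq_neg_of_mem_of_not_mem D Q hf hf'
    have h1 := hφD j Q
    rw [val_le_exp_iff Q (hφ0 j)] at h1
    have h2 : Q.1 f ≤ Q.1 (φ j) := hval f hf
    rw [val_eq_exp_neg_ord Q hf0, val_eq_exp_neg_ord Q (hφ0 j), exp_le_exp] at h2
    omega
  obtain ⟨j, hPj⟩ := Finite.exists_max (fun i => P.1 (φ i))
  have hj := hφ0 j
  have hordj := hleast P j hPj
  intro z hz
  rw [inLocRing_iff_inLocRingAt hj hPj]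
  refine inLocRingAt_of_val_le_one hK hφ0 hbir hPj ?_ ?_ z hz
  · intro Q hQP hQ
    have hQj : ∀ i, Q.1 (φ i) ≤ Q.1 (φ j) := by
      intro i
      have := hQ i
      rw [map_div₀, div_le_one₀ (zero_lt_iff.2 ((Q.1.ne_zero_iff).2 hj))] at this
      exact this
    have hordQ := hleast Q j hQj
    obtain ⟨f, hf, hf'⟩ := H Q P
    obtain ⟨hf0, hordP⟩ := ord_eq_neg_of_mem_of_not_mem _ P hf hf'
    rw [Finsupp.sub_apply, Finsupp.single_eq_of_ne (Ne.symm hQP), sub_zero] at hordP
    have hfQ := hf Q
    rw [val_le_exp_iff Q hf0, Finsupp.sub_apply, Finsupp.single_eq_same] at hfQ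
    have hfD : f ∈ L D := by
      refine L_mono ?_ hf
      intro Q'
      rw [Finsupp.sub_apply]
      have : (0 : ℤ) ≤ (Finsupp.single Q (1 : ℤ)) Q' := by
        by_cases h : Q = Q'
        · subst h; simp
        · rw [Finsupp.single_eq_of_ne (Ne.symm h)]
      omega
    refine ⟨f / φ j, hquot j f hfD, ?_, ?_⟩
    · rw [val_eq_one_iff P (div_ne_zero hf0 hj), ord_div P hf0 hj, hordP, hordj]; ring
    · rw [val_lt_one_iff Q (div_ne_zero hf0 hj), ord_div Q hf0 hj, hordQ]; omega
  · obtain ⟨f, hf, hf'⟩ := H P P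
    obtain ⟨hf0, hordP⟩ := ord_eq_neg_of_mem_of_not_mem _ P hf hf'
    rw [Finsupp.sub_apply, Finsupp.single_eq_same] at hordP
    have hfD : f ∈ L D := by
      refine L_mono ?_ hf
      intro Q'
      rw [Finsupp.sub_apply]
      have : (0 : ℤ) ≤ (Finsupp.single P (1 : ℤ)) Q' := by
        by_cases h : P = Q'
        · subst h; simp
        · rw [Finsupp.single_eq_of_ne (Ne.symm h)]
      omega
    refine ⟨f / φ j, inLocRingAt_of_mem (hquot j f hfD), ?_⟩
    rw [val_eq_exp_neg_ord P (div_ne_zero hf0 hj), ord_div P hf0 hj, hordP, hordj]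
    congr 1
    ring


omit [IsAlgClosed k] in
theorem exists_mem_not_mem_of_ell_lt (hK : IsFunctionField k K) {D₁ D₂ : Divisor k K}
    (hle : D₁ ≤ D₂) (h : ell D₁ < ell D₂) : ∃ f ∈ L D₂, f ∉ L D₁ := by
  by_contra hcon
  push Not at hcon
  have h1 : L D₂ ≤ L D₁ := fun f hf => hcon f hf
  have h2 : L D₁ = L D₂ := le_antisymm (L_mono hle) h1
  unfold ell at h
  rw [h2] at h
  exact lt_irrefl _ h

omit [IsAlgClosed k] in
theorem sub_single_le (D : Divisor k K) (P : Place k K) : D - Finsupp.single P 1 ≤ D := by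
  classical
  intro Q
  rw [Finsupp.sub_apply]
  have : (0 : ℤ) ≤ (Finsupp.single P (1 : ℤ)) Q := by
    by_cases h : P = Q
    · subst h; simp
    · rw [Finsupp.single_eq_of_ne (Ne.symm h)]
  omega

/-- `deg D ≥ 2g + 1` gives an embedding. -/
theorem isNonsingularAt_of_deg_ge (hK : IsFunctionField k K) (D : Divisor k K)
    (hD : 2 * (genus k K : ℤ) + 1 ≤ D.deg) {n : ℕ} (φ : Fin (n + 1) → K)
    (hφ : LinearIndependent k φ) (hspan : Submodule.span k (Set.range φ) = L D)
    (P : Place k K) : IsNonsingularAt φ P := by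
  have hdeg1 : ∀ P : Place k K, (D - Finsupp.single P 1).deg = D.deg - 1 := by
    intro P
    rw [deg_sub, deg_single, deg_eq_one_of_isAlgClosed hK P]; simp
  have hdeg2 : ∀ P Q : Place k K,
      (D - Finsupp.single P 1 - Finsupp.single Q 1).deg = D.deg - 2 := by
    intro P Q
    rw [deg_sub, hdeg1, deg_single, deg_eq_one_of_isAlgClosed hK Q]; ring
  have hl0 := ell_eq_of_deg_ge hK D (by linarith)
  have hl1 : ∀ P : Place k K, (ell (D - Finsupp.single P 1) : ℤ) = D.deg - 1 + 1 - genus k K := by
    intro P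
    rw [ell_eq_of_deg_ge hK _ (by rw [hdeg1]; linarith), hdeg1]
  have hl2 : ∀ P Q : Place k K,
      (ell (D - Finsupp.single P 1 - Finsupp.single Q 1) : ℤ) = D.deg - 2 + 1 - genus k K := by
    intro P Q
    rw [ell_eq_of_deg_ge hK _ (by rw [hdeg2]; linarith), hdeg2]
  refine isNonsingularAt_of_separates hK D φ hφ hspan (fun P => ?_) (fun P Q => ?_) P
  · refine exists_mem_not_mem_of_ell_lt hK (sub_single_le D P) ?_
    have := hl1 P
    omega
  · refine exists_mem_not_mem_of_ell_lt hK (sub_single_le _ Q) ?_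
    have := hl1 P
    have := hl2 P Q
    omega

omit [IsAlgClosed k] in
/-- If `K` has degree `> 2` over every rational subfield then effective divisors of degree `≤ 2`
have only constant sections. -/
theorem ell_eq_one_of_deg_le_two (hK : IsFunctionField k K)
    (h2 : ∀ x : K, Transcendental k x →
      2 < Module.finrank (IntermediateField.adjoin k ({x} : Set K)) K)
    {B : Divisor k K} (hB0 : 0 ≤ B) (hB : B.deg ≤ 2) : ell B = 1 := by
  apply le_antisymm
  · by_contra hcon
    rw [not_le] at hcon
    rw [← ell_zero hK] at hcon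
    obtain ⟨x, hxB, hx0⟩ := exists_mem_not_mem_of_ell_lt hK hB0 hcon
    rw [L_zero_eq hK, Submodule.mem_one] at hx0
    have hxtr : Transcendental k x := by
      intro halg
      exact hx0 (hK.2 x halg)
    have hle : poleDiv k x ≤ B := by
      intro Q
      rw [poleDiv_apply hK]
      have hx00 : x ≠ 0 := fun h => hxtr (h ▸ isAlgebraic_zero)
      have := hxB Q
      rw [val_le_exp_iff Q hx00] at this
      have := hB0 Q
      rw [Finsupp.zero_apply] at this
      exact max_le (by omega) this
    have h3 := deg_mono hle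
    rw [deg_poleDiv_eq hK hxtr] at h3
    have h4 := h2 x hxtr
    have : (2 : ℤ) < (Module.finrank (IntermediateField.adjoin k ({x} : Set K)) K : ℤ) := by
      exact_mod_cast h4
    linarith
  · rw [← ell_zero hK]
    exact ell_mono hK hB0

/-- The canonical map of a non-hyperelliptic function field is an embedding. -/
theorem isNonsingularAt_canonical (hK : IsFunctionField k K)
    (h2 : ∀ x : K, Transcendental k x →
      2 < Module.finrank (IntermediateField.adjoin k ({x} : Set K)) K)
    (D : Divisor k K) (hD : IsCanonical k K D) {n : ℕ} (φ : Fin (n + 1) → K)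
    (hφ : LinearIndependent k φ) (hspan : Submodule.span k (Set.range φ) = L D)
    (P : Place k K) : IsNonsingularAt φ P := by
  classical
  have hsingle0 : ∀ P : Place k K, (0 : Divisor k K) ≤ Finsupp.single P 1 := by
    intro P Q
    by_cases h : P = Q
    · subst h; simp
    · rw [Finsupp.single_eq_of_ne (Ne.symm h)]; simp
  have hdegD := deg_canonical hK hD
  have hlD := ell_canonical hK hD
  have hdeg1 : ∀ P : Place k K, (D - Finsupp.single P 1).deg = D.deg - 1 := by
    intro P
    rw [deg_sub, deg_single, deg_eq_one_of_isAlgClosed hK P]; simp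
  have hdeg2 : ∀ P Q : Place k K,
      (D - Finsupp.single P 1 - Finsupp.single Q 1).deg = D.deg - 2 := by
    intro P Q
    rw [deg_sub, hdeg1, deg_single, deg_eq_one_of_isAlgClosed hK Q]; ring
  have hl1 : ∀ P : Place k K, (ell (D - Finsupp.single P 1) : ℤ) = (genus k K : ℤ) - 1 := by
    intro P
    have hrr := riemann_roch hK hD (D - Finsupp.single P 1)
    rw [sub_sub_cancel, hdeg1, hdegD,
      ell_eq_one_of_deg_le_two hK h2 (hsingle0 P)
        (by rw [deg_single, deg_eq_one_of_isAlgClosed hK P]; simp)] at hrr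
    push_cast at hrr
    linarith
  have hl2 : ∀ P Q : Place k K,
      (ell (D - Finsupp.single P 1 - Finsupp.single Q 1) : ℤ) = (genus k K : ℤ) - 2 := by
    intro P Q
    have hrr := riemann_roch hK hD (D - Finsupp.single P 1 - Finsupp.single Q 1)
    have hsub : D - (D - Finsupp.single P 1 - Finsupp.single Q 1) =
        Finsupp.single P 1 + Finsupp.single Q 1 := by abel
    rw [hsub, hdeg2, hdegD,
      ell_eq_one_of_deg_le_two hK h2 (add_nonneg (hsingle0 P) (hsingle0 Q))
        (by
          rw [deg_add, deg_single, deg_single, deg_eq_one_of_isAlgClosed hK P,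
            deg_eq_one_of_isAlgClosed hK Q]
          simp)] at hrr
    push_cast at hrr
    linarith
  refine isNonsingularAt_of_separates hK D φ hφ hspan (fun P => ?_) (fun P Q => ?_) P
  · refine exists_mem_not_mem_of_ell_lt hK (sub_single_le D P) ?_
    have := hl1 P
    omega
  · refine exists_mem_not_mem_of_ell_lt hK (sub_single_le _ Q) ?_
    have := hl1 P
    have := hl2 P Q
    omega

end

end Groth.Agent.H57
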