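import Groth.Agent.H57.AutFin2
import Groth.Agent.S12608

/-!
# The Weierstrass divisor of a classical map: the vanishing criterion at a place
-/

set_option autoImplicit false

namespace Groth.Agent.H57

open FunFld Groth.Agent.FF WithZero

universe u v
variable {k : Type u} {K : Type v} [Field k] [Field K] [Algebra k K]

section
variable [IsAlgClosed k]

/-- For a classical map `φ`, the Weierstrass divisor vanishes at `P` iff the orders at `P` are
`0, 1, …, n`; the orders at `P` are the orders of vanishing (relative to the base locus) of the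
members of the linear system. -/
theorem wDiv_local_general (hK : IsFunctionField k K) {n : ℕ} (φ : Fin (n + 1) → K)
    (hφ : LinearIndependent k φ)
    (hchar : ringChar k = 0 ∨ (mapDiv k φ).deg < ringChar k)
    (s : K) (H : K →ₐ[k] PowerSeries K) (hH : LocRes.IsHasseFamily s H)
    (Φ : Place k K → (K →ₐ[k] LaurentSeries k))
    (hΦ : ∀ P : Place k K, LocRes.IsExpansionAt P.1 (Φ P)) (P : Place k K) :
    ∃ J' : Fin n → ℕ, StrictMono J' ∧ (∀ l, 0 < J' l) ∧
      (∀ j : ℕ, (j = 0 ∨ j ∈ Set.range J') ↔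
        ∃ f ∈ Submodule.span k (Set.range φ), f ≠ 0 ∧ P.ord f = (j : ℤ) - mapDiv k φ P) ∧
      (wDiv (AlgHom.id k K) H Φ s φ (fun l : Fin n => (l : ℕ) + 1) P = 0 ↔
        ∀ l, J' l = (l : ℕ) + 1) := by
  classical
  set J : Fin n → ℕ := fun l : Fin n => (l : ℕ) + 1 with hJdef
  have hJ : IsOrders K (hcol (AlgHom.id k K) H φ) J := isOrders_classical hK φ hφ hchar s H hH
  have hφ0 : ∀ i, φ i ≠ 0 := fun i => hφ.ne_zero i
  obtain ⟨t, ht⟩ := P.2.2 (WithZero.exp (-1 : ℤ))
  obtain ⟨Ht, hHt⟩ := exists_local_hasse' hK s H hH P t ht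
  obtain ⟨i₀, hi₀⟩ := Finite.exists_max (fun i => P.1 (φ i))
  set y : K := (φ i₀)⁻¹ with hy
  have hy0 : y ≠ 0 := inv_ne_zero (hφ0 i₀)
  set φ' : Fin (n + 1) → K := y • φ with hφ'def
  have hφ'A : ∀ i, φ' i = y * ∑ j, (1 : Matrix (Fin (n + 1)) (Fin (n + 1)) k) i j • φ j := by
    intro i
    simp [Matrix.one_apply, hφ'def]
  have hinv := Groth.Agent.S12614.result k K hK φ hφ (AlgHom.id k K) s H hH t Ht hHt J hJ 1
    (by rw [Matrix.det_one]; exact one_ne_zero) y hy0 φ' hφ'A Φ hΦ
  rw [← hinv]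
  have hφ'li : LinearIndependent k φ' := by
    have hker : LinearMap.ker (LinearMap.mulLeft k y) = ⊥ := by
      rw [LinearMap.ker_eq_bot]
      intro a b hab
      exact mul_left_cancel₀ hy0 hab
    exact hφ.map' (LinearMap.mulLeft k y) hker
  have hnorm : ∀ i, P.1 (φ' i) ≤ 1 := by
    intro i
    change P.1 (y * φ i) ≤ 1
    rw [hy, map_mul, map_inv₀, inv_mul_le_iff₀ (zero_lt_iff.2 ((P.1.ne_zero_iff).2 (hφ0 i₀))),
      mul_one]
    exact hi₀ i
  have hone : φ' i₀ = 1 := by
    change y * φ i₀ = 1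
    rw [hy, inv_mul_cancel₀ (hφ0 i₀)]
  have heff : (1 : K) ∈ Submodule.span k (Set.range φ') :=
    Submodule.subset_span ⟨i₀, hone⟩
  have hunit : P.1 (φ' i₀) = 1 := by rw [hone, map_one]
  have hJt : IsOrders K (hcol (AlgHom.id k K) Ht φ) J :=
    ((Groth.Agent.S12598.result k K hK φ hφ (AlgHom.id k K) s H hH t Ht hHt).1 J).2 hJ
  have hJt' : IsOrders K (hcol (AlgHom.id k K) Ht φ') J :=
    ((Groth.Agent.S12597.result k K hK φ hφ (AlgHom.id k K) t Ht hHt y hy0).1 J).2 hJt
  obtain ⟨J', hJ'⟩ := exists_isOrders_hcolAt hK P φ' hφ'li hnorm i₀ hunit t ht Ht hHt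
  have h607 := (Groth.Agent.S12607.result k K hK P φ' hφ'li heff hnorm t ht Ht hHt J' hJ').2
  have hpos : ∀ l, 0 < J' l := by
    intro l
    by_contra h
    have h0 : J' l = 0 := by omega
    have hj := (hJ'.2 0).1 ⟨l, h0⟩
    apply hj
    rw [zero_add, ← hcolAt_zero_eq_one P t φ' Ht hHt]
    exact Submodule.subset_span ⟨0, by simp, rfl⟩
  have h608 := (Groth.Agent.S12608.result k K hK P φ' hφ'li heff hnorm t ht Ht hHt J hJt' J' hJ'
    Φ hΦ).2.2
  -- the order of `y`
  have hordy : P.ord y = mapDiv k φ P := by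
    rw [hy, ord_inv, mapDiv_apply hK]
    congr 1
    apply le_antisymm
    · apply Finset.le_inf'
      intro i _
      have h1 := hi₀ i
      rw [val_eq_exp_neg_ord P (hφ0 i), val_eq_exp_neg_ord P (hφ0 i₀), exp_le_exp] at h1
      linarith
    · exact Finset.inf'_le _ (Finset.mem_univ i₀)
  -- membership in the span of `y • φ`
  have hmemspan : ∀ f : K, f ∈ Submodule.span k (Set.range φ') ↔
      ∃ g ∈ Submodule.span k (Set.range φ), f = y * g := by
    intro f
    constructor
    · intro hf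
      refine ⟨y⁻¹ * f, ?_, by rw [← mul_assoc, mul_inv_cancel₀ hy0, one_mul]⟩
      induction hf using Submodule.span_induction with
      | mem x hx =>
        obtain ⟨i, rfl⟩ := hx
        change y⁻¹ * (y * φ i) ∈ _
        rw [← mul_assoc, inv_mul_cancel₀ hy0, one_mul]
        exact Submodule.subset_span ⟨i, rfl⟩
      | zero => rw [mul_zero]; exact Submodule.zero_mem _
      | add x x' _ _ hx hx' => rw [mul_add]; exact Submodule.add_mem _ hx hx'
      | smul c x _ hx => rw [mul_smul_comm]; exact Submodule.smul_mem _ c hx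
    · rintro ⟨g, hg, rfl⟩
      induction hg using Submodule.span_induction with
      | mem x hx =>
        obtain ⟨i, rfl⟩ := hx
        exact Submodule.subset_span ⟨i, rfl⟩
      | zero => rw [mul_zero]; exact Submodule.zero_mem _
      | add x x' _ _ hx hx' => rw [mul_add]; exact Submodule.add_mem _ hx hx'
      | smul c x _ hx => rw [mul_smul_comm]; exact Submodule.smul_mem _ c hx
  refine ⟨J', hJ'.1, hpos, ?_, ?_⟩
  · intro j
    rw [h607 j]
    constructor
    · rintro ⟨f, hf, hfv⟩
      obtain ⟨g, hg, rfl⟩ := (hmemspan f).1 hf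
      have hg0 : g ≠ 0 := by
        rintro rfl
        rw [mul_zero, map_zero] at hfv
        exact WithZero.exp_ne_zero hfv.symm
      refine ⟨g, hg, hg0, ?_⟩
      have h1 : P.ord (y * g) = j := by
        unfold FunFld.Place.ord
        rw [hfv, WithZero.log_exp, neg_neg]
      rw [ord_mul P hy0 hg0, hordy] at h1
      linarith
    · rintro ⟨g, hg, hg0, hord⟩
      refine ⟨y * g, (hmemspan _).2 ⟨g, hg, rfl⟩, ?_⟩
      rw [val_eq_exp_neg_ord P (mul_ne_zero hy0 hg0), ord_mul P hy0 hg0, hordy, hord]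
      congr 1
      ring
  · rw [← h608]

end

end Groth.Agent.H57
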