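import Mathlib.AlgebraicGeometry.EllipticCurve.Affine.Point
import Mathlib.RingTheory.DiscreteValuationRing.Basic
import Mathlib.RingTheory.RegularLocalRing.Defs
import Mathlib.RingTheory.Localization.AtPrime.Basic
import Mathlib.RingTheory.Ideal.Height

/-!
# Regularity of a Weierstrass scheme over a DVR at the origin of the special fibre
-/

set_option autoImplicit false

namespace Groth.Agent.H57.Weier

open Polynomial IsLocalRing
open WeierstrassCurve.Affine (CoordinateRing)

universe u
variable {R : Type u} [CommRing R] (W : WeierstrassCurve.Affine R)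

/-- The class of `x`. -/
noncomputable abbrev xA : W.CoordinateRing := CoordinateRing.mk W (C X)
/-- The class of `y`. -/
noncomputable abbrev yA : W.CoordinateRing := CoordinateRing.mk W X

theorem algebraMap_eq_mk (r : R) :
    algebraMap R W.CoordinateRing r = CoordinateRing.mk W (C (C r)) := rfl

/-- Every element of the coordinate ring is a constant modulo `(x, y)`. -/
theorem exists_sub_mem_span (p : W.CoordinateRing) :
    ∃ r : R, p - algebraMap R W.CoordinateRing r ∈ Ideal.span {xA W, yA W} := by
  obtain ⟨q, rfl⟩ := AdjoinRoot.mk_surjective p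
  refine ⟨(q.coeff 0).coeff 0, ?_⟩
  have h1 : q = q.divX * X + C ((q.coeff 0).divX * X + C ((q.coeff 0).coeff 0)) := by
    rw [Polynomial.divX_mul_X_add (q.coeff 0), Polynomial.divX_mul_X_add q]
  have h2 : CoordinateRing.mk W q - algebraMap R W.CoordinateRing ((q.coeff 0).coeff 0) =
      CoordinateRing.mk W (C (q.coeff 0).divX) * xA W + CoordinateRing.mk W q.divX * yA W := by
    rw [algebraMap_eq_mk]
    have h3 := congrArg (CoordinateRing.mk W) h1
    rw [h3]
    simp only [map_add, map_mul, C_add, C_mul]
    ring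
  rw [h2]
  refine Ideal.add_mem _ (Ideal.mul_mem_left _ _ (Ideal.subset_span ?_))
    (Ideal.mul_mem_left _ _ (Ideal.subset_span ?_))
  · exact Set.mem_insert _ _
  · exact Set.mem_insert_of_mem _ rfl

/-- The Weierstrass relation in the coordinate ring. -/
theorem relation :
    algebraMap R W.CoordinateRing W.a₆ = yA W ^ 2 + algebraMap R _ W.a₁ * xA W * yA W +
      algebraMap R _ W.a₃ * yA W - xA W ^ 3 - algebraMap R _ W.a₂ * xA W ^ 2 -
      algebraMap R _ W.a₄ * xA W := by
  have h : CoordinateRing.mk W (X ^ 2 + C (C W.a₁ * X + C W.a₃) * X -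
      C (X ^ 3 + C W.a₂ * X ^ 2 + C W.a₄ * X + C W.a₆)) = 0 := AdjoinRoot.mk_self
  simp only [map_sub, map_add, map_mul, map_pow, C_add, C_mul, C_pow] at h
  simp only [algebraMap_eq_mk]
  linear_combination -h

section DVR

variable [IsDomain R] [IsDiscreteValuationRing R]

omit W in
theorem exists_unit_mul_of_mem_of_notMem_sq {ϖ : R} (hϖ : Irreducible ϖ) {a : R}
    (ha : a ∈ maximalIdeal R) (ha' : a ∉ maximalIdeal R ^ 2) : ∃ u : R, IsUnit u ∧ a = ϖ * u := by
  rw [hϖ.maximalIdeal_eq] at ha ha'
  obtain ⟨u, rfl⟩ := Ideal.mem_span_singleton.1 ha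
  refine ⟨u, ?_, rfl⟩
  by_contra hu
  have hu' : u ∈ maximalIdeal R := (mem_maximalIdeal u).2 hu
  rw [hϖ.maximalIdeal_eq] at hu'
  obtain ⟨v, rfl⟩ := Ideal.mem_span_singleton.1 hu'
  apply ha'
  rw [Ideal.span_singleton_pow, Ideal.mem_span_singleton]
  exact ⟨v, by ring⟩

/-- The kernel of the reduction map is contained in every prime containing the maximal ideal of
`R`. -/
theorem ker_map_residue_le {ϖ : R} (hϖ : Irreducible ϖ) (P : Ideal W.CoordinateRing)
    (hϖP : algebraMap R W.CoordinateRing ϖ ∈ P) :
    RingHom.ker (CoordinateRing.map W (IsLocalRing.residue R)) ≤ P := by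
  intro p hp
  obtain ⟨a, b, rfl⟩ := CoordinateRing.exists_smul_basis_eq p
  rw [RingHom.mem_ker, map_add, CoordinateRing.map_smul, CoordinateRing.map_smul, map_one,
    CoordinateRing.map_mk, Polynomial.map_X] at hp
  obtain ⟨ha, hb⟩ := CoordinateRing.smul_basis_eq_zero hp
  have key : ∀ c : R[X], c.map (IsLocalRing.residue R) = 0 → C ϖ ∣ c := by
    intro c hc
    rw [Polynomial.C_dvd_iff_dvd_coeff]
    intro i
    have h1 : IsLocalRing.residue R (c.coeff i) = 0 := by
      rw [← Polynomial.coeff_map, hc, Polynomial.coeff_zero]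
    rw [IsLocalRing.residue_eq_zero_iff, hϖ.maximalIdeal_eq] at h1
    exact Ideal.mem_span_singleton.1 h1
  obtain ⟨a', rfl⟩ := key a ha
  obtain ⟨b', rfl⟩ := key b hb
  have h2 : (C ϖ * a') • (1 : W.CoordinateRing) + (C ϖ * b') • CoordinateRing.mk W X =
      algebraMap R W.CoordinateRing ϖ *
        (a' • (1 : W.CoordinateRing) + b' • CoordinateRing.mk W X) := by
    simp only [CoordinateRing.smul, algebraMap_eq_mk, map_mul, C_mul]
    ring
  rw [h2]
  exact Ideal.mul_mem_right _ _ hϖP

theorem xA_notMem_ker_map_residue :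
    xA W ∉ RingHom.ker (CoordinateRing.map W (IsLocalRing.residue R)) := by
  intro h
  rw [RingHom.mem_ker, CoordinateRing.map_mk, Polynomial.map_C] at h
  have h1 : (X : (IsLocalRing.ResidueField R)[X]) •
      (1 : (W.map (IsLocalRing.residue R)).toAffine.CoordinateRing) +
      (0 : (IsLocalRing.ResidueField R)[X]) • CoordinateRing.mk _ X = 0 := by
    rw [zero_smul, add_zero, CoordinateRing.smul, mul_one]
    simpa using h
  exact X_ne_zero (CoordinateRing.smul_basis_eq_zero h1).1

/-- The local ring of the Weierstrass scheme at a prime containing `m`, `x` and `y` is regular,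
if `a₃, a₄, a₆ ∈ m` and `a₆ ∉ m²`. -/
theorem isRegularLocalRing_of_mem
    (h3 : W.a₃ ∈ maximalIdeal R) (h4 : W.a₄ ∈ maximalIdeal R)
    (h6 : W.a₆ ∈ maximalIdeal R) (h6' : W.a₆ ∉ maximalIdeal R ^ 2)
    (P : Ideal W.CoordinateRing) [P.IsPrime]
    (hP : ∀ r ∈ maximalIdeal R, algebraMap R W.CoordinateRing r ∈ P)
    (hx : xA W ∈ P) (hy : yA W ∈ P) :
    IsRegularLocalRing (Localization.AtPrime P) := by
  classical
  obtain ⟨ϖ, hϖ⟩ := IsDiscreteValuationRing.exists_irreducible R
  obtain ⟨u, hu, h6u⟩ := exists_unit_mul_of_mem_of_notMem_sq hϖ h6 h6'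
  have hm := hϖ.maximalIdeal_eq
  obtain ⟨b₃, hb₃⟩ : ∃ b, W.a₃ = ϖ * b := by
    rw [hm] at h3; exact Ideal.mem_span_singleton.1 h3
  obtain ⟨b₄, hb₄⟩ : ∃ b, W.a₄ = ϖ * b := by
    rw [hm] at h4; exact Ideal.mem_span_singleton.1 h4
  have hPtop : P ≠ ⊤ := Ideal.IsPrime.ne_top ‹_›
  have hϖP : algebraMap R W.CoordinateRing ϖ ∈ P :=
    hP ϖ (by rw [hm]; exact Ideal.mem_span_singleton_self ϖ)
  have hspanP : Ideal.span {xA W, yA W} ≤ P := by
    rw [Ideal.span_le]
    rintro _ (rfl | rfl)
    exacts [hx, hy]
  -- the key relation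
  have hrel : algebraMap R W.CoordinateRing ϖ * (algebraMap R W.CoordinateRing u -
      algebraMap R W.CoordinateRing b₃ * yA W + algebraMap R W.CoordinateRing b₄ * xA W) =
      (algebraMap R W.CoordinateRing W.a₁ * yA W - xA W ^ 2 -
        algebraMap R W.CoordinateRing W.a₂ * xA W) * xA W + yA W * yA W := by
    have h := relation W
    rw [h6u, hb₃, hb₄] at h
    simp only [map_mul] at h
    linear_combination h
  have hvP : algebraMap R W.CoordinateRing u -
      algebraMap R W.CoordinateRing b₃ * yA W + algebraMap R W.CoordinateRing b₄ * xA W ∉ P := by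
    intro hv
    have h1 : algebraMap R W.CoordinateRing u ∈ P := by
      have h2 : algebraMap R W.CoordinateRing u = (algebraMap R W.CoordinateRing u -
          algebraMap R W.CoordinateRing b₃ * yA W + algebraMap R W.CoordinateRing b₄ * xA W) +
          algebraMap R W.CoordinateRing b₃ * yA W - algebraMap R W.CoordinateRing b₄ * xA W := by
        ring
      rw [h2]
      exact P.sub_mem (P.add_mem hv (P.mul_mem_left _ hy)) (P.mul_mem_left _ hx)
    exact hPtop (Ideal.eq_top_of_isUnit_mem _ h1 (hu.map _))
  have hιv := IsLocalization.map_units (Localization.AtPrime P)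
    (⟨_, hvP⟩ : P.primeCompl)
  have hspan : algebraMap W.CoordinateRing (Localization.AtPrime P)
      (algebraMap R W.CoordinateRing ϖ) ∈
      Ideal.span {algebraMap W.CoordinateRing (Localization.AtPrime P) (xA W),
        algebraMap W.CoordinateRing (Localization.AtPrime P) (yA W)} := by
    obtain ⟨w, hw⟩ := hιv.exists_right_inv
    have h1 : algebraMap W.CoordinateRing (Localization.AtPrime P)
        (algebraMap R W.CoordinateRing ϖ) =
        algebraMap W.CoordinateRing (Localization.AtPrime P) (algebraMap R W.CoordinateRing ϖ *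
          (algebraMap R W.CoordinateRing u -
            algebraMap R W.CoordinateRing b₃ * yA W + algebraMap R W.CoordinateRing b₄ * xA W)) *
          w := by
      rw [map_mul, mul_assoc]
      change _ = _ * (algebraMap W.CoordinateRing (Localization.AtPrime P) _ * w)
      rw [hw, mul_one]
    rw [h1, hrel]
    refine Ideal.mul_mem_right _ _ ?_
    rw [map_add, map_mul, map_mul]
    refine Ideal.add_mem _ (Ideal.mul_mem_left _ _ (Ideal.subset_span ?_))
      (Ideal.mul_mem_left _ _ (Ideal.subset_span ?_))
    · exact Set.mem_insert _ _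
    · exact Set.mem_insert_of_mem _ rfl
  have hmax : maximalIdeal (Localization.AtPrime P) =
      Ideal.span {algebraMap W.CoordinateRing (Localization.AtPrime P) (xA W),
        algebraMap W.CoordinateRing (Localization.AtPrime P) (yA W)} := by
    rw [← Localization.AtPrime.map_eq_maximalIdeal]
    apply le_antisymm
    · rw [Ideal.map_le_iff_le_comap]
      intro p hp
      rw [Ideal.mem_comap]
      obtain ⟨r, hr⟩ := exists_sub_mem_span W p
      have hrP : algebraMap R W.CoordinateRing r ∈ P := by
        have h1 : algebraMap R W.CoordinateRing r = p - (p - algebraMap R W.CoordinateRing r) := by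
          ring
        rw [h1]
        exact P.sub_mem hp (hspanP hr)
      have hrm : r ∈ maximalIdeal R := by
        by_contra hcon
        have hur : IsUnit r := IsLocalRing.notMem_maximalIdeal.1 hcon
        exact hPtop (Ideal.eq_top_of_isUnit_mem _ hrP (hur.map _))
      rw [hm] at hrm
      obtain ⟨r', rfl⟩ := Ideal.mem_span_singleton.1 hrm
      have h1 : algebraMap W.CoordinateRing (Localization.AtPrime P) p =
          algebraMap W.CoordinateRing (Localization.AtPrime P)
            (p - algebraMap R W.CoordinateRing (ϖ * r')) +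
          algebraMap W.CoordinateRing (Localization.AtPrime P) (algebraMap R W.CoordinateRing ϖ) *
            algebraMap W.CoordinateRing (Localization.AtPrime P)
              (algebraMap R W.CoordinateRing r') := by
        rw [← map_mul, ← map_mul, ← map_add]
        congr 1
        ring
      rw [h1]
      refine Ideal.add_mem _ ?_ (Ideal.mul_mem_right _ _ hspan)
      have h2 : Ideal.span {xA W, yA W} ≤
          (Ideal.span {algebraMap W.CoordinateRing (Localization.AtPrime P) (xA W),
            algebraMap W.CoordinateRing (Localization.AtPrime P) (yA W)}).comap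
            (algebraMap W.CoordinateRing (Localization.AtPrime P)) := by
        rw [Ideal.span_le]
        rintro _ (rfl | rfl)
        · exact Ideal.subset_span (Set.mem_insert _ _)
        · exact Ideal.subset_span (Set.mem_insert_of_mem _ rfl)
      exact h2 hr
    · rw [Ideal.span_le]
      rintro _ (rfl | rfl)
      · exact Ideal.mem_map_of_mem _ hx
      · exact Ideal.mem_map_of_mem _ hy
  -- the height of `P`
  have hqprime : (RingHom.ker (CoordinateRing.map W (IsLocalRing.residue R))).IsPrime :=
    RingHom.ker_isPrime _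
  have hϖq : algebraMap R W.CoordinateRing ϖ ∈
      RingHom.ker (CoordinateRing.map W (IsLocalRing.residue R)) := by
    have h0 : IsLocalRing.residue R ϖ = 0 := by
      rw [IsLocalRing.residue_eq_zero_iff, hm]
      exact Ideal.mem_span_singleton_self ϖ
    rw [RingHom.mem_ker, algebraMap_eq_mk, CoordinateRing.map_mk, Polynomial.map_C,
      Polynomial.coe_mapRingHom, Polynomial.map_C, h0, C_0, C_0, map_zero]
  have hϖ0 : algebraMap R W.CoordinateRing ϖ ≠ 0 := by
    intro h0
    apply hϖ.ne_zero
    exact FaithfulSMul.algebraMap_injective R W.CoordinateRing (by rw [h0, map_zero])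
  have hqP := ker_map_residue_le W hϖ P hϖP
  have hbotq : (⊥ : Ideal W.CoordinateRing) <
      RingHom.ker (CoordinateRing.map W (IsLocalRing.residue R)) := by
    refine bot_lt_iff_ne_bot.2 fun h => hϖ0 ?_
    rw [h] at hϖq
    exact hϖq
  have hqltP : RingHom.ker (CoordinateRing.map W (IsLocalRing.residue R)) < P :=
    lt_of_le_of_ne hqP fun h => xA_notMem_ker_map_residue W (h ▸ hx)
  have hht : (2 : ℕ∞) ≤ P.height := by
    have h1 := Ideal.height_add_one_le_of_lt_of_isPrime hbotq
    have h2 := Ideal.height_add_one_le_of_lt_of_isPrime hqltP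
    calc (2 : ℕ∞) = 0 + 1 + 1 := by norm_num
      _ ≤ (⊥ : Ideal W.CoordinateRing).height + 1 + 1 := by gcongr; exact zero_le
      _ ≤ (RingHom.ker (CoordinateRing.map W (IsLocalRing.residue R))).height + 1 := by gcongr
      _ ≤ P.height := h2
  apply IsRegularLocalRing.of_spanFinrank_maximalIdeal_le
  rw [IsLocalization.AtPrime.ringKrullDim_eq_height P (Localization.AtPrime P), hmax]
  have h1 : (Ideal.span {algebraMap W.CoordinateRing (Localization.AtPrime P) (xA W),
        algebraMap W.CoordinateRing (Localization.AtPrime P) (yA W)}).spanFinrank ≤ 2 := by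
    refine (Submodule.spanFinrank_span_le_ncard_of_finite (Set.toFinite _)).trans ?_
    exact (Set.ncard_insert_le _ _).trans (by simp)
  calc (((Ideal.span {algebraMap W.CoordinateRing (Localization.AtPrime P) (xA W),
        algebraMap W.CoordinateRing (Localization.AtPrime P) (yA W)}).spanFinrank : ℕ) :
        WithBot ℕ∞) ≤ ((2 : ℕ) : WithBot ℕ∞) := by exact_mod_cast h1
    _ = ((2 : ℕ∞) : WithBot ℕ∞) := rfl
    _ ≤ (P.height : WithBot ℕ∞) := WithBot.coe_le_coe.2 hht

end DVR

end Groth.Agent.H57.Weier
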