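import Groth.Agent.H57.WeierSwap

/-!
# Regularity of the affine Weierstrass scheme over a DVR
-/

set_option autoImplicit false

namespace Groth.Agent.H57.Weier

open Polynomial IsLocalRing
open WeierstrassCurve.Affine (CoordinateRing)

universe u
variable {R : Type u} [CommRing R] (W : WeierstrassCurve.Affine R)

theorem mk_polynomialX : CoordinateRing.mk W W.polynomialX =
    algebraMap R W.CoordinateRing W.a₁ * yA W - (3 * xA W ^ 2 +
      2 * algebraMap R W.CoordinateRing W.a₂ * xA W + algebraMap R W.CoordinateRing W.a₄) := by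
  rw [WeierstrassCurve.Affine.polynomialX]
  simp only [map_sub, map_add, map_mul, map_pow, C_add, C_mul, C_pow, map_ofNat, algebraMap_eq_mk]

theorem mk_polynomialY : CoordinateRing.mk W W.polynomialY =
    2 * yA W + algebraMap R W.CoordinateRing W.a₁ * xA W + algebraMap R W.CoordinateRing W.a₃ := by
  rw [WeierstrassCurve.Affine.polynomialY]
  simp only [map_add, map_mul, C_add, C_mul, map_ofNat, algebraMap_eq_mk]
  ring

theorem mk_derivative_polynomial :
    CoordinateRing.mk W (derivative W.polynomial) = CoordinateRing.mk W W.polynomialY := by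
  congr 1
  rw [WeierstrassCurve.Affine.polynomial, WeierstrassCurve.Affine.polynomialY]
  simp only [derivative_add, derivative_sub, derivative_mul, derivative_X_pow, derivative_C,
    derivative_X, zero_mul, zero_add, mul_one, sub_zero]
  norm_num
  simp only [map_ofNat]

section DVR

variable [IsDomain R] [IsDiscreteValuationRing R]

/-- A prime of the Weierstrass coordinate ring containing both partial derivatives contains
`m`, `x` and `y`. -/
theorem mem_of_partials_mem (hΔ : W.Δ ≠ 0)
    (h3 : W.a₃ ∈ maximalIdeal R) (h4 : W.a₄ ∈ maximalIdeal R) (h6 : W.a₆ ∈ maximalIdeal R)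
    (P : Ideal W.CoordinateRing) [P.IsPrime]
    (hX : CoordinateRing.mk W W.polynomialX ∈ P) (hY : CoordinateRing.mk W W.polynomialY ∈ P) :
    (∀ r ∈ maximalIdeal R, algebraMap R W.CoordinateRing r ∈ P) ∧ xA W ∈ P ∧ yA W ∈ P := by
  set g : R →+* (W.CoordinateRing ⧸ P) :=
    (Ideal.Quotient.mk P).comp (algebraMap R W.CoordinateRing) with hg
  set ξ := Ideal.Quotient.mk P (xA W) with hξ
  set η := Ideal.Quotient.mk P (yA W) with hη
  have hrel := congrArg (Ideal.Quotient.mk P) (relation W)
  simp only [map_add, map_sub, map_mul, map_pow] at hrel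
  have hXq : Ideal.Quotient.mk P (CoordinateRing.mk W W.polynomialX) = 0 :=
    Ideal.Quotient.eq_zero_iff_mem.2 hX
  have hYq : Ideal.Quotient.mk P (CoordinateRing.mk W W.polynomialY) = 0 :=
    Ideal.Quotient.eq_zero_iff_mem.2 hY
  rw [mk_polynomialX] at hXq
  rw [mk_polynomialY] at hYq
  simp only [map_add, map_sub, map_mul, map_pow, map_ofNat] at hXq hYq
  have hga : ∀ a : R, Ideal.Quotient.mk P (algebraMap R W.CoordinateRing a) = g a := fun a => rfl
  simp only [hga] at hrel hXq hYq
  rw [← hξ, ← hη] at hrel hXq hYq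
  -- the discriminant lies in `P`
  have hEq : (W.map g).toAffine.Equation ξ η := by
    rw [WeierstrassCurve.Affine.equation_iff]
    simp only [WeierstrassCurve.map_a₁, WeierstrassCurve.map_a₂, WeierstrassCurve.map_a₃,
      WeierstrassCurve.map_a₄, WeierstrassCurve.map_a₆]
    linear_combination -hrel
  have hns : ¬ (W.map g).toAffine.Nonsingular ξ η := by
    rw [WeierstrassCurve.Affine.nonsingular_iff']
    simp only [WeierstrassCurve.map_a₁, WeierstrassCurve.map_a₂, WeierstrassCurve.map_a₃,
      WeierstrassCurve.map_a₄, WeierstrassCurve.map_a₆]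
    rintro ⟨-, h | h⟩
    · exact h hXq
    · exact h hYq
  have hΔq : g W.Δ = 0 := by
    by_contra hcon
    have h1 : (W.map g).Δ ≠ 0 := by rwa [WeierstrassCurve.map_Δ]
    exact hns ((WeierstrassCurve.Affine.equation_iff_nonsingular_of_Δ_ne_zero h1).1 hEq)
  have hΔP : W.Δ ∈ P.comap (algebraMap R W.CoordinateRing) :=
    Ideal.mem_comap.2 (Ideal.Quotient.eq_zero_iff_mem.1 hΔq)
  have hcomap : P.comap (algebraMap R W.CoordinateRing) = maximalIdeal R := by
    have hprime : (P.comap (algebraMap R W.CoordinateRing)).IsPrime := Ideal.comap_isPrime _ _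
    have hne : P.comap (algebraMap R W.CoordinateRing) ≠ ⊥ := by
      intro h0
      rw [h0] at hΔP
      exact hΔ hΔP
    exact IsLocalRing.eq_maximalIdeal (hprime.isMaximal hne)
  have hm : ∀ r ∈ maximalIdeal R, algebraMap R W.CoordinateRing r ∈ P := by
    intro r hr
    rw [← hcomap] at hr
    exact hr
  have hg0 : ∀ r ∈ maximalIdeal R, g r = 0 := fun r hr =>
    Ideal.Quotient.eq_zero_iff_mem.2 (hm r hr)
  rw [hg0 _ h3, hg0 _ h4, hg0 _ h6] at hrel
  rw [hg0 _ h4] at hXq
  rw [hg0 _ h3] at hYq
  have hξ3 : ξ ^ 3 = 0 := by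
    linear_combination (-2 : W.CoordinateRing ⧸ P) * hrel - ξ * hXq - η * hYq
  have hξ0 : ξ = 0 := pow_eq_zero_iff (by norm_num) |>.1 hξ3
  have hη2 : η ^ 2 = 0 := by
    rw [hξ0] at hrel
    linear_combination -hrel
  have hη0 : η = 0 := pow_eq_zero_iff (by norm_num) |>.1 hη2
  exact ⟨hm, Ideal.Quotient.eq_zero_iff_mem.1 hξ0, Ideal.Quotient.eq_zero_iff_mem.1 hη0⟩

/-- The affine Weierstrass scheme over a DVR with `a₃, a₄, a₆ ∈ m`, `a₆ ∉ m²` and nonzero
discriminant is regular. -/
theorem isRegularLocalRing_localization (hΔ : W.Δ ≠ 0)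
    (h3 : W.a₃ ∈ maximalIdeal R) (h4 : W.a₄ ∈ maximalIdeal R)
    (h6 : W.a₆ ∈ maximalIdeal R) (h6' : W.a₆ ∉ maximalIdeal R ^ 2)
    (P : Ideal W.CoordinateRing) [P.IsPrime] :
    IsRegularLocalRing (Localization.AtPrime P) := by
  by_cases hY : CoordinateRing.mk W W.polynomialY ∈ P
  swap
  · exact isRegularLocalRing_of_derivative_notMem (B := R[X]) W.polynomial
      WeierstrassCurve.Affine.monic_polynomial P (by rwa [mk_derivative_polynomial])
  by_cases hX : CoordinateRing.mk W W.polynomialX ∈ P
  swap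
  · have h2 : AdjoinRoot.mk (polyX W) (derivative (polyX W)) ∉
        P.comap (swapEquiv W).symm := by
      rw [Ideal.mem_comap, swapEquiv_symm_apply, swapInv_derivative, Ideal.neg_mem_iff]
      exact hX
    have hreg := isRegularLocalRing_of_derivative_notMem (B := R[X]) (polyX W) (monic_polyX W)
      (P.comap (swapEquiv W).symm) h2
    exact IsRegularLocalRing.of_ringEquiv (IsLocalization.ringEquivOfRingEquiv
      (Localization.AtPrime (P.comap (swapEquiv W).symm)) (Localization.AtPrime P)
      (swapEquiv W).symm ((swapEquiv W).symm.map_primeCompl_comap_eq P))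
  · obtain ⟨hm, hx, hy⟩ := mem_of_partials_mem W hΔ h3 h4 h6 P hX hY
    exact isRegularLocalRing_of_mem W h3 h4 h6 h6' P hm hx hy

end DVR

end Groth.Agent.H57.Weier
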