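import Groth.Agent.H57.WeierOrigin
import Groth.Agent.H57.UnramReg

/-!
# The Weierstrass coordinate ring as a cubic extension of `R[y]`
-/

set_option autoImplicit false

namespace Groth.Agent.H57.Weier

open Polynomial IsLocalRing
open WeierstrassCurve.Affine (CoordinateRing)

universe u
variable {R : Type u} [CommRing R] (W : WeierstrassCurve.Affine R)

/-- The Weierstrass polynomial (negated) as a monic cubic in `x` over `R[y]`. -/
noncomputable def polyX : R[X][X] :=
  X ^ 3 + (C (C W.a₂) * X ^ 2 + C (C W.a₄ - C W.a₁ * X) * X + C (C W.a₆ - X ^ 2 - C W.a₃ * X))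

theorem monic_polyX [Nontrivial R] : (polyX W).Monic := by
  unfold polyX
  refine Polynomial.monic_X_pow_add ?_
  exact lt_of_le_of_lt Polynomial.degree_quadratic_le (by norm_num)

theorem derivative_polyX : derivative (polyX W) =
    3 * X ^ 2 + 2 * C (C W.a₂) * X + C (C W.a₄ - C W.a₁ * X) := by
  unfold polyX
  simp only [derivative_add, derivative_mul, derivative_X_pow, derivative_C, derivative_X,
    zero_mul, zero_add, mul_one, add_zero]
  norm_num
  simp only [map_ofNat]
  ring

/-- The forward map `R[W] → R[y][x]/(polyX)`. -/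
noncomputable def swapHom : W.CoordinateRing →+* AdjoinRoot (polyX W) :=
  AdjoinRoot.lift (eval₂RingHom (algebraMap R (AdjoinRoot (polyX W))) (AdjoinRoot.root (polyX W)))
    (AdjoinRoot.of (polyX W) X) (by
      have h : AdjoinRoot.mk (polyX W) (X ^ 3 + (C (C W.a₂) * X ^ 2 + C (C W.a₄ - C W.a₁ * X) * X +
          C (C W.a₆ - X ^ 2 - C W.a₃ * X))) = 0 := AdjoinRoot.mk_self
      simp only [map_add, map_mul, map_pow, map_sub, AdjoinRoot.mk_X, AdjoinRoot.mk_C] at h
      rw [WeierstrassCurve.Affine.polynomial]
      simp only [eval₂_add, eval₂_sub, eval₂_mul, eval₂_pow, eval₂_X, eval₂_C, coe_eval₂RingHom]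
      have hC : ∀ c : R, AdjoinRoot.of (polyX W) (C c) = algebraMap R (AdjoinRoot (polyX W)) c :=
        fun c => rfl
      simp only [hC] at h
      linear_combination -h)

/-- The backward map `R[y][x]/(polyX) → R[W]`. -/
noncomputable def swapInv : AdjoinRoot (polyX W) →+* W.CoordinateRing :=
  AdjoinRoot.lift (eval₂RingHom (algebraMap R W.CoordinateRing) (yA W)) (xA W) (by
      have h := relation W
      unfold polyX
      simp only [eval₂_add, eval₂_sub, eval₂_mul, eval₂_pow, eval₂_X, eval₂_C, coe_eval₂RingHom]
      linear_combination h)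

theorem swapInv_root : swapInv W (AdjoinRoot.root (polyX W)) = xA W := by
  unfold swapInv
  rw [AdjoinRoot.lift_root]

theorem swapInv_of (c : R[X]) :
    swapInv W (AdjoinRoot.of (polyX W) c) = eval₂ (algebraMap R W.CoordinateRing) (yA W) c := by
  unfold swapInv
  rw [AdjoinRoot.lift_of, coe_eval₂RingHom]

theorem swapHom_root : swapHom W (AdjoinRoot.root W.polynomial) = AdjoinRoot.of (polyX W) X := by
  unfold swapHom
  rw [AdjoinRoot.lift_root]

theorem swapHom_of (c : R[X]) : swapHom W (AdjoinRoot.of W.polynomial c) =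
    eval₂ (algebraMap R (AdjoinRoot (polyX W))) (AdjoinRoot.root (polyX W)) c := by
  unfold swapHom
  rw [AdjoinRoot.lift_of, coe_eval₂RingHom]

theorem swapInv_comp_swapHom : (swapInv W).comp (swapHom W) = RingHom.id _ := by
  apply AdjoinRoot.ringHom_ext
  · apply Polynomial.ringHom_ext
    · intro r
      simp only [RingHom.comp_apply, RingHom.id_apply, swapHom_of, eval₂_C]
      change swapInv W (AdjoinRoot.of (polyX W) (C r)) = _
      rw [swapInv_of, eval₂_C]
      rfl
    · simp only [RingHom.comp_apply, RingHom.id_apply, swapHom_of, eval₂_X, swapInv_root]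
      rfl
  · simp only [RingHom.comp_apply, RingHom.id_apply, swapHom_root, swapInv_of, eval₂_X]
    rfl

theorem swapHom_comp_swapInv : (swapHom W).comp (swapInv W) = RingHom.id _ := by
  apply AdjoinRoot.ringHom_ext
  · apply Polynomial.ringHom_ext
    · intro r
      simp only [RingHom.comp_apply, RingHom.id_apply, swapInv_of, eval₂_C]
      change swapHom W (AdjoinRoot.of W.polynomial (C r)) = _
      rw [swapHom_of, eval₂_C]
      rfl
    · simp only [RingHom.comp_apply, RingHom.id_apply, swapInv_of, eval₂_X]
      exact swapHom_root W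
  · simp only [RingHom.comp_apply, RingHom.id_apply, swapInv_root]
    change swapHom W (AdjoinRoot.of W.polynomial X) = _
    rw [swapHom_of, eval₂_X]

/-- The swap isomorphism. -/
noncomputable def swapEquiv : W.CoordinateRing ≃+* AdjoinRoot (polyX W) :=
  RingEquiv.ofRingHom (swapHom W) (swapInv W) (swapHom_comp_swapInv W) (swapInv_comp_swapHom W)

theorem swapEquiv_symm_apply (a : AdjoinRoot (polyX W)) : (swapEquiv W).symm a = swapInv W a := rfl

/-- The image of `∂(polyX)/∂x` is `-W_X`. -/
theorem swapInv_derivative : swapInv W (AdjoinRoot.mk (polyX W) (derivative (polyX W))) =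
    -CoordinateRing.mk W W.polynomialX := by
  unfold swapInv
  rw [AdjoinRoot.lift_mk, derivative_polyX, WeierstrassCurve.Affine.polynomialX]
  simp only [eval₂_add, eval₂_sub, eval₂_mul, eval₂_pow, eval₂_X, eval₂_C, coe_eval₂RingHom,
    map_sub, map_add, map_mul, map_pow, eval₂_ofNat, C_mul, map_ofNat]
  simp only [algebraMap_eq_mk]
  ring

end Groth.Agent.H57.Weier
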